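import Mathlib

/-!
# The field with `q²` elements and its automorphism `x ↦ x ^ q`

Throughout, `hF : Fintype.card F = q ^ 2`.
-/

set_option autoImplicit false

namespace Cfsg.Agent.Unitary

variable {F : Type*} [Field F] [Fintype F] {q : ℕ}

/-- `q` is a power of the characteristic. -/
theorem exists_char_pow (hF : Fintype.card F = q ^ 2) :
    ∃ p f : ℕ, p.Prime ∧ 0 < f ∧ CharP F p ∧ q = p ^ f := by
  obtain ⟨p, hp, n, hpp, hn⟩ := FiniteField.card' F
  have hdvd : q ∣ p ^ (n : ℕ) := by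
    rw [← hn, hF]
    exact dvd_pow_self q two_ne_zero
  obtain ⟨f, -, rfl⟩ := (Nat.dvd_prime_pow hpp).1 hdvd
  refine ⟨p, f, hpp, ?_, hp, rfl⟩
  rcases Nat.eq_zero_or_pos f with rfl | hf
  · simp at hF
    have := Fintype.one_lt_card (α := F)
    omega
  · exact hf

theorem two_le_q (hF : Fintype.card F = q ^ 2) : 2 ≤ q := by
  obtain ⟨p, f, hp, hf, -, rfl⟩ := exists_char_pow hF
  exact hp.two_le.trans (Nat.le_self_pow hf.ne' p)

theorem q_pos (hF : Fintype.card F = q ^ 2) : 0 < q := by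
  have := two_le_q hF
  omega

theorem q_ne_zero (hF : Fintype.card F = q ^ 2) : q ≠ 0 := (q_pos hF).ne'

theorem natCast_q_eq_zero (hF : Fintype.card F = q ^ 2) : (q : F) = 0 := by
  obtain ⟨p, f, hp, hf, hc, rfl⟩ := exists_char_pow hF
  simp [hf.ne']

/-- The automorphism `x ↦ x ^ q` as a ring homomorphism. -/
theorem exists_ringHom_pow (hF : Fintype.card F = q ^ 2) :
    ∃ σ : F →+* F, ∀ x, σ x = x ^ q := by
  obtain ⟨p, f, hp, hf, hc, rfl⟩ := exists_char_pow hF
  have : Fact p.Prime := ⟨hp⟩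
  exact ⟨iterateFrobenius F p f, fun x => iterateFrobenius_def p f x⟩

theorem pow_q_q (hF : Fintype.card F = q ^ 2) (x : F) : (x ^ q) ^ q = x := by
  rw [← pow_mul, ← pow_two, ← hF]
  exact FiniteField.pow_card x

/-- The ring automorphism `x ↦ x ^ q`. -/
noncomputable def frob (hF : Fintype.card F = q ^ 2) : F ≃+* F where
  toFun x := x ^ q
  invFun x := x ^ q
  left_inv := pow_q_q hF
  right_inv := pow_q_q hF
  map_mul' x y := mul_pow x y q
  map_add' x y := by
    obtain ⟨σ, hσ⟩ := exists_ringHom_pow hF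
    rw [← hσ, ← hσ, ← hσ, map_add]

theorem frob_apply (hF : Fintype.card F = q ^ 2) (x : F) : frob hF x = x ^ q := rfl

theorem add_pow_q (hF : Fintype.card F = q ^ 2) (x y : F) :
    (x + y) ^ q = x ^ q + y ^ q := map_add (frob hF) x y

theorem sub_pow_q (hF : Fintype.card F = q ^ 2) (x y : F) :
    (x - y) ^ q = x ^ q - y ^ q := map_sub (frob hF) x y

theorem neg_pow_q (hF : Fintype.card F = q ^ 2) (x : F) : (-x) ^ q = -(x ^ q) :=
  map_neg (frob hF) x

theorem sum_pow_q (hF : Fintype.card F = q ^ 2) {ι : Type*} (s : Finset ι) (f : ι → F) :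
    (∑ i ∈ s, f i) ^ q = ∑ i ∈ s, (f i) ^ q := map_sum (frob hF) f s

theorem natCast_pow_q (hF : Fintype.card F = q ^ 2) (m : ℕ) : (m : F) ^ q = (m : F) :=
  map_natCast (frob hF) m

theorem pow_q_injective (hF : Fintype.card F = q ^ 2) :
    Function.Injective (fun x : F => x ^ q) := (frob hF).injective

theorem pow_q_eq_zero_iff (hF : Fintype.card F = q ^ 2) {x : F} : x ^ q = 0 ↔ x = 0 :=
  pow_eq_zero_iff (q_ne_zero hF)

/-! ### Counting in the unit group -/

theorem card_units (hF : Fintype.card F = q ^ 2) : Nat.card Fˣ = (q + 1) * (q - 1) := by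
  rw [Nat.card_units, Nat.card_eq_fintype_card, hF]
  simpa using Nat.sq_sub_sq q 1

theorem card_ker_pow (hF : Fintype.card F = q ^ 2) :
    Nat.card (powMonoidHom (q + 1) : Fˣ →* Fˣ).ker = q + 1 := by
  rw [IsCyclic.card_powMonoidHom_ker, card_units hF]
  exact Nat.gcd_eq_right (Dvd.intro _ rfl)

theorem card_ker_pow_sub (hF : Fintype.card F = q ^ 2) :
    Nat.card (powMonoidHom (q - 1) : Fˣ →* Fˣ).ker = q - 1 := by
  rw [IsCyclic.card_powMonoidHom_ker, card_units hF]
  exact Nat.gcd_eq_right (Dvd.intro_left _ rfl)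

/-- The norm `u ↦ u ^ (q + 1)` maps `Fˣ` onto the units fixed by `x ↦ x ^ q`. -/
theorem range_pow_eq_ker (hF : Fintype.card F = q ^ 2) :
    (powMonoidHom (q + 1) : Fˣ →* Fˣ).range = (powMonoidHom (q - 1) : Fˣ →* Fˣ).ker := by
  apply Subgroup.eq_of_le_of_card_ge
  · rintro _ ⟨u, rfl⟩
    rw [MonoidHom.mem_ker, powMonoidHom_apply, powMonoidHom_apply, ← pow_mul,
      ← card_units hF, pow_card_eq_one']
  · rw [card_ker_pow_sub hF, IsCyclic.card_powMonoidHom_range, card_units hF,
      Nat.gcd_eq_right (Dvd.intro _ rfl), Nat.mul_div_cancel_left _ (Nat.succ_pos q)]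

/-- The map `u ↦ u ^ (q - 1)` maps `Fˣ` onto the norm-one units. -/
theorem range_pow_sub_eq_ker (hF : Fintype.card F = q ^ 2) :
    (powMonoidHom (q - 1) : Fˣ →* Fˣ).range = (powMonoidHom (q + 1) : Fˣ →* Fˣ).ker := by
  apply Subgroup.eq_of_le_of_card_ge
  · rintro _ ⟨u, rfl⟩
    rw [MonoidHom.mem_ker, powMonoidHom_apply, powMonoidHom_apply, ← pow_mul,
      Nat.mul_comm, ← card_units hF, pow_card_eq_one']
  · have := two_le_q hF
    rw [card_ker_pow hF, IsCyclic.card_powMonoidHom_range, card_units hF,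
      Nat.gcd_eq_right (Dvd.intro_left _ rfl), Nat.mul_div_cancel _ (by omega)]

theorem pow_sub_one_eq_one (hF : Fintype.card F = q ^ 2) {a : F} (ha0 : a ≠ 0)
    (ha : a ^ q = a) : a ^ (q - 1) = 1 := by
  have := q_pos hF
  apply mul_right_cancel₀ ha0
  rw [← pow_succ, one_mul, Nat.sub_add_cancel this, ha]

/-- Every element fixed by `x ↦ x ^ q` is a norm. -/
theorem exists_norm_eq (hF : Fintype.card F = q ^ 2) {a : F} (ha : a ^ q = a) :
    ∃ x : F, x * x ^ q = a := by
  by_cases ha0 : a = 0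
  · exact ⟨0, by simp [ha0]⟩
  have hmem : Units.mk0 a ha0 ∈ (powMonoidHom (q + 1) : Fˣ →* Fˣ).range := by
    rw [range_pow_eq_ker hF, MonoidHom.mem_ker, powMonoidHom_apply]
    ext
    simpa using pow_sub_one_eq_one hF ha0 ha
  obtain ⟨u, hu⟩ := hmem
  refine ⟨(u : F), ?_⟩
  have := congrArg Units.val hu
  simpa [pow_succ'] using this

theorem exists_norm_eq_neg_one (hF : Fintype.card F = q ^ 2) :
    ∃ x : F, x * x ^ q = -1 :=
  exists_norm_eq hF (by rw [neg_pow_q hF, one_pow])

theorem norm_pow_q (hF : Fintype.card F = q ^ 2) (x : F) : (x * x ^ q) ^ q = x * x ^ q := by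
  rw [mul_pow, pow_q_q hF, mul_comm]

theorem trace_pow_q (hF : Fintype.card F = q ^ 2) (x : F) : (x + x ^ q) ^ q = x + x ^ q := by
  rw [add_pow_q hF, pow_q_q hF, add_comm]

/-- The units of norm `1`, counted in `F`. -/
theorem card_norm_eq_one (hF : Fintype.card F = q ^ 2) :
    Nat.card {x : F // x * x ^ q = 1} = q + 1 := by
  have e : {x : F // x * x ^ q = 1} ≃ (powMonoidHom (q + 1) : Fˣ →* Fˣ).ker :=
    { toFun := fun x => ⟨Units.mk0 x.1 (fun h => by simpa [h] using x.2), by
        rw [MonoidHom.mem_ker, powMonoidHom_apply]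
        ext
        simpa [pow_succ'] using x.2⟩
      invFun := fun u => ⟨((u : Fˣ) : F), by
        have := congrArg Units.val (MonoidHom.mem_ker.1 u.2)
        simpa [pow_succ'] using this⟩
      left_inv := fun x => rfl
      right_inv := fun u => Subtype.ext (Units.ext rfl) }
  rw [Nat.card_congr e, card_ker_pow hF]

/-- Each non-zero norm has exactly `q + 1` preimages. -/
theorem card_norm_eq (hF : Fintype.card F = q ^ 2) {a : F} (ha0 : a ≠ 0) (ha : a ^ q = a) :
    Nat.card {x : F // x * x ^ q = a} = q + 1 := by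
  obtain ⟨x₀, hx₀⟩ := exists_norm_eq hF ha
  have hx0 : x₀ ≠ 0 := by rintro rfl; simp at hx₀; exact ha0 hx₀.symm
  rw [← card_norm_eq_one hF]
  refine Nat.card_congr ((Equiv.mulLeft₀ x₀ hx0).subtypeEquiv fun x => ?_).symm
  have : x₀ * x * (x₀ * x) ^ q = a * (x * x ^ q) := by
    rw [← hx₀, mul_pow]; ring
  rw [show Equiv.mulLeft₀ x₀ hx0 x = x₀ * x from rfl, this]
  exact (mul_right_eq_self₀.trans (or_iff_left ha0)).symm

theorem card_norm_eq_zero (hF : Fintype.card F = q ^ 2) :
    Nat.card {x : F // x * x ^ q = 0} = 1 := by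
  rw [Nat.card_eq_one_iff_unique]
  refine ⟨⟨fun x y => ?_⟩, ⟨⟨0, by simp⟩⟩⟩
  have h : ∀ z : {x : F // x * x ^ q = 0}, z.1 = 0 := fun z => by
    simpa [q_ne_zero hF] using z.2
  exact Subtype.ext ((h x).trans (h y).symm)

/-! ### Trace-zero elements -/

/-- There is a non-zero element with `δ ^ q = -δ`. -/
theorem exists_skew (hF : Fintype.card F = q ^ 2) : ∃ δ : F, δ ≠ 0 ∧ δ ^ q = -δ := by
  have hmem : (-1 : Fˣ) ∈ (powMonoidHom (q - 1) : Fˣ →* Fˣ).range := by
    rw [range_pow_sub_eq_ker hF, MonoidHom.mem_ker, powMonoidHom_apply]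
    ext
    push_cast
    rw [pow_succ, neg_pow_q hF, one_pow]
    ring
  obtain ⟨u, hu⟩ := hmem
  refine ⟨u, u.ne_zero, ?_⟩
  have h1 := congrArg Units.val hu
  simp only [powMonoidHom_apply, Units.val_pow_eq_pow_val, Units.val_neg, Units.val_one] at h1
  rw [← Nat.sub_add_cancel (q_pos hF), pow_succ, h1, neg_one_mul]

theorem card_trace_zero (hF : Fintype.card F = q ^ 2) :
    Nat.card {x : F // x + x ^ q = 0} = q := by
  classical
  obtain ⟨δ, hδ0, hδ⟩ := exists_skew hF
  have e : {x : F // x + x ^ q = 0} ≃ Option {x : Fˣ // x ^ (q - 1) = -1} :=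
    { toFun := fun x => if h : x.1 = 0 then none else some ⟨Units.mk0 x.1 h, by
        ext
        push_cast
        apply mul_right_cancel₀ h
        rw [Units.val_mk0, ← pow_succ, Nat.sub_add_cancel (q_pos hF),
          eq_neg_of_add_eq_zero_right x.2, neg_one_mul]⟩
      invFun := fun o => o.elim ⟨0, by simp [q_ne_zero hF]⟩ fun u => ⟨((u.1 : Fˣ) : F), by
        have h1 := congrArg Units.val u.2
        simp only [Units.val_pow_eq_pow_val, Units.val_neg, Units.val_one] at h1
        rw [← pow_sub_one_mul (q_ne_zero hF), h1]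
        ring⟩
      left_inv := fun x => by
        by_cases h : x.1 = 0
        · simp [h]; exact Subtype.ext h.symm
        · simp [h]
      right_inv := fun o => by
        cases o with
        | none => simp
        | some u => simp }
  rw [Nat.card_congr e, Finite.card_option]
  have e2 : {x : Fˣ // x ^ (q - 1) = -1} ≃ (powMonoidHom (q - 1) : Fˣ →* Fˣ).ker := by
    refine ((Equiv.mulLeft (Units.mk0 δ hδ0)).subtypeEquiv fun x => ?_).symm
    have hu : (Units.mk0 δ hδ0) ^ (q - 1) = -1 := by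
      ext
      push_cast
      apply mul_right_cancel₀ hδ0
      rw [Units.val_mk0, ← pow_succ, Nat.sub_add_cancel (q_pos hF), hδ, neg_one_mul]
    rw [MonoidHom.mem_ker, powMonoidHom_apply, Equiv.coe_mulLeft, mul_pow, hu]
    exact mul_eq_left.symm
  rw [Nat.card_congr e2, card_ker_pow_sub hF, Nat.sub_add_cancel (q_pos hF)]

/-- The trace `x ↦ x + x ^ q`. -/
noncomputable def trHom (hF : Fintype.card F = q ^ 2) : F →+ F where
  toFun x := x + x ^ q
  map_zero' := by simp [q_ne_zero hF]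
  map_add' x y := by rw [add_pow_q hF]; ring

theorem trHom_apply (hF : Fintype.card F = q ^ 2) (x : F) : trHom hF x = x + x ^ q := rfl

/-- The elements fixed by `x ↦ x ^ q`. -/
noncomputable def fixK (hF : Fintype.card F = q ^ 2) : Subfield F :=
  RingHom.eqLocusField (frob hF).toRingHom (RingHom.id F)

theorem mem_fixK (hF : Fintype.card F = q ^ 2) {x : F} : x ∈ fixK hF ↔ x ^ q = x := Iff.rfl

theorem card_fixed (hF : Fintype.card F = q ^ 2) : Nat.card {x : F // x ^ q = x} = q := by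
  obtain ⟨δ, hδ0, hδ⟩ := exists_skew hF
  refine Eq.trans ?_ (card_trace_zero hF)
  refine Nat.card_congr ((Equiv.mulLeft₀ δ hδ0).subtypeEquiv fun x => ?_)
  rw [show Equiv.mulLeft₀ δ hδ0 x = δ * x from rfl, mul_pow, hδ, neg_mul, ← sub_eq_add_neg, sub_eq_zero,
    mul_right_inj' hδ0]
  exact eq_comm

theorem card_fixK (hF : Fintype.card F = q ^ 2) : Nat.card (fixK hF) = q := card_fixed hF

/-- The trace maps onto the fixed field. -/
theorem exists_trace_eq (hF : Fintype.card F = q ^ 2) {a : F} (ha : a ^ q = a) :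
    ∃ x : F, x + x ^ q = a := by
  have hr : (trHom hF).range ≤ (fixK hF).toAddSubgroup := by
    rintro _ ⟨x, rfl⟩
    exact trace_pow_q hF x
  have heq : (trHom hF).range = (fixK hF).toAddSubgroup := by
    apply AddSubgroup.eq_of_le_of_card_ge hr
    have hk : Nat.card (trHom hF).ker = q := card_trace_zero hF
    have h2 := AddSubgroup.card_mul_index (trHom hF).ker
    rw [AddSubgroup.index_ker, hk, Nat.card_eq_fintype_card (α := F), hF, pow_two] at h2
    have h3 : Nat.card (trHom hF).range = q := Nat.eq_of_mul_eq_mul_left (q_pos hF) h2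
    rw [h3]
    exact le_of_eq (card_fixK hF)
  obtain ⟨x, hx⟩ : a ∈ (trHom hF).range := by rw [heq]; exact ha
  exact ⟨x, hx⟩

theorem exists_trace_ne_zero (hF : Fintype.card F = q ^ 2) : ∃ x : F, x + x ^ q ≠ 0 := by
  obtain ⟨x, hx⟩ := exists_trace_eq hF (one_pow q : (1 : F) ^ q = 1)
  exact ⟨x, by rw [hx]; exact one_ne_zero⟩

theorem exists_fixed_ne (hF : Fintype.card F = q ^ 2) (hq : 3 ≤ q) :
    ∃ a : F, a ^ q = a ∧ a ≠ 0 ∧ a ≠ 1 := by
  classical
  by_contra hcon
  push Not at hcon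
  have hs : (Finset.univ.filter fun x : F => x ^ q = x) ⊆ {0, 1} := by
    intro x hx
    simp only [Finset.mem_filter, Finset.mem_univ, true_and] at hx
    simp only [Finset.mem_insert, Finset.mem_singleton]
    by_cases h : x = 0
    · exact Or.inl h
    · exact Or.inr (hcon x hx h)
  have := (Finset.card_le_card hs).trans Finset.card_le_two
  rw [← Fintype.card_subtype, ← Nat.card_eq_fintype_card, card_fixed hF] at this
  omega

end Cfsg.Agent.Unitary
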