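import Mathlib
import Cfsg.Prelude.Def_Classical
import Cfsg.Prelude.Def_LieClassical
import Cfsg.Agent.Unitary.Field

/-!
# The standard Hermitian form `hermForm n F q`
-/

set_option autoImplicit false

namespace Cfsg.Agent.Unitary

open Cfsg Matrix

variable {F : Type*} [Field F] {n q : ℕ}

/-- The entrywise `q`-th power of a vector. -/
def cj (q : ℕ) (v : Fin n → F) : Fin n → F := fun i => v i ^ q

theorem cj_apply (v : Fin n → F) (i : Fin n) : cj q v i = v i ^ q := rfl

theorem herm_eq_dot (u v : Fin n → F) : hermForm n F q u v = u ⬝ᵥ cj q v := rfl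

@[simp] theorem herm_zero_left (v : Fin n → F) : hermForm n F q 0 v = 0 := zero_dotProduct _

theorem herm_add_left (u u' v : Fin n → F) :
    hermForm n F q (u + u') v = hermForm n F q u v + hermForm n F q u' v := add_dotProduct _ _ _

theorem herm_sub_left (u u' v : Fin n → F) :
    hermForm n F q (u - u') v = hermForm n F q u v - hermForm n F q u' v := sub_dotProduct _ _ _

theorem herm_neg_left (u v : Fin n → F) :
    hermForm n F q (-u) v = -hermForm n F q u v := neg_dotProduct _ _

theorem herm_smul_left (a : F) (u v : Fin n → F) :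
    hermForm n F q (a • u) v = a * hermForm n F q u v := smul_dotProduct _ _ _

theorem herm_sum_left {ι : Type*} (s : Finset ι) (f : ι → Fin n → F) (v : Fin n → F) :
    hermForm n F q (∑ i ∈ s, f i) v = ∑ i ∈ s, hermForm n F q (f i) v := sum_dotProduct _ _ _

/-- `x ↦ h(x, v)` as a linear functional. -/
def hermL (n : ℕ) (q : ℕ) (v : Fin n → F) : (Fin n → F) →ₗ[F] F where
  toFun u := hermForm n F q u v
  map_add' u u' := herm_add_left u u' v
  map_smul' a u := herm_smul_left a u v

theorem hermL_apply (u v : Fin n → F) : hermL n q v u = hermForm n F q u v := rfl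

variable [Fintype F]

theorem cj_cj (hF : Fintype.card F = q ^ 2) (v : Fin n → F) : cj q (cj q v) = v :=
  funext fun i => pow_q_q hF (v i)

theorem cj_add (hF : Fintype.card F = q ^ 2) (u v : Fin n → F) :
    cj q (u + v) = cj q u + cj q v := funext fun i => add_pow_q hF (u i) (v i)

omit [Fintype F] in
theorem cj_smul (a : F) (v : Fin n → F) : cj q (a • v) = a ^ q • cj q v :=
  funext fun i => mul_pow a (v i) q

theorem cj_zero (hF : Fintype.card F = q ^ 2) : cj q (0 : Fin n → F) = 0 :=
  funext fun _ => zero_pow (q_ne_zero hF)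

theorem cj_eq_zero (hF : Fintype.card F = q ^ 2) {v : Fin n → F} : cj q v = 0 ↔ v = 0 := by
  refine ⟨fun h => ?_, fun h => by rw [h, cj_zero hF]⟩
  rw [← cj_cj hF v, h, cj_zero hF]

/-- Conjugate symmetry. -/
theorem herm_swap (hF : Fintype.card F = q ^ 2) (u v : Fin n → F) :
    hermForm n F q u v ^ q = hermForm n F q v u := by
  unfold hermForm
  rw [sum_pow_q hF]
  refine Finset.sum_congr rfl fun i _ => ?_
  rw [mul_pow, pow_q_q hF, mul_comm]

theorem herm_self_fixed (hF : Fintype.card F = q ^ 2) (u : Fin n → F) :
    hermForm n F q u u ^ q = hermForm n F q u u := herm_swap hF u u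

theorem herm_eq_zero_symm (hF : Fintype.card F = q ^ 2) {u v : Fin n → F} :
    hermForm n F q u v = 0 ↔ hermForm n F q v u = 0 := by
  constructor <;> intro h <;> rw [← herm_swap hF, h, zero_pow (q_ne_zero hF)]

theorem herm_add_right (hF : Fintype.card F = q ^ 2) (u v v' : Fin n → F) :
    hermForm n F q u (v + v') = hermForm n F q u v + hermForm n F q u v' := by
  simp only [herm_eq_dot, cj_add hF, dotProduct_add]

omit [Fintype F] in
theorem herm_smul_right (a : F) (u v : Fin n → F) :
    hermForm n F q u (a • v) = a ^ q * hermForm n F q u v := by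
  simp only [herm_eq_dot, cj_smul, dotProduct_smul, smul_eq_mul]

theorem herm_zero_right (hF : Fintype.card F = q ^ 2) (u : Fin n → F) :
    hermForm n F q u 0 = 0 := by
  simp only [herm_eq_dot, cj_zero hF, dotProduct_zero]

theorem herm_neg_right (hF : Fintype.card F = q ^ 2) (u v : Fin n → F) :
    hermForm n F q u (-v) = -hermForm n F q u v := by
  rw [← neg_one_smul F v, herm_smul_right, neg_pow_q hF, one_pow, neg_one_mul]

theorem herm_sub_right (hF : Fintype.card F = q ^ 2) (u v v' : Fin n → F) :
    hermForm n F q u (v - v') = hermForm n F q u v - hermForm n F q u v' := by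
  rw [sub_eq_add_neg, herm_add_right hF, herm_neg_right hF, sub_eq_add_neg]

theorem herm_sum_right (hF : Fintype.card F = q ^ 2) {ι : Type*} (s : Finset ι) (u : Fin n → F)
    (f : ι → Fin n → F) :
    hermForm n F q u (∑ i ∈ s, f i) = ∑ i ∈ s, hermForm n F q u (f i) := by
  classical
  induction s using Finset.induction_on with
  | empty => simpa using herm_zero_right hF u
  | insert a s has ih => rw [Finset.sum_insert has, Finset.sum_insert has, herm_add_right hF, ih]

omit [Fintype F] in
theorem herm_single_left (j : Fin n) (a : F) (v : Fin n → F) :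
    hermForm n F q (Pi.single j a) v = a * v j ^ q := single_dotProduct _ _ _

theorem herm_single_right (hF : Fintype.card F = q ^ 2) (u : Fin n → F) (j : Fin n) (a : F) :
    hermForm n F q u (Pi.single j a) = u j * a ^ q := by
  rw [← herm_swap hF, herm_single_left, mul_pow, pow_q_q hF, mul_comm]

theorem herm_single_single (hF : Fintype.card F = q ^ 2) (i j : Fin n) :
    hermForm n F q (Pi.single i 1) (Pi.single j 1) = if i = j then (1 : F) else 0 := by
  rw [herm_single_left, one_mul, Pi.single_apply]
  split_ifs <;> simp [q_ne_zero hF]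

/-- The form is non-degenerate on the left. -/
theorem eq_zero_of_forall_left (hF : Fintype.card F = q ^ 2) {v : Fin n → F}
    (h : ∀ u, hermForm n F q u v = 0) : v = 0 := by
  funext i
  have := h (Pi.single i 1)
  rw [herm_single_left, one_mul] at this
  exact (pow_q_eq_zero_iff hF).1 this

/-- The form is non-degenerate on the right. -/
theorem eq_zero_of_forall_right (hF : Fintype.card F = q ^ 2) {u : Fin n → F}
    (h : ∀ v, hermForm n F q u v = 0) : u = 0 :=
  eq_zero_of_forall_left hF fun v => (herm_eq_zero_symm hF).1 (h v)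

theorem ext_herm (hF : Fintype.card F = q ^ 2) {u u' : Fin n → F}
    (h : ∀ v, hermForm n F q u v = hermForm n F q u' v) : u = u' := by
  rw [← sub_eq_zero]
  exact eq_zero_of_forall_right hF fun v => by rw [herm_sub_left, h, sub_self]

theorem herm_self_add (hF : Fintype.card F = q ^ 2) (u v : Fin n → F) :
    hermForm n F q (u + v) (u + v)
      = hermForm n F q u u + hermForm n F q v v
        + (hermForm n F q u v + hermForm n F q u v ^ q) := by
  rw [herm_swap hF, herm_add_left, herm_add_right hF, herm_add_right hF]
  ring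

omit [Fintype F] in
theorem herm_self_smul (a : F) (u : Fin n → F) :
    hermForm n F q (a • u) (a • u) = a * a ^ q * hermForm n F q u u := by
  rw [herm_smul_left, herm_smul_right, mul_assoc]

/-- The linear map `u ↦ (h(u, b i))ᵢ` hits every tuple when `b` is linearly independent. -/
theorem exists_herm_eq (hF : Fintype.card F = q ^ 2) {k : Type*} [Fintype k]
    {b : k → Fin n → F} (hb : LinearIndependent F b) (t : k → F) :
    ∃ z, ∀ i, hermForm n F q z (b i) = t i := by
  let M : Matrix k (Fin n) F := Matrix.of fun i => cj q (b i)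
  have hrow : LinearIndependent F M.row := by
    rw [Fintype.linearIndependent_iff] at hb ⊢
    intro c hc i
    have h1 : ∑ j, (c j) ^ q • b j = 0 := by
      funext l
      have := congrArg (fun x : F => x ^ q) (congrFun hc l)
      simp only [Finset.sum_apply, Pi.smul_apply, smul_eq_mul, Pi.zero_apply,
        zero_pow (q_ne_zero hF), sum_pow_q hF, mul_pow] at this
      simp only [Finset.sum_apply, Pi.smul_apply, smul_eq_mul, Pi.zero_apply]
      refine Eq.trans (Finset.sum_congr rfl fun j _ => ?_) this
      simp [M, cj, Matrix.row, pow_q_q hF]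
    exact (pow_q_eq_zero_iff hF).1 (hb _ h1 i)
  have hsurj : Function.Surjective M.mulVecLin := by
    rw [← LinearMap.range_eq_top]
    apply Submodule.eq_top_of_finrank_eq
    rw [Module.finrank_fintype_fun_eq_card]
    exact hrow.rank_matrix
  obtain ⟨z, hz⟩ := hsurj t
  refine ⟨z, fun i => ?_⟩
  rw [← hz, herm_eq_dot, dotProduct_comm]
  rfl

/-! ### Matrices preserving the form -/

/-- A matrix preserving the form. -/
def Preserves (q : ℕ) (M : Matrix (Fin n) (Fin n) F) : Prop :=
  ∀ u v, hermForm n F q (M *ᵥ u) (M *ᵥ v) = hermForm n F q u v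

omit [Fintype F] in
theorem mem_GU_iff {g : GL (Fin n) F} : g ∈ GU n F q ↔ Preserves q (g : Matrix (Fin n) (Fin n) F) :=
  Iff.rfl

omit [Fintype F] in
theorem mem_SU_iff {g : Matrix.SpecialLinearGroup (Fin n) F} :
    g ∈ SU n F q ↔ Preserves q (g : Matrix (Fin n) (Fin n) F) := Iff.rfl

theorem Preserves.mulVec_injective (hF : Fintype.card F = q ^ 2)
    {M : Matrix (Fin n) (Fin n) F} (hM : Preserves q M) : Function.Injective M.mulVec := by
  intro u u' h
  exact ext_herm hF fun v => by rw [← hM u v, ← hM u' v, h]

theorem Preserves.isUnit (hF : Fintype.card F = q ^ 2)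
    {M : Matrix (Fin n) (Fin n) F} (hM : Preserves q M) : IsUnit M :=
  Matrix.mulVec_injective_iff_isUnit.1 (hM.mulVec_injective hF)

theorem preserves_iff_transpose_mul (hF : Fintype.card F = q ^ 2)
    {M : Matrix (Fin n) (Fin n) F} :
    Preserves q M ↔ Mᵀ * M.map (fun x => x ^ q) = 1 := by
  have key : ∀ i j, hermForm n F q (M *ᵥ Pi.single i 1) (M *ᵥ Pi.single j 1)
      = (Mᵀ * M.map (fun x => x ^ q)) i j := by
    intro i j
    rw [Matrix.mulVec_single_one, Matrix.mulVec_single_one]
    rfl
  constructor
  · intro hM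
    ext i j
    rw [← key, hM, herm_single_single hF, Matrix.one_apply]
  · intro hM u v
    rw [pi_eq_sum_univ' u, pi_eq_sum_univ' v]
    simp only [Matrix.mulVec_sum, Matrix.mulVec_smul, herm_sum_left, herm_sum_right hF,
      herm_smul_left, herm_smul_right, key, hM, herm_single_single hF, Matrix.one_apply]

theorem Preserves.det_norm (hF : Fintype.card F = q ^ 2)
    {M : Matrix (Fin n) (Fin n) F} (hM : Preserves q M) : M.det * M.det ^ q = 1 := by
  have h := congrArg Matrix.det ((preserves_iff_transpose_mul hF).1 hM)
  rw [Matrix.det_mul, Matrix.det_transpose, Matrix.det_one] at h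
  have h2 : (M.map fun x => x ^ q).det = M.det ^ q :=
    ((frob hF).map_det M).symm
  rwa [h2] at h

/-- The element of `GU n F q` given by a matrix preserving the form. -/
noncomputable def toGU (hF : Fintype.card F = q ^ 2)
    {M : Matrix (Fin n) (Fin n) F} (hM : Preserves q M) : GU n F q :=
  ⟨(hM.isUnit hF).unit, by
    intro u v
    simp only [Units.coeHom_apply, IsUnit.unit_spec]
    exact hM u v⟩

theorem coe_toGU (hF : Fintype.card F = q ^ 2)
    {M : Matrix (Fin n) (Fin n) F} (hM : Preserves q M) :
    ((toGU hF hM : GL (Fin n) F) : Matrix (Fin n) (Fin n) F) = M := IsUnit.unit_spec _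

/-- The element of `SU n F q` given by a matrix of determinant one preserving the form. -/
def toSU {M : Matrix (Fin n) (Fin n) F} (hM : Preserves q M) (hdet : M.det = 1) : SU n F q :=
  ⟨⟨M, hdet⟩, hM⟩

omit [Fintype F] in
theorem coe_toSU {M : Matrix (Fin n) (Fin n) F} (hM : Preserves q M) (hdet : M.det = 1) :
    (((toSU hM hdet : Matrix.SpecialLinearGroup (Fin n) F)) : Matrix (Fin n) (Fin n) F) = M := rfl

end Cfsg.Agent.Unitary
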