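import Mathlib
import Cfsg.Agent.Unitary.Form

/-!
# Orthogonal complements, orthonormal bases, isometries with prescribed images
-/

set_option autoImplicit false
set_option linter.unusedSectionVars false

namespace Cfsg.Agent.Unitary

open Cfsg Matrix

variable {F : Type*} [Field F] {n q : ℕ}

/-- The vectors orthogonal to every element of `S`. -/
def perp (q : ℕ) (S : Set (Fin n → F)) : Submodule F (Fin n → F) where
  carrier := {x | ∀ s ∈ S, hermForm n F q x s = 0}
  add_mem' {a b} ha hb s hs := by rw [herm_add_left, ha s hs, hb s hs, add_zero]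
  zero_mem' s _ := herm_zero_left s
  smul_mem' c a ha s hs := by rw [herm_smul_left, ha s hs, mul_zero]

theorem mem_perp {S : Set (Fin n → F)} {x : Fin n → F} :
    x ∈ perp q S ↔ ∀ s ∈ S, hermForm n F q x s = 0 := Iff.rfl

theorem mem_perp_singleton {u x : Fin n → F} :
    x ∈ perp q ({u} : Set (Fin n → F)) ↔ hermForm n F q x u = 0 := by
  simp [mem_perp]

theorem mem_perp_pair {u v x : Fin n → F} :
    x ∈ perp q ({u, v} : Set (Fin n → F)) ↔ hermForm n F q x u = 0 ∧ hermForm n F q x v = 0 := by
  simp [mem_perp]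

/-- The form restricted to `W` is non-degenerate. -/
def Nondeg (q : ℕ) (W : Submodule F (Fin n → F)) : Prop :=
  ∀ u ∈ W, (∀ v ∈ W, hermForm n F q u v = 0) → u = 0

/-- An orthonormal family. -/
def ON {ι : Type*} [DecidableEq ι] (q : ℕ) (f : ι → Fin n → F) : Prop :=
  ∀ i j, hermForm n F q (f i) (f j) = if i = j then 1 else 0

variable [Fintype F]

theorem nondeg_top (hF : Fintype.card F = q ^ 2) :
    Nondeg q (⊤ : Submodule F (Fin n → F)) :=
  fun _ _ h => eq_zero_of_forall_right hF fun v => h v trivial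

theorem on_std (hF : Fintype.card F = q ^ 2) :
    ON q (fun i : Fin n => (Pi.single i 1 : Fin n → F)) := herm_single_single hF

theorem mem_perp_span (hF : Fintype.card F = q ^ 2) {S : Set (Fin n → F)} {x y : Fin n → F}
    (hx : x ∈ perp q S) (hy : y ∈ Submodule.span F S) : hermForm n F q x y = 0 := by
  induction hy using Submodule.span_induction with
  | mem y hy => exact hx y hy
  | zero => exact herm_zero_right hF x
  | add a b _ _ iha ihb => rw [herm_add_right hF, iha, ihb, add_zero]
  | smul a b _ ihb => rw [herm_smul_right, ihb, mul_zero]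

theorem perp_span (hF : Fintype.card F = q ^ 2) (S : Set (Fin n → F)) :
    perp q (Submodule.span F S : Set (Fin n → F)) = perp q S :=
  le_antisymm (fun _ hx s hs => hx s (Submodule.subset_span hs))
    (fun _ hx _ hs => mem_perp_span hF hx hs)

/-- A non-zero non-degenerate subspace contains a vector of norm one. -/
theorem exists_norm_one (hF : Fintype.card F = q ^ 2) {W : Submodule F (Fin n → F)}
    (hW : Nondeg q W) (hne : W ≠ ⊥) : ∃ v ∈ W, hermForm n F q v v = 1 := by
  obtain ⟨u, huW, hu0⟩ := W.exists_mem_ne_zero_of_ne_bot hne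
  obtain ⟨v, hvW, hv⟩ : ∃ v ∈ W, hermForm n F q v v ≠ 0 := by
    by_contra hcon
    push Not at hcon
    refine hu0 (hW u huW fun v hv => ?_)
    by_contra huv
    obtain ⟨a, ha⟩ := exists_trace_ne_zero hF
    apply ha
    have h1 := hcon _ (W.add_mem (W.smul_mem (a / hermForm n F q u v) huW) hv)
    rw [herm_self_add hF, hcon _ (W.smul_mem _ huW), hcon v hv, add_zero, zero_add,
      herm_smul_left, div_mul_cancel₀ a huv] at h1
    exact h1
  obtain ⟨l, hl⟩ := exists_norm_eq hF
    (a := (hermForm n F q v v)⁻¹) (by rw [inv_pow, herm_self_fixed hF])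
  refine ⟨l • v, W.smul_mem l hvW, ?_⟩
  rw [herm_self_smul, hl, inv_mul_cancel₀ hv]

section ON

variable {ι : Type*} [Fintype ι] [DecidableEq ι] {f : ι → Fin n → F}

theorem ON.coeff (hf : ON q f) (c : ι → F) (j : ι) :
    hermForm n F q (∑ i, c i • f i) (f j) = c j := by
  rw [herm_sum_left, Finset.sum_eq_single j]
  · rw [herm_smul_left, hf, if_pos rfl, mul_one]
  · intro i _ hij
    rw [herm_smul_left, hf, if_neg hij, mul_zero]
  · simp

theorem ON.linearIndependent (hf : ON q f) : LinearIndependent F f := by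
  rw [Fintype.linearIndependent_iff]
  intro c hc j
  rw [← hf.coeff c j, hc, herm_zero_left]

theorem ON.inner_self (hF : Fintype.card F = q ^ 2) (hf : ON q f) (c : ι → F) :
    hermForm n F q (∑ i, c i • f i) (∑ i, c i • f i) = ∑ i, c i * c i ^ q := by
  rw [herm_sum_right hF]
  exact Finset.sum_congr rfl fun j _ => by rw [herm_smul_right, hf.coeff, mul_comm]

/-- The orthogonal projection onto the span of an orthonormal family. -/
noncomputable def projON (q : ℕ) (f : ι → Fin n → F) (x : Fin n → F) : Fin n → F :=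
  ∑ i, hermForm n F q x (f i) • f i

theorem projON_mem (x : Fin n → F) : projON q f x ∈ Submodule.span F (Set.range f) :=
  Submodule.sum_mem _ fun i _ => Submodule.smul_mem _ _ (Submodule.subset_span ⟨i, rfl⟩)

theorem ON.sub_proj_mem_perp (hf : ON q f) (x : Fin n → F) :
    x - projON q f x ∈ perp q (Set.range f) := by
  rintro _ ⟨j, rfl⟩
  rw [herm_sub_left, projON, hf.coeff, sub_self]

theorem ON.nondeg (hf : ON q f) : Nondeg q (Submodule.span F (Set.range f)) := by
  intro u hu h
  obtain ⟨c, rfl⟩ := (Submodule.mem_span_range_iff_exists_fun F).1 hu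
  refine Finset.sum_eq_zero fun i _ => ?_
  have := h (f i) (Submodule.subset_span ⟨i, rfl⟩)
  rw [hf.coeff] at this
  rw [this, zero_smul]

theorem ON.proj_eq_self (hF : Fintype.card F = q ^ 2) (hf : ON q f) {x : Fin n → F}
    (hx : x ∈ Submodule.span F (Set.range f)) : projON q f x = x := by
  refine (sub_eq_zero.1 (hf.nondeg _ (Submodule.sub_mem _ hx (projON_mem x)) fun v hv => ?_)).symm
  exact mem_perp_span hF (hf.sub_proj_mem_perp x) hv

theorem ON.isCompl (hF : Fintype.card F = q ^ 2) (hf : ON q f) :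
    IsCompl (Submodule.span F (Set.range f)) (perp q (Set.range f)) := by
  constructor
  · rw [Submodule.disjoint_def]
    intro x hx hx'
    exact hf.nondeg x hx fun v hv => mem_perp_span hF hx' hv
  · rw [codisjoint_iff, eq_top_iff]
    intro x _
    rw [← add_sub_cancel (projON q f x) x]
    exact Submodule.add_mem_sup (projON_mem x) (hf.sub_proj_mem_perp x)

theorem ON.finrank_span (hf : ON q f) :
    Module.finrank F (Submodule.span F (Set.range f)) = Fintype.card ι :=
  finrank_span_eq_card hf.linearIndependent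

end ON

omit [Fintype F] in
/-- Extending an orthonormal family by a further orthogonal orthonormal family. -/
theorem ON.sum_elim {ι κ : Type*} [DecidableEq ι] [DecidableEq κ] {f : ι → Fin n → F}
    {g : κ → Fin n → F} (hf : ON q f) (hg : ON q g)
    (hfg : ∀ i j, hermForm n F q (f i) (g j) = 0) (hgf : ∀ i j, hermForm n F q (g i) (f j) = 0) :
    ON q (Sum.elim f g) := by
  rintro (i | i) (j | j)
  · simpa using hf i j
  · simpa using hfg i j
  · simpa using hgf i j
  · simpa using hg i j

theorem ON.cons {k : ℕ} (hF : Fintype.card F = q ^ 2) {f : Fin k → Fin n → F} (hf : ON q f)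
    {v : Fin n → F} (hv : hermForm n F q v v = 1) (hfv : ∀ i, hermForm n F q (f i) v = 0) :
    ON q (Fin.cons v f : Fin (k + 1) → Fin n → F) := by
  intro i j
  refine Fin.cases ?_ (fun i => ?_) i <;> refine Fin.cases ?_ (fun j => ?_) j
  · simpa using hv
  · simpa [(Fin.succ_ne_zero j).symm] using (herm_eq_zero_symm hF).1 (hfv j)
  · simpa [Fin.succ_ne_zero i] using hfv i
  · simpa using hf i j

/-- Every non-degenerate subspace has an orthonormal basis. -/
theorem exists_ON_basis (hF : Fintype.card F = q ^ 2) (W : Submodule F (Fin n → F))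
    (hW : Nondeg q W) :
    ∃ f : Fin (Module.finrank F W) → Fin n → F,
      ON q f ∧ Submodule.span F (Set.range f) = W := by
  suffices h : ∃ (k : ℕ) (f : Fin k → Fin n → F), ON q f ∧ Submodule.span F (Set.range f) = W by
    obtain ⟨k, f, hf, hspan⟩ := h
    have hk : Module.finrank F W = k := by rw [← hspan, hf.finrank_span, Fintype.card_fin]
    subst hk
    exact ⟨f, hf, hspan⟩
  induction hd : Module.finrank F W using Nat.strong_induction_on generalizing W with
  | h d ih =>
  by_cases hne : W = ⊥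
  · exact ⟨0, Fin.elim0, fun i => i.elim0, by simp [hne]⟩
  obtain ⟨v, hvW, hv⟩ := exists_norm_one hF hW hne
  have hsplit : ∀ x ∈ W, x - hermForm n F q x v • v ∈ W ⊓ perp q {v} := by
    intro x hx
    refine ⟨W.sub_mem hx (W.smul_mem _ hvW), mem_perp_singleton.2 ?_⟩
    rw [herm_sub_left, herm_smul_left, hv, mul_one, sub_self]
  have hW' : Nondeg q (W ⊓ perp q {v}) := by
    intro u hu h
    refine hW u hu.1 fun x hx => ?_
    have h1 := h _ (hsplit x hx)
    rwa [herm_sub_right hF, herm_smul_right, mem_perp_singleton.1 hu.2, mul_zero, sub_zero] at h1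
  have hlt : Module.finrank F ↥(W ⊓ perp q {v}) < d := by
    rw [← hd]
    refine Submodule.finrank_lt_finrank_of_lt (lt_of_le_of_ne inf_le_left fun h => ?_)
    have : v ∈ W ⊓ perp q {v} := by rw [h]; exact hvW
    exact one_ne_zero (hv.symm.trans (mem_perp_singleton.1 this.2))
  obtain ⟨k, f, hf, hspan⟩ := ih _ hlt _ hW' rfl
  have hfv : ∀ i, hermForm n F q (f i) v = 0 := fun i =>
    mem_perp_singleton.1 (hspan ▸ (Submodule.subset_span ⟨i, rfl⟩ :
      f i ∈ Submodule.span F (Set.range f))).2
  refine ⟨k + 1, Fin.cons v f, hf.cons hF hv hfv, ?_⟩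
  rw [Fin.range_cons, Submodule.span_insert, hspan]
  refine le_antisymm (sup_le ((Submodule.span_singleton_le_iff_mem _ _).2 hvW) inf_le_left) ?_
  intro x hx
  rw [← add_sub_cancel (hermForm n F q x v • v) x]
  exact Submodule.add_mem_sup (Submodule.smul_mem _ _ (Submodule.mem_span_singleton_self v))
    (hsplit x hx)

theorem isCompl_perp (hF : Fintype.card F = q ^ 2) {W : Submodule F (Fin n → F)}
    (hW : Nondeg q W) : IsCompl W (perp q (W : Set (Fin n → F))) := by
  obtain ⟨f, hf, hspan⟩ := exists_ON_basis hF W hW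
  rw [← hspan, perp_span hF]
  exact hf.isCompl hF

theorem finrank_perp_add (hF : Fintype.card F = q ^ 2) {W : Submodule F (Fin n → F)}
    (hW : Nondeg q W) :
    Module.finrank F W + Module.finrank F (perp q (W : Set (Fin n → F))) = n := by
  rw [Submodule.finrank_add_eq_of_isCompl (isCompl_perp hF hW), Module.finrank_fin_fun]

theorem nondeg_perp (hF : Fintype.card F = q ^ 2) {W : Submodule F (Fin n → F)}
    (hW : Nondeg q W) : Nondeg q (perp q (W : Set (Fin n → F))) := by
  intro u hu h
  refine eq_zero_of_forall_right hF fun v => ?_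
  obtain ⟨a, ha, b, hb, rfl⟩ :=
    Submodule.mem_sup.1 ((isCompl_perp hF hW).sup_eq_top.symm ▸ Submodule.mem_top (x := v))
  rw [herm_add_right hF, hu a ha, h b hb, add_zero]

theorem inf_perp_finrank (hF : Fintype.card F = q ^ 2) {P W : Submodule F (Fin n → F)}
    (hP : Nondeg q P) (hPW : P ≤ W) :
    Module.finrank F P + Module.finrank F ↥(W ⊓ perp q (P : Set (Fin n → F)))
      = Module.finrank F W := by
  have hc := isCompl_perp hF hP
  have h1 : P ⊔ W ⊓ perp q (P : Set (Fin n → F)) = W := by
    rw [inf_comm, ← sup_inf_assoc_of_le _ hPW, hc.sup_eq_top, top_inf_eq]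
  have h2 : P ⊓ (W ⊓ perp q (P : Set (Fin n → F))) = ⊥ := by
    rw [← inf_assoc, inf_eq_left.2 hPW, hc.inf_eq_bot]
  have := Submodule.finrank_sup_add_finrank_inf_eq P (W ⊓ perp q (P : Set (Fin n → F)))
  rw [h1, h2, finrank_bot] at this
  omega

theorem inf_perp_nondeg (hF : Fintype.card F = q ^ 2) {P W : Submodule F (Fin n → F)}
    (hW : Nondeg q W) (hP : Nondeg q P) (hPW : P ≤ W) :
    Nondeg q (W ⊓ perp q (P : Set (Fin n → F))) := by
  intro u hu h
  refine hW u hu.1 fun v hv => ?_
  obtain ⟨a, ha, b, hb, rfl⟩ :=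
    Submodule.mem_sup.1 ((isCompl_perp hF hP).sup_eq_top.symm ▸ Submodule.mem_top (x := v))
  rw [herm_add_right hF, hu.2 a ha, zero_add]
  exact h b ⟨(W.add_mem_iff_right (hPW ha)).1 hv, hb⟩

/-- Inside a non-degenerate subspace the functionals `h(·, b i)` are independent. -/
theorem exists_herm_eq_mem (hF : Fintype.card F = q ^ 2) {W : Submodule F (Fin n → F)}
    (hW : Nondeg q W) {k : Type*} [Fintype k] {b : k → Fin n → F} (hb : LinearIndependent F b)
    (hbW : ∀ i, b i ∈ W) (t : k → F) : ∃ z ∈ W, ∀ i, hermForm n F q z (b i) = t i := by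
  obtain ⟨z, hz⟩ := exists_herm_eq hF hb t
  obtain ⟨a, ha, c, hc, rfl⟩ :=
    Submodule.mem_sup.1 ((isCompl_perp hF hW).sup_eq_top.symm ▸ Submodule.mem_top (x := z))
  refine ⟨a, ha, fun i => ?_⟩
  rw [← hz i, herm_add_left, hc (b i) (hbW i), add_zero]

/-! ### Isometries with prescribed images -/

theorem exists_isometry_of_gram (hF : Fintype.card F = q ^ 2) {ι : Type*} [Fintype ι]
    {a b : ι → Fin n → F} (ha : LinearIndependent F a) (has : ⊤ ≤ Submodule.span F (Set.range a))
    (hgram : ∀ i j, hermForm n F q (b i) (b j) = hermForm n F q (a i) (a j)) :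
    ∃ g : GU n F q, ∀ i, ((g : GL (Fin n) F) : Matrix (Fin n) (Fin n) F) *ᵥ a i = b i := by
  let B := Module.Basis.mk ha has
  let M := LinearMap.toMatrix' (B.constr F b)
  have hMa : ∀ i, M *ᵥ a i = b i := by
    intro i
    rw [LinearMap.toMatrix'_mulVec, ← Module.Basis.mk_apply ha has i]
    exact B.constr_basis F b i
  have hM : Preserves q M := by
    intro u v
    rw [← B.sum_repr u, ← B.sum_repr v]
    simp only [B, Module.Basis.mk_apply, Matrix.mulVec_sum, Matrix.mulVec_smul, herm_sum_left,
      herm_sum_right hF, herm_smul_left, herm_smul_right, hMa, hgram]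
  exact ⟨toGU hF hM, fun i => by rw [coe_toGU]; exact hMa i⟩

theorem exists_GU_of_ON (hF : Fintype.card F = q ^ 2) {f : Fin n → Fin n → F} (hf : ON q f) :
    ∃ g : GU n F q, ∀ i, ((g : GL (Fin n) F) : Matrix (Fin n) (Fin n) F) *ᵥ Pi.single i 1 = f i := by
  refine exists_isometry_of_gram hF (on_std hF).linearIndependent ?_ fun i j => by
    rw [hf, herm_single_single hF]
  intro x _
  rw [pi_eq_sum_univ' x]
  exact Submodule.sum_mem _ fun i _ => Submodule.smul_mem _ _ (Submodule.subset_span ⟨i, rfl⟩)

/-- An orthonormal family extends to an orthonormal basis of the whole space. -/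
theorem ON.exists_extend (hF : Fintype.card F = q ^ 2) {ι : Type*} [Fintype ι] [DecidableEq ι]
    {f : ι → Fin n → F} (hf : ON q f) :
    ∃ g : Fin (n - Fintype.card ι) → Fin n → F,
      ON q (Sum.elim f g) ∧ Submodule.span F (Set.range g) = perp q (Set.range f) := by
  have hd := finrank_perp_add hF hf.nondeg
  rw [hf.finrank_span, perp_span hF] at hd
  obtain ⟨g, hg, hspan⟩ := exists_ON_basis hF _ (by
    rw [← perp_span hF]; exact nondeg_perp hF hf.nondeg : Nondeg q (perp q (Set.range f)))
  have hk : Module.finrank F (perp q (Set.range f)) = n - Fintype.card ι := by omega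
  revert g
  rw [hk]
  intro g hg hspan
  have hgf : ∀ i j, hermForm n F q (g i) (f j) = 0 := fun i j =>
    (hspan ▸ Submodule.subset_span ⟨i, rfl⟩ : g i ∈ perp q (Set.range f)) (f j) ⟨j, rfl⟩
  exact ⟨g, hf.sum_elim hg (fun i j => (herm_eq_zero_symm hF).1 (hgf j i)) hgf, hspan⟩

/-- Orthonormal families of the same size are conjugate under `GU`. -/
theorem exists_GU_map_ON (hF : Fintype.card F = q ^ 2) {ι : Type*} [Fintype ι] [DecidableEq ι]
    {f f' : ι → Fin n → F} (hf : ON q f) (hf' : ON q f') :
    ∃ g : GU n F q, ∀ i, ((g : GL (Fin n) F) : Matrix (Fin n) (Fin n) F) *ᵥ f i = f' i := by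
  obtain ⟨e, he, hes⟩ := hf.exists_extend hF
  obtain ⟨e', he', -⟩ := hf'.exists_extend hF
  have hs : ⊤ ≤ Submodule.span F (Set.range (Sum.elim f e)) := by
    rw [Set.Sum.elim_range, Submodule.span_union, hes, (hf.isCompl hF).sup_eq_top]
  obtain ⟨g, hg⟩ := exists_isometry_of_gram hF he.linearIndependent hs
    (b := Sum.elim f' e') fun i j => by rw [he, he']
  exact ⟨g, fun i => hg (Sum.inl i)⟩

end Cfsg.Agent.Unitary
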