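import Mathlib
import Cfsg.Agent.Unitary.Basis

/-!
# Numbers of vectors of given norm
-/

set_option autoImplicit false
set_option linter.unusedSectionVars false

namespace Cfsg.Agent.Unitary

open Cfsg Matrix

variable {F : Type*} [Field F] [Fintype F] {n q : ℕ}

/-- The number of vectors `v` of `F^n` with `h(v, v) = c`. -/
noncomputable def normCount (n q : ℕ) (c : F) : ℕ :=
  Nat.card {v : Fin n → F // hermForm n F q v v = c}

theorem herm_cons (a b : F) (u v : Fin n → F) :
    hermForm (n + 1) F q (Fin.cons a u) (Fin.cons b v) = a * b ^ q + hermForm n F q u v := by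
  simp [hermForm, Fin.sum_univ_succ]

theorem normCount_succ (n : ℕ) (c : F) :
    normCount (n + 1) q c = ∑ x : F, normCount n q (c - x * x ^ q) := by
  unfold normCount
  rw [← Nat.card_sigma]
  exact Nat.card_congr
    { toFun := fun v => ⟨v.1 0, Fin.tail v.1, by
        have h := v.2
        rw [← Fin.cons_self_tail v.1, herm_cons] at h
        exact eq_sub_of_add_eq' h⟩
      invFun := fun p => ⟨Fin.cons p.1 p.2.1, by rw [herm_cons, p.2.2, add_sub_cancel]⟩
      left_inv := fun v => Subtype.ext (Fin.cons_self_tail v.1)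
      right_inv := fun p => by
        obtain ⟨x, w, hw⟩ := p
        exact Sigma.subtype_ext (Fin.cons_zero (α := fun _ => F) x w) (Fin.tail_cons (α := fun _ => F) x w) }

theorem sum_ite_norm (c : F) (a b : ℤ) :
    ∑ x : F, (haveI := Classical.propDecidable (x * x ^ q = c); if x * x ^ q = c then a else b)
      = Nat.card {x : F // x * x ^ q = c} * a
        + ((Fintype.card F : ℤ) - Nat.card {x : F // x * x ^ q = c}) * b := by
  classical
  have h1 : ∀ x : F, (haveI := Classical.propDecidable (x * x ^ q = c);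
      if x * x ^ q = c then a else b) = b + if x * x ^ q = c then a - b else 0 := by
    intro x
    split_ifs <;> ring
  rw [Finset.sum_congr rfl fun x _ => h1 x, Finset.sum_add_distrib, Finset.sum_const,
    Finset.card_univ, ← Finset.sum_filter, Finset.sum_const, nsmul_eq_mul, nsmul_eq_mul,
    Nat.card_eq_fintype_card, Fintype.card_subtype]
  ring

/-- Closed forms, multiplied by `q`. -/
theorem q_mul_normCount (hF : Fintype.card F = q ^ 2) :
    ∀ n : ℕ, (q : ℤ) * normCount n q (0 : F) = (q : ℤ) ^ (2 * n) + (-(q : ℤ)) ^ n * (q - 1) ∧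
      ∀ c : F, c ≠ 0 → c ^ q = c →
        (q : ℤ) * normCount n q c = (q : ℤ) ^ (2 * n) - (-(q : ℤ)) ^ n
  | 0 => by
    have h0 : normCount 0 q (0 : F) = 1 := by
      rw [normCount, Nat.card_eq_one_iff_unique]
      exact ⟨⟨fun a b => Subtype.ext (Subsingleton.elim _ _)⟩, ⟨⟨0, herm_zero_left 0⟩⟩⟩
    refine ⟨by simp [h0], fun c hc _ => ?_⟩
    have : normCount 0 q c = 0 := by
      rw [normCount, Nat.card_eq_zero]
      exact Or.inl ⟨fun v => hc (by simpa [hermForm] using v.2.symm)⟩
    simp [this]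
  | n + 1 => by
    obtain ⟨hA, hB⟩ := q_mul_normCount hF n
    have hrec : ∀ c : F, c ^ q = c →
        (q : ℤ) * normCount (n + 1) q c
          = Nat.card {x : F // x * x ^ q = c} * ((q : ℤ) ^ (2 * n) + (-(q : ℤ)) ^ n * (q - 1))
            + ((q : ℤ) ^ 2 - Nat.card {x : F // x * x ^ q = c})
              * ((q : ℤ) ^ (2 * n) - (-(q : ℤ)) ^ n) := by
      intro c hc
      have h2 : ((Fintype.card F : ℕ) : ℤ) = (q : ℤ) ^ 2 := by rw [hF]; push_cast; ring
      rw [normCount_succ, Nat.cast_sum, Finset.mul_sum, ← h2, ← sum_ite_norm]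
      refine Finset.sum_congr rfl fun x _ => ?_
      split_ifs with hx
      · rw [hx, sub_self, hA]
      · exact hB _ (sub_ne_zero.2 (Ne.symm hx)) (by rw [sub_pow_q hF, hc, norm_pow_q hF])
    refine ⟨?_, fun c hc0 hc => ?_⟩
    · rw [hrec 0 (zero_pow (q_ne_zero hF)), card_norm_eq_zero hF]
      push_cast
      ring
    · rw [hrec c hc, card_norm_eq hF hc0 hc]
      push_cast
      ring

theorem normCount_one (hF : Fintype.card F = q ^ 2) (n : ℕ) :
    (normCount (n + 1) q (1 : F) : ℤ) = (q : ℤ) ^ n * ((q : ℤ) ^ (n + 1) - (-1) ^ (n + 1)) := by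
  have hq : (q : ℤ) ≠ 0 := Int.natCast_ne_zero.2 (q_ne_zero hF)
  apply mul_left_cancel₀ hq
  rw [(q_mul_normCount hF (n + 1)).2 1 one_ne_zero (one_pow q), neg_pow]
  ring

theorem normCount_zero_vec (hF : Fintype.card F = q ^ 2) (n : ℕ) :
    (normCount (n + 1) q (0 : F) : ℤ)
      = ((q : ℤ) ^ (n + 1) - (-1) ^ (n + 1)) * ((q : ℤ) ^ n + (-1) ^ (n + 1)) + 1 := by
  have hq : (q : ℤ) ≠ 0 := Int.natCast_ne_zero.2 (q_ne_zero hF)
  have h1 : ((-1 : ℤ) ^ (n + 1)) ^ 2 = 1 := by rw [← pow_mul, Even.neg_one_pow (by simp)]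
  apply mul_left_cancel₀ hq
  rw [(q_mul_normCount hF (n + 1)).1, neg_pow]
  linear_combination (q : ℤ) * h1

/-- The natural number `q ^ (i + 1) - (-1) ^ (i + 1)`. -/
def guFactor (q i : ℕ) : ℕ := if Even i then q ^ (i + 1) + 1 else q ^ (i + 1) - 1

theorem guFactor_cast (hq : 0 < q) (i : ℕ) :
    (guFactor q i : ℤ) = (q : ℤ) ^ (i + 1) - (-1) ^ (i + 1) := by
  unfold guFactor
  split_ifs with h
  · rw [Odd.neg_one_pow h.add_one]; push_cast; ring
  · rw [Even.neg_one_pow (Nat.not_even_iff_odd.1 h).add_one,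
      Nat.cast_sub (Nat.one_le_pow _ _ hq)]
    push_cast; ring

theorem normCount_one_nat (hF : Fintype.card F = q ^ 2) (n : ℕ) :
    normCount (n + 1) q (1 : F) = q ^ n * guFactor q n := by
  exact_mod_cast (show (normCount (n + 1) q (1 : F) : ℤ) = (q : ℤ) ^ n * (guFactor q n : ℤ) by
    rw [normCount_one hF, guFactor_cast (q_pos hF)])

theorem normCount_zero_vec_nat (hF : Fintype.card F = q ^ 2) (n : ℕ) :
    normCount n q (0 : F) = (if Even n then (q ^ n - 1) * (q ^ (n - 1) + 1)
      else (q ^ n + 1) * (q ^ (n - 1) - 1)) + 1 := by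
  cases n with
  | zero =>
    have h1 : (q : ℤ) * normCount 0 q (0 : F) = (q : ℤ) * 1 := by
      rw [(q_mul_normCount hF 0).1]; ring
    have h2 : normCount 0 q (0 : F) = 1 := by
      exact_mod_cast mul_left_cancel₀ (Int.natCast_ne_zero.2 (q_ne_zero hF)) h1
    simp [h2]
  | succ n =>
    have h := normCount_zero_vec hF n
    have hq1 := Nat.one_le_pow n q (q_pos hF)
    have hq2 := Nat.one_le_pow (n + 1) q (q_pos hF)
    rw [Nat.add_sub_cancel]
    split_ifs with he
    · zify [hq2]
      rw [Even.neg_one_pow he] at h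
      linear_combination h
    · zify [hq1]
      rw [Odd.neg_one_pow (Nat.not_even_iff_odd.1 he)] at h
      linear_combination h

/-- Vectors of given norm in the span of an orthonormal family. -/
theorem card_norm_span (hF : Fintype.card F = q ^ 2) {m : ℕ} {g : Fin m → Fin n → F}
    (hg : ON q g) (c : F) :
    Nat.card {v : Fin n → F // v ∈ Submodule.span F (Set.range g) ∧ hermForm n F q v v = c}
      = normCount m q c := by
  refine (Nat.card_congr
    { toFun := fun w => ⟨∑ i, w.1 i • g i,
        Submodule.sum_mem _ fun i _ => Submodule.smul_mem _ _ (Submodule.subset_span ⟨i, rfl⟩), by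
        rw [hg.inner_self hF]; exact w.2⟩
      invFun := fun v => ⟨fun i => hermForm n F q v.1 (g i), by
        have h := v.2.2
        rw [← hg.proj_eq_self hF v.2.1, projON, hg.inner_self hF] at h
        exact h⟩
      left_inv := fun w => Subtype.ext (funext fun i => hg.coeff _ i)
      right_inv := fun v => Subtype.ext (hg.proj_eq_self hF v.2.1) }).symm

end Cfsg.Agent.Unitary
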