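import Mathlib
import Cfsg.Agent.Unitary.Count

/-!
# Orders of `GU` and `SU`, the determinant on `GU`
-/

set_option autoImplicit false
set_option linter.unusedSectionVars false

namespace Cfsg.Agent.Unitary

open Cfsg Matrix

variable {F : Type*} [Field F] [Fintype F] {n q : ℕ}

/-- Orthonormal `k`-frames. -/
abbrev Frame (n : ℕ) (F : Type*) [Field F] (q k : ℕ) :=
  {f : Fin k → Fin n → F // ON q f}

/-- `GU` is in bijection with the orthonormal bases. -/
noncomputable def guEquivFrame (hF : Fintype.card F = q ^ 2) : GU n F q ≃ Frame n F q n :=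
  Equiv.ofBijective
    (fun g => ⟨fun i => ((g : GL (Fin n) F) : Matrix (Fin n) (Fin n) F) *ᵥ Pi.single i 1,
      fun i j => by
        rw [mem_GU_iff.1 g.2, herm_single_single hF]⟩)
    ⟨fun g g' h => by
      apply Subtype.ext
      apply Units.ext
      ext i j
      have := congrFun (congrFun (congrArg Subtype.val h) j) i
      simpa [Matrix.mulVec_single_one] using this,
    fun f => by
      obtain ⟨g, hg⟩ := exists_GU_of_ON hF f.2
      exact ⟨g, Subtype.ext (funext hg)⟩⟩

theorem card_frame_succ (hF : Fintype.card F = q ^ 2) {k : ℕ} (hk : k ≤ n) :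
    Nat.card (Frame n F q (k + 1)) = Nat.card (Frame n F q k) * normCount (n - k) q (1 : F) := by
  classical
  have e : Frame n F q (k + 1) ≃ Σ f : Frame n F q k,
      {v : Fin n → F // v ∈ perp q (Set.range f.1) ∧ hermForm n F q v v = 1} :=
    { toFun := fun f => ⟨⟨Fin.tail f.1, fun i j => by simpa [Fin.tail] using f.2 i.succ j.succ⟩,
        ⟨f.1 0, by
          rintro _ ⟨i, rfl⟩
          simpa [Fin.tail, (Fin.succ_ne_zero i).symm] using f.2 0 i.succ, by simpa using f.2 0 0⟩⟩
      invFun := fun p => ⟨Fin.cons p.2.1 p.1.1,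
        p.1.2.cons hF p.2.2.2 fun i => (herm_eq_zero_symm hF).1 (p.2.2.1 _ ⟨i, rfl⟩)⟩
      left_inv := fun f => Subtype.ext (Fin.cons_self_tail f.1)
      right_inv := fun p => by
        obtain ⟨⟨f, hf⟩, v, hv⟩ := p
        exact Sigma.subtype_ext (Subtype.ext (Fin.tail_cons (α := fun _ => Fin n → F) v f))
          (Fin.cons_zero (α := fun _ => Fin n → F) v f) }
  have hfib : ∀ f : Frame n F q k,
      Nat.card {v : Fin n → F // v ∈ perp q (Set.range f.1) ∧ hermForm n F q v v = 1}
        = normCount (n - k) q (1 : F) := by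
    intro f
    obtain ⟨g, hg, hspan⟩ := f.2.exists_extend hF
    rw [← hspan]
    have hg' : ON q g := fun i j => by simpa using hg (Sum.inr i) (Sum.inr j)
    rw [card_norm_span hF hg', Fintype.card_fin]
  have : ∀ f : Frame n F q k,
      Finite {v : Fin n → F // v ∈ perp q (Set.range f.1) ∧ hermForm n F q v v = 1} :=
    fun _ => inferInstance
  have : Fintype (Frame n F q k) := Fintype.ofFinite _
  rw [Nat.card_congr e, Nat.card_sigma, Finset.sum_congr rfl fun f _ => hfib f, Finset.sum_const,
    Finset.card_univ, smul_eq_mul, Nat.card_eq_fintype_card]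

theorem card_frame_mul (hF : Fintype.card F = q ^ 2) :
    ∀ k ≤ n, Nat.card (Frame n F q k) = ∏ j ∈ Finset.range k, normCount (n - j) q (1 : F) := by
  intro k hk
  induction k with
  | zero =>
    rw [Finset.range_zero, Finset.prod_empty, Nat.card_eq_one_iff_unique]
    exact ⟨⟨fun a b => Subtype.ext (funext fun i => i.elim0)⟩, ⟨⟨Fin.elim0, fun i => i.elim0⟩⟩⟩
  | succ k ih => rw [card_frame_succ hF (by omega), ih (by omega), Finset.prod_range_succ]

/-- The order of `GU`. -/
theorem card_GU (hF : Fintype.card F = q ^ 2) (n : ℕ) :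
    Nat.card (GU n F q) = q ^ (n * (n - 1) / 2) * ∏ i ∈ Finset.range n, guFactor q i := by
  rw [Nat.card_congr (guEquivFrame hF), card_frame_mul hF n le_rfl, ← Finset.prod_range_reflect,
    ← Finset.sum_range_id, ← Finset.prod_pow_eq_pow_sum, ← Finset.prod_mul_distrib]
  refine Finset.prod_congr rfl fun i hi => ?_
  rw [Finset.mem_range] at hi
  rw [show n - (n - 1 - i) = i + 1 by omega, normCount_one_nat hF]

/-- The determinant on `GU`. -/
noncomputable def detGU (n : ℕ) (F : Type*) [Field F] (q : ℕ) : GU n F q →* Fˣ :=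
  Matrix.GeneralLinearGroup.det.comp (GU n F q).subtype

theorem detGU_val (g : GU n F q) :
    ((detGU n F q g : Fˣ) : F) = ((g : GL (Fin n) F) : Matrix (Fin n) (Fin n) F).det := rfl

theorem preserves_diagonal {d : Fin n → F} (hd : ∀ i, d i * d i ^ q = 1) :
    Preserves q (Matrix.diagonal d) := by
  intro u v
  unfold hermForm
  refine Finset.sum_congr rfl fun i _ => ?_
  rw [Matrix.mulVec_diagonal, Matrix.mulVec_diagonal, mul_pow,
    show d i * u i * (d i ^ q * v i ^ q) = d i * d i ^ q * (u i * v i ^ q) by ring, hd, one_mul]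

theorem detGU_range (hF : Fintype.card F = q ^ 2) (hn : 1 ≤ n) :
    (detGU n F q).range = (powMonoidHom (q + 1) : Fˣ →* Fˣ).ker := by
  apply le_antisymm
  · rintro _ ⟨g, rfl⟩
    rw [MonoidHom.mem_ker, powMonoidHom_apply]
    ext
    push_cast
    rw [detGU_val, pow_succ']
    exact (mem_GU_iff.1 g.2).det_norm hF
  · intro c hc
    have hc' : (c : F) * (c : F) ^ q = 1 := by
      have := congrArg Units.val (MonoidHom.mem_ker.1 hc)
      simpa [pow_succ'] using this
    let d : Fin n → F := Function.update 1 ⟨0, hn⟩ (c : F)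
    have hd : ∀ i, d i * d i ^ q = 1 := by
      intro i
      simp only [d, Function.update_apply, Pi.one_apply]
      split_ifs
      · exact hc'
      · simp
    refine ⟨toGU hF (preserves_diagonal hd), Units.ext ?_⟩
    rw [detGU_val, coe_toGU, Matrix.det_diagonal]
    simp [d, Finset.prod_update_of_mem]

/-- `SU` as a subgroup of `GU`. -/
noncomputable def suEquivKer (n : ℕ) (F : Type*) [Field F] (q : ℕ) :
    SU n F q ≃* (detGU n F q).ker where
  toFun A := ⟨⟨Matrix.SpecialLinearGroup.toGL A.1, A.2⟩, Units.ext A.1.2⟩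
  invFun g := ⟨⟨((g.1 : GL (Fin n) F) : Matrix (Fin n) (Fin n) F),
    congrArg Units.val g.2⟩, g.1.2⟩
  left_inv _ := rfl
  right_inv _ := Subtype.ext (Subtype.ext (Units.ext rfl))
  map_mul' A B := by
    apply Subtype.ext
    apply Subtype.ext
    exact map_mul Matrix.SpecialLinearGroup.toGL A.1 B.1

theorem card_GU_eq_mul_card_SU (hF : Fintype.card F = q ^ 2) (hn : 1 ≤ n) :
    Nat.card (GU n F q) = (q + 1) * Nat.card (SU n F q) := by
  rw [Nat.card_congr (suEquivKer n F q).toEquiv, ← Subgroup.card_mul_index (detGU n F q).ker,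
    Subgroup.index_ker, detGU_range hF hn, card_ker_pow hF, mul_comm]

end Cfsg.Agent.Unitary
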