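import Mathlib
import Cfsg.Prelude.Def_ClassicalGeometry
import Cfsg.Agent.Unitary.Basis

/-!
# The action of `SU` on vectors; Eichler (Siegel) elements; unitary transvections
-/

set_option autoImplicit false
set_option linter.unusedSectionVars false

namespace Cfsg.Agent.Unitary

open Cfsg Matrix

variable {F : Type*} [Field F] {n q : ℕ}

/-- The matrix of an element of `SU`. -/
abbrev mat (A : SU n F q) : Matrix (Fin n) (Fin n) F :=
  ((A : Matrix.SpecialLinearGroup (Fin n) F) : Matrix (Fin n) (Fin n) F)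

/-- The action of an element of `SU` on column vectors. -/
def ap (A : SU n F q) (x : Fin n → F) : Fin n → F := mat A *ᵥ x

theorem ap_def (A : SU n F q) (x : Fin n → F) : ap A x = mat A *ᵥ x := rfl

@[simp] theorem ap_one (x : Fin n → F) : ap (1 : SU n F q) x = x := one_mulVec x

theorem ap_mul (A B : SU n F q) (x : Fin n → F) : ap (A * B) x = ap A (ap B x) := by
  simp [ap, mat, Matrix.mulVec_mulVec]

theorem ap_add (A : SU n F q) (x y : Fin n → F) : ap A (x + y) = ap A x + ap A y := mulVec_add _ _ _

theorem ap_sub (A : SU n F q) (x y : Fin n → F) : ap A (x - y) = ap A x - ap A y := mulVec_sub _ _ _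

theorem ap_smul (A : SU n F q) (a : F) (x : Fin n → F) : ap A (a • x) = a • ap A x :=
  mulVec_smul _ _ _

theorem ap_zero (A : SU n F q) : ap A (0 : Fin n → F) = 0 := mulVec_zero _

theorem herm_ap (A : SU n F q) (x y : Fin n → F) :
    hermForm n F q (ap A x) (ap A y) = hermForm n F q x y := A.2 x y

theorem ap_inv_ap (A : SU n F q) (x : Fin n → F) : ap A⁻¹ (ap A x) = x := by
  rw [← ap_mul, inv_mul_cancel, ap_one]

theorem ap_ap_inv (A : SU n F q) (x : Fin n → F) : ap A (ap A⁻¹ x) = x := by
  rw [← ap_mul, mul_inv_cancel, ap_one]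

theorem ap_injective (A : SU n F q) : Function.Injective (ap A) :=
  Function.LeftInverse.injective (ap_inv_ap A)

theorem herm_ap_right (A : SU n F q) (x y : Fin n → F) :
    hermForm n F q x (ap A y) = hermForm n F q (ap A⁻¹ x) y := by
  rw [← herm_ap A (ap A⁻¹ x), ap_ap_inv]

theorem ap_ext {A B : SU n F q} (h : ∀ x, ap A x = ap B x) : A = B :=
  Subtype.ext (Subtype.ext (Matrix.ext_iff_mulVec.2 h))

/-- The elements fixing every vector of `S`. -/
def fixer (n : ℕ) (F : Type*) [Field F] (q : ℕ) (S : Set (Fin n → F)) : Subgroup (SU n F q) where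
  carrier := {A | ∀ s ∈ S, ap A s = s}
  mul_mem' {A B} ha hb s hs := by rw [ap_mul, hb s hs, ha s hs]
  one_mem' s _ := ap_one s
  inv_mem' {A} ha s hs := by
    nth_rw 1 [← ha s hs]
    exact ap_inv_ap A s

theorem mem_fixer {S : Set (Fin n → F)} {A : SU n F q} :
    A ∈ fixer n F q S ↔ ∀ s ∈ S, ap A s = s := Iff.rfl

/-- The matrix of the Eichler transformation
`x ↦ x + h(x,u) w - h(x,w) u + α h(x,u) u`. -/
def eMat (q : ℕ) (u w : Fin n → F) (α : F) : Matrix (Fin n) (Fin n) F :=
  1 + vecMulVec w (cj q u) - vecMulVec u (cj q w) + α • vecMulVec u (cj q u)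

theorem eMat_mulVec (u w : Fin n → F) (α : F) (x : Fin n → F) :
    eMat q u w α *ᵥ x = x + hermForm n F q x u • w - hermForm n F q x w • u
      + (α * hermForm n F q x u) • u := by
  simp only [eMat, add_mulVec, sub_mulVec, one_mulVec, smul_mulVec, vecMulVec_mulVec, op_smul_eq_smul,
    smul_smul, herm_eq_dot, dotProduct_comm (cj q u), dotProduct_comm (cj q w)]

/-- The conditions on the parameters of an Eichler transformation. -/
structure ESpec (q : ℕ) (u w : Fin n → F) (α : F) : Prop where
  iso : hermForm n F q u u = 0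
  orth : hermForm n F q w u = 0
  tr : α + α ^ q + hermForm n F q w w = 0

variable [Fintype F]

theorem ESpec.det (hF : Fintype.card F = q ^ 2) {u w : Fin n → F} {α : F} (h : ESpec q u w α) :
    (eMat q u w α).det = 1 := by
  let X : Matrix (Fin n) (Fin 2) F := Matrix.of fun i j => ![w i, u i] j
  let Y : Matrix (Fin 2) (Fin n) F := Matrix.of fun j i => ![cj q u i, α * cj q u i - cj q w i] j
  have hXY : eMat q u w α = 1 + X * Y := by
    ext i j
    simp only [eMat, X, Y, Matrix.mul_apply, Fin.sum_univ_two, Matrix.add_apply, Matrix.sub_apply,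
      Matrix.smul_apply, vecMulVec_apply, Matrix.of_apply, Matrix.cons_val_zero,
      Matrix.cons_val_one, smul_eq_mul]
    ring
  have huw : hermForm n F q u w = 0 := (herm_eq_zero_symm hF).1 h.orth
  have h1 := h.iso
  have h2 := h.orth
  simp only [herm_eq_dot, dotProduct] at huw h1 h2
  rw [hXY, det_one_add_mul_comm, Matrix.det_fin_two]
  simp only [X, Y, Matrix.add_apply, Matrix.one_apply_eq, Matrix.mul_apply, Matrix.of_apply,
    Matrix.cons_val_zero, Matrix.cons_val_one, sub_mul, Finset.sum_sub_distrib, mul_assoc,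
    ← Finset.mul_sum, Matrix.one_apply_ne (show (0 : Fin 2) ≠ 1 by decide),
    Matrix.one_apply_ne (show (1 : Fin 2) ≠ 0 by decide), mul_comm (cj q u _), mul_comm (cj q w _),
    huw, h1, h2]
  ring

theorem ESpec.preserves (hF : Fintype.card F = q ^ 2) {u w : Fin n → F} {α : F}
    (h : ESpec q u w α) : Preserves q (eMat q u w α) := by
  intro x y
  have huw : hermForm n F q u w = 0 := (herm_eq_zero_symm hF).1 h.orth
  simp only [eMat_mulVec, sub_eq_add_neg, ← neg_smul, herm_add_left, herm_add_right hF,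
    herm_smul_left, herm_smul_right, neg_pow_q hF, mul_pow, h.iso, h.orth, huw, mul_zero, add_zero,
    zero_add]
  rw [← herm_swap hF u y, ← herm_swap hF w y, ← herm_swap hF y u, ← herm_swap hF y w]
  simp only [pow_q_q hF]
  linear_combination (hermForm n F q x u * hermForm n F q y u ^ q) * h.tr

/-- The Eichler transformation as an element of `SU`. -/
def eSU (hF : Fintype.card F = q ^ 2) {u w : Fin n → F} {α : F} (h : ESpec q u w α) : SU n F q :=
  toSU (h.preserves hF) (h.det hF)

theorem ap_eSU (hF : Fintype.card F = q ^ 2) {u w : Fin n → F} {α : F} (h : ESpec q u w α)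
    (x : Fin n → F) :
    ap (eSU hF h) x = x + hermForm n F q x u • w - hermForm n F q x w • u
      + (α * hermForm n F q x u) • u :=
  eMat_mulVec u w α x

theorem mat_eSU (hF : Fintype.card F = q ^ 2) {u w : Fin n → F} {α : F} (h : ESpec q u w α) :
    mat (eSU hF h) = eMat q u w α := rfl

theorem eSpec_tv (hF : Fintype.card F = q ^ 2) {v : Fin n → F} {c : F}
    (hv : hermForm n F q v v = 0) (hc : c + c ^ q = 0) : ESpec q v 0 c :=
  ⟨hv, herm_zero_left v, by rw [herm_zero_left, add_zero, hc]⟩

/-- The unitary transvection `x ↦ x + c h(x,v) v`. -/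
def tv (hF : Fintype.card F = q ^ 2) {v : Fin n → F} {c : F}
    (hv : hermForm n F q v v = 0) (hc : c + c ^ q = 0) : SU n F q :=
  eSU hF (eSpec_tv hF hv hc)

omit [Fintype F] in
theorem unitaryTransvection_mulVec (v : Fin n → F) (c : F) (x : Fin n → F) :
    unitaryTransvection n q v c *ᵥ x = x + (c * hermForm n F q x v) • v := by
  simp only [unitaryTransvection, add_mulVec, one_mulVec, smul_mulVec, vecMulVec_mulVec,
    op_smul_eq_smul, smul_smul, herm_eq_dot, dotProduct_comm x]
  rfl

theorem mat_tv (hF : Fintype.card F = q ^ 2) {v : Fin n → F} {c : F}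
    (hv : hermForm n F q v v = 0) (hc : c + c ^ q = 0) :
    mat (tv hF hv hc) = unitaryTransvection n q v c := by
  simp only [tv, mat_eSU, eMat, cj_zero hF]
  ext i j
  simp [unitaryTransvection, vecMulVec_apply, cj]

theorem ap_tv (hF : Fintype.card F = q ^ 2) {v : Fin n → F} {c : F}
    (hv : hermForm n F q v v = 0) (hc : c + c ^ q = 0) (x : Fin n → F) :
    ap (tv hF hv hc) x = x + (c * hermForm n F q x v) • v := by
  rw [ap_def, mat_tv, unitaryTransvection_mulVec]

/-- Product formula for Eichler transformations with a common axis. -/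
theorem eSU_mul (hF : Fintype.card F = q ^ 2) {u w w' : Fin n → F} {α β : F}
    (h : ESpec q u w α) (h' : ESpec q u w' β)
    (h'' : ESpec q u (w + w') (α + β - hermForm n F q w' w)) :
    eSU hF h * eSU hF h' = eSU hF h'' := by
  refine ap_ext fun x => ?_
  have huw : hermForm n F q u w = 0 := (herm_eq_zero_symm hF).1 h.orth
  simp only [ap_mul, ap_eSU, herm_sub_left, herm_add_left, herm_smul_left, herm_add_right hF,
    h.iso, h'.orth, huw, mul_zero, add_zero, sub_zero]
  module

theorem eSpec_add (hF : Fintype.card F = q ^ 2) {u w w' : Fin n → F} {α β : F}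
    (h : ESpec q u w α) (h' : ESpec q u w' β) :
    ESpec q u (w + w') (α + β - hermForm n F q w' w) := by
  refine ⟨h.iso, by rw [herm_add_left, h.orth, h'.orth, add_zero], ?_⟩
  rw [herm_self_add hF, sub_pow_q hF, add_pow_q hF, herm_swap hF w' w,
    ← herm_swap hF w' w, pow_q_q hF]
  linear_combination h.tr + h'.tr

/-- Conjugates of Eichler transformations. -/
theorem conj_eSU (hF : Fintype.card F = q ^ 2) (g : SU n F q) {u w : Fin n → F} {α : F}
    (h : ESpec q u w α) (h' : ESpec q (ap g u) (ap g w) α) :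
    g * eSU hF h * g⁻¹ = eSU hF h' := by
  rw [mul_inv_eq_iff_eq_mul]
  refine ap_ext fun x => ?_
  simp only [ap_mul, ap_eSU, ap_add, ap_sub, ap_smul, herm_ap]

theorem eSpec_ap (g : SU n F q) {u w : Fin n → F} {α : F} (h : ESpec q u w α) :
    ESpec q (ap g u) (ap g w) α :=
  ⟨by rw [herm_ap]; exact h.iso, by rw [herm_ap]; exact h.orth, by rw [herm_ap]; exact h.tr⟩

/-- Existence of the parameter `α`. -/
theorem exists_alpha (hF : Fintype.card F = q ^ 2) {u w : Fin n → F}
    (hu : hermForm n F q u u = 0) (hw : hermForm n F q w u = 0) : ∃ α, ESpec q u w α := by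
  obtain ⟨α, hα⟩ := exists_trace_eq hF (a := -hermForm n F q w w)
    (by rw [neg_pow_q hF, herm_self_fixed hF])
  exact ⟨α, hu, hw, by rw [hα, neg_add_cancel]⟩

theorem eSU_mem_fixer (hF : Fintype.card F = q ^ 2) {u w : Fin n → F} {α : F}
    (h : ESpec q u w α) {S : Set (Fin n → F)} (hu : ∀ s ∈ S, hermForm n F q s u = 0)
    (hw : ∀ s ∈ S, hermForm n F q s w = 0) : eSU hF h ∈ fixer n F q S := by
  intro s hs
  simp [ap_eSU, hu s hs, hw s hs]

theorem tv_mem_fixer (hF : Fintype.card F = q ^ 2) {v : Fin n → F} {c : F}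
    (hv : hermForm n F q v v = 0) (hc : c + c ^ q = 0) {S : Set (Fin n → F)}
    (hS : ∀ s ∈ S, hermForm n F q s v = 0) : tv hF hv hc ∈ fixer n F q S :=
  eSU_mem_fixer hF _ hS fun s _ => herm_zero_right hF s

end Cfsg.Agent.Unitary
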