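import Mathlib
import Cfsg.Agent.Unitary.Basis

/-!
# Isotropic vectors in non-degenerate subspaces
-/

set_option autoImplicit false
set_option linter.unusedSectionVars false

namespace Cfsg.Agent.Unitary

open Cfsg Matrix

variable {F : Type*} [Field F] [Fintype F] {n q : ℕ}

theorem span_pair_le {W : Submodule F (Fin n → F)} {u v : Fin n → F} (hu : u ∈ W) (hv : v ∈ W) :
    Submodule.span F ({u, v} : Set (Fin n → F)) ≤ W :=
  Submodule.span_le.2 (Set.pair_subset hu hv)

/-- Two isotropic vectors with non-zero product span a non-degenerate plane. -/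
theorem nondeg_pair (hF : Fintype.card F = q ^ 2) {u v : Fin n → F}
    (hu : hermForm n F q u u = 0) (hv : hermForm n F q v v = 0) (huv : hermForm n F q u v ≠ 0) :
    Nondeg q (Submodule.span F ({u, v} : Set (Fin n → F))) := by
  intro x hx h
  obtain ⟨a, b, rfl⟩ := Submodule.mem_span_pair.1 hx
  have h1 := h u (Submodule.subset_span (Or.inl rfl))
  have h2 := h v (Submodule.subset_span (Or.inr rfl))
  simp only [herm_add_left, herm_smul_left, hu, hv, mul_zero, zero_add, add_zero, mul_eq_zero,
    huv, (herm_eq_zero_symm hF).not.2 huv, or_false] at h1 h2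
  rw [h1, h2, zero_smul, zero_smul, add_zero]

theorem indep_pair (hF : Fintype.card F = q ^ 2) {u v : Fin n → F}
    (hu : hermForm n F q u u = 0) (huv : hermForm n F q u v ≠ 0) :
    LinearIndependent F ![u, v] := by
  have hu0 : u ≠ 0 := by rintro rfl; exact huv (herm_zero_left v)
  rw [LinearIndependent.pair_iff' hu0]
  rintro a rfl
  exact huv (by rw [herm_smul_right, hu, mul_zero])

theorem finrank_pair {u v : Fin n → F} (h : LinearIndependent F ![u, v]) :
    Module.finrank F (Submodule.span F ({u, v} : Set (Fin n → F))) = 2 := by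
  have := finrank_span_eq_card h
  rwa [Matrix.range_cons, Matrix.range_cons, Matrix.range_empty, Set.union_empty,
    Set.singleton_union, Fintype.card_fin] at this

/-- An element of the fixed field scaled to give a prescribed norm correction. -/
theorem exists_isotropic_add (hF : Fintype.card F = q ^ 2) {x z : Fin n → F}
    (hx : hermForm n F q x x = 0) (hxz : hermForm n F q z x ≠ 0) :
    ∃ l : F, hermForm n F q (z + l • x) (z + l • x) = 0 := by
  obtain ⟨t, ht⟩ := exists_trace_eq hF (a := -hermForm n F q z z)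
    (by rw [neg_pow_q hF, herm_self_fixed hF])
  obtain ⟨l, hl⟩ : ∃ l : F, l ^ q = t / hermForm n F q z x := ⟨_, pow_q_q hF _⟩
  refine ⟨l, ?_⟩
  rw [herm_self_add hF, herm_self_smul, hx, mul_zero, add_zero, herm_smul_right, hl,
    div_mul_cancel₀ t hxz, ht, add_neg_cancel]

/-- Hyperbolic partners. -/
theorem exists_partner (hF : Fintype.card F = q ^ 2) {W : Submodule F (Fin n → F)} (hW : Nondeg q W)
    {u : Fin n → F} (huW : u ∈ W) (hu0 : u ≠ 0) (hu : hermForm n F q u u = 0) :
    ∃ v ∈ W, hermForm n F q v v = 0 ∧ hermForm n F q v u = 1 := by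
  obtain ⟨z, hzW, hz⟩ := exists_herm_eq_mem hF hW (b := fun _ : Fin 1 => u)
    (linearIndependent_unique_iff.2 hu0) (fun _ => huW) (fun _ => (1 : F))
  obtain ⟨l, hl⟩ := exists_isotropic_add hF hu (z := z) (by rw [hz 0]; exact one_ne_zero)
  exact ⟨z + l • u, W.add_mem hzW (W.smul_mem l huW), hl, by
    rw [herm_add_left, hz 0, herm_smul_left, hu, mul_zero, add_zero]⟩

/-- Isotropic vectors with prescribed products with two independent isotropic vectors. -/
theorem exists_iso_pair (hF : Fintype.card F = q ^ 2) {W : Submodule F (Fin n → F)} (hW : Nondeg q W)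
    (h3 : 3 ≤ Module.finrank F W) {x y : Fin n → F} (hxW : x ∈ W) (hyW : y ∈ W)
    (hx : hermForm n F q x x = 0) (hy : hermForm n F q y y = 0)
    (hind : LinearIndependent F ![x, y]) {a b : F} (ha : a ≠ 0) :
    ∃ z ∈ W, hermForm n F q z z = 0 ∧ hermForm n F q z x = a ∧ hermForm n F q z y = b := by
  obtain ⟨z, hzW, hz⟩ := exists_herm_eq_mem hF hW hind
    (Fin.forall_fin_two.2 ⟨hxW, hyW⟩) ![a, b]
  obtain ⟨hzx, hzy⟩ := Fin.forall_fin_two.1 hz
  simp only [Matrix.cons_val_zero, Matrix.cons_val_one] at hzx hzy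
  by_cases hxy : hermForm n F q x y = 0
  · obtain ⟨l, hl⟩ := exists_isotropic_add hF hx (z := z) (by rw [hzx]; exact ha)
    exact ⟨z + l • x, W.add_mem hzW (W.smul_mem l hxW), hl,
      by rw [herm_add_left, hzx, herm_smul_left, hx, mul_zero, add_zero],
      by rw [herm_add_left, hzy, herm_smul_left, hxy, mul_zero, add_zero]⟩
  · have hP := nondeg_pair hF hx hy hxy
    have hPW := span_pair_le hxW hyW
    have hd := inf_perp_finrank hF hP hPW
    rw [finrank_pair hind] at hd
    obtain ⟨w, hw, hww⟩ := exists_norm_one hF (inf_perp_nondeg hF hW hP hPW) (by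
      intro h
      rw [h, finrank_bot] at hd
      omega)
    have hwx : hermForm n F q w x = 0 := hw.2 x (Submodule.subset_span (Or.inl rfl))
    have hwy : hermForm n F q w y = 0 := hw.2 y (Submodule.subset_span (Or.inr rfl))
    have hxy' : hermForm n F q y x ≠ 0 := (herm_eq_zero_symm hF).not.2 hxy
    let z0 := (b / hermForm n F q x y) • x + (a / hermForm n F q y x) • y
    obtain ⟨l, hl⟩ := exists_norm_eq hF (a := -hermForm n F q z0 z0)
      (by rw [neg_pow_q hF, herm_self_fixed hF])
    refine ⟨z0 + l • w, W.add_mem (W.add_mem (W.smul_mem _ hxW) (W.smul_mem _ hyW))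
      (W.smul_mem l hw.1), ?_, ?_, ?_⟩
    · have : hermForm n F q z0 w = 0 := by
        simp only [z0, herm_add_left, herm_smul_left, (herm_eq_zero_symm hF).1 hwx,
          (herm_eq_zero_symm hF).1 hwy, mul_zero, add_zero]
      rw [herm_self_add hF, herm_self_smul, hww, mul_one, hl, herm_smul_right, this, mul_zero,
        zero_pow (q_ne_zero hF), add_zero, add_zero, add_neg_cancel]
    · simp only [z0, herm_add_left, herm_smul_left, hx, hwx, mul_zero, zero_add, add_zero]
      rw [div_mul_cancel₀ a hxy']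
    · simp only [z0, herm_add_left, herm_smul_left, hy, hwy, mul_zero, add_zero]
      rw [div_mul_cancel₀ b hxy]

/-- Two non-zero isotropic vectors have a common non-orthogonal isotropic vector. -/
theorem exists_iso_nonperp (hF : Fintype.card F = q ^ 2) {W : Submodule F (Fin n → F)}
    (hW : Nondeg q W) (h3 : 3 ≤ Module.finrank F W) {x y : Fin n → F} (hxW : x ∈ W) (hyW : y ∈ W)
    (hx : hermForm n F q x x = 0) (hy : hermForm n F q y y = 0) (hx0 : x ≠ 0) (hy0 : y ≠ 0) :
    ∃ z ∈ W, hermForm n F q z z = 0 ∧ hermForm n F q z x ≠ 0 ∧ hermForm n F q z y ≠ 0 := by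
  by_cases hind : LinearIndependent F ![x, y]
  · obtain ⟨z, hz, h1, h2, h3'⟩ :=
      exists_iso_pair hF hW h3 hxW hyW hx hy hind (a := (1 : F)) (b := 1) one_ne_zero
    exact ⟨z, hz, h1, by rw [h2]; exact one_ne_zero, by rw [h3']; exact one_ne_zero⟩
  · rw [LinearIndependent.pair_iff' hx0] at hind
    push Not at hind
    obtain ⟨a, rfl⟩ := hind
    obtain ⟨v, hv, hvv, hvx⟩ := exists_partner hF hW hxW hx0 hx
    refine ⟨v, hv, hvv, by rw [hvx]; exact one_ne_zero, ?_⟩
    rw [herm_smul_right, hvx, mul_one]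
    exact (pow_q_eq_zero_iff hF).not.2 (by rintro rfl; exact hy0 (zero_smul F x))

/-- A non-degenerate subspace of dimension at least two has a non-zero isotropic vector. -/
theorem exists_isotropic (hF : Fintype.card F = q ^ 2) {W : Submodule F (Fin n → F)}
    (hW : Nondeg q W) (h2 : 2 ≤ Module.finrank F W) :
    ∃ w ∈ W, w ≠ 0 ∧ hermForm n F q w w = 0 := by
  obtain ⟨f, hf, hspan⟩ := exists_ON_basis hF W hW
  obtain ⟨a, ha⟩ := exists_norm_eq_neg_one hF
  let i : Fin (Module.finrank F W) := ⟨0, by omega⟩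
  let j : Fin (Module.finrank F W) := ⟨1, by omega⟩
  have hij : i ≠ j := by simp [i, j, Fin.ext_iff]
  refine ⟨f i + a • f j, ?_, ?_, ?_⟩
  · conv in W => rw [← hspan]
    exact Submodule.add_mem _ (Submodule.subset_span ⟨i, rfl⟩)
      (Submodule.smul_mem _ _ (Submodule.subset_span ⟨j, rfl⟩))
  · intro h
    have := congrArg (fun v => hermForm n F q v (f i)) h
    simp [herm_add_left, herm_smul_left, hf _ _, hij.symm] at this
  · rw [herm_self_add hF, herm_self_smul, herm_smul_right, hf, hf, hf, if_pos rfl, if_pos rfl,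
      if_neg hij]
    simp [q_ne_zero hF, ha]

/-- A non-degenerate subspace of dimension at least two is spanned by its isotropic vectors,
in the strong form that every vector is a sum of two of them. -/
theorem exists_add_isotropic (hF : Fintype.card F = q ^ 2) {W : Submodule F (Fin n → F)}
    (hW : Nondeg q W) (h2 : 2 ≤ Module.finrank F W) {p : (Fin n → F) → Prop}
    (hiso : ∀ w ∈ W, hermForm n F q w w = 0 → p w)
    (hadd : ∀ w ∈ W, ∀ w' ∈ W, p w → p w' → p (w + w')) : ∀ x ∈ W, p x := by
  obtain ⟨w, hwW, hw0, hw⟩ := exists_isotropic hF hW h2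
  have key : ∀ x ∈ W, hermForm n F q x w ≠ 0 → p x := by
    intro x hx hxw
    obtain ⟨l, hl⟩ := exists_isotropic_add hF hw hxw
    have h1 := hadd _ (W.add_mem hx (W.smul_mem l hwW)) _ (W.smul_mem (-l) hwW)
      (hiso _ (W.add_mem hx (W.smul_mem l hwW)) hl)
      (hiso _ (W.smul_mem (-l) hwW) (by rw [herm_self_smul, hw, mul_zero]))
    rwa [neg_smul, add_neg_cancel_right] at h1
  intro x hx
  by_cases hxw : hermForm n F q x w = 0
  · obtain ⟨v, hvW, -, hvw⟩ := exists_partner hF hW hwW hw0 hw
    have h1 : p (x + v) := key _ (W.add_mem hx hvW) (by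
      rw [herm_add_left, hxw, hvw, zero_add]; exact one_ne_zero)
    have h3 : p (-v) := key _ (W.neg_mem hvW) (by
      rw [herm_neg_left, hvw]; exact neg_ne_zero.2 one_ne_zero)
    simpa using hadd _ (W.add_mem hx hvW) _ (W.neg_mem hvW) h1 h3
  · exact key x hx hxw

end Cfsg.Agent.Unitary
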