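import Mathlib
import Cfsg.Agent.Unitary.Eichler
import Cfsg.Agent.Unitary.Isotropic

/-!
# The subgroup generated by unitary transvections; transitivity on isotropic vectors
-/

set_option autoImplicit false
set_option linter.unusedSectionVars false

namespace Cfsg.Agent.Unitary

open Cfsg Matrix

variable {F : Type*} [Field F] {n q : ℕ}

/-- The subgroup of `SU` generated by the unitary transvections. -/
def tgroup (n : ℕ) (F : Type*) [Field F] (q : ℕ) : Subgroup (SU n F q) :=
  Subgroup.closure {A : SU n F q | ∃ (v : Fin n → F) (c : F),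
    hermForm n F q v v = 0 ∧ mat A = unitaryTransvection n q v c}

variable [Fintype F]

instance tgroup_normal : (tgroup n F q).Normal := by
  refine ⟨fun A hA g => ?_⟩
  unfold tgroup at hA ⊢
  induction hA using Subgroup.closure_induction with
  | mem A hA =>
    obtain ⟨v, c, hv, hA⟩ := hA
    refine Subgroup.subset_closure ⟨ap g v, c, by rw [herm_ap, hv], ?_⟩
    refine Matrix.ext_iff_mulVec.2 fun x => ?_
    rw [unitaryTransvection_mulVec, ← ap_def, herm_ap_right, ap_mul, ap_mul,
      ap_def A, hA, unitaryTransvection_mulVec, ap_add, ap_ap_inv, ap_smul]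
  | one => simp
  | mul A B _ _ ha hb => simpa using mul_mem ha hb
  | inv A _ ha => simpa [mul_assoc] using inv_mem ha

theorem tv_mem_tgroup (hF : Fintype.card F = q ^ 2) {v : Fin n → F} {c : F}
    (hv : hermForm n F q v v = 0) (hc : c + c ^ q = 0) : tv hF hv hc ∈ tgroup n F q :=
  Subgroup.subset_closure ⟨v, c, hv, mat_tv hF hv hc⟩

theorem perp_herm_eq_zero (hF : Fintype.card F = q ^ 2) {W : Submodule F (Fin n → F)}
    {v : Fin n → F} (hv : v ∈ W) :
    ∀ s ∈ (perp q (W : Set (Fin n → F)) : Set (Fin n → F)), hermForm n F q s v = 0 :=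
  fun _ hs => hs v hv

/-- One transvection maps `x` to `y` when `h(x,y)` is non-zero of trace zero. -/
theorem exists_step (hF : Fintype.card F = q ^ 2) {W : Submodule F (Fin n → F)}
    {x y : Fin n → F} (hxW : x ∈ W) (hyW : y ∈ W) (hx : hermForm n F q x x = 0)
    (hy : hermForm n F q y y = 0) (ht : hermForm n F q x y + hermForm n F q x y ^ q = 0)
    (h0 : hermForm n F q x y ≠ 0) :
    ∃ g ∈ tgroup n F q ⊓ fixer n F q (perp q (W : Set (Fin n → F))), ap g x = y := by
  have hz : hermForm n F q (x - y) (x - y) = 0 := by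
    rw [herm_sub_left, herm_sub_right hF, herm_sub_right hF, hx, hy, ← herm_swap hF x y]
    linear_combination -ht
  let t := hermForm n F q x y
  have htne : t ≠ 0 := h0
  have htq : t ^ q = -t := eq_neg_of_add_eq_zero_right ht
  have hc : (t⁻¹) + (t⁻¹) ^ q = 0 := by rw [inv_pow, htq, inv_neg, add_neg_cancel]
  refine ⟨tv hF hz hc, ⟨tv_mem_tgroup hF hz hc,
    tv_mem_fixer hF hz hc (perp_herm_eq_zero hF (W.sub_mem hxW hyW))⟩, ?_⟩
  rw [ap_tv, herm_sub_right hF, hx, zero_sub]
  rw [show t⁻¹ * -hermForm n F q x y = -1 by rw [mul_neg, inv_mul_cancel₀ htne], neg_one_smul]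
  abel

/-- Transvections supported on `W` act transitively on the non-zero isotropic vectors of `W`. -/
theorem exists_map_isotropic (hF : Fintype.card F = q ^ 2) {W : Submodule F (Fin n → F)}
    (hW : Nondeg q W) (h3 : 3 ≤ Module.finrank F W) {x y : Fin n → F} (hxW : x ∈ W) (hyW : y ∈ W)
    (hx : hermForm n F q x x = 0) (hy : hermForm n F q y y = 0) (hx0 : x ≠ 0) (hy0 : y ≠ 0) :
    ∃ g ∈ tgroup n F q ⊓ fixer n F q (perp q (W : Set (Fin n → F))), ap g x = y := by
  obtain ⟨δ, hδ0, hδ⟩ := exists_skew hF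
  have hδt : δ + δ ^ q = 0 := by rw [hδ, add_neg_cancel]
  have two : ∀ {x y : Fin n → F}, x ∈ W → y ∈ W → hermForm n F q x x = 0 →
      hermForm n F q y y = 0 → LinearIndependent F ![x, y] →
      ∃ g ∈ tgroup n F q ⊓ fixer n F q (perp q (W : Set (Fin n → F))), ap g x = y := by
    intro x y hxW hyW hx hy hind
    obtain ⟨z, hzW, hz, hzx, hzy⟩ :=
      exists_iso_pair hF hW h3 hxW hyW hx hy hind (a := δ) (b := δ) hδ0
    obtain ⟨g, hg, hgx⟩ := exists_step hF hxW hzW hx hz
      (by rw [← herm_swap hF z x, hzx, pow_q_q hF, add_comm, hδt])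
      (by rw [← herm_swap hF z x, hzx]; exact (pow_q_eq_zero_iff hF).not.2 hδ0)
    obtain ⟨g', hg', hgz⟩ := exists_step hF hzW hyW hz hy (by rw [hzy, hδt]) (by rw [hzy]; exact hδ0)
    exact ⟨g' * g, mul_mem hg' hg, by rw [ap_mul, hgx, hgz]⟩
  by_cases hind : LinearIndependent F ![x, y]
  · exact two hxW hyW hx hy hind
  · rw [LinearIndependent.pair_iff' hx0] at hind
    push Not at hind
    obtain ⟨a, rfl⟩ := hind
    obtain ⟨v, hvW, hv, hvx⟩ := exists_partner hF hW hxW hx0 hx
    have ha : a ≠ 0 := by rintro rfl; exact hy0 (zero_smul F x)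
    obtain ⟨g, hg, hgx⟩ := two hxW hvW hx hv (indep_pair hF hx (by
      rw [← herm_swap hF v x, hvx, one_pow]; exact one_ne_zero))
    obtain ⟨g', hg', hgv⟩ := two hvW hyW hv hy (indep_pair hF hv (by
      rw [herm_smul_right, hvx, mul_one]; exact (pow_q_eq_zero_iff hF).not.2 ha))
    exact ⟨g' * g, mul_mem hg' hg, by rw [ap_mul, hgx, hgv]⟩

/-- The element swapping the two axes of a hyperbolic pair. -/
theorem exists_weyl (hF : Fintype.card F = q ^ 2) {u v : Fin n → F}
    (hu : hermForm n F q u u = 0) (hv : hermForm n F q v v = 0) (hvu : hermForm n F q v u = 1)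
    {b : F} (hb0 : b ≠ 0) (hb : b + b ^ q = 0) :
    ∃ g ∈ tgroup n F q ⊓ fixer n F q (perp q ({u, v} : Set (Fin n → F))),
      ap g u = (-b⁻¹) • v ∧ ap g v = b • u := by
  have huv : hermForm n F q u v = 1 := by rw [← herm_swap hF v u, hvu, one_pow]
  have hbq : b ^ q = -b := eq_neg_of_add_eq_zero_right hb
  have hs : -b⁻¹ + (-b⁻¹) ^ q = 0 := by rw [neg_pow_q hF, inv_pow, hbq, inv_neg, neg_neg, neg_add_cancel]
  have hSu : ∀ s ∈ (perp q ({u, v} : Set (Fin n → F)) : Set (Fin n → F)),
      hermForm n F q s u = 0 := fun s hs => (mem_perp_pair.1 hs).1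
  have hSv : ∀ s ∈ (perp q ({u, v} : Set (Fin n → F)) : Set (Fin n → F)),
      hermForm n F q s v = 0 := fun s hs => (mem_perp_pair.1 hs).2
  refine ⟨tv hF hu hb * tv hF hv hs * tv hF hu hb,
    ⟨mul_mem (mul_mem (tv_mem_tgroup hF hu hb) (tv_mem_tgroup hF hv hs)) (tv_mem_tgroup hF hu hb),
    mul_mem (mul_mem (tv_mem_fixer hF hu hb hSu) (tv_mem_fixer hF hv hs hSv))
      (tv_mem_fixer hF hu hb hSu)⟩, ?_, ?_⟩
  · simp only [ap_mul, ap_tv, hu, huv, hvu, herm_add_left, herm_smul_left, mul_zero, mul_one,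
      zero_smul, add_zero, zero_add]
    match_scalars <;> field_simp
    all_goals ring
  · simp only [ap_mul, ap_tv, hu, hv, huv, hvu, herm_add_left, herm_smul_left, mul_zero, mul_one,
      add_zero, zero_add]
    match_scalars <;> field_simp
    all_goals ring

/-- The torus element `u ↦ a u`, for `a` in the fixed field. -/
theorem exists_torus (hF : Fintype.card F = q ^ 2) {u v : Fin n → F}
    (hu : hermForm n F q u u = 0) (hv : hermForm n F q v v = 0) (hvu : hermForm n F q v u = 1)
    {a : F} (ha0 : a ≠ 0) (ha : a ^ q = a) :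
    ∃ g ∈ tgroup n F q ⊓ fixer n F q (perp q ({u, v} : Set (Fin n → F))), ap g u = a • u := by
  obtain ⟨δ, hδ0, hδ⟩ := exists_skew hF
  have hb1 : δ + δ ^ q = 0 := by rw [hδ, add_neg_cancel]
  have hb2 : -(a * δ) + (-(a * δ)) ^ q = 0 := by
    rw [neg_pow_q hF, mul_pow, ha, hδ]; ring
  obtain ⟨g₁, hg₁, h1u, -⟩ := exists_weyl hF hu hv hvu hδ0 hb1
  obtain ⟨g₂, hg₂, -, h2v⟩ := exists_weyl hF hu hv hvu (neg_ne_zero.2 (mul_ne_zero ha0 hδ0)) hb2
  refine ⟨g₂ * g₁, mul_mem hg₂ hg₁, ?_⟩
  rw [ap_mul, h1u, ap_smul, h2v, smul_smul]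
  congr 1
  field_simp

theorem eSU_eq_of_eMat (hF : Fintype.card F = q ^ 2) {u w u' w' : Fin n → F} {α α' : F}
    (h : ESpec q u w α) (h' : ESpec q u' w' α')
    (e : ∀ x, ap (eSU hF h) x = ap (eSU hF h') x) : eSU hF h = eSU hF h' := ap_ext e

/-- All Eichler transformations lie in the transvection group, except in `SU₃(2)`. -/
theorem eSU_mem_tgroup (hF : Fintype.card F = q ^ 2) (hbig : 4 ≤ n ∨ (n = 3 ∧ 3 ≤ q))
    {u : Fin n → F} (hu0 : u ≠ 0) {w : Fin n → F} {α : F} (h : ESpec q u w α) :
    eSU hF h ∈ tgroup n F q := by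
  let P : (Fin n → F) → Prop := fun w =>
    ∀ (α : F) (h : ESpec q u w α), eSU hF h ∈ tgroup n F q
  suffices ∀ w, hermForm n F q w u = 0 → P w from this w h.orth α h
  clear! w α
  have hu : ∀ w, hermForm n F q w u = 0 → hermForm n F q u w = 0 :=
    fun w hw => (herm_eq_zero_symm hF).1 hw
  by_cases huu : hermForm n F q u u = 0
  swap
  · exact fun w _ α h => absurd h.iso huu
  have hcentral : ∀ m : F, P (m • u) := by
    intro m α h
    have hc : (α + m - m ^ q) + (α + m - m ^ q) ^ q = 0 := by
      have := h.tr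
      rw [herm_self_smul, huu, mul_zero, add_zero] at this
      rw [sub_pow_q hF, add_pow_q hF, pow_q_q hF]
      linear_combination this
    convert tv_mem_tgroup hF huu hc using 1
    refine ap_ext fun x => ?_
    simp only [ap_eSU, ap_tv, herm_smul_right]
    module
  have hadd : ∀ w w', P w → P w' → hermForm n F q w u = 0 → hermForm n F q w' u = 0 →
      P (w + w') := by
    intro w w' hw hw' hwu hwu' γ hγ
    obtain ⟨a, ha⟩ := exists_alpha hF huu hwu
    have hb : ESpec q u w' (γ - a + hermForm n F q w' w) := by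
      refine ⟨huu, hwu', ?_⟩
      have := hγ.tr
      rw [herm_self_add hF, herm_swap hF w w'] at this
      rw [add_pow_q hF, sub_pow_q hF, herm_swap hF w' w]
      linear_combination this - ha.tr
    have e : eSU hF (eSpec_add hF ha hb) = eSU hF hγ := by
      refine ap_ext fun x => ?_
      simp only [ap_eSU]
      module
    rw [← e, ← eSU_mul hF ha hb (eSpec_add hF ha hb)]
    exact mul_mem (hw a ha) (hw' _ hb)
  obtain ⟨v, -, hv, hvu⟩ := exists_partner hF (nondeg_top hF) Submodule.mem_top hu0 huu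
  have huv : hermForm n F q u v = 1 := by rw [← herm_swap hF v u, hvu, one_pow]
  suffices hW : ∀ w, hermForm n F q w u = 0 → hermForm n F q w v = 0 → P w by
    intro w hw
    have h1 : hermForm n F q (w - hermForm n F q w v • u) u = 0 := by
      rw [herm_sub_left, herm_smul_left, hw, huu, mul_zero, sub_zero]
    have := hadd _ (hermForm n F q w v • u)
      (hW (w - hermForm n F q w v • u) h1 (by rw [herm_sub_left, herm_smul_left, huv, mul_one, sub_self]))
      (hcentral _) h1 (by rw [herm_smul_left, huu, mul_zero])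
    rwa [sub_add_cancel] at this
  rcases hbig with hn | ⟨-, hq⟩
  · -- isotropic generators
    have hPn := nondeg_pair hF huu hv (by rw [huv]; exact one_ne_zero)
    have hd := finrank_perp_add hF hPn
    rw [finrank_pair (indep_pair hF huu (by rw [huv]; exact one_ne_zero)), perp_span hF] at hd
    have hW0 : Nondeg q (perp q ({u, v} : Set (Fin n → F))) := by
      rw [← perp_span hF]; exact nondeg_perp hF hPn
    intro w hwu hwv
    refine exists_add_isotropic hF hW0 (by omega) (p := P) ?_ ?_ w (mem_perp_pair.2 ⟨hwu, hwv⟩)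
    · intro w hw hww α h
      obtain ⟨c, hc0, hc⟩ := exists_skew hF
      have hct : c + c ^ q = 0 := by rw [hc, add_neg_cancel]
      have hnc : -c + (-c) ^ q = 0 := by rw [neg_pow_q hF, hc, neg_neg, neg_add_cancel]
      have hα : α + α ^ q = 0 := by simpa [hww] using h.tr
      have hwu := (mem_perp_pair.1 hw).1
      have hiso : hermForm n F q (c⁻¹ • w) (c⁻¹ • w) = 0 := by rw [herm_self_smul, hww, mul_zero]
      have hiso2 : hermForm n F q (u + c⁻¹ • w) (u + c⁻¹ • w) = 0 := by
        rw [herm_self_add hF, huu, hiso, herm_smul_right, hu w hwu, mul_zero,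
          zero_pow (q_ne_zero hF), add_zero, add_zero]
      have key : eSU hF h =
          tv hF hiso2 hct * tv hF huu hnc * tv hF hiso hnc * tv hF huu hα := by
        refine ap_ext fun x => ?_
        simp only [ap_mul, ap_eSU, ap_tv, herm_add_left, herm_add_right hF, herm_smul_left,
          herm_smul_right, huu, hww, hwu, hu w hwu, mul_zero, add_zero, inv_pow, hc]
        match_scalars <;> field_simp
        all_goals ring
      rw [key]
      exact mul_mem (mul_mem (mul_mem (tv_mem_tgroup hF _ _) (tv_mem_tgroup hF _ _))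
        (tv_mem_tgroup hF _ _)) (tv_mem_tgroup hF _ _)
    · intro w hw w' hw' h h'
      exact hadd w w' h h' (mem_perp_pair.1 hw).1 (mem_perp_pair.1 hw').1
  · -- commutators with the torus
    obtain ⟨a, ha, ha0, ha1⟩ := exists_fixed_ne hF hq
    obtain ⟨g, ⟨hgT, hgS⟩, hgu⟩ := exists_torus hF huu hv hvu ha0 ha
    intro w₀ hwu hwv α₀ h₀
    -- write `w₀ = (a - 1) • w`
    have hne : a - 1 ≠ 0 := sub_ne_zero.2 ha1
    let w := (a - 1)⁻¹ • w₀
    have hwu' : hermForm n F q w u = 0 := by rw [herm_smul_left, hwu, mul_zero]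
    have hwv' : hermForm n F q w v = 0 := by rw [herm_smul_left, hwv, mul_zero]
    obtain ⟨α, h⟩ := exists_alpha hF huu hwu'
    have hgw : ap g w = w := hgS w (mem_perp_pair.2 ⟨hwu', hwv'⟩)
    have h1 : ESpec q (ap g u) (ap g w) α := eSpec_ap g h
    -- the commutator
    have hcomm : g * eSU hF h * g⁻¹ * (eSU hF h)⁻¹ ∈ tgroup n F q := by
      rw [mul_assoc, mul_assoc]
      refine mul_mem hgT ?_
      rw [← mul_assoc]
      exact tgroup_normal.conj_mem _ (inv_mem hgT) _
    rw [conj_eSU hF g h h1] at hcomm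
    have h2 : ESpec q u (a • w) (a * a * α) := by
      refine ⟨huu, by rw [herm_smul_left, hwu', mul_zero], ?_⟩
      rw [herm_self_smul, mul_pow, mul_pow, ha]
      linear_combination (a * a) * h.tr
    have e1 : eSU hF h1 = eSU hF h2 := by
      refine ap_ext fun x => ?_
      simp only [ap_eSU, hgu, hgw, herm_smul_right, ha]
      module
    rw [e1] at hcomm
    have hsum : w₀ + w = a • w := by
      have : w₀ = (a - 1) • w := by rw [smul_inv_smul₀ hne]
      rw [this, sub_smul, one_smul, sub_add_cancel]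
    have hb : ESpec q u w₀ (a * a * α - α + hermForm n F q w w₀) := by
      refine ⟨huu, hwu, ?_⟩
      have := h2.tr
      rw [← hsum, herm_self_add hF, herm_swap hF w₀ w] at this
      rw [add_pow_q hF, sub_pow_q hF, herm_swap hF w w₀]
      linear_combination this - h.tr
    have hm := eSU_mul hF hb h (eSpec_add hF hb h)
    have e2 : eSU hF (eSpec_add hF hb h) = eSU hF h2 := by
      refine ap_ext fun x => ?_
      simp only [ap_eSU, hsum]
      module
    rw [← e2, ← hm, mul_inv_cancel_right] at hcomm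
    -- replace the parameter
    have hd : (α₀ - (a * a * α - α + hermForm n F q w w₀))
        + (α₀ - (a * a * α - α + hermForm n F q w w₀)) ^ q = 0 := by
      rw [sub_pow_q hF]
      linear_combination h₀.tr - hb.tr
    have e3 : eSU hF h₀ = eSU hF hb * tv hF huu hd := by
      refine ap_ext fun x => ?_
      simp only [ap_mul, ap_eSU, ap_tv, herm_add_left, herm_smul_left, huu, hu w₀ hwu, mul_zero,
        add_zero]
      module
    rw [e3]
    exact mul_mem hcomm (tv_mem_tgroup hF _ _)

end Cfsg.Agent.Unitary
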