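import Mathlib
import Cfsg.Agent.Unitary.Transvection
import Cfsg.Agent.Unitary.Order

/-!
# Scalars and the centre of `SU`
-/

set_option autoImplicit false
set_option linter.unusedSectionVars false

namespace Cfsg.Agent.Unitary

open Cfsg Matrix

variable {F : Type*} [Field F] [Fintype F] {n q : ℕ}

/-- Non-zero isotropic vectors exist. -/
theorem exists_isotropic_top (hF : Fintype.card F = q ^ 2) (hn : 2 ≤ n) :
    ∃ u : Fin n → F, u ≠ 0 ∧ hermForm n F q u u = 0 := by
  obtain ⟨u, -, h⟩ := exists_isotropic hF (nondeg_top (n := n) hF)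
    (by rw [finrank_top, Module.finrank_fin_fun]; exact hn)
  exact ⟨u, h⟩

/-- An element fixing every isotropic line is a scalar. -/
theorem eq_smul_of_fix_lines (hF : Fintype.card F = q ^ 2) (hn : 2 ≤ n) (A : SU n F q)
    (hA : ∀ u : Fin n → F, hermForm n F q u u = 0 → u ≠ 0 → ∃ l : F, ap A u = l • u) :
    ∃ l : F, ∀ x, ap A x = l • x := by
  obtain ⟨δ, hδ0, hδ⟩ := exists_skew hF
  -- two non-orthogonal isotropic vectors have the same eigenvalue
  have same : ∀ {x y : Fin n → F} {a b : F}, hermForm n F q x x = 0 → hermForm n F q y y = 0 →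
      hermForm n F q x y ≠ 0 → ap A x = a • x → ap A y = b • y → a = b := by
    intro x y a b hx hy hxy ha hb
    obtain ⟨c, hc⟩ : ∃ c : F, c ^ q = δ / hermForm n F q x y := ⟨_, pow_q_q hF _⟩
    have hc0 : c ≠ 0 := by
      rintro rfl
      rw [zero_pow (q_ne_zero hF)] at hc
      exact div_ne_zero hδ0 hxy hc.symm
    have hz : hermForm n F q (x + c • y) (x + c • y) = 0 := by
      rw [herm_self_add hF, hx, herm_self_smul, hy, mul_zero, herm_smul_right, hc,
        div_mul_cancel₀ δ hxy, hδ, add_neg_cancel, add_zero, add_zero]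
    have hind := indep_pair hF hx hxy
    rw [LinearIndependent.pair_iff] at hind
    by_cases hz0 : x + c • y = 0
    · exact absurd (hind 1 c (by rw [one_smul]; exact hz0)).1 one_ne_zero
    obtain ⟨k, hk⟩ := hA _ hz hz0
    rw [ap_add, ap_smul, ha, hb] at hk
    obtain ⟨h1, h2⟩ := hind (a - k) (c * b - k * c) (by linear_combination (norm := module) hk)
    rw [sub_eq_zero] at h1
    rw [h1]
    exact (mul_left_cancel₀ hc0 (by linear_combination h2)).symm
  obtain ⟨u, hu0, hu⟩ := exists_isotropic_top (n := n) hF hn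
  obtain ⟨v, -, hv, hvu⟩ := exists_partner hF (nondeg_top hF) Submodule.mem_top hu0 hu
  have huv : hermForm n F q u v = 1 := by rw [← herm_swap hF v u, hvu, one_pow]
  have hv0 : v ≠ 0 := by rintro rfl; rw [herm_zero_left] at hvu; exact zero_ne_one hvu
  obtain ⟨l, hl⟩ := hA u hu hu0
  obtain ⟨m, hm⟩ := hA v hv hv0
  have hml : m = l := same hv hu (by rw [hvu]; exact one_ne_zero) hm hl
  rw [hml] at hm
  refine ⟨l, fun x => ?_⟩
  refine exists_add_isotropic hF (nondeg_top hF)
    (by rw [finrank_top, Module.finrank_fin_fun]; exact hn) (p := fun x => ap A x = l • x)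
    ?_ ?_ x trivial
  · intro w _ hw
    by_cases hw0 : w = 0
    · rw [hw0, smul_zero, ap_zero]
    obtain ⟨k, hk⟩ := hA w hw hw0
    by_cases h1 : hermForm n F q w u = 0
    · by_cases h2 : hermForm n F q w v = 0
      · -- replace `w` by `w + u`, which is not orthogonal to `v`
        have hz : hermForm n F q (w + u) (w + u) = 0 := by
          rw [herm_self_add hF, hw, hu, h1, zero_pow (q_ne_zero hF), add_zero, add_zero]
        have hzv : hermForm n F q (w + u) v = 1 := by rw [herm_add_left, h2, huv, zero_add]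
        obtain ⟨j, hj⟩ := hA _ hz (fun h => by rw [h, herm_zero_left] at hzv; exact zero_ne_one hzv)
        rw [same hz hv (by rw [hzv]; exact one_ne_zero) hj hm, ap_add, hl, smul_add] at hj
        exact add_right_cancel hj
      · rw [hk, same hw hv h2 hk hm]
    · rw [hk, same hw hu h1 hk hl]
  · intro w _ w' _ h h'
    rw [ap_add, h, h', smul_add]

theorem mat_of_ap_smul {A : SU n F q} {l : F} (hA : ∀ x, ap A x = l • x) :
    mat A = l • (1 : Matrix (Fin n) (Fin n) F) :=
  Matrix.ext_iff_mulVec.2 fun x => by rw [smul_mulVec, one_mulVec, ← ap_def, hA]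

theorem smul_mem_center {A : SU n F q} {l : F} (hA : ∀ x, ap A x = l • x) :
    A ∈ Subgroup.center (SU n F q) := by
  rw [Subgroup.mem_center_iff]
  intro B
  refine ap_ext fun x => ?_
  rw [ap_mul, ap_mul, hA, hA, ap_smul]

/-- The centre of `SU` consists of scalars. -/
theorem eq_smul_of_mem_center (hF : Fintype.card F = q ^ 2) (hn : 2 ≤ n) {A : SU n F q}
    (hA : A ∈ Subgroup.center (SU n F q)) : ∃ l : F, ∀ x, ap A x = l • x := by
  refine eq_smul_of_fix_lines hF hn A fun u hu hu0 => ?_
  obtain ⟨δ, hδ0, hδ⟩ := exists_skew hF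
  have hδt : δ + δ ^ q = 0 := by rw [hδ, add_neg_cancel]
  have hcomm := congrArg (fun B => ap B u) (Subgroup.mem_center_iff.1 hA (tv hF hu hδt))
  simp only [ap_mul, ap_tv, hu, mul_zero, zero_smul, add_zero] at hcomm
  -- the transvection fixes `A u`, so `A u ⊥ u`; the same holds with a partner
  obtain ⟨v, -, hv, hvu⟩ := exists_partner hF (nondeg_top hF) Submodule.mem_top hu0 hu
  have h2 := congrArg (fun B => ap B v) (Subgroup.mem_center_iff.1 hA (tv hF hu hδt))
  simp only [ap_mul, ap_tv, hvu, mul_one, ap_add, ap_smul] at h2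
  refine ⟨hermForm n F q (ap A v) u, smul_right_injective _ hδ0 ?_⟩
  have h3 : (δ * hermForm n F q (ap A v) u) • u = δ • ap A u := add_left_cancel h2
  simp only [smul_smul]
  exact h3.symm

/-- The roots of unity giving the scalars of `SU`. -/
theorem card_center_SU (hF : Fintype.card F = q ^ 2) (hn : 2 ≤ n) :
    Nat.card (Subgroup.center (SU n F q)) = Nat.gcd n (q + 1) := by
  have hcard : Nat.card (powMonoidHom (Nat.gcd n (q + 1)) : Fˣ →* Fˣ).ker = Nat.gcd n (q + 1) := by
    rw [IsCyclic.card_powMonoidHom_ker, card_units hF]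
    exact Nat.gcd_eq_right (dvd_mul_of_dvd_left (Nat.gcd_dvd_right _ _) _)
  refine Eq.trans ?_ hcard
  have : NeZero n := ⟨by omega⟩
  have hspec : ∀ u : (powMonoidHom (Nat.gcd n (q + 1)) : Fˣ →* Fˣ).ker,
      Preserves q (((u : Fˣ) : F) • (1 : Matrix (Fin n) (Fin n) F)) ∧
        (((u : Fˣ) : F) • (1 : Matrix (Fin n) (Fin n) F)).det = 1 := by
    intro u
    have hu : (u : Fˣ) ^ Nat.gcd n (q + 1) = 1 := u.2
    obtain ⟨hun, huq⟩ := pow_gcd_eq_one.1 hu
    refine ⟨fun x y => ?_, ?_⟩
    · have := congrArg Units.val huq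
      simp only [pow_succ', Units.val_mul, Units.val_pow_eq_pow_val, Units.val_one] at this
      rw [smul_mulVec, smul_mulVec, one_mulVec, one_mulVec, herm_smul_left, herm_smul_right,
        ← mul_assoc, this, one_mul]
    · have := congrArg Units.val hun
      simp only [Units.val_pow_eq_pow_val, Units.val_one] at this
      rw [Matrix.det_smul, Fintype.card_fin, this, Matrix.det_one, mul_one]
  let f : (powMonoidHom (Nat.gcd n (q + 1)) : Fˣ →* Fˣ).ker → Subgroup.center (SU n F q) :=
    fun u => ⟨toSU (hspec u).1 (hspec u).2, smul_mem_center (l := ((u : Fˣ) : F)) fun x => by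
      show (((u : Fˣ) : F) • (1 : Matrix (Fin n) (Fin n) F)) *ᵥ x = _
      rw [smul_mulVec, one_mulVec]⟩
  refine (Nat.card_congr (Equiv.ofBijective f ⟨?_, ?_⟩)).symm
  · intro u u' h
    have h1 : mat (f u : SU n F q) = mat (f u' : SU n F q) := by rw [h]
    refine Subtype.ext (Units.ext ?_)
    simpa [f, mat, toSU] using congrFun (congrFun h1 0) 0
  · rintro ⟨A, hA⟩
    obtain ⟨l, hl⟩ := eq_smul_of_mem_center hF hn hA
    have hm := mat_of_ap_smul hl
    have hdet : l ^ n = 1 := by
      have h : (mat A).det = 1 := (A : Matrix.SpecialLinearGroup (Fin n) F).2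
      rw [hm, Matrix.det_smul, Fintype.card_fin, Matrix.det_one, mul_one] at h
      exact h
    have hnorm : l ^ (q + 1) = 1 := by
      have h := herm_ap A (Pi.single 0 1) (Pi.single 0 1)
      rw [hl, herm_self_smul, herm_single_single hF, if_pos rfl, mul_one] at h
      rw [pow_succ']
      exact h
    have hl0 : l ≠ 0 := by
      rintro rfl
      simp [q_ne_zero hF] at hnorm
    refine ⟨⟨Units.mk0 l hl0, ?_⟩, Subtype.ext (ap_ext fun x => ?_)⟩
    · rw [MonoidHom.mem_ker, powMonoidHom_apply]
      exact pow_gcd_eq_one.2 ⟨Units.ext (by simpa using hdet), Units.ext (by simpa using hnorm)⟩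
    · show (l • (1 : Matrix (Fin n) (Fin n) F)) *ᵥ x = _
      rw [smul_mulVec, one_mulVec, hl]

theorem card_PSU (hF : Fintype.card F = q ^ 2) (hn : 2 ≤ n) :
    Nat.gcd n (q + 1) * Nat.card (PSU n F q) = Nat.card (SU n F q) := by
  rw [← card_center_SU hF hn]
  exact (Subgroup.card_mul_index (Subgroup.center (SU n F q)))

end Cfsg.Agent.Unitary
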