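import Mathlib
import Cfsg.Agent.Unitary.Transvection

/-!
# Generation of `SU` by transvections; perfectness
-/

set_option autoImplicit false
set_option linter.unusedSectionVars false

namespace Cfsg.Agent.Unitary

open Cfsg Matrix

variable {F : Type*} [Field F] [Fintype F] {n q : ℕ}

theorem ap_mem_of_fixer (hF : Fintype.card F = q ^ 2) {W : Submodule F (Fin n → F)}
    (hW : Nondeg q W) {g : SU n F q} (hg : g ∈ fixer n F q (perp q (W : Set (Fin n → F))))
    {x : Fin n → F} (hx : x ∈ W) : ap g x ∈ W := by
  obtain ⟨a, ha, b, hb, hab⟩ :=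
    Submodule.mem_sup.1 ((isCompl_perp hF hW).sup_eq_top.symm ▸ Submodule.mem_top (x := ap g x))
  suffices b = 0 by rw [← hab, this, add_zero]; exact ha
  refine nondeg_perp hF hW b hb fun s hs => ?_
  have h1 : hermForm n F q (ap g x) s = hermForm n F q x s := by
    nth_rw 1 [← hg s hs]
    exact herm_ap g x s
  rw [← hab, herm_add_left, (herm_eq_zero_symm hF).1 (hs a ha), zero_add,
    (herm_eq_zero_symm hF).1 (hs x hx)] at h1
  exact h1

/-- Decomposition along a hyperbolic pair. -/
theorem sub_pair_mem_perp {u v : Fin n → F} (hu : hermForm n F q u u = 0)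
    (hv : hermForm n F q v v = 0) (huv : hermForm n F q u v = 1) (hvu : hermForm n F q v u = 1)
    (x : Fin n → F) :
    x - hermForm n F q x v • u - hermForm n F q x u • v
      ∈ perp q ({u, v} : Set (Fin n → F)) := by
  rw [mem_perp_pair]
  constructor <;>
    simp [herm_sub_left, herm_smul_left, hu, hv, huv, hvu]

/-- Determinant of an element fixing the complement of a hyperbolic pair. -/
theorem det_hyperbolic (hF : Fintype.card F = q ^ 2) {u v : Fin n → F}
    (hu : hermForm n F q u u = 0) (hv : hermForm n F q v v = 0) (hvu : hermForm n F q v u = 1)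
    {g : SU n F q} (hg : g ∈ fixer n F q (perp q ({u, v} : Set (Fin n → F)))) :
    hermForm n F q (ap g u) v * hermForm n F q (ap g v) u
      - hermForm n F q (ap g v) v * hermForm n F q (ap g u) u = 1 := by
  have huv : hermForm n F q u v = 1 := by rw [← herm_swap hF v u, hvu, one_pow]
  let X : Matrix (Fin n) (Fin 2) F := Matrix.of fun i j => ![(ap g u - u) i, (ap g v - v) i] j
  let Y : Matrix (Fin 2) (Fin n) F := Matrix.of fun j i => ![cj q v i, cj q u i] j
  have hXY : mat g = 1 + X * Y := by
    refine Matrix.ext_iff_mulVec.2 fun x => ?_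
    have h := hg _ (sub_pair_mem_perp hu hv huv hvu x)
    rw [ap_sub, ap_sub, ap_smul, ap_smul] at h
    have h2 : Y *ᵥ x = ![hermForm n F q x v, hermForm n F q x u] := by
      ext j
      fin_cases j <;> simp [Y, Matrix.mulVec, herm_eq_dot, dotProduct_comm x]
    have h3 : ∀ a b : F, X *ᵥ ![a, b] = a • (ap g u - u) + b • (ap g v - v) := by
      intro a b
      ext i
      simp [X, Matrix.mulVec, dotProduct, mul_comm]
    rw [add_mulVec, one_mulVec, ← mulVec_mulVec, h2, h3, ← ap_def]
    linear_combination (norm := module) h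
  have hd : (mat g).det = 1 := (g : Matrix.SpecialLinearGroup (Fin n) F).2
  rw [hXY, det_one_add_mul_comm, Matrix.det_fin_two] at hd
  have e : ∀ (w : Fin n → F) (z : Fin n → F), ∑ i, cj q z i * w i = hermForm n F q w z :=
    fun w z => Finset.sum_congr rfl fun i _ => mul_comm _ _
  simp only [X, Y, Matrix.add_apply, Matrix.one_apply_eq, Matrix.mul_apply, Matrix.of_apply,
    Matrix.cons_val_zero, Matrix.cons_val_one, Matrix.one_apply_ne (show (0 : Fin 2) ≠ 1 by decide),
    Matrix.one_apply_ne (show (1 : Fin 2) ≠ 0 by decide), e, herm_sub_left, hu, hv, huv, hvu] at hd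
  linear_combination hd

/-- Every element supported on a hyperbolic plane is a product of transvections. -/
theorem plane_mem_tgroup (hF : Fintype.card F = q ^ 2) {u v : Fin n → F}
    (hu : hermForm n F q u u = 0) (hv : hermForm n F q v v = 0) (hvu : hermForm n F q v u = 1)
    {g : SU n F q} (hg : g ∈ fixer n F q (perp q ({u, v} : Set (Fin n → F)))) :
    g ∈ tgroup n F q := by
  have huv : hermForm n F q u v = 1 := by rw [← herm_swap hF v u, hvu, one_pow]
  let S : Set (Fin n → F) := (perp q ({u, v} : Set (Fin n → F)) : Set (Fin n → F))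
  let Pl := Submodule.span F ({u, v} : Set (Fin n → F))
  have hPl : Nondeg q Pl := nondeg_pair hF hu hv (by rw [huv]; exact one_ne_zero)
  have hmemPl : ∀ {g : SU n F q}, g ∈ fixer n F q S → ∀ x ∈ Pl, ∃ a b : F,
      ap g x = a • u + b • v := by
    intro g hg x hx
    obtain ⟨a, b, hab⟩ := Submodule.mem_span_pair.1
      (ap_mem_of_fixer hF hPl (by rw [perp_span hF]; exact hg) hx)
    exact ⟨a, b, hab.symm⟩
  have hSu : ∀ s ∈ S, hermForm n F q s u = 0 := fun s hs => (mem_perp_pair.1 hs).1
  -- step 1: reduce to `g u = l u`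
  obtain ⟨t, ⟨htT, htS⟩, l, htu⟩ : ∃ t ∈ tgroup n F q ⊓ fixer n F q S, ∃ l : F,
      ap (t * g) u = l • u := by
    obtain ⟨a, b, hab⟩ := hmemPl hg u (Submodule.subset_span (Or.inl rfl))
    by_cases hb : b = 0
    · exact ⟨1, one_mem _, a, by rw [one_mul, hab, hb, zero_smul, add_zero]⟩
    · have hiso : a * b ^ q + b * a ^ q = 0 := by
        have := herm_ap g u u
        rw [hab, hu] at this
        simp only [herm_add_left, herm_add_right hF, herm_smul_left, herm_smul_right, hu, hv, huv,
          hvu, mul_zero, mul_one, zero_add, add_zero] at this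
        linear_combination this
      have hc : -(a / b) + (-(a / b)) ^ q = 0 := by
        rw [neg_pow_q hF, div_pow]
        have := (pow_q_eq_zero_iff hF).not.2 hb
        field_simp
        linear_combination -hiso
      obtain ⟨d, hd0, hd⟩ := exists_skew hF
      obtain ⟨w, hw, -, hwv⟩ := exists_weyl hF hu hv hvu hd0 (by rw [hd, add_neg_cancel])
      refine ⟨w * tv hF hu hc, mul_mem hw ⟨tv_mem_tgroup hF hu hc, tv_mem_fixer hF hu hc hSu⟩,
        b * d, ?_⟩
      have h1 : ap (tv hF hu hc) (a • u + b • v) = b • v := by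
        rw [ap_tv, herm_add_left, herm_smul_left, herm_smul_left, hu, hvu]
        match_scalars <;> field_simp
        all_goals ring
      rw [ap_mul, ap_mul, hab, h1, ap_smul, hwv, smul_smul]
  rw [← Subgroup.mul_mem_cancel_left _ htT]
  replace hg : t * g ∈ fixer n F q S := mul_mem htS hg
  generalize t * g = g at hg htu ⊢
  clear t htT htS
  obtain ⟨m, k, hgv'⟩ := hmemPl hg v (Submodule.subset_span (Or.inr rfl))
  have hl : hermForm n F q (ap g u) u = 0 := by rw [htu, herm_smul_left, hu, mul_zero]
  have hdet := det_hyperbolic hF hu hv hvu hg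
  rw [hl, mul_zero, sub_zero, htu, hgv', herm_smul_left, huv, herm_add_left, herm_smul_left,
    herm_smul_left, hu, hvu] at hdet
  simp only [mul_zero, mul_one, zero_add] at hdet
  have hunit := herm_ap g v u
  rw [htu, hgv', hvu, herm_smul_right, herm_add_left, herm_smul_left, herm_smul_left, hu, hvu] at hunit
  simp only [mul_zero, mul_one, zero_add] at hunit
  have hl0 : l ≠ 0 := left_ne_zero_of_mul (hdet.trans_ne one_ne_zero)
  have hlq : l ^ q = l := by
    have hk0 : k ≠ 0 := right_ne_zero_of_mul (hdet.trans_ne one_ne_zero)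
    apply mul_left_cancel₀ hk0
    linear_combination hunit - hdet
  -- step 2: reduce to `g u = u`
  obtain ⟨t, ⟨htT, htS⟩, htl⟩ := exists_torus hF hu hv hvu (inv_ne_zero hl0)
    (by rw [inv_pow, hlq])
  have htu' : ap (t * g) u = u := by rw [ap_mul, htu, ap_smul, htl, smul_smul, mul_inv_cancel₀ hl0, one_smul]
  rw [← Subgroup.mul_mem_cancel_left _ htT]
  replace hg : t * g ∈ fixer n F q S := mul_mem htS hg
  generalize t * g = g at hg htu' ⊢
  -- step 3: a transvection
  obtain ⟨a, b, hgv⟩ := hmemPl hg v (Submodule.subset_span (Or.inr rfl))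
  have hb : b = 1 := by
    have := herm_ap g v u
    rw [htu', hgv, hvu, herm_add_left, herm_smul_left, herm_smul_left, hu, hvu] at this
    simpa using this
  rw [hb, one_smul] at hgv
  have ha : a + a ^ q = 0 := by
    have := herm_ap g v v
    rw [hgv, hv, herm_self_add hF, herm_self_smul, hu, hv, herm_smul_left, huv] at this
    simpa using this
  have key : g = tv hF hu ha := by
    refine ap_ext fun x => ?_
    have h := hg _ (sub_pair_mem_perp hu hv huv hvu x)
    rw [ap_sub, ap_sub, ap_smul, ap_smul, htu', hgv] at h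
    rw [ap_tv]
    linear_combination (norm := module) h
  rw [key]
  exact tv_mem_tgroup hF hu ha

/-- Elements of `SU` supported on a non-degenerate subspace are products of transvections. -/
theorem fixer_le_tgroup (hF : Fintype.card F = q ^ 2) (hbig : 4 ≤ n ∨ (n = 3 ∧ 3 ≤ q))
    (W : Submodule F (Fin n → F)) (hW : Nondeg q W) :
    fixer n F q (perp q (W : Set (Fin n → F))) ≤ tgroup n F q := by
  induction hd : Module.finrank F W using Nat.strong_induction_on generalizing W with
  | h d ih =>
  intro g hg
  obtain hd1 | hd2 := lt_or_ge d 2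
  · obtain ⟨f, hf, hspan⟩ := exists_ON_basis hF W hW
    revert f
    rw [hd]
    intro f hf hspan
    suffices g = 1 by rw [this]; exact one_mem _
    have key : ∀ i, ap g (f i) = f i := by
      intro i
      have hd' : d = 1 := by have := i.pos; omega
      subst hd'
      obtain rfl : i = 0 := Subsingleton.elim _ _
      obtain ⟨c, hc⟩ := (Submodule.mem_span_range_iff_exists_fun F).1
        (hspan.symm ▸ ap_mem_of_fixer hF hW hg (hspan ▸ Submodule.subset_span ⟨0, rfl⟩) :
          ap g (f 0) ∈ Submodule.span F (Set.range f))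
      rw [Fin.sum_univ_one] at hc
      suffices c 0 = 1 by rw [← hc, this, one_smul]
      have hmat : mat g = 1 + vecMulVec ((c 0 - 1) • f 0) (cj q (f 0)) := by
        refine Matrix.ext_iff_mulVec.2 fun x => ?_
        have hx : x - projON q f x ∈ perp q (W : Set (Fin n → F)) := by
          rw [← hspan, perp_span hF]
          exact hf.sub_proj_mem_perp x
        have h := hg _ hx
        rw [ap_sub, projON, Fin.sum_univ_one, ap_smul, ← hc] at h
        rw [add_mulVec, one_mulVec, vecMulVec_mulVec, op_smul_eq_smul,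
          dotProduct_comm, ← herm_eq_dot, ← ap_def]
        linear_combination (norm := module) h
      have hdet : (mat g).det = 1 := (g : Matrix.SpecialLinearGroup (Fin n) F).2
      have e : (Matrix.replicateRow (Fin 1) (cj q (f 0))
          * Matrix.replicateCol (Fin 1) ((c 0 - 1) • f 0)) 0 0
          = hermForm n F q ((c 0 - 1) • f 0) (f 0) := by
        rw [herm_eq_dot, dotProduct_comm]; rfl
      rw [hmat, Matrix.vecMulVec_eq (Fin 1), det_one_add_mul_comm, Matrix.det_unique, Matrix.add_apply, Matrix.one_apply_eq, Fin.default_eq_zero, e,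
        herm_smul_left, hf, if_pos rfl] at hdet
      linear_combination hdet
    refine ap_ext fun x => ?_
    have hx : x - projON q f x ∈ perp q (W : Set (Fin n → F)) := by
      rw [← hspan, perp_span hF]
      exact hf.sub_proj_mem_perp x
    have h := hg _ hx
    have hp : ap g (projON q f x) = projON q f x := by
      simp only [ap_def, projON, Matrix.mulVec_sum, Matrix.mulVec_smul]
      simp only [← ap_def, key]
    rw [ap_sub, hp] at h
    rw [ap_one]
    linear_combination (norm := module) h
  obtain ⟨u, huW, hu0, hu⟩ := exists_isotropic hF hW (hd.symm ▸ hd2)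
  obtain ⟨v, hvW, hv, hvu⟩ := exists_partner hF hW huW hu0 hu
  have huv : hermForm n F q u v = 1 := by rw [← herm_swap hF v u, hvu, one_pow]
  have hne : hermForm n F q u v ≠ 0 := by rw [huv]; exact one_ne_zero
  have hP := nondeg_pair hF hu hv hne
  have hPW := span_pair_le huW hvW
  have hPd := finrank_pair (indep_pair hF hu hne)
  obtain hd3 | hd3 := lt_or_ge d 3
  · refine plane_mem_tgroup hF hu hv hvu (fun s hs => hg s ?_)
    have hWP : W = Submodule.span F ({u, v} : Set (Fin n → F)) :=
      (Submodule.eq_of_le_of_finrank_le hPW (by omega)).symm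
    rw [hWP, SetLike.mem_coe, perp_span hF]
    exact hs
  · -- move `u` back, then `v`
    obtain ⟨t, ⟨htT, htS⟩, htu⟩ := exists_map_isotropic hF hW (hd.symm ▸ hd3)
      (ap_mem_of_fixer hF hW hg huW) huW (by rw [herm_ap, hu]) hu
      (fun h => hu0 (ap_injective g (h.trans (ap_zero g).symm))) hu0
    rw [← Subgroup.mul_mem_cancel_left _ htT]
    replace hg := mul_mem htS hg
    have hgu : ap (t * g) u = u := by rw [ap_mul, htu]
    generalize t * g = g at hg hgu ⊢
    clear t htT htS htu
    let v' := ap g v
    have hv'W : v' ∈ W := ap_mem_of_fixer hF hW hg hvW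
    have hv'u : hermForm n F q v' u = 1 := by
      have := herm_ap g v u
      rwa [hgu, hvu] at this
    let w := v' - v - hermForm n F q (v' - v) v • u
    have hwu : hermForm n F q w u = 0 := by
      simp only [w, herm_sub_left, herm_smul_left, hv'u, hvu, hu, mul_zero, sub_self]
    have hwv : hermForm n F q w v = 0 := by
      simp only [w, herm_sub_left, herm_smul_left, huv, mul_one, sub_self]
    have hwW : w ∈ W := W.sub_mem (W.sub_mem hv'W hvW) (W.smul_mem _ huW)
    have hspec : ESpec q u w (hermForm n F q (v' - v) v) := by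
      refine ⟨hu, hwu, ?_⟩
      have h1 : hermForm n F q v' v' = 0 := by rw [herm_ap, hv]
      rw [show v' = (v + hermForm n F q (v' - v) v • u) + w by simp only [w]; abel,
        herm_self_add hF, herm_self_add hF, herm_self_smul, hu, hv, herm_smul_right, hvu,
        herm_add_left, herm_smul_left, (herm_eq_zero_symm hF).1 hwu, (herm_eq_zero_symm hF).1 hwv,
        mul_one, mul_zero, pow_q_q hF] at h1
      simp only [mul_zero, add_zero, zero_add, zero_pow (q_ne_zero hF)] at h1
      linear_combination h1
    let E := eSU hF hspec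
    have hEv : ap E v = v' := by
      simp only [E, ap_eSU, hvu, (herm_eq_zero_symm hF).1 hwv, w]
      module
    have hEu : ap E u = u := by
      simp only [E, ap_eSU, hu, (herm_eq_zero_symm hF).1 hwu]
      module
    have hET : E ∈ tgroup n F q := eSU_mem_tgroup hF hbig hu0 hspec
    have hEW : E ∈ fixer n F q (perp q (W : Set (Fin n → F))) :=
      eSU_mem_fixer hF hspec (perp_herm_eq_zero hF huW) (perp_herm_eq_zero hF hwW)
    rw [← Subgroup.mul_mem_cancel_left _ (inv_mem hET)]
    replace hg := mul_mem (inv_mem hEW) hg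
    have hgu' : ap (E⁻¹ * g) u = u := by
      rw [ap_mul, hgu]; nth_rw 1 [← hEu]; exact ap_inv_ap E u
    have hgv' : ap (E⁻¹ * g) v = v := by
      rw [ap_mul, show ap g v = ap E v from hEv.symm, ap_inv_ap]
    generalize E⁻¹ * g = g at hg hgu' hgv' ⊢
    have hlt := inf_perp_finrank hF hP hPW
    refine ih _ (by omega) _ (inf_perp_nondeg hF hW hP hPW) rfl ?_
    intro x hx
    obtain ⟨a, ha, b, hb, rfl⟩ :=
      Submodule.mem_sup.1 ((isCompl_perp hF hW).sup_eq_top.symm ▸ Submodule.mem_top (x := x))
    have ha' : a - hermForm n F q a v • u - hermForm n F q a u • v = 0 := by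
      have hp := sub_pair_mem_perp hu hv huv hvu a
      have hmem : a - hermForm n F q a v • u - hermForm n F q a u • v
          ∈ W ⊓ perp q (Submodule.span F ({u, v} : Set (Fin n → F)) : Set (Fin n → F)) :=
        ⟨W.sub_mem (W.sub_mem ha (W.smul_mem _ huW)) (W.smul_mem _ hvW),
          by rw [perp_span hF]; exact hp⟩
      refine inf_perp_nondeg hF hW hP hPW _ hmem fun y hy => ?_
      have h1 := hx y hy
      rw [herm_add_left, hb y hy.1, add_zero] at h1
      have hyu : hermForm n F q u y = 0 :=
        (herm_eq_zero_symm hF).1 (hy.2 u (Submodule.subset_span (Or.inl rfl)))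
      have hyv : hermForm n F q v y = 0 :=
        (herm_eq_zero_symm hF).1 (hy.2 v (Submodule.subset_span (Or.inr rfl)))
      simp only [herm_sub_left, herm_smul_left, hyu, hyv, h1, mul_zero, sub_zero]
    have hga : ap g a = a := by
      rw [sub_sub, sub_eq_zero] at ha'
      rw [ha', ap_add, ap_smul, ap_smul, hgu', hgv']
    rw [ap_add, hga, hg b hb]

/-- `SU` is generated by unitary transvections. -/
theorem tgroup_eq_top (hF : Fintype.card F = q ^ 2) (hbig : 4 ≤ n ∨ (n = 3 ∧ 3 ≤ q)) :
    tgroup n F q = ⊤ := by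
  refine top_le_iff.1 fun g _ => fixer_le_tgroup hF hbig ⊤ (nondeg_top hF) ?_
  intro x hx
  rw [(eq_zero_of_forall_right hF fun v => hx v trivial : x = 0), ap_zero]

/-- Every unitary transvection is a commutator, for `n ≥ 3`. -/
theorem tv_mem_commutatorSet (hF : Fintype.card F = q ^ 2) (hn : 3 ≤ n) {u : Fin n → F} {c : F}
    (hu : hermForm n F q u u = 0) (hc : c + c ^ q = 0) :
    tv hF hu hc ∈ commutatorSet (SU n F q) := by
  by_cases hu0 : u = 0
  · have : tv hF hu hc = 1 := by
      refine ap_ext fun x => ?_
      rw [ap_tv, hu0, herm_zero_right hF, ap_one, smul_zero, add_zero]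
    rw [this]
    exact ⟨1, 1, commutatorElement_self 1⟩
  obtain ⟨v, -, hv, hvu⟩ := exists_partner hF (nondeg_top hF) Submodule.mem_top hu0 hu
  have huv : hermForm n F q u v = 1 := by rw [← herm_swap hF v u, hvu, one_pow]
  have hne : hermForm n F q u v ≠ 0 := by rw [huv]; exact one_ne_zero
  have hP := nondeg_pair hF hu hv hne
  have hd := finrank_perp_add hF hP
  rw [finrank_pair (indep_pair hF hu hne)] at hd
  obtain ⟨w, hw, hww⟩ := exists_norm_one hF (nondeg_perp hF hP) (by
    intro h; rw [h, finrank_bot] at hd; omega)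
  have hwu : hermForm n F q w u = 0 := hw u (Submodule.subset_span (Or.inl rfl))
  obtain ⟨d, hd0, hdq⟩ := exists_skew hF
  obtain ⟨m, hm⟩ := exists_trace_eq hF (a := -c / d) (by
    rw [div_pow, neg_pow_q hF, hdq, eq_neg_of_add_eq_zero_right hc, neg_neg, div_neg, neg_div])
  -- `(d m) ^ q - d m = c`
  have hlam : (d * m) ^ q - d * m = c := by
    rw [mul_pow, hdq]
    field_simp at hm
    linear_combination -hm
  have hlw : hermForm n F q ((d * m) • w) u = 0 := by rw [herm_smul_left, hwu, mul_zero]
  obtain ⟨a, ha⟩ := exists_alpha hF hu hwu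
  obtain ⟨b, hb⟩ := exists_alpha hF hu hlw
  refine ⟨eSU hF ha, eSU hF hb, ?_⟩
  have key : eSU hF ha * eSU hF hb = tv hF hu hc * (eSU hF hb * eSU hF ha) := by
    refine ap_ext fun x => ?_
    have huw : hermForm n F q u w = 0 := (herm_eq_zero_symm hF).1 hwu
    simp only [ap_mul, ap_eSU, ap_tv, herm_add_left, herm_sub_left, herm_smul_left, herm_smul_right,
      hu, hwu, huw, hww, mul_zero, mul_one, add_zero, sub_zero]
    rw [← hlam]
    module
  rw [commutatorElement_def, key]
  group

theorem commutator_eq_top (hF : Fintype.card F = q ^ 2) (hbig : 4 ≤ n ∨ (n = 3 ∧ 3 ≤ q)) :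
    commutator (SU n F q) = ⊤ := by
  have hn : 3 ≤ n := by omega
  rw [eq_top_iff, ← tgroup_eq_top hF hbig, commutator_eq_closure, tgroup, Subgroup.closure_le]
  rintro A ⟨v, c, hv, hA⟩
  refine Subgroup.subset_closure ?_
  by_cases hv0 : v = 0
  · have : A = 1 := by
      refine ap_ext fun x => ?_
      rw [ap_def, hA, unitaryTransvection_mulVec, hv0, smul_zero, add_zero, ap_one]
    rw [this]
    exact ⟨1, 1, commutatorElement_self 1⟩
  have hc : c + c ^ q = 0 := by
    obtain ⟨z, -, -, hz⟩ := exists_partner hF (nondeg_top hF) Submodule.mem_top hv0 hv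
    have h := herm_ap A z z
    simp only [ap_def, hA, unitaryTransvection_mulVec, herm_add_left, herm_add_right hF,
      herm_smul_left, herm_smul_right, hv, hz, mul_one, mul_zero, add_zero] at h
    have hvz : hermForm n F q v z = 1 := by rw [← herm_swap hF z v, hz, one_pow]
    rw [hvz] at h
    linear_combination h
  have : A = tv hF hv hc := by
    refine ap_ext fun x => ?_
    rw [ap_def, hA, unitaryTransvection_mulVec, ap_tv]
  rw [this]
  exact tv_mem_commutatorSet hF hn hv hc

end Cfsg.Agent.Unitary
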