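import Mathlib
import Cfsg.Agent.Unitary.Generation
import Cfsg.Agent.Unitary.Center

/-!
# The action on isotropic points and the simplicity of `PSU`
-/

set_option autoImplicit false
set_option linter.unusedSectionVars false

namespace Cfsg.Agent.Unitary

open Cfsg Matrix MulAction
open scoped Pointwise

variable {F : Type*} [Field F] {n q : ℕ}

/-- The isotropic points. -/
def IsoPoint (n : ℕ) (F : Type*) [Field F] (q : ℕ) : Type _ :=
  {L : Submodule F (Fin n → F) //
    ∃ u : Fin n → F, u ≠ 0 ∧ hermForm n F q u u = 0 ∧ Submodule.span F {u} = L}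

theorem map_span_singleton (g : SU n F q) (u : Fin n → F) :
    (Submodule.span F {u}).map (mat g).mulVecLin = Submodule.span F {ap g u} := by
  rw [Submodule.map_span, Set.image_singleton]
  rfl

instance : MulAction (SU n F q) (IsoPoint n F q) where
  smul g L := ⟨L.1.map (mat g).mulVecLin, by
    obtain ⟨u, hu0, hu, hL⟩ := L.2
    exact ⟨ap g u, fun h => hu0 (ap_injective g (h.trans (ap_zero g).symm)),
      (herm_ap g u u).trans hu, by rw [← hL, map_span_singleton]⟩⟩
  one_smul L := by
    apply Subtype.ext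
    show L.1.map (mat (1 : SU n F q)).mulVecLin = L.1
    have : mat (1 : SU n F q) = 1 := rfl
    rw [this, Matrix.mulVecLin_one, Submodule.map_id]
  mul_smul g g' L := by
    apply Subtype.ext
    show L.1.map (mat (g * g')).mulVecLin
      = (L.1.map (mat g').mulVecLin).map (mat g).mulVecLin
    have : mat (g * g') = mat g * mat g' := rfl
    rw [← Submodule.map_comp, this, Matrix.mulVecLin_mul]

theorem coe_smul_isoPoint (g : SU n F q) (L : IsoPoint n F q) :
    (g • L).1 = L.1.map (mat g).mulVecLin := rfl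

/-- The point of a non-zero isotropic vector. -/
def isoPt {u : Fin n → F} (hu0 : u ≠ 0) (hu : hermForm n F q u u = 0) : IsoPoint n F q :=
  ⟨Submodule.span F {u}, u, hu0, hu, rfl⟩

theorem exists_isoPt (L : IsoPoint n F q) :
    ∃ (u : Fin n → F) (hu0 : u ≠ 0) (hu : hermForm n F q u u = 0), L = isoPt hu0 hu := by
  obtain ⟨u, hu0, hu, hL⟩ := L.2
  exact ⟨u, hu0, hu, Subtype.ext hL.symm⟩

theorem smul_isoPt_eq {g : SU n F q} {u v : Fin n → F} (hu0 : u ≠ 0)
    (hu : hermForm n F q u u = 0) (hv0 : v ≠ 0) (hv : hermForm n F q v v = 0)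
    {l : F} (hl : l ≠ 0) (h : ap g u = l • v) : g • isoPt hu0 hu = isoPt hv0 hv := by
  apply Subtype.ext
  rw [coe_smul_isoPoint]
  show (Submodule.span F {u}).map _ = Submodule.span F {v}
  rw [map_span_singleton, h, Submodule.span_singleton_smul_eq hl.isUnit v]

theorem mem_of_smul_eq {g : SU n F q} {L : IsoPoint n F q} (h : g • L = L)
    {x : Fin n → F} (hx : x ∈ L.1) : ap g x ∈ L.1 := by
  have h' := congrArg Subtype.val h
  rw [coe_smul_isoPoint] at h'
  rw [← h']
  exact Submodule.mem_map_of_mem hx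

variable [Fintype F]

theorem exists_smul_isoPt (hF : Fintype.card F = q ^ 2) (hn : 3 ≤ n) (L M : IsoPoint n F q) :
    ∃ g : SU n F q, g • L = M := by
  obtain ⟨u, hu0, hu, rfl⟩ := exists_isoPt L
  obtain ⟨v, hv0, hv, rfl⟩ := exists_isoPt M
  obtain ⟨g, -, hg⟩ := exists_map_isotropic hF (nondeg_top hF)
    (by rw [finrank_top, Module.finrank_fin_fun]; exact hn) trivial trivial hu hv hu0 hv0
  exact ⟨g, smul_isoPt_eq hu0 hu hv0 hv one_ne_zero (by rw [hg, one_smul])⟩

/-- The action on isotropic points is primitive. -/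
theorem isPreprimitive_isoPoint (hF : Fintype.card F = q ^ 2) (hn : 3 ≤ n) :
    IsPreprimitive (SU n F q) (IsoPoint n F q) := by
  have h3 : 3 ≤ Module.finrank F (⊤ : Submodule F (Fin n → F)) := by
    rw [finrank_top, Module.finrank_fin_fun]; exact hn
  have : IsPretransitive (SU n F q) (IsoPoint n F q) := ⟨exists_smul_isoPt hF hn⟩
  constructor
  intro B hB
  by_contra hcon
  simp only [IsTrivialBlock, not_or, Set.not_subsingleton_iff] at hcon
  obtain ⟨⟨a, haB, b, hbB, hab⟩, hne⟩ := hcon
  have hstab : ∀ (g : SU n F q) (c : IsoPoint n F q), c ∈ B → g • c ∈ B → ∀ d ∈ B, g • d ∈ B := by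
    intro g c hc hgc d hd
    by_cases h : g • B = B
    · rw [← h]; exact Set.smul_mem_smul_set hd
    · exact absurd hgc (Set.disjoint_left.1 (isBlock_iff_disjoint_smul_of_ne.1 hB h)
        (Set.smul_mem_smul_set hc))
  -- from a non-orthogonal pair in `B`, one obtains every point non-orthogonal to a point of `B`
  suffices hpair : ∃ (x y : Fin n → F) (hx0 : x ≠ 0) (hx : hermForm n F q x x = 0) (hy0 : y ≠ 0)
      (hy : hermForm n F q y y = 0), isoPt hx0 hx ∈ B ∧ isoPt hy0 hy ∈ B ∧
        hermForm n F q y x ≠ 0 by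
    obtain ⟨x, y, hx0, hx, hy0, hy, hxB, hyB, hyx⟩ := hpair
    have hx' : ∀ (z : Fin n → F) (hz0 : z ≠ 0) (hz : hermForm n F q z z = 0),
        hermForm n F q z x ≠ 0 → isoPt hz0 hz ∈ B := by
      intro z hz0 hz hzx
      -- an element fixing `x` and carrying the line of `y` to that of `z`
      obtain ⟨y', hy'e⟩ : ∃ v, v = (hermForm n F q y x)⁻¹ • y := ⟨_, rfl⟩
      obtain ⟨z', hz'e⟩ : ∃ v, v = (hermForm n F q z x)⁻¹ • z := ⟨_, rfl⟩
      have hy' : hermForm n F q y' y' = 0 := by rw [hy'e, herm_self_smul, hy, mul_zero]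
      have hz' : hermForm n F q z' z' = 0 := by rw [hz'e, herm_self_smul, hz, mul_zero]
      have hy'x : hermForm n F q y' x = 1 := by rw [hy'e, herm_smul_left, inv_mul_cancel₀ hyx]
      have hz'x : hermForm n F q z' x = 1 := by rw [hz'e, herm_smul_left, inv_mul_cancel₀ hzx]
      have hxy' : hermForm n F q x y' = 1 := by rw [← herm_swap hF y' x, hy'x, one_pow]
      let w := z' - y' - hermForm n F q (z' - y') y' • x
      have hwx : hermForm n F q w x = 0 := by
        simp only [w, herm_sub_left, herm_smul_left, hz'x, hy'x, hx, mul_zero, sub_self]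
      have hwy : hermForm n F q w y' = 0 := by
        simp only [w, herm_sub_left, herm_smul_left, hxy', mul_one, sub_self]
      have hspec : ESpec q x w (hermForm n F q (z' - y') y') := by
        refine ⟨hx, hwx, ?_⟩
        have h1 := hz'
        rw [show z' = (y' + hermForm n F q (z' - y') y' • x) + w by simp only [w]; abel,
          herm_self_add hF, herm_self_add hF, hy', herm_self_smul, hx, herm_smul_right, hy'x,
          herm_add_left, herm_smul_left, (herm_eq_zero_symm hF).1 hwx, (herm_eq_zero_symm hF).1 hwy,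
          mul_one, mul_zero, pow_q_q hF] at h1
        simp only [mul_zero, add_zero, zero_add, zero_pow (q_ne_zero hF)] at h1
        linear_combination h1
      have hgy : ap (eSU hF hspec) y' = z' := by
        simp only [ap_eSU, hy'x, (herm_eq_zero_symm hF).1 hwy, w]
        module
      have hgx : ap (eSU hF hspec) x = x := by
        simp only [ap_eSU, hx, (herm_eq_zero_symm hF).1 hwx]
        module
      have h1 : eSU hF hspec • isoPt hx0 hx = isoPt hx0 hx :=
        smul_isoPt_eq hx0 hx hx0 hx one_ne_zero (by rw [hgx, one_smul])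
      have h2 : eSU hF hspec • isoPt hy0 hy = isoPt hz0 hz := by
        refine smul_isoPt_eq hy0 hy hz0 hz
          (l := hermForm n F q y x * (hermForm n F q z x)⁻¹)
          (mul_ne_zero hyx (inv_ne_zero hzx)) ?_
        have hyy : y = hermForm n F q y x • y' := by rw [hy'e, smul_inv_smul₀ hyx]
        nth_rw 1 [hyy]
        rw [ap_smul, hgy, hz'e, smul_smul]
      rw [← h2]
      exact hstab _ _ hxB (by rw [h1]; exact hxB) _ hyB
    -- every point of `B` has this property, by transitivity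
    have hall : ∀ (p z : Fin n → F) (hp0 : p ≠ 0) (hp : hermForm n F q p p = 0) (hz0 : z ≠ 0)
        (hz : hermForm n F q z z = 0), isoPt hp0 hp ∈ B → hermForm n F q z p ≠ 0 →
          isoPt hz0 hz ∈ B := by
      intro p z hp0 hp hz0 hz hpB hzp
      obtain ⟨g, -, hg⟩ := exists_map_isotropic hF (nondeg_top hF) h3 trivial trivial hx hp hx0 hp0
      have hgx : g • isoPt hx0 hx = isoPt hp0 hp :=
        smul_isoPt_eq hx0 hx hp0 hp one_ne_zero (by rw [hg, one_smul])
      have hw0 : ap g⁻¹ z ≠ 0 := fun h => hz0 (ap_injective g⁻¹ (h.trans (ap_zero g⁻¹).symm))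
      have hw : hermForm n F q (ap g⁻¹ z) (ap g⁻¹ z) = 0 := by rw [herm_ap, hz]
      have hwx : hermForm n F q (ap g⁻¹ z) x ≠ 0 := by
        rwa [← herm_ap g, ap_ap_inv, hg]
      have hgw : g • isoPt hw0 hw = isoPt hz0 hz :=
        smul_isoPt_eq hw0 hw hz0 hz one_ne_zero (by rw [ap_ap_inv, one_smul])
      rw [← hgw]
      exact hstab g _ hxB (by rw [hgx]; exact hpB) _ (hx' _ hw0 hw hwx)
    apply hne
    rw [Set.eq_univ_iff_forall]
    intro L
    obtain ⟨z, hz0, hz, rfl⟩ := exists_isoPt L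
    obtain ⟨m, -, hm, hmx, hmz⟩ :=
      exists_iso_nonperp hF (nondeg_top hF) h3 trivial trivial hx hz hx0 hz0
    have hm0 : m ≠ 0 := by rintro rfl; exact hmx (herm_zero_left x)
    exact hall m z hm0 hm hz0 hz (hx' m hm0 hm hmx) ((herm_eq_zero_symm hF).not.2 hmz)
  obtain ⟨x, hx0, hx, rfl⟩ := exists_isoPt a
  obtain ⟨p, hp0, hp, rfl⟩ := exists_isoPt b
  by_cases hpx : hermForm n F q p x = 0
  swap
  · exact ⟨x, p, hx0, hx, hp0, hp, haB, hbB, hpx⟩
  have hind : LinearIndependent F ![p, x] := by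
    rw [LinearIndependent.pair_iff' hp0]
    rintro l rfl
    apply hab
    refine Subtype.ext ?_
    show Submodule.span F {l • p} = Submodule.span F {p}
    exact Submodule.span_singleton_smul_eq (Ne.isUnit fun h => hx0 (by rw [h, zero_smul])) p
  obtain ⟨z, -, hz, hzp, hzx⟩ := exists_iso_pair hF (nondeg_top hF) h3 trivial trivial hp hx hind
    (a := (1 : F)) (b := 0) one_ne_zero
  obtain ⟨δ, hδ0, hδ⟩ := exists_skew hF
  have hδt : δ + δ ^ q = 0 := by rw [hδ, add_neg_cancel]
  let g := tv hF hz hδt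
  have hxz : hermForm n F q x z = 0 := (herm_eq_zero_symm hF).1 hzx
  have hgx : g • isoPt hx0 hx = isoPt hx0 hx :=
    smul_isoPt_eq hx0 hx hx0 hx one_ne_zero (by simp [g, ap_tv, hxz])
  have hq0 : ap g p ≠ 0 := fun h => hp0 (ap_injective g (h.trans (ap_zero g).symm))
  have hq1 : hermForm n F q (ap g p) (ap g p) = 0 := by rw [herm_ap, hp]
  have hgp : g • isoPt hp0 hp = isoPt hq0 hq1 :=
    smul_isoPt_eq hp0 hp hq0 hq1 one_ne_zero (by rw [one_smul])
  have hgpB : isoPt hq0 hq1 ∈ B := by
    rw [← hgp]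
    exact hstab g _ haB (by rw [hgx]; exact haB) _ hbB
  refine ⟨p, ap g p, hp0, hp, hq0, hq1, hbB, hgpB, ?_⟩
  have hpz : hermForm n F q p z = 1 := by rw [← herm_swap hF z p, hzp, one_pow]
  simp only [g, ap_tv, herm_add_left, herm_smul_left, hp, hpz, hzp, mul_one, zero_add]
  exact hδ0

/-- The root group of an isotropic point. -/
def rootSub (L : IsoPoint n F q) : Subgroup (SU n F q) where
  carrier := {A | (∀ x, ap A x - x ∈ L.1) ∧
    ∀ x ∈ perp q (L.1 : Set (Fin n → F)), ap A x = x}
  mul_mem' {A B} ha hb := by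
    refine ⟨fun x => ?_, fun x hx => by rw [ap_mul, hb.2 x hx, ha.2 x hx]⟩
    rw [ap_mul, ← sub_add_sub_cancel _ (ap B x) x]
    exact add_mem (ha.1 _) (hb.1 x)
  one_mem' := ⟨fun x => by simp, fun x _ => ap_one x⟩
  inv_mem' {A} ha := by
    refine ⟨fun x => ?_, fun x hx => ?_⟩
    · have := neg_mem (ha.1 (ap A⁻¹ x))
      rwa [ap_ap_inv, neg_sub] at this
    · nth_rw 1 [← ha.2 x hx]
      exact ap_inv_ap A x

theorem mem_rootSub {L : IsoPoint n F q} {A : SU n F q} :
    A ∈ rootSub L ↔ (∀ x, ap A x - x ∈ L.1) ∧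
      ∀ x ∈ perp q (L.1 : Set (Fin n → F)), ap A x = x := Iff.rfl

theorem subset_perp_self (hF : Fintype.card F = q ^ 2) (L : IsoPoint n F q) {x : Fin n → F}
    (hx : x ∈ L.1) : x ∈ perp q (L.1 : Set (Fin n → F)) := by
  obtain ⟨u, hu0, hu, hL⟩ := L.2
  rw [← hL] at hx ⊢
  obtain ⟨a, rfl⟩ := Submodule.mem_span_singleton.1 hx
  intro s hs
  obtain ⟨b, rfl⟩ := Submodule.mem_span_singleton.1 hs
  rw [herm_smul_left, herm_smul_right, hu, mul_zero, mul_zero]

theorem conj_mem_rootSub {L : IsoPoint n F q} {A : SU n F q} (hA : A ∈ rootSub L) (g : SU n F q) :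
    g * A * g⁻¹ ∈ rootSub (g • L) := by
  refine ⟨fun x => ?_, fun x hx => ?_⟩
  · rw [ap_mul, ap_mul, coe_smul_isoPoint]
    exact ⟨ap A (ap g⁻¹ x) - ap g⁻¹ x, hA.1 _,
      by rw [Matrix.mulVecLin_apply, ← ap_def, ap_sub, ap_ap_inv]⟩
  · rw [ap_mul, ap_mul, hA.2, ap_ap_inv]
    intro s hs
    have h1 : ap g s ∈ (g • L).1 := by
      rw [coe_smul_isoPoint]; exact Submodule.mem_map_of_mem hs
    rw [← herm_ap g, ap_ap_inv]
    exact hx _ h1

/-- The Iwasawa structure on isotropic points. -/
noncomputable def iwasawaSU (hF : Fintype.card F = q ^ 2) (hbig : 4 ≤ n ∨ (n = 3 ∧ 3 ≤ q)) :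
    IwasawaStructure (SU n F q) (IsoPoint n F q) where
  T := rootSub
  is_comm L := ⟨⟨by
    rintro ⟨A, hA⟩ ⟨B, hB⟩
    refine Subtype.ext (ap_ext fun x => ?_)
    show ap (A * B) x = ap (B * A) x
    rw [ap_mul, ap_mul]
    have h1 := hA.2 _ (subset_perp_self hF L (hB.1 x))
    have h2 := hB.2 _ (subset_perp_self hF L (hA.1 x))
    rw [ap_sub] at h1 h2
    linear_combination (norm := module) h1 - h2⟩⟩
  is_conj g L := by
    ext A
    rw [Subgroup.mem_pointwise_smul_iff_inv_smul_mem]
    constructor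
    · intro hA
      have := conj_mem_rootSub hA g⁻¹
      rw [inv_smul_smul, inv_inv] at this
      simpa only [MulAut.smul_def, MulAut.conj_inv_apply] using this
    · intro hA
      have := conj_mem_rootSub hA g
      simp only [MulAut.smul_def, MulAut.conj_inv_apply] at this
      convert this using 1
      group
  is_generator := by
    have hn : 3 ≤ n := by omega
    rw [eq_top_iff, ← tgroup_eq_top hF hbig, tgroup, Subgroup.closure_le]
    rintro A ⟨v, c, hv, hA⟩
    have hap : ∀ x, ap A x = x + (c * hermForm n F q x v) • v := fun x => by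
      rw [ap_def, hA, unitaryTransvection_mulVec]
    by_cases hv0 : v = 0
    · have : A = 1 := ap_ext fun x => by rw [hap, hv0, smul_zero, add_zero, ap_one]
      rw [this]
      exact one_mem _
    · refine Subgroup.mem_iSup_of_mem (isoPt hv0 hv) ⟨fun x => ?_, fun x hx => ?_⟩
      · rw [hap, add_sub_cancel_left]
        exact Submodule.smul_mem _ _ (Submodule.mem_span_singleton_self v)
      · rw [hap, hx v (Submodule.mem_span_singleton_self v), mul_zero, zero_smul, add_zero]

theorem mem_center_of_fix (hF : Fintype.card F = q ^ 2) (hn : 3 ≤ n) {A : SU n F q}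
    (h : ∀ L : IsoPoint n F q, A • L = L) : A ∈ Subgroup.center (SU n F q) := by
  obtain ⟨l, hl⟩ := eq_smul_of_fix_lines hF (le_of_lt hn) A fun u hu hu0 => by
    obtain ⟨a, ha⟩ := Submodule.mem_span_singleton.1
      (mem_of_smul_eq (h (isoPt hu0 hu)) (Submodule.mem_span_singleton_self u))
    exact ⟨a, ha.symm⟩
  exact smul_mem_center hl

theorem hbig_of (hF : Fintype.card F = q ^ 2) (hn : 3 ≤ n) (h : ¬ (n = 3 ∧ q = 2)) :
    4 ≤ n ∨ (n = 3 ∧ 3 ≤ q) := by
  have := two_le_q hF
  omega

/-- A normal subgroup of `SU` is central or everything. -/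
theorem normal_le_center_or_eq_top (hF : Fintype.card F = q ^ 2)
    (hbig : 4 ≤ n ∨ (n = 3 ∧ 3 ≤ q)) (N : Subgroup (SU n F q)) [N.Normal] :
    N ≤ Subgroup.center (SU n F q) ∨ N = ⊤ := by
  have hn : 3 ≤ n := by omega
  have := isPreprimitive_isoPoint (n := n) hF hn
  by_cases h : fixedPoints N (IsoPoint n F q) = Set.univ
  · left
    intro A hA
    exact mem_center_of_fix hF hn fun L => Set.eq_univ_iff_forall.1 h L ⟨A, hA⟩
  · right
    rw [eq_top_iff, ← commutator_eq_top hF hbig]
    exact (iwasawaSU hF hbig).commutator_le N h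

/-- `PSU` is simple. -/
theorem isSimpleGroup_PSU (hF : Fintype.card F = q ^ 2) (hn : 3 ≤ n) (h : ¬ (n = 3 ∧ q = 2)) :
    IsSimpleGroup (PSU n F q) := by
  have hbig := hbig_of hF hn h
  have hne : Subgroup.center (SU n F q) ≠ ⊤ := by
    intro htop
    obtain ⟨u, hu0, hu⟩ := exists_isotropic_top (n := n) hF (by omega)
    obtain ⟨v, -, hv, hvu⟩ := exists_partner hF (nondeg_top hF) Submodule.mem_top hu0 hu
    obtain ⟨δ, hδ0, hδ⟩ := exists_skew hF
    have hδt : δ + δ ^ q = 0 := by rw [hδ, add_neg_cancel]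
    obtain ⟨l, hl⟩ := eq_smul_of_mem_center hF (le_of_lt hn)
      (show tv hF hu hδt ∈ Subgroup.center (SU n F q) from htop ▸ Subgroup.mem_top _)
    have h2 := hl v
    rw [ap_tv, hvu, mul_one] at h2
    have h3 := congrArg (fun x => hermForm n F q x u) h2
    simp only [herm_add_left, herm_smul_left, hvu, hu, mul_zero, add_zero, mul_one] at h3
    rw [← h3, one_smul] at h2
    exact smul_ne_zero hδ0 hu0 (add_eq_left.1 h2)
  have : Nontrivial (PSU n F q) := QuotientGroup.nontrivial_iff.2 hne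
  constructor
  intro N hN
  have := hN
  have hsurj := QuotientGroup.mk'_surjective (Subgroup.center (SU n F q))
  rcases normal_le_center_or_eq_top hF hbig (N.comap (QuotientGroup.mk' _)) with h1 | h1
  · left
    rw [eq_bot_iff, ← Subgroup.map_comap_eq_self_of_surjective hsurj N]
    refine le_trans (Subgroup.map_mono h1) ?_
    rw [Subgroup.map_le_iff_le_comap, MonoidHom.comap_bot, QuotientGroup.ker_mk']
  · right
    rw [← Subgroup.map_comap_eq_self_of_surjective hsurj N, h1,
      Subgroup.map_top_of_surjective _ hsurj]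

end Cfsg.Agent.Unitary
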