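import Mathlib
import Cfsg.Agent.Unitary.Transvection

/-!
# Elements of `SU` that are transvections as matrices
-/

set_option autoImplicit false
set_option linter.unusedSectionVars false

namespace Cfsg.Agent.Unitary

open Cfsg Matrix

variable {F : Type*} [Field F] [Fintype F] {n q : ℕ}

/-- A transvection lying in `SU` is a unitary transvection. -/
theorem exists_eq_tv_of_isTransvection (hF : Fintype.card F = q ^ 2) (A : SU n F q)
    (hA : IsTransvection (mat A)) :
    ∃ (v : Fin n → F) (c : F) (hv : hermForm n F q v v = 0) (hc : c + c ^ q = 0),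
      v ≠ 0 ∧ c ≠ 0 ∧ A = tv hF hv hc := by
  obtain ⟨hr, hsq⟩ := hA
  obtain ⟨⟨v, ⟨x₀, hx₀⟩⟩, hv0, hall⟩ := finrank_eq_one_iff'.1 hr
  have hv0' : v ≠ 0 := fun h => hv0 (Subtype.ext h)
  choose φ hφ using fun x => hall ⟨(mat A - 1).mulVecLin x, LinearMap.mem_range_self _ x⟩
  have hap : ∀ x, ap A x = x + φ x • v := by
    intro x
    have h := congrArg Subtype.val (hφ x)
    simp only [Submodule.coe_smul, Matrix.mulVecLin_apply, sub_mulVec, one_mulVec] at h
    rw [h, ap_def, add_sub_cancel]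
  have hφv : φ v = 0 := by
    have h : (mat A - 1) *ᵥ v = 0 := by
      rw [← hx₀, Matrix.mulVecLin_apply, mulVec_mulVec, hsq, zero_mulVec]
    rw [sub_mulVec, one_mulVec, ← ap_def, hap, add_sub_cancel_left] at h
    exact (smul_eq_zero.1 h).resolve_right hv0'
  have key : ∀ x y, φ x * hermForm n F q v y + φ y ^ q * hermForm n F q x v
      + φ x * φ y ^ q * hermForm n F q v v = 0 := by
    intro x y
    have h := herm_ap A x y
    simp only [hap, herm_add_left, herm_add_right hF, herm_smul_left, herm_smul_right] at h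
    linear_combination h
  have hne : ∃ x, φ x ≠ 0 := by
    refine ⟨x₀, fun h0 => hv0' ?_⟩
    rw [← hx₀, Matrix.mulVecLin_apply, sub_mulVec, one_mulVec, ← ap_def, hap, h0, zero_smul,
      add_zero, sub_self]
  have hv : hermForm n F q v v = 0 := by
    obtain ⟨x, hx⟩ := hne
    have h := key x v
    rw [hφv, zero_pow (q_ne_zero hF)] at h
    simp only [zero_mul, mul_zero, add_zero, mul_eq_zero, hx, false_or] at h
    exact h
  obtain ⟨z, -, -, hz⟩ := exists_partner hF (nondeg_top hF) Submodule.mem_top hv0' hv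
  have hvz : hermForm n F q v z = 1 := by rw [← herm_swap hF z v, hz, one_pow]
  have hlin : ∀ x, φ x = -(φ z) ^ q * hermForm n F q x v := by
    intro x
    have h := key x z
    rw [hvz, hv] at h
    linear_combination h
  have hc : -(φ z) ^ q + (-(φ z) ^ q) ^ q = 0 := by
    have h := key z z
    rw [hvz, hz, hv] at h
    rw [neg_pow_q hF, pow_q_q hF]
    linear_combination -h
  have hA : A = tv hF hv hc := ap_ext fun x => by rw [ap_tv, hap, hlin x]
  refine ⟨v, -(φ z) ^ q, hv, hc, hv0', fun h0 => ?_, hA⟩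
  obtain ⟨x, hx⟩ := hne
  exact hx (by rw [hlin x, h0, zero_mul])

/-- All transvections of `SU`, `n ≥ 3`, are conjugate. -/
theorem isConj_tv (hF : Fintype.card F = q ^ 2) (hn : 3 ≤ n) {u v : Fin n → F} {c d : F}
    (hu : hermForm n F q u u = 0) (hc : c + c ^ q = 0) (hv : hermForm n F q v v = 0)
    (hd : d + d ^ q = 0) (hu0 : u ≠ 0) (hv0 : v ≠ 0) (hc0 : c ≠ 0) (hd0 : d ≠ 0) :
    IsConj (tv hF hu hc) (tv hF hv hd) := by
  obtain ⟨l, hl⟩ := exists_norm_eq hF (a := d / c) (by
    rw [div_pow, eq_neg_of_add_eq_zero_right hd, eq_neg_of_add_eq_zero_right hc, neg_div_neg_eq])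
  have hl0 : l ≠ 0 := by
    rintro rfl
    rw [zero_mul] at hl
    exact div_ne_zero hd0 hc0 hl.symm
  obtain ⟨g, -, hg⟩ := exists_map_isotropic hF (nondeg_top hF)
    (by rw [finrank_top, Module.finrank_fin_fun]; exact hn) trivial trivial hu
    (by rw [herm_self_smul, hv, mul_zero] : hermForm n F q (l • v) (l • v) = 0)
    hu0 (smul_ne_zero hl0 hv0)
  rw [isConj_iff]
  refine ⟨g, ?_⟩
  rw [mul_inv_eq_iff_eq_mul]
  refine ap_ext fun x => ?_
  simp only [ap_mul, ap_tv, ap_add, ap_smul, hg]
  rw [← herm_ap g x u, hg, herm_smul_right, smul_smul]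
  congr 2
  have hdc : d = c * (l * l ^ q) := by rw [hl]; field_simp
  rw [hdc]
  ring

end Cfsg.Agent.Unitary
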