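import Mathlib
import Cfsg.Prelude.Def_SporadicB
import Cfsg.Agent.Unitary.RankOne
import Cfsg.Agent.Unitary.Generation

/-!
# Transvections of `SU_n(2)` as 3-transpositions
-/

set_option autoImplicit false
set_option linter.unusedSectionVars false

namespace Cfsg.Agent.Unitary

open Cfsg Matrix

variable {F : Type*} [Field F] [Fintype F] {n q : ℕ}

/-- An element of `SL` with `rank (A - 1) = 1` is a transvection. -/
theorem isTransvection_of_rank_one {M : Matrix (Fin n) (Fin n) F} (hdet : M.det = 1)
    (hr : (M - 1).rank = 1) : IsTransvection M := by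
  refine ⟨hr, ?_⟩
  obtain ⟨⟨v, hv⟩, hv0, hall⟩ := finrank_eq_one_iff'.1 hr
  choose φ hφ using fun j =>
    hall ⟨(M - 1).mulVecLin (Pi.single j 1), LinearMap.mem_range_self _ _⟩
  have hM : M - 1 = vecMulVec v φ := by
    ext i j
    have h := congrFun (congrArg Subtype.val (hφ j)) i
    simp only [Submodule.coe_smul, Pi.smul_apply, smul_eq_mul, Matrix.mulVecLin_apply,
      Matrix.mulVec_single_one, Matrix.col_apply] at h
    rw [vecMulVec_apply, mul_comm, h]
  have hd : φ ⬝ᵥ v = 0 := by
    have h2 : M = 1 + vecMulVec v φ := by rw [← hM, add_sub_cancel]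
    rw [h2, Matrix.vecMulVec_eq (Fin 1), det_one_add_mul_comm, Matrix.det_unique, Matrix.add_apply,
      Matrix.one_apply_eq] at hdet
    have e : (Matrix.replicateRow (Fin 1) φ * Matrix.replicateCol (Fin 1) v) default default = φ ⬝ᵥ v :=
      rfl
    rw [e] at hdet
    linear_combination hdet
  rw [hM]
  ext i j
  simp only [Matrix.mul_apply, vecMulVec_apply, Matrix.zero_apply]
  rw [Finset.sum_congr rfl (fun k _ => show v i * φ k * (v k * φ j) = v i * (φ k * v k) * φ j by ring),
    ← Finset.sum_mul, ← Finset.mul_sum]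
  rw [dotProduct] at hd
  rw [hd, mul_zero, zero_mul]

theorem rank_tv_sub_one (hF : Fintype.card F = q ^ 2) {v : Fin n → F} {c : F}
    (hv : hermForm n F q v v = 0) (hc : c + c ^ q = 0) (hv0 : v ≠ 0) (hc0 : c ≠ 0) :
    (mat (tv hF hv hc) - 1).rank = 1 := by
  have h : mat (tv hF hv hc) - 1 = vecMulVec (c • v) (cj q v) := by
    rw [mat_tv, unitaryTransvection, add_sub_cancel_left, smul_vecMulVec]
    rfl
  refine le_antisymm (h ▸ Matrix.rank_vecMulVec_le _ _) (Nat.one_le_iff_ne_zero.2 fun h0 => ?_)
  obtain ⟨z, -, -, hz⟩ := exists_partner hF (nondeg_top hF) Submodule.mem_top hv0 hv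
  have h1 : (mat (tv hF hv hc) - 1).mulVecLin.range = ⊥ := Submodule.finrank_eq_zero.1 h0
  have h2 : (mat (tv hF hv hc) - 1).mulVecLin z = 0 := by
    rw [LinearMap.range_eq_bot.1 h1]; rfl
  rw [Matrix.mulVecLin_apply, sub_mulVec, one_mulVec, ← ap_def, ap_tv, add_sub_cancel_left, hz,
    mul_one] at h2
  exact smul_ne_zero hc0 hv0 h2

theorem eq_one_of_skew_two (hF : Fintype.card F = 2 ^ 2) {c : F} (hc : c + c ^ 2 = 0) (hc0 : c ≠ 0) :
    c = 1 := by
  have h2 : (2 : F) = 0 := by simpa using natCast_q_eq_zero hF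
  apply mul_left_cancel₀ hc0
  linear_combination hc - c * h2

theorem one_skew_two (hF : Fintype.card F = 2 ^ 2) : (1 : F) + 1 ^ 2 = 0 := by
  have h2 : (2 : F) = 0 := by simpa using natCast_q_eq_zero hF
  linear_combination h2

theorem tv_mul_self_two (hF : Fintype.card F = 2 ^ 2) {v : Fin n → F}
    (hv : hermForm n F 2 v v = 0) :
    tv hF hv (one_skew_two hF) * tv hF hv (one_skew_two hF) = 1 := by
  have h2 : (2 : F) = 0 := by simpa using natCast_q_eq_zero hF
  refine ap_ext fun x => ?_
  simp only [ap_mul, ap_tv, ap_one, herm_add_left, herm_smul_left, hv, mul_zero, add_zero, one_mul]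
  match_scalars
  · ring
  · linear_combination (hermForm n F 2 x v) * h2

theorem conj_tv (hF : Fintype.card F = q ^ 2) (g : SU n F q) {u : Fin n → F} {c : F}
    (hu : hermForm n F q u u = 0) (hc : c + c ^ q = 0) (hu' : hermForm n F q (ap g u) (ap g u) = 0) :
    g * tv hF hu hc * g⁻¹ = tv hF hu' hc := by
  rw [mul_inv_eq_iff_eq_mul]
  refine ap_ext fun x => ?_
  simp only [ap_mul, ap_tv, ap_add, ap_smul, herm_ap]

theorem tv_smul_two (hF : Fintype.card F = 2 ^ 2) {v : Fin n → F} {a : F}
    (hv : hermForm n F 2 v v = 0) (hv' : hermForm n F 2 (a • v) (a • v) = 0) (ha : a * a ^ 2 = 1) :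
    tv hF hv' (one_skew_two hF) = tv hF hv (one_skew_two hF) := by
  refine ap_ext fun x => ?_
  simp only [ap_tv, herm_smul_right, one_mul, smul_smul]
  congr 2
  linear_combination (hermForm n F 2 x v) * ha

/-- Transvections of `SU_n(2)` form a class of 3-transpositions. -/
theorem isThreeTranspositionClass_tv (hF : Fintype.card F = 2 ^ 2) (hn : 4 ≤ n) :
    IsThreeTranspositionClass {g : SU n F 2 | (mat g - 1).rank = 1} := by
  have hmem : ∀ d ∈ {g : SU n F 2 | (mat g - 1).rank = 1}, ∃ (v : Fin n → F)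
      (hv : hermForm n F 2 v v = 0), v ≠ 0 ∧ d = tv hF hv (one_skew_two hF) := by
    intro d hd
    obtain ⟨v, c, hv, hc, hv0, hc0, rfl⟩ := exists_eq_tv_of_isTransvection hF d
      (isTransvection_of_rank_one (d : Matrix.SpecialLinearGroup (Fin n) F).2 hd)
    obtain rfl := eq_one_of_skew_two hF hc hc0
    exact ⟨v, hv, hv0, rfl⟩
  refine ⟨⟨?_, ?_⟩, ?_, ?_⟩
  · intro d hd
    obtain ⟨v, hv, hv0, rfl⟩ := hmem d hd
    refine orderOf_eq_prime (by rw [pow_two, tv_mul_self_two]) fun h => ?_
    have hd' : (mat (tv hF hv (one_skew_two hF)) - 1).rank = 1 := hd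
    rw [h, show mat (1 : SU n F 2) = 1 from rfl, sub_self, Matrix.rank_zero] at hd'
    exact zero_ne_one hd'
  · intro d hd e he
    obtain ⟨u, hu, -, rfl⟩ := hmem d hd
    obtain ⟨v, hv, -, rfl⟩ := hmem e he
    by_cases huv : hermForm n F 2 u v = 0
    · left
      have hvu : hermForm n F 2 v u = 0 := (herm_eq_zero_symm hF).1 huv
      have hcomm : Commute (tv hF hu (one_skew_two hF)) (tv hF hv (one_skew_two hF)) := by
        refine ap_ext fun x => ?_
        simp only [ap_mul, ap_tv, herm_add_left, herm_smul_left, huv, hvu, mul_zero, add_zero]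
        abel
      rw [hcomm.mul_pow, pow_two, pow_two, tv_mul_self_two, tv_mul_self_two, one_mul]
    · right
      set a := tv hF hu (one_skew_two hF) with ha
      set b := tv hF hv (one_skew_two hF) with hb
      let s := hermForm n F 2 u v
      have hs3 : s * s ^ 2 = 1 := by
        have h1 := pow_sub_one_eq_one hF (a := s * s ^ 2)
          (mul_ne_zero huv (pow_ne_zero _ huv)) (norm_pow_q hF s)
        simpa using h1
      have h1 : hermForm n F 2 (ap a v) (ap a v) = 0 := by rw [herm_ap, hv]
      have h2 : hermForm n F 2 (ap b u) (ap b u) = 0 := by rw [herm_ap, hu]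
      have e1 : a * b * a⁻¹ = tv hF h1 (one_skew_two hF) := conj_tv hF a hv _ h1
      have e2 : b * a * b⁻¹ = tv hF h2 (one_skew_two hF) := conj_tv hF b hu _ h2
      have hbu : ap b u = s • ap a v := by
        rw [hb, ha, ap_tv, ap_tv, ← herm_swap hF u v]
        simp only [one_mul, smul_add, smul_smul]
        rw [show s * hermForm n F 2 u v ^ 2 = 1 from hs3, one_smul, add_comm]
      have h3 : hermForm n F 2 (s • ap a v) (s • ap a v) = 0 := by rw [herm_self_smul, h1, mul_zero]
      have e3 : b * a * b⁻¹ = a * b * a⁻¹ := by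
        rw [e1, e2, ← tv_smul_two hF h1 h3 hs3]
        congr 1
      have ia : a⁻¹ = a := inv_eq_of_mul_eq_one_right (tv_mul_self_two hF hu)
      have ib : b⁻¹ = b := inv_eq_of_mul_eq_one_right (tv_mul_self_two hF hv)
      rw [ia, ib] at e3
      calc (a * b) ^ 3 = (a * b * a) * (b * a * b) := by simp only [pow_succ, pow_zero, one_mul, mul_assoc]
        _ = (a * b * a) * (a * b * a) := by rw [e3]
        _ = a * b * (a * a) * b * a := by group
        _ = 1 := by
          rw [show a * a = 1 from tv_mul_self_two hF hu, mul_one, mul_assoc a b b,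
            show b * b = 1 from tv_mul_self_two hF hv, mul_one, show a * a = 1 from tv_mul_self_two hF hu]
  · obtain ⟨u, hu0, hu⟩ : ∃ u : Fin n → F, u ≠ 0 ∧ hermForm n F 2 u u = 0 := by
      obtain ⟨u, -, h⟩ := exists_isotropic hF (nondeg_top (n := n) hF)
        (by rw [finrank_top, Module.finrank_fin_fun]; omega)
      exact ⟨u, h⟩
    refine ⟨tv hF hu (one_skew_two hF), rank_tv_sub_one hF hu _ hu0 one_ne_zero, ?_⟩
    ext e
    show _ ↔ IsConj _ _
    constructor
    · intro he
      obtain ⟨v, hv, hv0, rfl⟩ := hmem e he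
      exact isConj_tv hF (by omega) hu _ hv _ hu0 hv0 one_ne_zero one_ne_zero
    · intro he
      obtain ⟨g, rfl⟩ := isConj_iff.1 he
      have h1 : hermForm n F 2 (ap g u) (ap g u) = 0 := by rw [herm_ap, hu]
      rw [conj_tv hF g hu _ h1]
      exact rank_tv_sub_one hF h1 _ (fun h => hu0 (ap_injective g (h.trans (ap_zero g).symm))) one_ne_zero
  · rw [eq_top_iff, ← tgroup_eq_top hF (Or.inl hn), tgroup, Subgroup.closure_le]
    rintro A ⟨v, c, hv, hA⟩
    by_cases hvc : v = 0 ∨ c = 0
    · have : A = 1 := by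
        refine ap_ext fun x => ?_
        rw [ap_def, hA, unitaryTransvection_mulVec, ap_one]
        rcases hvc with h | h <;> simp [h]
      rw [this]
      exact one_mem _
    push Not at hvc
    obtain ⟨z, -, -, hz⟩ := exists_partner hF (nondeg_top hF) Submodule.mem_top hvc.1 hv
    have hvz : hermForm n F 2 v z = 1 := by rw [← herm_swap hF z v, hz, one_pow]
    have h := herm_ap A z z
    simp only [ap_def, hA, unitaryTransvection_mulVec, herm_add_left, herm_add_right hF,
      herm_smul_left, herm_smul_right, hv, hz, hvz, mul_one, mul_zero, add_zero] at h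
    have hc : c + c ^ 2 = 0 := by linear_combination h
    refine Subgroup.subset_closure ?_
    show (mat A - 1).rank = 1
    rw [show mat A = mat (tv hF hv hc) from hA.trans (mat_tv hF hv hc).symm]
    exact rank_tv_sub_one hF hv hc hvc.1 hvc.2

end Cfsg.Agent.Unitary
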