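import Mathlib
import Cfsg.Prelude.Def_ClassicalGeometry
import Cfsg.Agent.Unitary.Basis

/-!
# Stabilisers of non-degenerate subspaces in `GU`
-/

set_option autoImplicit false
set_option linter.unusedSectionVars false

namespace Cfsg.Agent.Unitary

open Cfsg Matrix

variable {F : Type*} [Field F] [Fintype F] {n q : ℕ}

/-- The matrix of an element of `GU`. -/
abbrev gmat (g : GU n F q) : Matrix (Fin n) (Fin n) F := ((g : GL (Fin n) F) : Matrix (Fin n) (Fin n) F)

/-- The action of an element of `GU` on column vectors. -/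
def gap (g : GU n F q) (x : Fin n → F) : Fin n → F := gmat g *ᵥ x

theorem gap_mul (a b : GU n F q) (x : Fin n → F) : gap (a * b) x = gap a (gap b x) := by
  simp [gap, gmat, Matrix.mulVec_mulVec]

theorem gap_one (x : Fin n → F) : gap (1 : GU n F q) x = x := one_mulVec x

theorem gap_inv_gap (g : GU n F q) (x : Fin n → F) : gap g⁻¹ (gap g x) = x := by
  rw [← gap_mul, inv_mul_cancel, gap_one]

theorem gap_gap_inv (g : GU n F q) (x : Fin n → F) : gap g (gap g⁻¹ x) = x := by
  rw [← gap_mul, mul_inv_cancel, gap_one]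

theorem herm_gap (g : GU n F q) (x y : Fin n → F) :
    hermForm n F q (gap g x) (gap g y) = hermForm n F q x y := g.2 x y

theorem gap_sum {ι : Type*} (g : GU n F q) (s : Finset ι) (c : ι → F) (f : ι → Fin n → F) :
    gap g (∑ i ∈ s, c i • f i) = ∑ i ∈ s, c i • gap g (f i) := by
  simp only [gap, Matrix.mulVec_sum, Matrix.mulVec_smul]

theorem gap_add (g : GU n F q) (x y : Fin n → F) : gap g (x + y) = gap g x + gap g y := mulVec_add _ _ _

theorem gap_smul (g : GU n F q) (a : F) (x : Fin n → F) : gap g (a • x) = a • gap g x :=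
  mulVec_smul _ _ _

theorem gap_zero (g : GU n F q) : gap g (0 : Fin n → F) = 0 := mulVec_zero _

theorem gap_ext {a b : GU n F q} (h : ∀ x, gap a x = gap b x) : a = b :=
  Subtype.ext (Units.ext (Matrix.ext_iff_mulVec.2 h))

theorem gap_injective (g : GU n F q) : Function.Injective (gap g) :=
  Function.LeftInverse.injective (gap_inv_gap g)

theorem mem_stab_iff {S : Set (Fin n → F)} {g : GU n F q} :
    g ∈ (stabilizing (glToMat (Fin n) F) S).subgroupOf (GU n F q) ↔ ∀ v, v ∈ S ↔ gap g v ∈ S :=
  Iff.rfl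

theorem ON.inner {ι : Type*} [Fintype ι] [DecidableEq ι] {f : ι → Fin n → F}
    (hF : Fintype.card F = q ^ 2) (hf : ON q f) (c d : ι → F) :
    hermForm n F q (∑ i, c i • f i) (∑ i, d i • f i) = ∑ i, c i * d i ^ q := by
  rw [herm_sum_right hF]
  exact Finset.sum_congr rfl fun j _ => by rw [herm_smul_right, hf.coeff, mul_comm]

theorem ON.preserves_of_images {k : ℕ} {f : Fin k → Fin n → F} (hF : Fintype.card F = q ^ 2)
    (hf : ON q f) {A : Matrix (Fin k) (Fin k) F} (h : ON q fun j => ∑ i, A i j • f i) :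
    Preserves q A := by
  rw [preserves_iff_transpose_mul hF]
  ext i j
  have h1 := h i j
  simp only [hf.inner hF] at h1
  rw [Matrix.mul_apply, Matrix.one_apply, ← h1]
  rfl

theorem ON.images_of_preserves {k : ℕ} {f : Fin k → Fin n → F} (hF : Fintype.card F = q ^ 2)
    (hf : ON q f) {A : Matrix (Fin k) (Fin k) F} (h : Preserves q A) :
    ON q fun j => ∑ i, A i j • f i := by
  intro i j
  have h1 := congrFun (congrFun ((preserves_iff_transpose_mul hF).1 h) i) j
  rw [Matrix.mul_apply, Matrix.one_apply] at h1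
  rw [hf.inner hF, ← h1]
  rfl

/-- The coefficient matrix of an element on an orthonormal family spanning an invariant subspace. -/
def coeffMat {k : ℕ} (f : Fin k → Fin n → F) (g : GU n F q) : Matrix (Fin k) (Fin k) F :=
  Matrix.of fun i j => hermForm n F q (gap g (f j)) (f i)

theorem coeffMat_apply {k : ℕ} (f : Fin k → Fin n → F) (g : GU n F q) (i j : Fin k) :
    coeffMat f g i j = hermForm n F q (gap g (f j)) (f i) := rfl

theorem gap_eq_coeff {k : ℕ} {f : Fin k → Fin n → F} (hF : Fintype.card F = q ^ 2) (hf : ON q f)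
    {g : GU n F q} (hg : ∀ j, gap g (f j) ∈ Submodule.span F (Set.range f)) (j : Fin k) :
    gap g (f j) = ∑ i, coeffMat f g i j • f i :=
  (hf.proj_eq_self hF (hg j)).symm

/-- The stabiliser of a non-degenerate subspace is a product of two smaller unitary groups. -/
theorem exists_stab_equiv (hF : Fintype.card F = q ^ 2) (W : Submodule F (Fin n → F))
    (hW : Nondeg q W) {k : ℕ} (hk : Module.finrank F W = k) :
    Nonempty (↥((stabilizing (glToMat (Fin n) F) (W : Set (Fin n → F))).subgroupOf (GU n F q)) ≃*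
      ↥(GU k F q) × ↥(GU (n - k) F q)) := by
  subst hk
  obtain ⟨f, hf, hfs⟩ := exists_ON_basis hF W hW
  obtain ⟨e, hfe, hes⟩ := hf.exists_extend hF
  revert e
  rw [Fintype.card_fin]
  intro e hfe hes
  have he : ON q e := fun i j => by simpa using hfe (Sum.inr i) (Sum.inr j)
  rw [← perp_span hF, hfs] at hes
  let St := (stabilizing (glToMat (Fin n) F) (W : Set (Fin n → F))).subgroupOf (GU n F q)
  have hWperp : ∀ (g : GU n F q), (∀ v, v ∈ W ↔ gap g v ∈ W) →
      ∀ v ∈ perp q (W : Set (Fin n → F)), gap g v ∈ perp q (W : Set (Fin n → F)) := by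
    intro g hg v hv s hs
    have hs' : gap g⁻¹ s ∈ W := by rw [hg, gap_gap_inv]; exact hs
    rw [← gap_gap_inv g s, herm_gap]
    exact hv _ hs'
  have hgf : ∀ (g : St) j, gap g.1 (f j) ∈ Submodule.span F (Set.range f) := by
    intro g j
    rw [hfs]
    exact ((mem_stab_iff.1 g.2) (f j)).1 (hfs ▸ Submodule.subset_span ⟨j, rfl⟩)
  have hge : ∀ (g : St) j, gap g.1 (e j) ∈ Submodule.span F (Set.range e) := by
    intro g j
    rw [hes]
    exact hWperp g.1 (mem_stab_iff.1 g.2) _ (hes ▸ Submodule.subset_span ⟨j, rfl⟩)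
  have hA : ∀ g : St, Preserves q (coeffMat f g.1) := fun g =>
    hf.preserves_of_images hF fun i j => by
      beta_reduce
      rw [← gap_eq_coeff hF hf (hgf g), ← gap_eq_coeff hF hf (hgf g), herm_gap, hf i j]
  have hB : ∀ g : St, Preserves q (coeffMat e g.1) := fun g =>
    he.preserves_of_images hF fun i j => by
      beta_reduce
      rw [← gap_eq_coeff hF he (hge g), ← gap_eq_coeff hF he (hge g), herm_gap, he i j]
  have hmul : ∀ {m : ℕ} {b : Fin m → Fin n → F} (_ : ON q b) {g g' : GU n F q},
      (∀ j, gap g' (b j) ∈ Submodule.span F (Set.range b)) →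
      coeffMat b (g * g') = coeffMat b g * coeffMat b g' := by
    intro m b hb g g' hg'
    ext i j
    rw [coeffMat_apply, gap_mul, gap_eq_coeff hF hb hg' j, gap_sum, herm_sum_left,
      Matrix.mul_apply]
    refine Finset.sum_congr rfl fun l _ => ?_
    rw [herm_smul_left, coeffMat_apply, coeffMat_apply, mul_comm]
  let φ : St →* GU (Module.finrank F W) F q × GU (n - Module.finrank F W) F q :=
    MonoidHom.mk' (fun g => (toGU hF (hA g), toGU hF (hB g))) fun g g' => by
      refine Prod.ext (Subtype.ext (Units.ext ?_)) (Subtype.ext (Units.ext ?_))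
      · simpa [coe_toGU] using hmul hf (g := g.1) (hgf g')
      · simpa [coe_toGU] using hmul he (g := g.1) (hge g')
  have hspan : ⊤ ≤ Submodule.span F (Set.range (Sum.elim f e)) := by
    rw [Set.Sum.elim_range, Submodule.span_union, hfs, hes, (isCompl_perp hF hW).sup_eq_top]
  refine ⟨MulEquiv.ofBijective φ ⟨fun g g' h => ?_, fun P => ?_⟩⟩
  · have h1 : coeffMat f g.1 = coeffMat f g'.1 := by
      simpa [φ, coe_toGU] using congrArg (fun p => gmat p.1) h
    have h2 : coeffMat e g.1 = coeffMat e g'.1 := by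
      simpa [φ, coe_toGU] using congrArg (fun p => gmat p.2) h
    refine Subtype.ext (gap_ext fun x => ?_)
    obtain ⟨c, rfl⟩ := (Submodule.mem_span_range_iff_exists_fun F).1 (hspan (Submodule.mem_top (x := x)))
    rw [gap_sum, gap_sum]
    refine Finset.sum_congr rfl fun i _ => ?_
    rcases i with i | i
    · rw [Sum.elim_inl, gap_eq_coeff hF hf (hgf g), gap_eq_coeff hF hf (hgf g'), h1]
    · rw [Sum.elim_inr, gap_eq_coeff hF he (hge g), gap_eq_coeff hF he (hge g'), h2]
  · obtain ⟨A, B⟩ := P
    let f' := fun j => ∑ i, gmat A i j • f i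
    let e' := fun j => ∑ i, gmat B i j • e i
    have hf'W : ∀ j, f' j ∈ W := fun j => hfs ▸ Submodule.sum_mem _ fun i _ =>
      Submodule.smul_mem _ _ (Submodule.subset_span ⟨i, rfl⟩)
    have he'W : ∀ j, e' j ∈ perp q (W : Set (Fin n → F)) := fun j => hes ▸ Submodule.sum_mem _ fun i _ =>
      Submodule.smul_mem _ _ (Submodule.subset_span ⟨i, rfl⟩)
    have hnew : ON q (Sum.elim f' e') :=
      (hf.images_of_preserves hF A.2).sum_elim (he.images_of_preserves hF B.2)
        (fun i j => (herm_eq_zero_symm hF).1 (he'W j _ (hf'W i)))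
        (fun i j => he'W i _ (hf'W j))
    obtain ⟨g, hg⟩ := exists_isometry_of_gram hF hfe.linearIndependent hspan
      (b := Sum.elim f' e') fun i j => by rw [hfe, hnew]
    have hgW : ∀ v ∈ W, gap g v ∈ W := by
      intro v hv
      rw [← hfs] at hv
      obtain ⟨c, rfl⟩ := (Submodule.mem_span_range_iff_exists_fun F).1 hv
      rw [gap_sum]
      refine Submodule.sum_mem _ fun i _ => Submodule.smul_mem _ _ ?_
      rw [show gap g (f i) = f' i from hg (Sum.inl i)]
      exact hf'W i
    have hgmem : g ∈ St := by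
      rw [mem_stab_iff]
      refine fun v => ⟨hgW v, fun hv => ?_⟩
      let T : W →ₗ[F] W := (gmat g).mulVecLin.restrict hgW
      have hT : Function.Surjective T := LinearMap.injective_iff_surjective.1 fun a b h =>
        Subtype.ext (gap_injective g (congrArg Subtype.val h))
      obtain ⟨w, hw⟩ := hT ⟨gap g v, hv⟩
      rw [← gap_injective g (congrArg Subtype.val hw)]
      exact w.2
    refine ⟨⟨g, hgmem⟩, Prod.ext (Subtype.ext (Units.ext ?_)) (Subtype.ext (Units.ext ?_))⟩
    · ext i j
      simp only [φ, MonoidHom.mk'_apply, coe_toGU, coeffMat_apply]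
      rw [show gap g (f j) = f' j from hg (Sum.inl j)]
      exact hf.coeff _ i
    · ext i j
      simp only [φ, MonoidHom.mk'_apply, coe_toGU, coeffMat_apply]
      rw [show gap g (e j) = e' j from hg (Sum.inr j)]
      exact he.coeff _ i

end Cfsg.Agent.Unitary
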