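import Cfsg.Agent.Unitary.AschAdjoint
import Cfsg.Agent.Aschbacher.FieldSub

/-!
# Field subalgebras closed under the adjoint have odd degree
-/

set_option autoImplicit false
set_option linter.unusedSectionVars false
set_option linter.style.haveILetI false

namespace Cfsg.Agent.Unitary.Asch

open Matrix
open scoped MatrixGroups
open Cfsg.Geo

variable {F : Type*} [Field F] [Fintype F] {q n : ℕ}

/-- A ring automorphism of a finite field is a power of the Frobenius. -/
theorem exists_pow_char {K : Type*} [Field K] [Finite K] (p : ℕ) [Fact p.Prime] [CharP K p]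
    (τ : K ≃+* K) : ∃ j : ℕ, ∀ x, τ x = x ^ p ^ j := by
  classical
  haveI : Fintype K := Fintype.ofFinite K
  letI : Algebra (ZMod p) K := ZMod.algebra K p
  let τ' : K ≃ₐ[ZMod p] K := AlgEquiv.ofRingEquiv (f := τ) (fun c =>
    RingHom.congr_fun (RingHom.ext_zmod (τ.toRingHom.comp (algebraMap (ZMod p) K))
      (algebraMap (ZMod p) K)) c)
  obtain ⟨i, hi⟩ := (FiniteField.bijective_frobeniusAlgEquivOfAlgebraic_pow (ZMod p) K).2 τ'
  refine ⟨i, fun x => ?_⟩
  have h2 : ∀ (m : ℕ) (x : K),
      ((FiniteField.frobeniusAlgEquivOfAlgebraic (ZMod p) K) ^ m) x = x ^ p ^ m := by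
    intro m
    induction m with
    | zero => simp
    | succ m ih =>
      intro x
      rw [pow_succ', AlgEquiv.mul_apply, ih, FiniteField.coe_frobeniusAlgEquivOfAlgebraic, ZMod.card,
        ]
      show (x ^ p ^ m) ^ p = _
      rw [← pow_mul, ← pow_succ]
  have := AlgEquiv.congr_fun hi x
  rw [h2] at this
  exact this.symm

/-- A field subalgebra closed under the adjoint has odd degree. -/
theorem odd_degree (hF : Fintype.card F = q ^ 2) [NeZero n] {d : ℕ}
    {K : Subalgebra F (Matrix (Fin n) (Fin n) F)} (hK : IsFieldSubalgebra d K) (hd : 0 < d)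
    (hs : StarClosed q K) : Odd d := by
  classical
  haveI : Nonempty (Fin n) := ⟨⟨0, NeZero.pos n⟩⟩
  obtain ⟨p, a, hp, ha, hc, hq⟩ := exists_char_pow hF
  haveI : Fact p.Prime := ⟨hp⟩
  letI := (Aschbacher.isField_of_isFieldSubalgebra hK).toField
  haveI : Finite K := Module.finite_of_finite F
  haveI : Fintype K := Fintype.ofFinite K
  haveI : CharP K p := charP_of_injective_algebraMap (algebraMap F K).injective p
  let τ : K ≃+* K :=
    { toFun := fun x => ⟨hst q (x : Matrix (Fin n) (Fin n) F), hs _ x.2⟩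
      invFun := fun x => ⟨hst q (x : Matrix (Fin n) (Fin n) F), hs _ x.2⟩
      left_inv := fun x => Subtype.ext (hst_hst hF _)
      right_inv := fun x => Subtype.ext (hst_hst hF _)
      map_mul' := fun x y => Subtype.ext (by
        show hst q ((x : Matrix (Fin n) (Fin n) F) * (y : Matrix (Fin n) (Fin n) F)) =
          hst q (x : Matrix (Fin n) (Fin n) F) * hst q (y : Matrix (Fin n) (Fin n) F)
        rw [hst_mul hF]
        exact hK.comm _ (hs _ y.2) _ (hs _ x.2))
      map_add' := fun x y => Subtype.ext (hst_add hF _ _) }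
  obtain ⟨j, hj⟩ := exists_pow_char p τ
  by_contra hodd
  obtain ⟨e, he⟩ := Nat.not_odd_iff_even.mp hodd
  -- orders of generators
  have hcardK : Fintype.card K = p ^ (2 * a * d) := by
    rw [Module.card_eq_pow_finrank (K := F) (V := K), hK.finrank_eq, hF, hq, ← pow_mul, ← pow_mul]
    ring_nf
  have hjj : ∀ x : K, x ^ p ^ (2 * j) = x := fun x => by
    have h := hj (τ x)
    have h2 : τ (τ x) = x := Subtype.ext (hst_hst hF _)
    rw [h2, hj x, ← pow_mul, ← pow_add] at h
    rw [two_mul]; exact h.symm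
  have hdvd1 : 2 * a * d ∣ 2 * j := by
    obtain ⟨g, hg⟩ := IsCyclic.exists_generator (α := Kˣ)
    have hg1 : g ^ (p ^ (2 * j) - 1) = 1 := by
      apply Units.ext
      have h := hjj (g : K)
      have hm : p ^ (2 * j) = (p ^ (2 * j) - 1) + 1 := by
        have := Nat.one_le_pow (2 * j) p hp.pos; omega
      rw [hm, pow_succ] at h
      rw [Units.val_pow_eq_pow_val, Units.val_one]
      exact mul_right_cancel₀ g.ne_zero (h.trans (one_mul _).symm)
    have hord : orderOf g = p ^ (2 * a * d) - 1 := by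
      rw [orderOf_eq_card_of_forall_mem_zpowers hg, Nat.card_units, Nat.card_eq_fintype_card, hcardK]
    have h := orderOf_dvd_of_pow_eq_one hg1
    rw [hord] at h
    have h' : p ^ Nat.gcd (2 * a * d) (2 * j) - 1 = p ^ (2 * a * d) - 1 := by
      rw [← Nat.pow_sub_one_gcd_pow_sub_one]; exact Nat.gcd_eq_left h
    have h1 := Nat.one_le_pow (Nat.gcd (2 * a * d) (2 * j)) p hp.pos
    have h2 := Nat.one_le_pow (2 * a * d) p hp.pos
    have h3 : p ^ Nat.gcd (2 * a * d) (2 * j) = p ^ (2 * a * d) := by omega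
    exact Nat.gcd_eq_left_iff_dvd.mp (Nat.pow_right_injective hp.two_le h3)
  have h2a : 2 * a ∣ j := by
    obtain ⟨c, hc⟩ := hdvd1
    refine ⟨e * c, ?_⟩
    rw [he] at hc
    have h4 : 2 * j = 2 * (2 * a * (e * c)) := by rw [hc]; ring
    exact Nat.eq_of_mul_eq_mul_left two_pos h4
  obtain ⟨c, hjc⟩ := h2a
  obtain ⟨x, hx⟩ : ∃ x : F, x ^ q ≠ x := by
    by_contra hall
    push Not at hall
    have := card_fixed hF
    rw [Nat.card_congr (Equiv.subtypeUnivEquiv hall), Nat.card_eq_fintype_card, hF] at this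
    have := two_le_q hF
    nlinarith
  apply hx
  have h := hj (algebraMap F K x)
  have hl : τ (algebraMap F K x) = algebraMap F K (x ^ q) := Subtype.ext (by
    show hst q (algebraMap F (Matrix (Fin n) (Fin n) F) x) = algebraMap F _ (x ^ q)
    rw [Algebra.algebraMap_eq_smul_one, hst_smul_one hF, ← Algebra.algebraMap_eq_smul_one])
  rw [hl, ← map_pow, hjc, show p ^ (2 * a * c) = Fintype.card F ^ c by
    rw [hF, hq, ← pow_mul, ← pow_mul]; ring_nf, FiniteField.pow_card_pow] at h
  exact (algebraMap F K).injective h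

/-- An adjoint-closed field subalgebra of degree at least two contains one of odd prime degree,
normalised by whatever normalises it. -/
theorem field_cases (hF : Fintype.card F = q ^ 2) [NeZero n] {d : ℕ}
    {K : Subalgebra F (Matrix (Fin n) (Fin n) F)} (hK : IsFieldSubalgebra d K) (hd : 2 ≤ d)
    (hs : StarClosed q K) :
    ∃ (r : ℕ) (L : Subalgebra F (Matrix (Fin n) (Fin n) F)), r.Prime ∧ Odd r ∧ r ∣ n ∧
      IsFieldSubalgebra r L ∧ StarClosed q L ∧ subalgebraNormalizer K ≤ subalgebraNormalizer L := by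
  haveI : Nonempty (Fin n) := ⟨⟨0, NeZero.pos n⟩⟩
  have hodd := odd_degree hF hK (by omega) hs
  obtain ⟨r, hr, hrd⟩ := Nat.exists_prime_and_dvd (show d ≠ 1 by omega)
  obtain ⟨L, hL, -, hLeq⟩ := Aschbacher.exists_prime_subfield hK hrd (by omega)
  refine ⟨r, L, hr, hodd.of_dvd_nat hrd, ?_, hL, fun X hX => ?_,
    Aschbacher.normalizer_le_of_fieldPart hLeq⟩
  · simpa using Aschbacher.isFieldSubalgebra_dvd hL
  · have h : X ∈ Aschbacher.fieldPart (Fintype.card F) r K := hLeq ▸ hX
    have hp : ∀ (Y : Matrix (Fin n) (Fin n) F) (k : ℕ), hst q (Y ^ k) = hst q Y ^ k := fun Y k => by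
      induction k with
      | zero => rw [pow_zero, pow_zero, hst_one hF]
      | succ k ih => rw [pow_succ, hst_mul hF, ih, pow_succ']
    have h' : hst q X ∈ Aschbacher.fieldPart (Fintype.card F) r K :=
      ⟨hs _ h.1, by rw [← hp, h.2]⟩
    rw [← hLeq] at h'
    exact h'

end Cfsg.Agent.Unitary.Asch
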