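import Mathlib
import Cfsg.Agent.Linear.Order
import Cfsg.Agent.Unitary.Eichler
import Cfsg.Agent.Unitary.Isotropic
import Cfsg.Agent.Unitary.Order

/-!
# `SU₂(q) ≅ SL₂(q)`
-/

set_option autoImplicit false
set_option linter.unusedSectionVars false

namespace Cfsg.Agent.Unitary

open Cfsg Matrix

variable {F K : Type*} [Field F] [Fintype F] [Field K] [Fintype K] {q : ℕ}

/-- An embedding of the field with `q` elements onto the fixed field. -/
theorem exists_embedding (hF : Fintype.card F = q ^ 2) (hK : Fintype.card K = q) :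
    ∃ ι : K →+* F, ∀ x, ι x ^ q = ι x := by
  classical
  have : Fintype (fixK hF) := Fintype.ofFinite _
  have h : Fintype.card K = Fintype.card (fixK hF) := by
    rw [hK, ← Nat.card_eq_fintype_card, card_fixK hF]
  let e := FiniteField.ringEquivOfCardEq h
  exact ⟨(fixK hF).subtype.comp e.toRingHom, fun x => (mem_fixK hF).1 (e x).2⟩

theorem exists_su_two_equiv (hF : Fintype.card F = q ^ 2) (hK : Fintype.card K = q) :
    Nonempty (SU 2 F q ≃* Matrix.SpecialLinearGroup (Fin 2) K) := by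
  obtain ⟨ι, hι⟩ := exists_embedding hF hK
  obtain ⟨δ, hδ0, hδ⟩ := exists_skew hF
  obtain ⟨u, -, hu0, hu⟩ := exists_isotropic hF (nondeg_top (n := 2) hF)
    (by rw [finrank_top, Module.finrank_fin_fun])
  obtain ⟨w, -, hw, hwu⟩ := exists_partner hF (nondeg_top hF) Submodule.mem_top hu0 hu
  let v := -δ • w
  have hv : hermForm 2 F q v v = 0 := by rw [herm_self_smul, hw, mul_zero]
  have hvu : hermForm 2 F q v u = -δ := by rw [herm_smul_left, hwu, mul_one]
  have huv : hermForm 2 F q u v = δ := by rw [← herm_swap hF v u, hvu, neg_pow_q hF, hδ, neg_neg]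
  let P : Matrix (Fin 2) (Fin 2) F := Matrix.of fun i j => ![u i, v i] j
  have hP : ∀ y, P *ᵥ y = y 0 • u + y 1 • v := by
    intro y
    ext i
    simp [P, Matrix.mulVec, dotProduct, Fin.sum_univ_two, mul_comm]
  have hform : ∀ y z, hermForm 2 F q (P *ᵥ y) (P *ᵥ z) = δ * (y 0 * z 1 ^ q - y 1 * z 0 ^ q) := by
    intro y z
    simp only [hP, herm_add_left, herm_add_right hF, herm_smul_left, herm_smul_right, hu, hv, huv,
      hvu]
    ring
  have hPu : IsUnit P := by
    rw [← Matrix.mulVec_injective_iff_isUnit]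
    intro y z h
    have h' := fun i => congrArg (fun x => hermForm 2 F q x (P *ᵥ Pi.single i 1)) h
    simp only [hform] at h'
    have h0 := h' 0
    have h1 := h' 1
    simp [q_ne_zero hF, hδ0] at h0 h1
    ext i
    fin_cases i
    · exact h1
    · exact h0
  obtain ⟨PU, hPU⟩ := hPu
  let B (g : Matrix.SpecialLinearGroup (Fin 2) K) : Matrix (Fin 2) (Fin 2) F :=
    (Matrix.SpecialLinearGroup.map ι g : Matrix.SpecialLinearGroup (Fin 2) F)
  have hB : ∀ g i j, (B g i j) ^ q = B g i j := fun g i j => hι _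
  have hpres : ∀ g, Preserves q ((PU : Matrix (Fin 2) (Fin 2) F) * B g * ((PU⁻¹ : (Matrix (Fin 2) (Fin 2) F)ˣ) : Matrix (Fin 2) (Fin 2) F)) := by
    intro g x z
    have hd : B g 0 0 * B g 1 1 - B g 0 1 * B g 1 0 = 1 := by
      rw [← Matrix.det_fin_two]
      exact (Matrix.SpecialLinearGroup.map ι g).2
    obtain ⟨y, rfl⟩ : ∃ y, x = P *ᵥ y := ⟨((PU⁻¹ : (Matrix (Fin 2) (Fin 2) F)ˣ) : Matrix (Fin 2) (Fin 2) F) *ᵥ x, by
      rw [← hPU, mulVec_mulVec, Units.mul_inv, one_mulVec]⟩
    obtain ⟨y', rfl⟩ : ∃ y, z = P *ᵥ y := ⟨((PU⁻¹ : (Matrix (Fin 2) (Fin 2) F)ˣ) : Matrix (Fin 2) (Fin 2) F) *ᵥ z, by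
      rw [← hPU, mulVec_mulVec, Units.mul_inv, one_mulVec]⟩
    rw [← hPU, mulVec_mulVec, mulVec_mulVec, Units.inv_mul_cancel_right, ← mulVec_mulVec,
      ← mulVec_mulVec, hPU, hform, hform]
    simp only [Matrix.mulVec, dotProduct, Fin.sum_univ_two, add_pow_q hF, mul_pow, hB]
    linear_combination (δ * (y 0 * y' 1 ^ q - y 1 * y' 0 ^ q)) * hd
  let f : Matrix.SpecialLinearGroup (Fin 2) K →* SU 2 F q :=
    { toFun := fun g => toSU (hpres g) (by
        rw [Matrix.det_units_conj]; exact (Matrix.SpecialLinearGroup.map ι g).2)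
      map_one' := Subtype.ext (Subtype.ext (by
        show (PU : Matrix (Fin 2) (Fin 2) F) * B 1 * _ = 1
        simp [B]))
      map_mul' := fun g g' => Subtype.ext (Subtype.ext (by
        show (PU : Matrix (Fin 2) (Fin 2) F) * B (g * g') * _ = _
        simp only [B, map_mul, Matrix.SpecialLinearGroup.coe_mul, Subgroup.coe_mul]
        show _ = (PU : Matrix (Fin 2) (Fin 2) F) * B g * _ * ((PU : Matrix (Fin 2) (Fin 2) F) * B g' * _)
        simp only [Matrix.mul_assoc]
        rw [← Matrix.mul_assoc ((PU⁻¹ : (Matrix (Fin 2) (Fin 2) F)ˣ) : Matrix (Fin 2) (Fin 2) F),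
          Units.inv_mul, Matrix.one_mul])) }
  have hinj : Function.Injective f := by
    intro g g' h
    have h1 : (PU : Matrix (Fin 2) (Fin 2) F) * B g * _ = (PU : Matrix (Fin 2) (Fin 2) F) * B g' * _ :=
      congrArg (fun A : SU 2 F q => mat A) h
    rw [Units.mul_left_inj, Units.mul_right_inj] at h1
    refine Subtype.ext ?_
    ext i j
    exact ι.injective (congrFun (congrFun h1 i) j)
  have hcard : Nat.card (Matrix.SpecialLinearGroup (Fin 2) K) = Nat.card (SU 2 F q) := by
    have hq := two_le_q hF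
    have hq2 : 1 ≤ q ^ 2 := Nat.one_le_pow _ _ (by omega)
    have h : (q + 1) * Nat.card (SU 2 F q) = (q + 1) * (q * (q ^ 2 - 1)) := by
      rw [← card_GU_eq_mul_card_SU hF (by norm_num : 1 ≤ 2), card_GU hF]
      simp [Finset.prod_range_succ, guFactor]
      ring
    rw [Nat.eq_of_mul_eq_mul_left (Nat.succ_pos q) h, Cfsg.Agent.Linear.card_SL_two, hK]
  exact ⟨(MulEquiv.ofBijective f ((Nat.bijective_iff_injective_and_card f).2 ⟨hinj, hcard⟩)).symm⟩

end Cfsg.Agent.Unitary
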