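import Mathlib

/-!
# Groups of order `72` are solvable
-/

set_option autoImplicit false

namespace Cfsg.Agent.Unitary

open scoped Pointwise

theorem isSolvable_of_card_prime_pow {G : Type*} [Group G] [Finite G] {p k m : ℕ} [Fact p.Prime]
    (h : Nat.card G = m) (hm : m ∣ p ^ k) : Group.IsSolvable G := by
  obtain ⟨j, -, hj⟩ := (Nat.dvd_prime_pow (Fact.out : p.Prime)).1 hm
  have : Group.IsNilpotent G := (IsPGroup.of_card (h.trans hj)).isNilpotent
  infer_instance

theorem isSolvable_of_normal {G : Type*} [Group G] (N : Subgroup G) [N.Normal]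
    (h1 : Group.IsSolvable N) (h2 : Group.IsSolvable (G ⧸ N)) : Group.IsSolvable G :=
  have := h1
  have := h2
  Group.isSolvable_of_ker_le_range N.subtype (QuotientGroup.mk' N)
    (by rw [QuotientGroup.ker_mk', Subgroup.range_subtype])

/-- One step: either the Sylow `p`-subgroup is normal, or the group maps to the permutations of its
Sylow subgroups with kernel inside the normalizer. -/
theorem sylow_step {G : Type*} [Group G] [Finite G] (p : ℕ) [Fact p.Prime] :
    (∃ N : Subgroup G, N.Normal ∧ IsPGroup p N ∧ ¬ p ∣ N.index) ∨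
    (∃ n : ℕ, 1 < n ∧ n % p = 1 ∧ n ∣ Nat.card G ∧ ∃ N : Subgroup G, N.Normal ∧
      n * Nat.card N ∣ Nat.card G ∧ N.index ∣ n.factorial) := by
  by_cases h1 : Nat.card (Sylow p G) = 1
  · left
    obtain ⟨P⟩ : Nonempty (Sylow p G) := inferInstance
    have : Subsingleton (Sylow p G) := (Nat.card_eq_one_iff_unique.1 h1).1
    have := P.normal_of_subsingleton
    exact ⟨P, inferInstance, P.isPGroup', P.not_dvd_index⟩
  · right
    obtain ⟨P⟩ : Nonempty (Sylow p G) := inferInstance
    have hidx : Nat.card (Sylow p G) = (Subgroup.normalizer (P : Set G)).index :=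
      Sylow.card_eq_index_normalizer P
    have hmod := card_sylow_modEq_one p G
    have hpos : 0 < Nat.card (Sylow p G) := Nat.card_pos
    refine ⟨Nat.card (Sylow p G), by omega, ?_, ?_, (MulAction.toPermHom G (Sylow p G)).ker,
      MonoidHom.normal_ker _, ?_, ?_⟩
    · rw [hmod, Nat.one_mod_eq_one.2 (Fact.out : p.Prime).ne_one]
    · rw [hidx]; exact Subgroup.index_dvd_card _
    · have hle : (MulAction.toPermHom G (Sylow p G)).ker ≤ Subgroup.normalizer (P : Set G) := by
        intro g hg
        have h2 : g • P = P := by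
          have := Equiv.ext_iff.1 (MonoidHom.mem_ker.1 hg) P
          exact this
        exact Sylow.smul_eq_iff_mem_normalizer.1 h2
      rw [hidx, mul_comm]
      exact (Nat.mul_dvd_mul_right (Subgroup.card_dvd_of_le hle) _).trans
        (Subgroup.card_mul_index (Subgroup.normalizer (P : Set G))).dvd
    · rw [Subgroup.index_ker, ← Nat.card_perm]
      exact Subgroup.card_subgroup_dvd_card _

theorem isSolvable_of_card_dvd_18 {G : Type*} [Group G] [Finite G] {m : ℕ}
    (h : Nat.card G = m) (hm : m ∣ 18) : Group.IsSolvable G := by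
  have : Fact (Nat.Prime 3) := ⟨by norm_num⟩
  have : Fact (Nat.Prime 2) := ⟨by norm_num⟩
  rcases sylow_step (G := G) 3 with ⟨N, hN, hp, hi⟩ | ⟨n, h1, h2, h3, -⟩
  · have := hN
    have : Group.IsNilpotent N := hp.isNilpotent
    refine isSolvable_of_normal N inferInstance (isSolvable_of_card_prime_pow (p := 2) (k := 1)
      (Subgroup.index_eq_card N).symm ?_)
    have hd : N.index ∣ 3 ^ 2 * 2 := (Subgroup.index_dvd_card N).trans (h ▸ hm)
    exact ((Nat.Prime.coprime_iff_not_dvd (by norm_num)).2 hi |>.pow_left 2).symm.dvd_of_dvd_mul_left hd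
  · have h4 : n ∣ 18 := h3.trans (h ▸ hm)
    have := Nat.le_of_dvd (by norm_num) h4
    interval_cases n <;> omega

theorem isSolvable_of_card_dvd_24 {G : Type*} [Group G] [Finite G] {m : ℕ}
    (h : Nat.card G = m) (hm : m ∣ 24) : Group.IsSolvable G := by
  have : Fact (Nat.Prime 3) := ⟨by norm_num⟩
  have : Fact (Nat.Prime 2) := ⟨by norm_num⟩
  rcases sylow_step (G := G) 2 with ⟨N, hN, hp, hi⟩ | ⟨n, h1, h2, h3, N, hN, hc, hidx⟩
  · have := hN
    have : Group.IsNilpotent N := hp.isNilpotent
    refine isSolvable_of_normal N inferInstance (isSolvable_of_card_prime_pow (p := 3) (k := 1)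
      (Subgroup.index_eq_card N).symm ?_)
    have hd : N.index ∣ 2 ^ 3 * 3 := (Subgroup.index_dvd_card N).trans (h ▸ hm)
    exact ((Nat.Prime.coprime_iff_not_dvd (by norm_num)).2 hi |>.pow_left 3).symm.dvd_of_dvd_mul_left hd
  · have h4 : n ∣ 24 := h3.trans (h ▸ hm)
    have := Nat.le_of_dvd (by norm_num) h4
    have hn : n = 3 := by interval_cases n <;> omega
    subst hn
    have := hN
    exact isSolvable_of_normal N
      (isSolvable_of_card_prime_pow (p := 2) (k := 3) rfl
        (Nat.dvd_of_mul_dvd_mul_left (by norm_num : 0 < 3) (hc.trans (h ▸ hm))))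
      (isSolvable_of_card_dvd_18 (Subgroup.index_eq_card N).symm
        (hidx.trans (by norm_num [Nat.factorial])))

theorem isSolvable_of_card_dvd_72 {G : Type*} [Group G] [Finite G] {m : ℕ}
    (h : Nat.card G = m) (hm : m ∣ 72) : Group.IsSolvable G := by
  have : Fact (Nat.Prime 3) := ⟨by norm_num⟩
  have : Fact (Nat.Prime 2) := ⟨by norm_num⟩
  rcases sylow_step (G := G) 3 with ⟨N, hN, hp, hi⟩ | ⟨n, h1, h2, h3, N, hN, hc, hidx⟩
  · have := hN
    have : Group.IsNilpotent N := hp.isNilpotent
    refine isSolvable_of_normal N inferInstance (isSolvable_of_card_prime_pow (p := 2) (k := 3)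
      (Subgroup.index_eq_card N).symm ?_)
    have hd : N.index ∣ 3 ^ 2 * 8 := (Subgroup.index_dvd_card N).trans (h ▸ hm)
    exact ((Nat.Prime.coprime_iff_not_dvd (by norm_num)).2 hi |>.pow_left 2).symm.dvd_of_dvd_mul_left hd
  · have h4 : n ∣ 72 := h3.trans (h ▸ hm)
    have := Nat.le_of_dvd (by norm_num) h4
    have hn : n = 4 := by interval_cases n <;> omega
    subst hn
    have := hN
    exact isSolvable_of_normal N
      (isSolvable_of_card_dvd_18 rfl
        (Nat.dvd_of_mul_dvd_mul_left (by norm_num : 0 < 4) (hc.trans (h ▸ hm))))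
      (isSolvable_of_card_dvd_24 (Subgroup.index_eq_card N).symm
        (hidx.trans (by norm_num [Nat.factorial])))

end Cfsg.Agent.Unitary
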