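import Mathlib
import Cfsg.Agent.Unitary.Simple

/-!
# The unipotent radical of the stabiliser of an isotropic point
-/

set_option autoImplicit false
set_option linter.unusedSectionVars false

namespace Cfsg.Agent.Unitary

open Cfsg Matrix

variable {F : Type*} [Field F] {n q : ℕ}

/-- A hyperbolic pair. -/
structure HPair (n : ℕ) (F : Type*) [Field F] (q : ℕ) where
  /-- first isotropic vector -/
  e : Fin n → F
  /-- second isotropic vector -/
  f : Fin n → F
  he : hermForm n F q e e = 0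
  hf : hermForm n F q f f = 0
  hfe : hermForm n F q f e = 1

/-- The orthogonal space of a hyperbolic pair. -/
abbrev HPair.V (H : HPair n F q) : Submodule F (Fin n → F) := perp q ({H.e, H.f} : Set (Fin n → F))

/-- The unipotent radical of the stabiliser of `⟨u⟩`. -/
def unip (n : ℕ) (F : Type*) [Field F] (q : ℕ) (u : Fin n → F) : Subgroup (SU n F q) where
  carrier := {A | ap A u = u ∧ ∀ w, hermForm n F q w u = 0 → ∃ a : F, ap A w = w + a • u}
  one_mem' := ⟨ap_one u, fun w _ => ⟨0, by rw [ap_one, zero_smul, add_zero]⟩⟩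
  mul_mem' {A B} ha hb := ⟨by rw [ap_mul, hb.1, ha.1], fun w hw => by
    obtain ⟨b, hb'⟩ := hb.2 w hw
    obtain ⟨a, ha'⟩ := ha.2 w hw
    exact ⟨a + b, by rw [ap_mul, hb', ap_add, ap_smul, ha.1, ha', add_assoc, add_smul]⟩⟩
  inv_mem' {A} ha := by
    have h1 : ap A⁻¹ u = u := by
      nth_rw 1 [← ha.1]
      exact ap_inv_ap A u
    refine ⟨h1, fun w hw => ?_⟩
    obtain ⟨a, ha'⟩ := ha.2 w hw
    refine ⟨-a, ?_⟩
    have h2 := congrArg (ap A⁻¹) ha'
    rw [ap_inv_ap, ap_add, ap_smul, h1] at h2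
    rw [neg_smul, ← sub_eq_add_neg]
    exact eq_sub_of_add_eq h2.symm

theorem mem_unip {u : Fin n → F} {A : SU n F q} :
    A ∈ unip n F q u ↔ ap A u = u ∧ ∀ w, hermForm n F q w u = 0 → ∃ a : F, ap A w = w + a • u :=
  Iff.rfl

variable [Fintype F]

theorem HPair.hef (H : HPair n F q) (hF : Fintype.card F = q ^ 2) : hermForm n F q H.e H.f = 1 := by
  rw [← herm_swap hF H.f H.e, H.hfe, one_pow]

theorem HPair.e_ne (H : HPair n F q) (hF : Fintype.card F = q ^ 2) : H.e ≠ 0 := fun h => by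
  have := H.hfe
  rw [h, herm_zero_right hF] at this
  exact zero_ne_one this

theorem HPair.f_ne (H : HPair n F q) : H.f ≠ 0 := fun h => by
  have := H.hfe
  rw [h, herm_zero_left] at this
  exact zero_ne_one this

theorem exists_hpair (hF : Fintype.card F = q ^ 2) (hn : 2 ≤ n) : Nonempty (HPair n F q) := by
  obtain ⟨u, hu0, hu⟩ := exists_isotropic_top (n := n) hF hn
  obtain ⟨v, -, hv, hvu⟩ := exists_partner hF (nondeg_top hF) Submodule.mem_top hu0 hu
  exact ⟨⟨u, v, hu, hv, hvu⟩⟩

theorem exists_hpair_with (hF : Fintype.card F = q ^ 2) {u : Fin n → F} (hu0 : u ≠ 0)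
    (hu : hermForm n F q u u = 0) : ∃ H : HPair n F q, H.e = u := by
  obtain ⟨v, -, hv, hvu⟩ := exists_partner hF (nondeg_top hF) Submodule.mem_top hu0 hu
  exact ⟨⟨u, v, hu, hv, hvu⟩, rfl⟩

theorem HPair.mem_V (H : HPair n F q) {x : Fin n → F} :
    x ∈ H.V ↔ hermForm n F q x H.e = 0 ∧ hermForm n F q x H.f = 0 := mem_perp_pair

/-- The component in the orthogonal space. -/
def HPair.proj (H : HPair n F q) (x : Fin n → F) : Fin n → F :=
  x - hermForm n F q x H.f • H.e - hermForm n F q x H.e • H.f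

theorem HPair.proj_mem (H : HPair n F q) (hF : Fintype.card F = q ^ 2) (x : Fin n → F) :
    H.proj x ∈ H.V := by
  rw [H.mem_V, HPair.proj]
  simp only [herm_sub_left, herm_smul_left, H.he, H.hf, H.hfe, H.hef hF]
  constructor <;> ring

theorem HPair.decomp (H : HPair n F q) (x : Fin n → F) :
    x = hermForm n F q x H.f • H.e + hermForm n F q x H.e • H.f + H.proj x := by
  simp only [HPair.proj]
  abel

theorem HPair.ap_ext (H : HPair n F q) (hF : Fintype.card F = q ^ 2) {A B : SU n F q}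
    (he : ap A H.e = ap B H.e) (hf : ap A H.f = ap B H.f) (hV : ∀ w ∈ H.V, ap A w = ap B w) :
    A = B := by
  refine Unitary.ap_ext fun x => ?_
  rw [H.decomp x]
  simp only [ap_add, ap_smul, he, hf, hV _ (H.proj_mem hF x)]

theorem eSU_mem_unip (hF : Fintype.card F = q ^ 2) {u w : Fin n → F} {α : F}
    (h : ESpec q u w α) : eSU hF h ∈ unip n F q u := by
  refine ⟨?_, fun x hx => ⟨-hermForm n F q x w, ?_⟩⟩
  · rw [ap_eSU, h.iso, (herm_eq_zero_symm hF).1 h.orth]
    simp
  · rw [ap_eSU, hx]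
    simp [sub_eq_add_neg]

/-- Every element of the radical is an Eichler transformation. -/
theorem HPair.exists_eq_eSU (H : HPair n F q) (hF : Fintype.card F = q ^ 2) {A : SU n F q}
    (hA : A ∈ unip n F q H.e) :
    ∃ (w : Fin n → F) (α : F) (h : ESpec q H.e w α), hermForm n F q w H.f = 0 ∧ A = eSU hF h := by
  obtain ⟨hAe, hAw⟩ := hA
  obtain ⟨y, hy⟩ : ∃ y, y = ap A H.f - H.f := ⟨_, rfl⟩
  have hy' : ap A H.f = H.f + y := by rw [hy]; abel
  have hye : hermForm n F q y H.e = 0 := by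
    have h1 := herm_ap A H.f H.e
    rw [hAe, hy', herm_add_left] at h1
    exact add_eq_left.1 h1
  let α := hermForm n F q y H.f
  let w := y - α • H.e
  have hwe : hermForm n F q w H.e = 0 := by
    simp [w, herm_sub_left, herm_smul_left, hye, H.he]
  have hwf : hermForm n F q w H.f = 0 := by
    simp [w, α, herm_sub_left, herm_smul_left, H.hef hF]
  have hyw : y = α • H.e + w := by simp [w]
  have htr : α + α ^ q + hermForm n F q w w = 0 := by
    have h1 := herm_ap A H.f H.f
    rw [hy', herm_self_add hF, H.hf] at h1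
    have h2 : hermForm n F q y y = hermForm n F q w w := by
      rw [hyw, herm_self_add hF, herm_self_smul, H.he, herm_smul_left,
        (herm_eq_zero_symm hF).1 hwe, mul_zero, mul_zero, zero_pow (q_ne_zero hF)]
      ring
    have h3 : hermForm n F q H.f y = α ^ q := (herm_swap hF y H.f).symm
    rw [h2, h3, pow_q_q hF] at h1
    linear_combination h1
  have hs : ESpec q H.e w α := ⟨H.he, hwe, htr⟩
  refine ⟨w, α, hs, hwf, H.ap_ext hF ?_ ?_ fun x hx => ?_⟩
  · rw [hAe, ap_eSU, H.he, (herm_eq_zero_symm hF).1 hwe]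
    simp
  · rw [hy', hyw, ap_eSU, H.hfe, (herm_eq_zero_symm hF).1 hwf]
    module
  · obtain ⟨hxe, hxf⟩ := H.mem_V.1 hx
    obtain ⟨a, ha⟩ := hAw x hxe
    have h1 := herm_ap A x H.f
    rw [ha, hy', herm_add_left, herm_add_right hF, herm_add_right hF, herm_smul_left,
      herm_smul_left, hxf, H.hef hF, (herm_eq_zero_symm hF).1 hye, mul_zero, add_zero, mul_one,
      zero_add] at h1
    have h2 : hermForm n F q x y = hermForm n F q x w := by
      rw [hyw, herm_add_right hF, herm_smul_right, hxe, mul_zero, zero_add]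
    rw [h2] at h1
    rw [ha, ap_eSU, hxe, show a = -hermForm n F q x w by linear_combination h1]
    module

/-- The parameter map of the radical. -/
def HPair.psi (H : HPair n F q) (A : SU n F q) : Fin n → F :=
  ap A H.f - H.f - hermForm n F q (ap A H.f) H.f • H.e

/-- The central parameter of the radical. -/
def HPair.theta (H : HPair n F q) (A : SU n F q) : F := hermForm n F q (ap A H.f) H.f

theorem HPair.ap_eSU_f (H : HPair n F q) (hF : Fintype.card F = q ^ 2) {w : Fin n → F} {α : F}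
    (h : ESpec q H.e w α) (hw : hermForm n F q w H.f = 0) :
    ap (eSU hF h) H.f = H.f + w + α • H.e := by
  rw [ap_eSU, H.hfe, (herm_eq_zero_symm hF).1 hw]
  module

theorem HPair.theta_eSU (H : HPair n F q) (hF : Fintype.card F = q ^ 2) {w : Fin n → F} {α : F}
    (h : ESpec q H.e w α) (hw : hermForm n F q w H.f = 0) : H.theta (eSU hF h) = α := by
  rw [HPair.theta, H.ap_eSU_f hF h hw]
  simp [herm_add_left, herm_smul_left, H.hf, hw, H.hef hF]

theorem HPair.psi_eSU (H : HPair n F q) (hF : Fintype.card F = q ^ 2) {w : Fin n → F} {α : F}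
    (h : ESpec q H.e w α) (hw : hermForm n F q w H.f = 0) : H.psi (eSU hF h) = w := by
  have h1 := H.theta_eSU hF h hw
  rw [HPair.theta] at h1
  rw [HPair.psi, h1, H.ap_eSU_f hF h hw]
  abel

theorem HPair.psi_mem (H : HPair n F q) (hF : Fintype.card F = q ^ 2) {A : SU n F q}
    (hA : A ∈ unip n F q H.e) : H.psi A ∈ H.V := by
  obtain ⟨w, α, h, hw, rfl⟩ := H.exists_eq_eSU hF hA
  rw [H.psi_eSU hF h hw]
  exact H.mem_V.2 ⟨h.orth, hw⟩

theorem HPair.psi_mul (H : HPair n F q) (hF : Fintype.card F = q ^ 2) {A B : SU n F q}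
    (hA : A ∈ unip n F q H.e) (hB : B ∈ unip n F q H.e) :
    H.psi (A * B) = H.psi A + H.psi B := by
  obtain ⟨w, α, h, hw, rfl⟩ := H.exists_eq_eSU hF hA
  obtain ⟨w', α', h', hw', rfl⟩ := H.exists_eq_eSU hF hB
  rw [eSU_mul hF h h' (eSpec_add hF h h'), H.psi_eSU hF _ (by rw [herm_add_left, hw, hw', add_zero]),
    H.psi_eSU hF h hw, H.psi_eSU hF h' hw']

theorem HPair.exists_psi (H : HPair n F q) (hF : Fintype.card F = q ^ 2) {w : Fin n → F}
    (hw : w ∈ H.V) : ∃ A ∈ unip n F q H.e, H.psi A = w := by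
  obtain ⟨hwe, hwf⟩ := H.mem_V.1 hw
  obtain ⟨α, h⟩ := exists_alpha hF H.he hwe
  exact ⟨eSU hF h, eSU_mem_unip hF h, H.psi_eSU hF h hwf⟩

/-- Two elements of the radical commute iff the imaginary part of the product of parameters is zero. -/
theorem HPair.commute_iff (H : HPair n F q) (hF : Fintype.card F = q ^ 2) {A B : SU n F q}
    (hA : A ∈ unip n F q H.e) (hB : B ∈ unip n F q H.e) :
    Commute A B ↔ hermForm n F q (H.psi A) (H.psi B) = hermForm n F q (H.psi B) (H.psi A) := by
  obtain ⟨w, α, h, hw, rfl⟩ := H.exists_eq_eSU hF hA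
  obtain ⟨w', α', h', hw', rfl⟩ := H.exists_eq_eSU hF hB
  rw [H.psi_eSU hF h hw, H.psi_eSU hF h' hw']
  constructor
  · intro hc
    have h1 := congrArg H.theta hc.eq
    rw [eSU_mul hF h h' (eSpec_add hF h h'), eSU_mul hF h' h (eSpec_add hF h' h),
      H.theta_eSU hF _ (by rw [herm_add_left, hw, hw', add_zero]),
      H.theta_eSU hF _ (by rw [herm_add_left, hw, hw', add_zero])] at h1
    linear_combination h1
  · intro hc
    show eSU hF h * eSU hF h' = eSU hF h' * eSU hF h
    rw [eSU_mul hF h h' (eSpec_add hF h h'), eSU_mul hF h' h (eSpec_add hF h' h)]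
    refine Unitary.ap_ext fun x => ?_
    simp only [ap_eSU, add_comm w' w, hc, add_comm α' α]

/-- The root group of `⟨u⟩` consists of the transvections of axis `u`. -/
theorem mem_rootSub_iff (hF : Fintype.card F = q ^ 2) {u : Fin n → F} (hu0 : u ≠ 0)
    (hu : hermForm n F q u u = 0) {A : SU n F q} :
    A ∈ rootSub (isoPt hu0 hu) ↔ ∃ (c : F) (hc : c + c ^ q = 0), A = tv hF hu hc := by
  constructor
  · intro hA
    obtain ⟨H, rfl⟩ := exists_hpair_with hF hu0 hu
    have hu' : A ∈ unip n F q H.e := by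
      refine ⟨hA.2 _ (subset_perp_self hF _ (Submodule.mem_span_singleton_self _)), fun w hw => ⟨0, ?_⟩⟩
      rw [zero_smul, add_zero]
      exact hA.2 w fun s hs => by
        obtain ⟨a, rfl⟩ := Submodule.mem_span_singleton.1 hs
        rw [herm_smul_right, hw, mul_zero]
    obtain ⟨w, α, h, hw, rfl⟩ := H.exists_eq_eSU hF hu'
    obtain ⟨a, ha⟩ := Submodule.mem_span_singleton.1 (hA.1 H.f)
    rw [H.ap_eSU_f hF h hw] at ha
    have hwa : w = (a - α) • H.e := by linear_combination (norm := module) -ha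
    have hw0 : w = 0 := by
      have h2 := hw
      rw [hwa, herm_smul_left, H.hef hF, mul_one] at h2
      rw [hwa, h2, zero_smul]
    subst hw0
    have hc : α + α ^ q = 0 := by simpa [herm_zero_left] using h.tr
    exact ⟨α, hc, rfl⟩
  · rintro ⟨c, hc, rfl⟩
    refine ⟨fun x => ?_, fun x hx => ?_⟩
    · rw [ap_tv, add_sub_cancel_left]
      exact Submodule.smul_mem _ _ (Submodule.mem_span_singleton_self u)
    · rw [ap_tv, hx u (Submodule.mem_span_singleton_self u), mul_zero, zero_smul, add_zero]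

theorem rootSub_le_unip (hF : Fintype.card F = q ^ 2) {u : Fin n → F} (hu0 : u ≠ 0)
    (hu : hermForm n F q u u = 0) : rootSub (isoPt hu0 hu) ≤ unip n F q u := by
  intro A hA
  obtain ⟨c, hc, rfl⟩ := (mem_rootSub_iff hF hu0 hu).1 hA
  exact eSU_mem_unip hF _

theorem HPair.mem_rootSub_iff_psi (H : HPair n F q) (hF : Fintype.card F = q ^ 2) {A : SU n F q}
    (hA : A ∈ unip n F q H.e) : A ∈ rootSub (isoPt (H.e_ne hF) H.he) ↔ H.psi A = 0 := by
  constructor
  · intro h
    obtain ⟨c, hc, rfl⟩ := (mem_rootSub_iff hF (H.e_ne hF) H.he).1 h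
    exact H.psi_eSU hF (eSpec_tv hF H.he hc) (herm_zero_left _)
  · intro h
    obtain ⟨w, α, hs, hw, rfl⟩ := H.exists_eq_eSU hF hA
    rw [H.psi_eSU hF hs hw] at h
    subst h
    have hc : α + α ^ q = 0 := by simpa [herm_zero_left] using hs.tr
    exact (mem_rootSub_iff hF (H.e_ne hF) H.he).2 ⟨α, hc, rfl⟩

theorem tv_add (hF : Fintype.card F = q ^ 2) {v : Fin n → F} {c d : F}
    (hv : hermForm n F q v v = 0) (hc : c + c ^ q = 0) (hd : d + d ^ q = 0)
    (hcd : (c + d) + (c + d) ^ q = 0) : tv hF hv hc * tv hF hv hd = tv hF hv hcd := by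
  refine ap_ext fun x => ?_
  simp only [ap_mul, ap_tv, herm_add_left, herm_smul_left, hv]
  module

theorem tv_congr (hF : Fintype.card F = q ^ 2) {v : Fin n → F} {c d : F}
    (hv : hermForm n F q v v = 0) (hc : c + c ^ q = 0) (hd : d + d ^ q = 0) (h : c = d) :
    tv hF hv hc = tv hF hv hd := by
  subst h; rfl

end Cfsg.Agent.Unitary
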