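import Mathlib
import Cfsg.Agent.Unitary.AutUnip

/-!
# Root groups of `PSU` are permuted by every automorphism
-/

set_option autoImplicit false
set_option linter.unusedSectionVars false

namespace Cfsg.Agent.Unitary

open Cfsg Matrix

variable {F : Type*} [Field F] {n q : ℕ}

/-- The projection onto `PSU`. -/
def toPSU : SU n F q →* PSU n F q := QuotientGroup.mk' (Subgroup.center (SU n F q))

theorem toPSU_surjective : Function.Surjective (toPSU : SU n F q → PSU n F q) :=
  QuotientGroup.mk'_surjective _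

theorem ker_toPSU : (toPSU : SU n F q →* PSU n F q).ker = Subgroup.center (SU n F q) :=
  QuotientGroup.ker_mk' _

/-- The image of a root group. -/
def proot (L : IsoPoint n F q) : Subgroup (PSU n F q) := (rootSub L).map toPSU

/-- The image of the stabiliser of an isotropic point. -/
def pstab (L : IsoPoint n F q) : Subgroup (PSU n F q) :=
  (MulAction.stabilizer (SU n F q) L).map toPSU

/-- Centre of a subgroup as a subgroup. -/
def zc {G : Type*} [Group G] (P : Subgroup G) : Subgroup G := P ⊓ Subgroup.centralizer (P : Set G)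

theorem mem_zc {G : Type*} [Group G] {P : Subgroup G} {x : G} :
    x ∈ zc P ↔ x ∈ P ∧ ∀ y ∈ P, y * x = x * y := by
  simp only [zc, Subgroup.mem_inf, Subgroup.mem_centralizer_iff, SetLike.mem_coe]

theorem map_zc_equiv {G G' : Type*} [Group G] [Group G'] (P : Subgroup G) (φ : G ≃* G') :
    (zc P).map φ.toMonoidHom = zc (P.map φ.toMonoidHom) := by
  ext x
  simp only [Subgroup.mem_map_equiv, mem_zc]
  refine and_congr_right fun _ => ⟨fun h y hy => ?_, fun h y hy => ?_⟩
  · exact φ.symm.injective (by simpa using h (φ.symm y) (by simpa [Subgroup.mem_map_equiv] using hy))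
  · exact φ.injective (by simpa using h (φ y) (by simpa [Subgroup.mem_map_equiv] using hy))

variable [Fintype F]

theorem eq_one_of_center_of_fix (hF : Fintype.card F = q ^ 2) (hn : 2 ≤ n) {A : SU n F q}
    (hA : A ∈ Subgroup.center (SU n F q)) {u : Fin n → F} (hu : u ≠ 0) (h : ap A u = u) : A = 1 := by
  obtain ⟨l, hl⟩ := eq_smul_of_mem_center hF hn hA
  have h1 : l = 1 := by
    have h2 : (l - 1) • u = 0 := by rw [sub_smul, one_smul, ← hl, h, sub_self]
    exact sub_eq_zero.1 ((smul_eq_zero.1 h2).resolve_right hu)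
  exact ap_ext fun x => by rw [hl, h1, one_smul, ap_one]

/-- `toPSU` is injective on elements fixing a non-zero vector. -/
theorem toPSU_inj_of_fix (hF : Fintype.card F = q ^ 2) (hn : 2 ≤ n) {A B : SU n F q}
    {u : Fin n → F} (hu : u ≠ 0) (hA : ap A u = u) (hB : ap B u = u) (h : toPSU A = toPSU B) :
    A = B := by
  have h1 : A * B⁻¹ ∈ Subgroup.center (SU n F q) := by
    rw [← ker_toPSU, MonoidHom.mem_ker, map_mul, map_inv, h, mul_inv_cancel]
  have h2 : ap B⁻¹ u = u := by
    nth_rw 1 [← hB]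
    exact ap_inv_ap B u
  exact mul_inv_eq_one.1 (eq_one_of_center_of_fix hF hn h1 hu (by rw [ap_mul, h2, hA]))

/-- The point is determined by its root group. -/
theorem proot_injective (hF : Fintype.card F = q ^ 2) (hn : 3 ≤ n) :
    Function.Injective (proot : IsoPoint n F q → Subgroup (PSU n F q)) := by
  intro L M h
  obtain ⟨u, hu0, hu, rfl⟩ := exists_isoPt L
  obtain ⟨v, hv0, hv, rfl⟩ := exists_isoPt M
  obtain ⟨δ, hδ0, hδ⟩ := exists_skew hF
  have hδt : δ + δ ^ q = 0 := by rw [hδ, add_neg_cancel]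
  have h1 : toPSU (tv hF hu hδt) ∈ proot (isoPt hv0 hv) := by
    rw [← h]
    exact Subgroup.mem_map_of_mem _ ((mem_rootSub_iff hF hu0 hu).2 ⟨δ, hδt, rfl⟩)
  obtain ⟨B, hB, hAB⟩ := Subgroup.mem_map.1 h1
  obtain ⟨c, hc, rfl⟩ := (mem_rootSub_iff hF hv0 hv).1 hB
  obtain ⟨z, hzu, hzv, hz0⟩ : ∃ z, hermForm n F q z u = 0 ∧ hermForm n F q z v = 0 ∧ z ≠ 0 := by
    have hne : (LinearMap.ker ((hermL n q u).prod (hermL n q v))) ≠ ⊥ := by
      refine LinearMap.ker_ne_bot_of_finrank_lt ?_
      rw [Module.finrank_prod, Module.finrank_self, Module.finrank_fin_fun]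
      omega
    obtain ⟨z, hz, hz0⟩ := Submodule.exists_mem_ne_zero_of_ne_bot hne
    exact ⟨z, congrArg Prod.fst hz, congrArg Prod.snd hz, hz0⟩
  have hAB' : tv hF hv hc = tv hF hu hδt :=
    toPSU_inj_of_fix hF (by omega) hz0 (by simp [ap_tv, hzv]) (by simp [ap_tv, hzu]) hAB
  obtain ⟨H, rfl⟩ := exists_hpair_with hF hu0 hu
  have h2 := congrArg (fun A => ap A H.f) hAB'
  simp only [ap_tv, H.hfe, mul_one, add_right_inj] at h2
  apply Subtype.ext
  show Submodule.span F {H.e} = Submodule.span F {v}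
  have h3 : H.e = (δ⁻¹ * (c * hermForm n F q H.f v)) • v := by
    rw [← smul_smul δ⁻¹, h2, smul_smul, inv_mul_cancel₀ hδ0, one_smul]
  rw [h3, Submodule.span_singleton_smul_eq]
  refine Ne.isUnit fun h4 => H.e_ne hF ?_
  rw [h3, h4, zero_smul]

theorem map_conj_rootSub (g : SU n F q) (L : IsoPoint n F q) :
    (rootSub L).map (MulAut.conj g).toMonoidHom = rootSub (g • L) := by
  ext A
  rw [Subgroup.mem_map_equiv]
  constructor
  · intro h
    have := conj_mem_rootSub h g
    simpa [MulAut.conj_symm_apply, mul_assoc] using this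
  · intro h
    have := conj_mem_rootSub h g⁻¹
    simpa [MulAut.conj_symm_apply, inv_smul_smul] using this

theorem map_conj_proot (g : SU n F q) (L : IsoPoint n F q) :
    (proot L).map (MulAut.conj (toPSU g)).toMonoidHom = proot (g • L) := by
  rw [proot, proot, ← map_conj_rootSub, Subgroup.map_map, Subgroup.map_map]
  congr 1

/-- A non-trivial `p`-group of `SU` fixes a non-zero isotropic vector. -/
theorem exists_iso_fixed (hF : Fintype.card F = q ^ 2) {p : ℕ} [Fact p.Prime] [CharP F p]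
    {U : Subgroup (SU n F q)} (hU : IsPGroup p U) (hne : U ≠ ⊥) :
    ∃ u : Fin n → F, u ≠ 0 ∧ hermForm n F q u u = 0 ∧ ∀ A ∈ U, ap A u = u := by
  classical
  let W : Submodule F (Fin n → F) :=
    { carrier := {x | ∀ A ∈ U, ap A x = x}
      add_mem' := fun hx hy A hA => by rw [ap_add, hx A hA, hy A hA]
      zero_mem' := fun A _ => ap_zero A
      smul_mem' := fun a x hx A hA => by rw [ap_smul, hx A hA] }
  have key : ∀ S : Submodule F (Fin n → F), S ≠ ⊥ → (∀ A ∈ U, ∀ x ∈ S, ap A x ∈ S) →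
      ∃ x ∈ S, x ≠ 0 ∧ x ∈ W := by
    intro S hS hinv
    let act : MulAction U S :=
      { smul := fun A x => ⟨ap (A : SU n F q) x.1, hinv A A.2 x.1 x.2⟩
        one_smul := fun x => Subtype.ext (ap_one _)
        mul_smul := fun A B x => Subtype.ext (ap_mul _ _ _) }
    have hp : p ∣ Nat.card S := by
      obtain ⟨x, hx, hx0⟩ := Submodule.exists_mem_ne_zero_of_ne_bot hS
      have h1 : addOrderOf (⟨x, hx⟩ : S) = p := by
        refine addOrderOf_eq_prime ?_ fun h => hx0 (congrArg Subtype.val h)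
        rw [← Nat.cast_smul_eq_nsmul F, CharP.cast_eq_zero, zero_smul]
      have := addOrderOf_dvd_natCard (⟨x, hx⟩ : S)
      rwa [h1] at this
    obtain ⟨b, hb, hb0⟩ := hU.exists_fixed_point_of_prime_dvd_card_of_fixed_point S hp
      (a := (0 : S)) (fun A => Subtype.ext (ap_zero _))
    exact ⟨b.1, b.2, fun h => hb0 (Subtype.ext h).symm, fun A hA => congrArg Subtype.val (hb ⟨A, hA⟩)⟩
  by_cases hW : Nondeg q W
  · exfalso
    obtain ⟨⟨A, hA⟩, hA1'⟩ := Subgroup.ne_bot_iff_exists_ne_one.1 hne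
    have hA1 : A ≠ 1 := fun e => hA1' (Subtype.ext e)
    have hperp : perp q (W : Set (Fin n → F)) ≠ ⊥ := by
      intro h
      apply hA1
      refine ap_ext fun x => ?_
      have hx : x ∈ W ⊔ perp q (W : Set (Fin n → F)) := by
        rw [(isCompl_perp hF hW).sup_eq_top]; trivial
      rw [h, sup_bot_eq] at hx
      rw [hx A hA, ap_one]
    obtain ⟨x, hx, hx0, hxW⟩ := key _ hperp (fun B hB x hx s hs => by
      rw [← hs B hB, herm_ap]; exact hx s hs)
    exact hx0 (hW x hxW fun s hs => hx s hs)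
  · simp only [Nondeg, not_forall, exists_prop] at hW
    obtain ⟨u, huW, hu, hu0⟩ := hW
    exact ⟨u, hu0, hu u huW, huW⟩

theorem isPGroup_unip (hF : Fintype.card F = q ^ 2) (hn : 0 < n) {p : ℕ} [Fact p.Prime] [CharP F p]
    (H : HPair n F q) : IsPGroup p (unip n F q H.e) := by
  intro A
  refine ⟨2, Subtype.ext (Subtype.ext (Subtype.ext ?_))⟩
  let N : Matrix (Fin n) (Fin n) F := mat (A : SU n F q) - 1
  have hN : N ^ 3 = 0 := by
    refine Matrix.ext_iff_mulVec.2 fun x => ?_
    rw [pow_succ, pow_succ, pow_one, zero_mulVec, ← mulVec_mulVec, ← mulVec_mulVec]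
    have hd : ∀ y, N *ᵥ y = ap (A : SU n F q) y - y := fun y => by
      simp [N, sub_mulVec, ap_def]
    have h1 : hermForm n F q (N *ᵥ x) H.e = 0 := by
      rw [hd, herm_sub_left, sub_eq_zero]
      have h := herm_ap (A : SU n F q) x H.e
      rwa [A.2.1] at h
    obtain ⟨a, ha⟩ := A.2.2 _ h1
    rw [hd (N *ᵥ x), ha, add_sub_cancel_left, hd, ap_smul, A.2.1, sub_self]
  have : Nonempty (Fin n) := ⟨⟨0, hn⟩⟩
  have hp2 : 3 ≤ p ^ 2 := by
    have := (Fact.out : p.Prime).two_le
    nlinarith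
  have h2 : N ^ p ^ 2 = 0 := pow_eq_zero_of_le hp2 hN
  show mat ((A : SU n F q) ^ p ^ 2) = 1
  have h3 : mat ((A : SU n F q) ^ p ^ 2) = mat (A : SU n F q) ^ p ^ 2 := by
    simp [mat]
  rw [h3]
  have h4 := sub_pow_char_pow_of_commute (p := p) (n := 2) (Commute.one_right (mat (A : SU n F q)))
  rw [one_pow] at h4
  rw [← sub_eq_zero, ← h4, h2]

theorem fixer_le_normalizer_unip (u : Fin n → F) :
    fixer n F q {u} ≤ Subgroup.normalizer (unip n F q u : Set (SU n F q)) := by
  have key : ∀ B ∈ fixer n F q {u}, ∀ A ∈ unip n F q u, B * A * B⁻¹ ∈ unip n F q u := by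
    intro B hB A hA
    have hBu : ap B u = u := hB u rfl
    have hBi : ap B⁻¹ u = u := (inv_mem hB) u rfl
    refine ⟨by rw [ap_mul, ap_mul, hBi, hA.1, hBu], fun w hw => ?_⟩
    have h1 : hermForm n F q (ap B⁻¹ w) u = 0 := by rw [← hBi, herm_ap, hw]
    obtain ⟨a, ha⟩ := hA.2 _ h1
    exact ⟨a, by rw [ap_mul, ap_mul, ha, ap_add, ap_smul, ap_ap_inv, hBu]⟩
  intro B hB
  rw [Subgroup.mem_normalizer_iff]
  refine fun A => ⟨fun hA => key B hB A hA, fun hA => ?_⟩
  have := key B⁻¹ (inv_mem hB) _ hA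
  simpa [mul_assoc] using this

/-- Every root group is the centre of a Sylow `p`-subgroup, and every such centre is a root group. -/
theorem exists_sylow_zc (hF : Fintype.card F = q ^ 2) (hn : 3 ≤ n) {p : ℕ} [Fact p.Prime] [CharP F p] :
    ∃ (L : IsoPoint n F q) (U : Sylow p (SU n F q)), zc (U : Subgroup (SU n F q)) = rootSub L := by
  obtain ⟨H₀⟩ := exists_hpair (n := n) hF (by omega)
  obtain ⟨δ, hδ0, hδ⟩ := exists_skew hF
  have hδt : δ + δ ^ q = 0 := by rw [hδ, add_neg_cancel]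
  obtain ⟨U, hU⟩ := (isPGroup_unip hF (by omega) (p := p) H₀).exists_le_sylow
  have hne : (U : Subgroup (SU n F q)) ≠ ⊥ := by
    intro h
    have h1 : tv hF H₀.he hδt ∈ (⊥ : Subgroup (SU n F q)) := h ▸ hU (eSU_mem_unip hF _)
    have h2 := congrArg (fun A => ap A H₀.f) (Subgroup.mem_bot.1 h1)
    simp only [ap_tv, H₀.hfe, mul_one, ap_one, add_eq_left, smul_eq_zero] at h2
    exact h2.elim hδ0 (H₀.e_ne hF)
  obtain ⟨u, hu0, hu, hfix⟩ := exists_iso_fixed hF U.isPGroup' hne
  obtain ⟨H, rfl⟩ := exists_hpair_with hF hu0 hu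
  have hUfix : (U : Subgroup (SU n F q)) ≤ fixer n F q {H.e} := fun A hA s hs => by
    rw [Set.mem_singleton_iff.1 hs]; exact hfix A hA
  have hQ : unip n F q H.e ≤ U := by
    have h1 := U.isPGroup'.to_sup_of_normal_right' (isPGroup_unip hF (by omega) H)
      (hUfix.trans (fixer_le_normalizer_unip H.e))
    rw [← U.is_maximal' h1 le_sup_left]
    exact le_sup_right
  refine ⟨isoPt hu0 hu, U, le_antisymm (fun z hz => ?_) (fun z hz => ?_)⟩
  · obtain ⟨hzU, hzc⟩ := mem_zc.1 hz
    have hze : ap z H.e = H.e := hfix z hzU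
    have hzinv : ap z⁻¹ H.e = H.e := hfix _ (inv_mem hzU)
    have hzQ : z ∈ unip n F q H.e := by
      refine ⟨hze, fun w hw => ?_⟩
      obtain ⟨α, h⟩ := exists_alpha hF H.he hw
      have h1 : ap z (ap (eSU hF h) H.f) = ap (eSU hF h) (ap z H.f) := by
        rw [← ap_mul, ← ap_mul, ← hzc _ (hQ (eSU_mem_unip hF h))]
      have h2 : hermForm n F q (ap z H.f) H.e = 1 := by
        conv_lhs => rw [← hze]
        rw [herm_ap, H.hfe]
      rw [ap_eSU, ap_eSU, H.hfe, h2] at h1
      simp only [ap_add, ap_sub, ap_smul, one_smul, hze, mul_one] at h1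
      exact ⟨hermForm n F q H.f w - hermForm n F q (ap z H.f) w, by
        linear_combination (norm := module) h1⟩
    rw [H.mem_rootSub_iff_psi hF hzQ]
    have hall : ∀ w ∈ H.V, hermForm n F q (H.psi z) w = hermForm n F q w (H.psi z) := by
      intro w hw
      obtain ⟨A, hA, hAw⟩ := H.exists_psi hF hw
      rw [← hAw]
      exact (H.commute_iff hF hzQ hA).1 (hzc A (hQ hA)).symm
    obtain ⟨hpe, hpf⟩ := H.mem_V.1 (H.psi_mem hF hzQ)
    have hzero : ∀ w ∈ H.V, hermForm n F q (H.psi z) w = 0 := by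
      intro w hw
      obtain ⟨μ, hμ⟩ : ∃ μ : F, μ ^ q ≠ μ := by
        obtain ⟨x, hx⟩ := exists_trace_ne_zero hF
        obtain ⟨c, hc0, hc⟩ := exists_skew hF
        by_contra hcon
        push Not at hcon
        apply hx
        have h1 := hcon c
        rw [hc] at h1
        have h2 : (1 : F) + 1 = 0 := by
          have : c * (1 + 1) = 0 := by linear_combination -h1
          exact (mul_eq_zero.1 this).resolve_left hc0
        rw [hcon x]
        linear_combination x * h2
      have h1 := hall _ (H.V.smul_mem μ hw)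
      rw [herm_smul_right, herm_smul_left, ← hall w hw] at h1
      have : (μ ^ q - μ) * hermForm n F q (H.psi z) w = 0 := by linear_combination h1
      exact (mul_eq_zero.1 this).resolve_left (sub_ne_zero.2 hμ)
    refine eq_zero_of_forall_right hF fun x => ?_
    rw [H.decomp x, herm_add_right hF, herm_add_right hF, herm_smul_right, herm_smul_right, hpe, hpf,
      hzero _ (H.proj_mem hF x), mul_zero, mul_zero, add_zero, add_zero]
  · have hzQ := rootSub_le_unip hF hu0 hu hz
    refine mem_zc.2 ⟨hQ hzQ, fun B hB => ?_⟩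
    obtain ⟨c, hc, rfl⟩ := (mem_rootSub_iff hF hu0 hu).1 hz
    refine ap_ext fun x => ?_
    have hBe := hfix B hB
    rw [ap_mul, ap_mul, ap_tv, ap_tv, ap_add, ap_smul, hBe]
    congr 3
    conv_rhs => rw [← hBe]
    exact (herm_ap B x H.e).symm

theorem coprime_center (hF : Fintype.card F = q ^ 2) (hn : 2 ≤ n) {p : ℕ} [Fact p.Prime] [CharP F p] :
    Nat.Coprime (Nat.card (Subgroup.center (SU n F q))) p := by
  rw [card_center_SU hF hn, Nat.coprime_comm, (Fact.out : p.Prime).coprime_iff_not_dvd]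
  intro h
  obtain ⟨k, hk⟩ : p ∣ q + 1 := h.trans (Nat.gcd_dvd_right _ _)
  have h1 : (q : F) + 1 = 0 := by
    rw [← Nat.cast_one, ← Nat.cast_add, hk, Nat.cast_mul, CharP.cast_eq_zero, zero_mul]
  rw [natCast_q_eq_zero hF, zero_add] at h1
  exact one_ne_zero h1

theorem zc_map_toPSU (hF : Fintype.card F = q ^ 2) (hn : 2 ≤ n) {p : ℕ} [Fact p.Prime] [CharP F p]
    {U : Subgroup (SU n F q)} (hU : IsPGroup p U) : zc (U.map toPSU) = (zc U).map toPSU := by
  apply le_antisymm
  · intro x hx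
    obtain ⟨hxU, hxc⟩ := mem_zc.1 hx
    obtain ⟨a, ha, rfl⟩ := Subgroup.mem_map.1 hxU
    refine Subgroup.mem_map_of_mem _ (mem_zc.2 ⟨ha, fun b hb => ?_⟩)
    have h1 : b * a * b⁻¹ * a⁻¹ ∈ U :=
      mul_mem (mul_mem (mul_mem hb ha) (inv_mem hb)) (inv_mem ha)
    have h2 : b * a * b⁻¹ * a⁻¹ ∈ Subgroup.center (SU n F q) := by
      rw [← ker_toPSU, MonoidHom.mem_ker, map_mul, map_mul, map_mul, map_inv, map_inv,
        hxc _ (Subgroup.mem_map_of_mem _ hb)]
      group
    have : b * a * b⁻¹ * a⁻¹ = 1 := by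
      obtain ⟨k, hk⟩ := hU ⟨_, h1⟩
      have hk' : (b * a * b⁻¹ * a⁻¹) ^ p ^ k = 1 := congrArg Subtype.val hk
      have hd1 := orderOf_dvd_of_pow_eq_one hk'
      have hd2 := Subgroup.orderOf_dvd_natCard _ h2
      exact orderOf_eq_one_iff.1 (Nat.eq_one_of_dvd_coprimes ((coprime_center hF hn).pow_right k) hd2 hd1)
    exact mul_inv_eq_iff_eq_mul.1 (mul_inv_eq_one.1 this)
  · rintro _ ⟨a, ha, rfl⟩
    obtain ⟨haU, hac⟩ := mem_zc.1 ha
    refine mem_zc.2 ⟨Subgroup.mem_map_of_mem _ haU, ?_⟩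
    rintro _ ⟨b, hb, rfl⟩
    rw [← map_mul, hac b hb, map_mul]

/-- Every automorphism permutes the root groups. -/
theorem exists_map_proot (hF : Fintype.card F = q ^ 2) (hn : 3 ≤ n) (φ : MulAut (PSU n F q))
    (L : IsoPoint n F q) : ∃ M, (proot L).map φ.toMonoidHom = proot M := by
  classical
  obtain ⟨p, hp⟩ := CharP.exists F
  have : Fact p.Prime := ⟨CharP.char_is_prime F p⟩
  obtain ⟨L₀, U₀, hU₀⟩ := exists_sylow_zc (n := n) hF hn (p := p)
  obtain ⟨g, hg⟩ := exists_smul_isoPt hF hn L₀ L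
  -- the root group of `L` is the centre of a Sylow subgroup
  let P₀ : Sylow p (PSU n F q) := U₀.mapSurjective toPSU_surjective
  have hzc0 : proot L₀ = zc (P₀ : Subgroup (PSU n F q)) := by
    rw [proot, ← hU₀, ← zc_map_toPSU hF (by omega) U₀.isPGroup']
    rfl
  let ψ : MulAut (PSU n F q) := φ * MulAut.conj (toPSU g)
  let P₁ : Sylow p (PSU n F q) := P₀.mapSurjective (f := ψ.toMonoidHom) ψ.surjective
  obtain ⟨x, hx⟩ := MulAction.exists_smul_eq (PSU n F q) P₀ P₁
  obtain ⟨a, rfl⟩ := toPSU_surjective x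
  refine ⟨a • L₀, ?_⟩
  rw [← hg, ← map_conj_proot, ← map_conj_proot, hzc0, Subgroup.map_map]
  rw [show (φ : PSU n F q ≃* PSU n F q).toMonoidHom.comp (MulAut.conj (toPSU g)).toMonoidHom
      = ψ.toMonoidHom from rfl, map_zc_equiv, map_zc_equiv]
  congr 1
  have h2 := congrArg (fun P : Sylow p (PSU n F q) => (P : Subgroup (PSU n F q))) hx
  simp only [Sylow.coe_subgroup_smul] at h2
  rw [Subgroup.pointwise_smul_def] at h2
  exact h2.symm

/-- The stabiliser of a point is the normaliser of its root group. -/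
theorem mem_pstab_iff (hF : Fintype.card F = q ^ 2) (hn : 3 ≤ n) {L : IsoPoint n F q}
    {x : PSU n F q} : x ∈ pstab L ↔ (proot L).map (MulAut.conj x).toMonoidHom = proot L := by
  obtain ⟨a, rfl⟩ := toPSU_surjective x
  rw [map_conj_proot]
  constructor
  · rintro ⟨b, hb, hab⟩
    have h1 : b⁻¹ * a ∈ Subgroup.center (SU n F q) := by
      rw [← ker_toPSU, MonoidHom.mem_ker, map_mul, map_inv, hab, inv_mul_cancel]
    have h2 : (b⁻¹ * a) • L = L := by
      obtain ⟨u, hu0, hu, rfl⟩ := exists_isoPt L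
      obtain ⟨l, hl⟩ := eq_smul_of_mem_center hF (by omega) h1
      have hl0 : l ≠ 0 := by
        rintro rfl
        exact hu0 (ap_injective _ ((hl u).trans ((zero_smul F u).trans (ap_zero _).symm)))
      exact smul_isoPt_eq hu0 hu hu0 hu hl0 (hl u)
    have h3 := congrArg (b • ·) h2
    simp only [← mul_smul, mul_inv_cancel_left] at h3
    rw [h3, MulAction.mem_stabilizer_iff.1 hb]
  · intro h
    exact Subgroup.mem_map_of_mem _ (MulAction.mem_stabilizer_iff.2 (proot_injective hF hn h))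

theorem map_pstab (hF : Fintype.card F = q ^ 2) (hn : 3 ≤ n) (φ : MulAut (PSU n F q))
    {L M : IsoPoint n F q} (h : (proot L).map φ.toMonoidHom = proot M) :
    (pstab L).map φ.toMonoidHom = pstab M := by
  ext x
  rw [Subgroup.mem_map_equiv, mem_pstab_iff hF hn, mem_pstab_iff hF hn, ← h, Subgroup.map_map]
  rw [← (Subgroup.map_injective (f := φ.toMonoidHom) φ.injective).eq_iff (a := Subgroup.map _ (proot L)), Subgroup.map_map]
  have : (MulEquiv.toMonoidHom φ).comp (MulAut.conj (φ.symm x)).toMonoidHom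
      = (MulAut.conj x).toMonoidHom.comp φ.toMonoidHom := by
    ext y
    simp
  rw [this]

end Cfsg.Agent.Unitary
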