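import Mathlib
import Cfsg.Prelude.Def_LieTypeDatum
import Cfsg.Agent.Unitary.AutRoot
import Cfsg.Agent.Unitary.Stab

/-!
# Semilinear automorphisms of `SU` and `PSU`
-/

set_option autoImplicit false
set_option linter.unusedSectionVars false

namespace Cfsg.Agent.Unitary

open Cfsg Matrix

variable {F : Type*} [Field F] [Fintype F] {n q : ℕ}

/-- A field automorphism applied to each coordinate. -/
def sig (σ : F ≃+* F) (x : Fin n → F) : Fin n → F := fun i => σ (x i)

theorem sig_add (σ : F ≃+* F) (x y : Fin n → F) : sig σ (x + y) = sig σ x + sig σ y :=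
  funext fun i => map_add σ (x i) (y i)

theorem sig_smul (σ : F ≃+* F) (a : F) (x : Fin n → F) : sig σ (a • x) = σ a • sig σ x :=
  funext fun i => map_mul σ a (x i)

theorem sig_mulVec (σ : F ≃+* F) (M : Matrix (Fin n) (Fin n) F) (x : Fin n → F) :
    sig σ (M *ᵥ x) = M.map σ *ᵥ sig σ x :=
  funext fun i => RingHom.map_mulVec (σ : F →+* F) M x i

theorem herm_sig (σ : F ≃+* F) (x y : Fin n → F) :
    hermForm n F q (sig σ x) (sig σ y) = σ (hermForm n F q x y) := by
  simp only [hermForm, sig, map_sum, map_mul, map_pow]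

/-- The semilinear map `x ↦ g σ(x)`. -/
def semi (g : GU n F q) (σ : F ≃+* F) (x : Fin n → F) : Fin n → F := gap g (sig σ x)

theorem semi_add (g : GU n F q) (σ : F ≃+* F) (x y : Fin n → F) :
    semi g σ (x + y) = semi g σ x + semi g σ y := by rw [semi, sig_add, gap_add]; rfl

theorem semi_smul (g : GU n F q) (σ : F ≃+* F) (a : F) (x : Fin n → F) :
    semi g σ (a • x) = σ a • semi g σ x := by rw [semi, sig_smul, gap_smul]; rfl

theorem herm_semi (g : GU n F q) (σ : F ≃+* F) (x y : Fin n → F) :
    hermForm n F q (semi g σ x) (semi g σ y) = σ (hermForm n F q x y) := by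
  rw [semi, semi, herm_gap, herm_sig]

theorem semi_injective (g : GU n F q) (σ : F ≃+* F) : Function.Injective (semi g σ) :=
  (gap_injective g).comp fun _ _ h => funext fun i => σ.injective (congrFun h i)

theorem semi_surjective (g : GU n F q) (σ : F ≃+* F) : Function.Surjective (semi g σ) := fun y =>
  ⟨fun i => σ.symm (gap g⁻¹ y i), by
    rw [semi, show sig σ (fun i => σ.symm (gap g⁻¹ y i)) = gap g⁻¹ y from
      funext fun i => σ.apply_symm_apply _, gap_gap_inv]⟩

/-- The semilinear map of a composite. -/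
theorem semi_comp (g h : GU n F q) (σ τ : F ≃+* F) (k : GU n F q)
    (hk : gmat k = gmat g * (gmat h).map σ) (x : Fin n → F) :
    semi k (τ.trans σ) x = semi g σ (semi h τ x) := by
  show gmat k *ᵥ _ = gmat g *ᵥ sig σ (gmat h *ᵥ sig τ x)
  rw [sig_mulVec, mulVec_mulVec, hk]
  rfl

theorem preserves_map (σ : F ≃+* F) {M : Matrix (Fin n) (Fin n) F} (hM : Preserves q M) :
    Preserves q (M.map σ) := by
  intro x y
  obtain ⟨a, rfl⟩ : ∃ a, sig σ a = x := ⟨sig σ.symm x, funext fun i => σ.apply_symm_apply _⟩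
  obtain ⟨b, rfl⟩ : ∃ b, sig σ b = y := ⟨sig σ.symm y, funext fun i => σ.apply_symm_apply _⟩
  rw [← sig_mulVec, ← sig_mulVec, herm_sig, hM, herm_sig]

theorem mem_GU_gmat (g : GU n F q) : Preserves q (gmat g) := g.2

/-- Entrywise field automorphism on `GU`. -/
noncomputable def guMap (hF : Fintype.card F = q ^ 2) (σ : F ≃+* F) (g : GU n F q) : GU n F q :=
  toGU hF (preserves_map σ (mem_GU_gmat g))

theorem gmat_guMap (hF : Fintype.card F = q ^ 2) (σ : F ≃+* F) (g : GU n F q) :
    gmat (guMap hF σ g) = (gmat g).map σ := coe_toGU hF _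

theorem det_semi (g : GU n F q) (σ : F ≃+* F) (s : SU n F q) :
    (gmat g * (mat s).map σ * gmat g⁻¹).det = 1 := by
  have h1 : ((mat s).map σ).det = 1 := by
    rw [← RingEquiv.mapMatrix_apply, ← RingEquiv.map_det]
    exact (congrArg σ (s : Matrix.SpecialLinearGroup (Fin n) F).2).trans (map_one σ)
  rw [det_mul, det_mul, h1, mul_one, ← det_mul, ← Units.val_mul, ← Subgroup.coe_mul, mul_inv_cancel]
  exact det_one

theorem preserves_semi (g : GU n F q) (σ : F ≃+* F) (s : SU n F q) :
    Preserves q (gmat g * (mat s).map σ * gmat g⁻¹) := by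
  intro x y
  simp only [← mulVec_mulVec]
  exact ((mem_GU_gmat g _ _).trans (preserves_map σ (mem_SU_iff.1 s.2) _ _)).trans (mem_GU_gmat g⁻¹ _ _)

/-- The image of an element under a semilinear automorphism. -/
def semiFun (g : GU n F q) (σ : F ≃+* F) (s : SU n F q) : SU n F q :=
  toSU (preserves_semi g σ s) (det_semi g σ s)

theorem ap_semiFun (g : GU n F q) (σ : F ≃+* F) (s : SU n F q) (x : Fin n → F) :
    ap (semiFun g σ s) (semi g σ x) = semi g σ (ap s x) := by
  show (gmat g * (mat s).map σ * gmat g⁻¹) *ᵥ (gap g (sig σ x)) = gmat g *ᵥ sig σ (mat s *ᵥ x)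
  rw [← mulVec_mulVec, ← gap, gap_inv_gap, ← mulVec_mulVec, sig_mulVec]

/-- The semilinear automorphism of `SU`. -/
noncomputable def semiSU (g : GU n F q) (σ : F ≃+* F) : SU n F q ≃* SU n F q :=
  MulEquiv.ofBijective
    ({ toFun := semiFun g σ
       map_one' := ap_ext fun y => by
        obtain ⟨x, rfl⟩ := semi_surjective g σ y
        rw [ap_semiFun, ap_one, ap_one]
       map_mul' := fun s t => ap_ext fun y => by
        obtain ⟨x, rfl⟩ := semi_surjective g σ y
        rw [ap_mul, ap_semiFun, ap_semiFun, ap_semiFun, ap_mul] } : SU n F q →* SU n F q)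
    (by
      have hinj : Function.Injective (semiFun g σ : SU n F q → SU n F q) := fun s t h =>
        ap_ext fun x => semi_injective g σ (by rw [← ap_semiFun, ← ap_semiFun, h])
      exact (Finite.injective_iff_bijective).1 hinj)

theorem ap_semiSU (g : GU n F q) (σ : F ≃+* F) (s : SU n F q) (x : Fin n → F) :
    ap (semiSU g σ s) (semi g σ x) = semi g σ (ap s x) := ap_semiFun g σ s x

theorem center_map_semiSU (g : GU n F q) (σ : F ≃+* F) :
    (Subgroup.center (SU n F q)).map (semiSU g σ).toMonoidHom = Subgroup.center (SU n F q) := by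
  ext x
  rw [Subgroup.mem_map_equiv, Subgroup.mem_center_iff, Subgroup.mem_center_iff]
  exact ⟨fun h y => (semiSU g σ).symm.injective (by simpa using h ((semiSU g σ).symm y)),
    fun h y => (semiSU g σ).injective (by simpa using h (semiSU g σ y))⟩

/-- The semilinear automorphism of `PSU`. -/
noncomputable def semiAut (g : GU n F q) (σ : F ≃+* F) : MulAut (PSU n F q) :=
  QuotientGroup.congr _ _ (semiSU g σ) (center_map_semiSU g σ)

theorem semiAut_toPSU (g : GU n F q) (σ : F ≃+* F) (s : SU n F q) :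
    semiAut g σ (toPSU s) = toPSU (semiSU g σ s) := rfl

theorem semiAut_mul (hF : Fintype.card F = q ^ 2) (g h : GU n F q) (σ τ : F ≃+* F) :
    semiAut g σ * semiAut h τ = semiAut (g * guMap hF σ h) (τ.trans σ) := by
  refine MulEquiv.ext fun x => ?_
  obtain ⟨s, rfl⟩ := toPSU_surjective x
  show toPSU (semiSU g σ (semiSU h τ s)) = toPSU (semiSU _ _ s)
  refine congrArg toPSU (ap_ext fun y => ?_)
  obtain ⟨x, rfl⟩ := semi_surjective (g * guMap hF σ h) (τ.trans σ) y
  have hk : gmat (g * guMap hF σ h) = gmat g * (gmat h).map σ := by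
    rw [← gmat_guMap hF]; rfl
  rw [ap_semiSU, semi_comp g h σ τ _ hk, semi_comp g h σ τ _ hk, ap_semiSU, ap_semiSU]

theorem semi_one (x : Fin n → F) : semi (1 : GU n F q) (RingEquiv.refl F) x = x := gap_one x

theorem semiAut_one : semiAut (1 : GU n F q) (RingEquiv.refl F) = 1 := by
  refine MulEquiv.ext fun x => ?_
  obtain ⟨s, rfl⟩ := toPSU_surjective x
  refine congrArg toPSU (ap_ext fun y => ?_)
  have := ap_semiSU (1 : GU n F q) (RingEquiv.refl F) s y
  rwa [semi_one, semi_one] at this

/-- An element of `SU` as an element of `GU`. -/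
noncomputable def suGU (hF : Fintype.card F = q ^ 2) (a : SU n F q) : GU n F q := toGU hF (mem_SU_iff.1 a.2)

theorem gap_suGU (hF : Fintype.card F = q ^ 2) (a : SU n F q) (x : Fin n → F) :
    gap (suGU hF a) x = ap a x := by
  rw [suGU, gap, gmat, coe_toGU, ap_def]

theorem semiAut_suGU (hF : Fintype.card F = q ^ 2) (a : SU n F q) :
    semiAut (suGU hF a) (RingEquiv.refl F) = MulAut.conj (toPSU a) := by
  refine MulEquiv.ext fun x => ?_
  obtain ⟨s, rfl⟩ := toPSU_surjective x
  rw [MulAut.conj_apply, ← map_mul, ← map_inv, ← map_mul]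
  refine congrArg toPSU (ap_ext fun y => ?_)
  obtain ⟨z, rfl⟩ := semi_surjective (suGU hF a) (RingEquiv.refl F) y
  have hs : ∀ w : Fin n → F, semi (suGU hF a) (RingEquiv.refl F) w = ap a w := fun w => gap_suGU hF a w
  show ap (semiSU _ _ s) _ = _
  rw [ap_semiSU, hs, hs, ap_mul, ap_mul, ap_inv_ap]

theorem semiAut_scalar {g : GU n F q} {c : F} (hg : ∀ x, gap g x = c • x) :
    semiAut g (RingEquiv.refl F) = 1 := by
  refine MulEquiv.ext fun x => ?_
  obtain ⟨s, rfl⟩ := toPSU_surjective x
  refine congrArg toPSU (ap_ext fun y => ?_)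
  obtain ⟨z, rfl⟩ := semi_surjective g (RingEquiv.refl F) y
  have hs : ∀ w : Fin n → F, semi g (RingEquiv.refl F) w = c • w := fun w => hg w
  show ap (semiSU _ _ s) _ = _
  rw [ap_semiSU, hs, hs, ap_smul]

theorem semiSU_tv (hF : Fintype.card F = q ^ 2) (g : GU n F q) (σ : F ≃+* F) {u : Fin n → F} {c : F}
    (hu : hermForm n F q u u = 0) (hc : c + c ^ q = 0) :
    semiSU g σ (tv hF hu hc) = tv hF (v := semi g σ u) (c := σ c) (by rw [herm_semi, hu, map_zero])
      (by rw [← map_pow, ← map_add, hc, map_zero]) := by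
  refine ap_ext fun y => ?_
  obtain ⟨x, rfl⟩ := semi_surjective g σ y
  rw [ap_semiSU, ap_tv, ap_tv, semi_add, semi_smul, herm_semi, map_mul]

theorem semi_ne_zero (g : GU n F q) (σ : F ≃+* F) {u : Fin n → F} (hu : u ≠ 0) : semi g σ u ≠ 0 := by
  intro h
  apply hu
  apply semi_injective g σ
  rw [h, semi, show sig σ (0 : Fin n → F) = 0 from funext fun i => by simp [sig], gap_zero]

theorem map_semiAut_proot (hF : Fintype.card F = q ^ 2) (g : GU n F q) (σ : F ≃+* F)
    {u : Fin n → F} (hu0 : u ≠ 0) (hu : hermForm n F q u u = 0) :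
    (proot (isoPt hu0 hu)).map (semiAut g σ).toMonoidHom =
      proot (isoPt (semi_ne_zero g σ hu0) (by rw [herm_semi, hu, map_zero])) := by
  ext x
  simp only [proot, Subgroup.map_map, Subgroup.mem_map]
  constructor
  · rintro ⟨A, hA, rfl⟩
    obtain ⟨c, hc, rfl⟩ := (mem_rootSub_iff hF hu0 hu).1 hA
    refine ⟨semiSU g σ (tv hF hu hc), ?_, rfl⟩
    rw [semiSU_tv hF]
    exact (mem_rootSub_iff hF _ _).2 ⟨_, _, rfl⟩
  · rintro ⟨A, hA, rfl⟩
    obtain ⟨d, hd, rfl⟩ := (mem_rootSub_iff hF _ _).1 hA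
    have hd' : σ.symm d + σ.symm d ^ q = 0 := by rw [← map_pow, ← map_add, hd, map_zero]
    refine ⟨tv hF hu hd', (mem_rootSub_iff hF hu0 hu).2 ⟨_, hd', rfl⟩, ?_⟩
    show semiAut g σ (toPSU _) = _
    rw [semiAut_toPSU, semiSU_tv hF]
    exact congrArg toPSU (tv_congr hF _ _ _ (σ.apply_symm_apply d))

/-- An orthonormal basis of the orthogonal space of a hyperbolic pair. -/
theorem HPair.exists_ON (H : HPair n F q) (hF : Fintype.card F = q ^ 2) (hn : 3 ≤ n) :
    ∃ f : Fin (Module.finrank F H.V) → Fin n → F,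
      ON q f ∧ Submodule.span F (Set.range f) = H.V ∧ 0 < Module.finrank F H.V := by
  have hne : hermForm n F q H.e H.f ≠ 0 := by rw [H.hef hF]; exact one_ne_zero
  have hP := nondeg_pair hF H.he H.hf hne
  have hVn : Nondeg q H.V := by rw [HPair.V, ← perp_span hF]; exact nondeg_perp hF hP
  have hd := finrank_perp_add hF hP
  rw [finrank_pair (indep_pair hF H.he hne), perp_span hF] at hd
  obtain ⟨f, hf, hspan⟩ := exists_ON_basis hF H.V hVn
  refine ⟨f, hf, hspan, ?_⟩
  show 0 < Module.finrank F (perp q ({H.e, H.f} : Set (Fin n → F)))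
  omega

/-- The semilinear data of an automorphism are unique up to scalars. -/
theorem eq_of_semiAut_eq_one (hF : Fintype.card F = q ^ 2) (hn : 3 ≤ n) {g : GU n F q}
    {σ : F ≃+* F} (h : semiAut g σ = 1) :
    σ = RingEquiv.refl F ∧ ∃ c : F, ∀ x, gap g x = c • x := by
  have hline : ∀ u, u ≠ 0 → hermForm n F q u u = 0 → ∃ k : F, semi g σ u = k • u := by
    intro u hu0 hu
    have h1 := map_semiAut_proot hF g σ hu0 hu
    rw [h, show (proot (isoPt hu0 hu)).map (1 : MulAut (PSU n F q)).toMonoidHom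
      = proot (isoPt hu0 hu) from Subgroup.map_id _] at h1
    have h2 := congrArg Subtype.val (proot_injective hF hn h1)
    change Submodule.span F {u} = Submodule.span F {semi g σ u} at h2
    obtain ⟨k, hk⟩ := Submodule.mem_span_singleton.1
      (h2 ▸ Submodule.mem_span_singleton_self (semi g σ u) : semi g σ u ∈ Submodule.span F {u})
    exact ⟨k, hk.symm⟩
  obtain ⟨H⟩ := exists_hpair (n := n) hF (by omega)
  obtain ⟨c, hc⟩ := hline _ (H.e_ne hF) H.he
  obtain ⟨d, hd⟩ := hline _ H.f_ne H.hf
  have hc0 : c ≠ 0 := fun h => semi_ne_zero g σ (H.e_ne hF) (by rw [hc, h, zero_smul])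
  have hV0 : ∀ w, w ∈ H.V → hermForm n F q w w = 1 →
      ∀ α : F, α + α ^ q ≠ 0 →
        ∃ y : F, y ≠ 0 ∧ σ y • semi g σ w = (c * y) • w ∧ σ α * d = c * α := by
    intro w hw hw1
    obtain ⟨hwe, hwf⟩ := H.mem_V.1 hw
    have hw0 : w ≠ 0 := fun h => by rw [h, herm_zero_left] at hw1; exact zero_ne_one hw1
    -- isotropic vectors of the form `e + α f + y w`
    intro α hα
    obtain ⟨y, hy⟩ := exists_norm_eq hF (a := -(α + α ^ q))
      (by rw [neg_pow_q hF, trace_pow_q hF])
    have hy0 : y ≠ 0 := fun h => hα (by rw [h, zero_mul] at hy; linear_combination hy)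
    refine ⟨y, hy0, ?_⟩
    obtain ⟨u, hu⟩ : ∃ u, u = H.e + α • H.f + y • w := ⟨_, rfl⟩
    have hef := H.hef hF
    have hue : hermForm n F q u H.e = α := by
      simp [hu, herm_add_left, herm_smul_left, H.he, H.hfe, hwe]
    have huf : hermForm n F q u H.f = 1 := by
      simp [hu, herm_add_left, herm_smul_left, H.hf, hef, hwf]
    have huu : hermForm n F q u u = 0 := by
      have h1 : hermForm n F q u u = hermForm n F q u H.e + α ^ q * hermForm n F q u H.f
          + y ^ q * hermForm n F q u w := by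
        conv_lhs => arg 5; rw [hu]
        rw [herm_add_right hF, herm_add_right hF, herm_smul_right, herm_smul_right]
      have huw : hermForm n F q u w = y := by
        simp [hu, herm_add_left, herm_smul_left, (herm_eq_zero_symm hF).1 hwe,
          (herm_eq_zero_symm hF).1 hwf, hw1]
      rw [h1, hue, huf, huw]
      linear_combination hy
    have hu0 : u ≠ 0 := fun h => by rw [h, herm_zero_left] at huf; exact zero_ne_one huf
    obtain ⟨k, hk⟩ := hline u hu0 huu
    have hs : semi g σ u = c • H.e + (σ α * d) • H.f + σ y • semi g σ w := by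
      rw [hu, semi_add, semi_add, semi_smul, semi_smul, hc, hd, smul_smul]
    have hgwe : hermForm n F q (semi g σ w) H.e = 0 := by
      have h2 := herm_semi g σ w H.e
      rw [hwe, map_zero, hc, herm_smul_right] at h2
      exact (mul_eq_zero.1 h2).resolve_left ((pow_q_eq_zero_iff hF).not.2 hc0)
    have hgwf : hermForm n F q (semi g σ w) H.f = 0 := by
      have hd0 : d ≠ 0 := fun h => semi_ne_zero g σ H.f_ne (by rw [hd, h, zero_smul])
      have h2 := herm_semi g σ w H.f
      rw [hwf, map_zero, hd, herm_smul_right] at h2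
      exact (mul_eq_zero.1 h2).resolve_left ((pow_q_eq_zero_iff hF).not.2 hd0)
    have hck : c = k := by
      have h2 := congrArg (fun v => hermForm n F q v H.f) hk
      simpa [hs, herm_add_left, herm_smul_left, H.hf, hef, hgwf, huf] using h2
    have hdk : σ α * d = k * α := by
      have h2 := congrArg (fun v => hermForm n F q v H.e) hk
      simpa [hs, herm_add_left, herm_smul_left, H.he, H.hfe, hgwe, hue] using h2
    rw [← hck] at hdk hk
    refine ⟨?_, hdk⟩
    rw [hs, hu, hdk] at hk
    linear_combination (norm := module) hk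
  obtain ⟨f, hf, hspan, hk⟩ := H.exists_ON (n := n) hF hn
  have hfV : ∀ i, f i ∈ H.V := fun i => hspan ▸ Submodule.subset_span ⟨i, rfl⟩
  have hfn : ∀ i, hermForm n F q (f i) (f i) = 1 := fun i => by rw [hf, if_pos rfl]
  have hall : ∀ α : F, σ α * d = c * α := by
    intro α
    obtain ⟨α₀, hα₀⟩ := exists_trace_ne_zero hF
    have h1 : ∀ β : F, β + β ^ q ≠ 0 → σ β * d = c * β := fun β hβ => by
      obtain ⟨-, -, -, h⟩ := hV0 _ (hfV ⟨0, hk⟩) (hfn _) β hβ
      exact h
    by_cases hα : α + α ^ q = 0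
    · have h2 := h1 (α + α₀) (by
        rw [add_pow_q hF]; intro h; exact hα₀ (by linear_combination h - hα))
      have h3 := h1 α₀ hα₀
      rw [map_add] at h2
      linear_combination h2 - h3
    · exact h1 α hα
  have hdc : d = c := by simpa using hall 1
  have hσ : σ = RingEquiv.refl F := RingEquiv.ext fun α => by
    have := hall α
    rw [hdc, mul_comm] at this
    exact mul_left_cancel₀ hc0 this
  subst hσ
  have hs : ∀ x : Fin n → F, semi g (RingEquiv.refl F) x = gap g x := fun x => rfl
  have hgf : ∀ i, gap g (f i) = c • f i := by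
    intro i
    obtain ⟨α, hα⟩ := exists_trace_ne_zero hF
    obtain ⟨y, hy0, hy, -⟩ := hV0 _ (hfV i) (hfn i) α hα
    rw [hs, mul_comm, mul_smul] at hy
    exact smul_right_injective _ hy0 hy
  refine ⟨rfl, c, fun x => ?_⟩
  have hVx : ∀ w ∈ H.V, gap g w = c • w := by
    intro w hw
    rw [← hspan] at hw
    induction hw using Submodule.span_induction with
    | mem w hw => obtain ⟨i, rfl⟩ := hw; exact hgf i
    | zero => rw [gap_zero, smul_zero]
    | add x y _ _ hx hy => rw [gap_add, hx, hy, smul_add]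
    | smul a x _ hx => rw [gap_smul, hx, smul_comm]
  rw [hs] at hc hd
  rw [H.decomp x, gap_add, gap_add, gap_smul, gap_smul, hc, hd, hdc, hVx _ (H.proj_mem hF x),
    smul_comm, smul_comm (hermForm n F q x H.e), smul_add, smul_add]

end Cfsg.Agent.Unitary
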