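import Mathlib
import Cfsg.Agent.Unitary.AutSemi

/-!
# The Levi complement and its action on the radical
-/

set_option autoImplicit false
set_option linter.unusedSectionVars false

namespace Cfsg.Agent.Unitary

open Cfsg Matrix

variable {F : Type*} [Field F] [Fintype F] {n q : ℕ}

/-- The stabiliser of the two points of a hyperbolic pair, described on vectors. -/
def lev (H : HPair n F q) : Subgroup (SU n F q) where
  carrier := {A | (∃ t : F, ap A H.e = t • H.e) ∧ ∃ s : F, ap A H.f = s • H.f}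
  one_mem' := ⟨⟨1, by rw [ap_one, one_smul]⟩, ⟨1, by rw [ap_one, one_smul]⟩⟩
  mul_mem' := by
    rintro A B ⟨⟨t, ht⟩, s, hs⟩ ⟨⟨t', ht'⟩, s', hs'⟩
    exact ⟨⟨t' * t, by rw [ap_mul, ht', ap_smul, ht, smul_smul]⟩,
      ⟨s' * s, by rw [ap_mul, hs', ap_smul, hs, smul_smul]⟩⟩
  inv_mem' := by
    have key : ∀ (A : SU n F q) (v : Fin n → F) (t : F), ap A v = t • v → ∃ u : F, ap A⁻¹ v = u • v := by
      intro A v t ht
      by_cases h0 : t = 0
      · refine ⟨0, ?_⟩
        have h1 : v = 0 := ap_injective A (by rw [ht, h0, zero_smul, ap_zero])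
        rw [h1, ap_zero, smul_zero]
      · refine ⟨t⁻¹, ap_injective A ?_⟩
        rw [ap_ap_inv, ap_smul, ht, smul_smul, inv_mul_cancel₀ h0, one_smul]
    rintro A ⟨⟨t, ht⟩, s, hs⟩
    exact ⟨key A _ t ht, key A _ s hs⟩

/-- The character of the Levi complement on the first point. -/
def tc (H : HPair n F q) (A : SU n F q) : F := hermForm n F q (ap A H.e) H.f

/-- The action on the parameters of the radical. -/
def rho (H : HPair n F q) (A : SU n F q) (w : Fin n → F) : Fin n → F := tc H A ^ q • ap A w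

theorem lev_spec (hF : Fintype.card F = q ^ 2) {H : HPair n F q} {A : SU n F q} (hA : A ∈ lev H) :
    tc H A ≠ 0 ∧ ap A H.e = tc H A • H.e ∧ ap A H.f = (tc H A ^ q)⁻¹ • H.f ∧
      ∀ w ∈ H.V, ap A w ∈ H.V := by
  obtain ⟨⟨t, ht⟩, s, hs⟩ := hA
  have htc : tc H A = t := by rw [tc, ht, herm_smul_left, H.hef hF, mul_one]
  have hst : s * t ^ q = 1 := by
    have h := herm_ap A H.f H.e
    rwa [ht, hs, herm_smul_left, herm_smul_right, H.hfe, mul_one] at h
  have ht0 : t ^ q ≠ 0 := fun h => by rw [h, mul_zero] at hst; exact zero_ne_one hst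
  have hs0 : s ≠ 0 := fun h => by rw [h, zero_mul] at hst; exact zero_ne_one hst
  have ht00 : t ≠ 0 := fun h => ht0 (by rw [h, zero_pow (q_ne_zero hF)])
  refine ⟨htc ▸ ht00, htc ▸ ht, ?_, fun w hw => ?_⟩
  · rw [htc, hs, eq_inv_of_mul_eq_one_left hst]
  · obtain ⟨hwe, hwf⟩ := H.mem_V.1 hw
    refine H.mem_V.2 ⟨?_, ?_⟩
    · have h := herm_ap A w H.e
      rw [ht, herm_smul_right, hwe] at h
      exact (mul_eq_zero.1 h).resolve_left ht0
    · have h := herm_ap A w H.f
      rw [hs, herm_smul_right, hwf] at h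
      exact (mul_eq_zero.1 h).resolve_left ((pow_q_eq_zero_iff hF).not.2 hs0)

theorem rho_mem (hF : Fintype.card F = q ^ 2) {H : HPair n F q} {A : SU n F q} (hA : A ∈ lev H)
    {w : Fin n → F} (hw : w ∈ H.V) : rho H A w ∈ H.V :=
  H.V.smul_mem _ ((lev_spec hF hA).2.2.2 w hw)

theorem rho_mul (hF : Fintype.card F = q ^ 2) {H : HPair n F q} {A B : SU n F q} (hA : A ∈ lev H)
    (hB : B ∈ lev H) (w : Fin n → F) : rho H (A * B) w = rho H A (rho H B w) := by
  have h : tc H (A * B) = tc H B * tc H A := by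
    rw [tc, ap_mul, (lev_spec hF hB).2.1, ap_smul, herm_smul_left]; rfl
  rw [rho, rho, rho, h, ap_mul, ap_smul, smul_smul, mul_pow, mul_comm]

theorem rho_one (hF : Fintype.card F = q ^ 2) (H : HPair n F q) (w : Fin n → F) :
    rho H 1 w = w := by
  rw [rho, tc, ap_one, ap_one, H.hef hF, one_pow, one_smul]

/-- Conjugation by the stabiliser of the point preserves the radical. -/
theorem conj_mem_unip {u : Fin n → F} {A X : SU n F q} {t : F} (ht : ap A u = t • u) (ht0 : t ≠ 0)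
    (hX : X ∈ unip n F q u) : A * X * A⁻¹ ∈ unip n F q u := by
  have hAi : ap A⁻¹ u = t⁻¹ • u := by
    apply ap_injective A
    rw [ap_ap_inv, ap_smul, ht, smul_smul, inv_mul_cancel₀ ht0, one_smul]
  refine ⟨by rw [ap_mul, ap_mul, hAi, ap_smul, hX.1, ap_smul, ht, smul_smul, inv_mul_cancel₀ ht0,
    one_smul], fun w hw => ?_⟩
  have h1 : hermForm n F q (ap A⁻¹ w) u = 0 := by
    have h := herm_ap A⁻¹ w u
    rw [hAi, herm_smul_right, hw] at h
    exact (mul_eq_zero.1 h).resolve_left (pow_ne_zero _ (inv_ne_zero ht0))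
  obtain ⟨a, ha⟩ := hX.2 _ h1
  exact ⟨a * t, by rw [ap_mul, ap_mul, ha, ap_add, ap_smul, ap_ap_inv, ht, smul_smul]⟩

theorem psi_conj (hF : Fintype.card F = q ^ 2) {H : HPair n F q} {A X : SU n F q} (hA : A ∈ lev H)
    (hX : X ∈ unip n F q H.e) :
    A * X * A⁻¹ ∈ unip n F q H.e ∧ H.psi (A * X * A⁻¹) = rho H A (H.psi X) := by
  obtain ⟨ht0, hte, -, hV⟩ := lev_spec hF hA
  refine ⟨conj_mem_unip hte ht0 hX, ?_⟩
  obtain ⟨w, α, h, hw, rfl⟩ := H.exists_eq_eSU hF hX
  rw [H.psi_eSU hF h hw]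
  obtain ⟨hwe, hwf⟩ := H.mem_V.1 (rho_mem hF hA (H.mem_V.2 ⟨h.orth, hw⟩))
  have h' : ESpec q H.e (rho H A w) (tc H A * tc H A ^ q * α) := by
    refine ⟨H.he, hwe, ?_⟩
    rw [rho, herm_self_smul, herm_ap, pow_q_q hF, mul_pow, mul_pow, pow_q_q hF]
    linear_combination (tc H A * tc H A ^ q) * h.tr
  have e : A * eSU hF h * A⁻¹ = eSU hF h' := by
    rw [conj_eSU hF A h (eSpec_ap A h)]
    refine Unitary.ap_ext fun x => ?_
    simp only [ap_eSU, hte, rho, herm_smul_right, pow_q_q hF]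
    module
  rw [e, H.psi_eSU hF h' hwf]

/-- An element fixing the first point is a radical element times a Levi element. -/
theorem exists_unip_lev (hF : Fintype.card F = q ^ 2) {H : HPair n F q} {A : SU n F q} {t : F}
    (ht : ap A H.e = t • H.e) : ∃ X ∈ unip n F q H.e, X⁻¹ * A ∈ lev H := by
  have h1 : t ^ q * hermForm n F q (ap A H.f) H.e = 1 := by
    have h := herm_ap A H.f H.e
    rwa [ht, herm_smul_right, H.hfe] at h
  obtain ⟨f1, hf1⟩ : ∃ v, v = t ^ q • ap A H.f := ⟨_, rfl⟩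
  have hf1e : hermForm n F q f1 H.e = 1 := by rw [hf1, herm_smul_left, h1]
  have hf11 : hermForm n F q f1 f1 = 0 := by rw [hf1, herm_self_smul, herm_ap, H.hf, mul_zero]
  have hdec := H.decomp f1
  rw [hf1e, one_smul] at hdec
  have hp := H.mem_V.1 (H.proj_mem hF f1)
  have hs : ESpec q H.e (H.proj f1) (hermForm n F q f1 H.f) := by
    refine ⟨H.he, hp.1, ?_⟩
    have h2 := hf11
    rw [hdec] at h2
    simp only [herm_add_left, herm_add_right hF, herm_smul_left, herm_smul_right, H.he, H.hf, H.hfe,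
      H.hef hF, hp.1, hp.2, (herm_eq_zero_symm hF).1 hp.1, (herm_eq_zero_symm hF).1 hp.2] at h2
    linear_combination h2
  have hX : ap (eSU hF hs) H.f = f1 := by
    conv_rhs => rw [hdec]
    rw [H.ap_eSU_f hF hs hp.2]
    abel
  refine ⟨eSU hF hs, eSU_mem_unip hF hs, ⟨t, ?_⟩, (t ^ q)⁻¹, ?_⟩
  · rw [ap_mul, ht, ap_smul, (inv_mem (eSU_mem_unip hF hs)).1]
  · have ht0 : t ^ q ≠ 0 := fun h => by rw [h, zero_mul] at h1; exact zero_ne_one h1
    have h2 : ap A H.f = (t ^ q)⁻¹ • f1 := by rw [hf1, smul_smul, inv_mul_cancel₀ ht0, one_smul]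
    rw [ap_mul, h2, ap_smul]
    have h3 := congrArg (ap (eSU hF hs)⁻¹) hX
    rw [ap_inv_ap] at h3
    rw [← h3]

/-- The radical is transitive on the points opposite to the first one. -/
theorem exists_unip_opposite (hF : Fintype.card F = q ^ 2) (H : HPair n F q) {u : Fin n → F}
    (hu : hermForm n F q u u = 0) (hue : hermForm n F q u H.e ≠ 0) :
    ∃ X ∈ unip n F q H.e, ∃ l : F, l ≠ 0 ∧ ap X H.f = l • u := by
  obtain ⟨f1, hf1⟩ : ∃ v, v = (hermForm n F q u H.e)⁻¹ • u := ⟨_, rfl⟩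
  have hf1e : hermForm n F q f1 H.e = 1 := by rw [hf1, herm_smul_left, inv_mul_cancel₀ hue]
  have hf11 : hermForm n F q f1 f1 = 0 := by rw [hf1, herm_self_smul, hu, mul_zero]
  have hdec := H.decomp f1
  rw [hf1e, one_smul] at hdec
  have hp := H.mem_V.1 (H.proj_mem hF f1)
  have hs : ESpec q H.e (H.proj f1) (hermForm n F q f1 H.f) := by
    refine ⟨H.he, hp.1, ?_⟩
    have h2 := hf11
    rw [hdec] at h2
    simp only [herm_add_left, herm_add_right hF, herm_smul_left, herm_smul_right, H.he, H.hf, H.hfe,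
      H.hef hF, hp.1, hp.2, (herm_eq_zero_symm hF).1 hp.1, (herm_eq_zero_symm hF).1 hp.2] at h2
    linear_combination h2
  refine ⟨eSU hF hs, eSU_mem_unip hF hs, _, inv_ne_zero hue, ?_⟩
  rw [← hf1]
  conv_rhs => rw [hdec]
  rw [H.ap_eSU_f hF hs hp.2]
  abel

/-! ### Elements of the Levi complement -/

/-- Torus matrix. -/
def torM (q : ℕ) (H : HPair n F q) (t : F) : Matrix (Fin n) (Fin n) F :=
  1 + (t - 1) • vecMulVec H.e (cj q H.f) + ((t ^ q)⁻¹ - 1) • vecMulVec H.f (cj q H.e)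

theorem torM_mulVec (H : HPair n F q) (t : F) (x : Fin n → F) :
    torM q H t *ᵥ x = x + ((t - 1) * hermForm n F q x H.f) • H.e
      + (((t ^ q)⁻¹ - 1) * hermForm n F q x H.e) • H.f := by
  simp only [torM, add_mulVec, one_mulVec, smul_mulVec, vecMulVec_mulVec, op_smul_eq_smul, smul_smul,
    herm_eq_dot, dotProduct_comm (cj q H.f), dotProduct_comm (cj q H.e)]

theorem preserves_torM (hF : Fintype.card F = q ^ 2) (H : HPair n F q) {t : F} (ht : t ≠ 0) :
    Preserves q (torM q H t) := by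
  intro x y
  simp only [torM_mulVec, herm_add_left, herm_add_right hF, herm_smul_left, herm_smul_right, H.he,
    H.hf, H.hfe, H.hef hF, mul_pow, sub_pow_q hF, one_pow, inv_pow, pow_q_q hF]
  rw [← herm_swap hF y H.f, ← herm_swap hF y H.e]
  have h1 : (t ^ q)⁻¹ * t ^ q = 1 := inv_mul_cancel₀ (pow_ne_zero _ ht)
  have h2 : t⁻¹ * t = 1 := inv_mul_cancel₀ ht
  linear_combination (hermForm n F q x H.e * hermForm n F q y H.f ^ q) * h1
    + (hermForm n F q x H.f * hermForm n F q y H.e ^ q) * h2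

theorem det_torM (hF : Fintype.card F = q ^ 2) (H : HPair n F q) (t : F) :
    (torM q H t).det = t * (t ^ q)⁻¹ := by
  let X : Matrix (Fin n) (Fin 2) F := Matrix.of fun i j => ![(t - 1) * H.e i, ((t ^ q)⁻¹ - 1) * H.f i] j
  let Y : Matrix (Fin 2) (Fin n) F := Matrix.of fun j i => ![cj q H.f i, cj q H.e i] j
  have hXY : torM q H t = 1 + X * Y := by
    ext i j
    simp only [torM, X, Y, Matrix.mul_apply, Fin.sum_univ_two, Matrix.add_apply, Matrix.smul_apply,
      vecMulVec_apply, Matrix.of_apply, Matrix.cons_val_zero, Matrix.cons_val_one, smul_eq_mul]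
    ring
  have h1 := H.he
  have h2 := H.hf
  have h3 := H.hfe
  have h4 := H.hef hF
  simp only [herm_eq_dot, dotProduct] at h1 h2 h3 h4
  rw [hXY, det_one_add_mul_comm, Matrix.det_fin_two]
  have e : ∀ (c : F) (a b : Fin n → F), ∑ i, b i * (c * a i) = c * ∑ i, a i * b i := fun c a b => by
    rw [Finset.mul_sum]
    exact Finset.sum_congr rfl fun i _ => by ring
  simp only [X, Y, Matrix.add_apply, Matrix.one_apply_eq, Matrix.mul_apply, Matrix.of_apply,
    Matrix.cons_val_zero, Matrix.cons_val_one, e, h1, h2, h3, h4,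
    Matrix.one_apply_ne (show (0 : Fin 2) ≠ 1 by decide),
    Matrix.one_apply_ne (show (1 : Fin 2) ≠ 0 by decide)]
  ring

/-- Quasi-reflection matrix. -/
def reflM (q : ℕ) (d : Fin n → F) (a : F) : Matrix (Fin n) (Fin n) F := 1 + a • vecMulVec d (cj q d)

theorem reflM_mulVec (d : Fin n → F) (a : F) (x : Fin n → F) :
    reflM q d a *ᵥ x = x + (a * hermForm n F q x d) • d := by
  simp only [reflM, add_mulVec, one_mulVec, smul_mulVec, vecMulVec_mulVec, op_smul_eq_smul, smul_smul,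
    herm_eq_dot, dotProduct_comm (cj q d)]

theorem preserves_reflM (hF : Fintype.card F = q ^ 2) {d : Fin n → F} {a : F}
    (h : a + a ^ q + a * a ^ q * hermForm n F q d d = 0) : Preserves q (reflM q d a) := by
  intro x y
  simp only [reflM_mulVec, herm_add_left, herm_add_right hF, herm_smul_left, herm_smul_right, mul_pow]
  rw [← herm_swap hF y d]
  linear_combination (hermForm n F q x d * hermForm n F q y d ^ q) * h

theorem det_reflM (d : Fin n → F) (a : F) :
    (reflM q d a).det = 1 + a * hermForm n F q d d := by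
  let X : Matrix (Fin n) (Fin 1) F := Matrix.of fun i _ => a * d i
  let Y : Matrix (Fin 1) (Fin n) F := Matrix.of fun _ i => cj q d i
  have hXY : reflM q d a = 1 + X * Y := by
    ext i j
    simp only [reflM, X, Y, Matrix.mul_apply, Fin.sum_univ_one, Matrix.add_apply, Matrix.smul_apply,
      vecMulVec_apply, Matrix.of_apply, smul_eq_mul]
    ring
  rw [hXY, det_one_add_mul_comm, Matrix.det_fin_one]
  simp only [X, Y, Matrix.add_apply, Matrix.one_apply_eq, Matrix.mul_apply, Matrix.of_apply, herm_eq_dot,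
    dotProduct, Finset.mul_sum]
  congr 1
  exact Finset.sum_congr rfl fun i _ => by ring

theorem preserves_mul {M N : Matrix (Fin n) (Fin n) F} (hM : Preserves q M) (hN : Preserves q N) :
    Preserves q (M * N) := fun x y => by rw [← mulVec_mulVec, ← mulVec_mulVec, hM, hN]

/-- A Levi element from a torus parameter and a matrix fixing both vectors. -/
theorem exists_lev (hF : Fintype.card F = q ^ 2) (H : HPair n F q) {t : F} (ht : t ≠ 0)
    {M : Matrix (Fin n) (Fin n) F} (hM : Preserves q M) (hMe : M *ᵥ H.e = H.e)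
    (hMf : M *ᵥ H.f = H.f) (hdet : t * (t ^ q)⁻¹ * M.det = 1) :
    ∃ A ∈ lev H, ∀ w ∈ H.V, rho H A w = t ^ q • M *ᵥ w := by
  have hP := preserves_mul (preserves_torM hF H ht) hM
  let A : SU n F q := toSU hP (by rw [det_mul, det_torM hF, hdet])
  have hA : ∀ x, ap A x = torM q H t *ᵥ (M *ᵥ x) := fun x => (mulVec_mulVec _ _ _).symm
  have hMV : ∀ w ∈ H.V, M *ᵥ w ∈ H.V := fun w hw => by
    obtain ⟨h1, h2⟩ := H.mem_V.1 hw
    refine H.mem_V.2 ⟨?_, ?_⟩
    · rw [← hMe, hM, h1]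
    · rw [← hMf, hM, h2]
  have hAe : ap A H.e = t • H.e := by
    rw [hA, hMe, torM_mulVec, H.he, H.hef hF]; module
  have hAf : ap A H.f = (t ^ q)⁻¹ • H.f := by
    rw [hA, hMf, torM_mulVec, H.hf, H.hfe]; module
  refine ⟨A, ⟨⟨t, hAe⟩, ⟨_, hAf⟩⟩, fun w hw => ?_⟩
  obtain ⟨h1, h2⟩ := H.mem_V.1 (hMV w hw)
  rw [rho, tc, hAe, herm_smul_left, H.hef hF, mul_one, hA, torM_mulVec, h1, h2]
  module

end Cfsg.Agent.Unitary
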