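import Mathlib
import Cfsg.Agent.Unitary.AutLevi

/-!
# The Levi complement spans the endomorphisms of the orthogonal space
-/

set_option autoImplicit false
set_option linter.unusedSectionVars false

namespace Cfsg.Agent.Unitary

open Cfsg Matrix

variable {F : Type*} [Field F] [Fintype F] {n q : ℕ}

theorem HPair.finrank_V (H : HPair n F q) (hF : Fintype.card F = q ^ 2) :
    Module.finrank F H.V + 2 = n := by
  have hne : hermForm n F q H.e H.f ≠ 0 := by rw [H.hef hF]; exact one_ne_zero
  have hP := nondeg_pair hF H.he H.hf hne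
  have hd := finrank_perp_add hF hP
  rw [finrank_pair (indep_pair hF H.he hne), perp_span hF] at hd
  show Module.finrank F (perp q ({H.e, H.f} : Set (Fin n → F))) + 2 = n
  omega

/-- The action of a Levi element as an endomorphism. -/
def rhoE (hF : Fintype.card F = q ^ 2) (H : HPair n F q) (A : lev H) : Module.End F H.V where
  toFun w := ⟨rho H A.1 w.1, rho_mem hF A.2 w.2⟩
  map_add' x y := Subtype.ext (by
    show rho H A.1 (x.1 + y.1) = rho H A.1 x.1 + rho H A.1 y.1
    rw [rho, rho, rho, ap_add, smul_add])
  map_smul' a x := Subtype.ext (by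
    show rho H A.1 (a • x.1) = a • rho H A.1 x.1
    rw [rho, rho, ap_smul, smul_comm])

/-- The ring generated by the action of the Levi complement. -/
def levRing (hF : Fintype.card F = q ^ 2) (H : HPair n F q) : Subring (Module.End F H.V) :=
  Subring.closure (Set.range (rhoE hF H))

/-- Elementary endomorphism. -/
def elemE (H : HPair n F q) {m : ℕ} (f : Fin m → Fin n → F) (hfV : ∀ i, f i ∈ H.V) (k i : Fin m)
    (b : F) : Module.End F H.V where
  toFun w := ⟨(b * hermForm n F q w.1 (f i)) • f k, H.V.smul_mem _ (hfV k)⟩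
  map_add' x y := Subtype.ext (by
    show (b * hermForm n F q (x.1 + y.1) (f i)) • f k = _ • f k + _ • f k
    rw [herm_add_left, mul_add, add_smul])
  map_smul' a x := Subtype.ext (by
    show (b * hermForm n F q (a • x.1) (f i)) • f k = a • (_ • f k)
    rw [herm_smul_left, smul_smul]
    congr 1
    ring)

theorem exists_pow_ne_one (hF : Fintype.card F = q ^ 2) {k : ℕ} (hk0 : 0 < k)
    (hk : k < (q + 1) * (q - 1)) : ∃ t : F, t ≠ 0 ∧ t ^ k ≠ 1 := by
  by_contra h
  push Not at h
  have h1 : (powMonoidHom k : Fˣ →* Fˣ).ker = ⊤ := by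
    rw [eq_top_iff]
    intro u _
    rw [MonoidHom.mem_ker, powMonoidHom_apply]
    exact Units.ext (by simpa using h u u.ne_zero)
  have h2 := IsCyclic.card_powMonoidHom_ker Fˣ k
  rw [h1, Subgroup.card_top, card_units hF] at h2
  have h3 := Nat.le_of_dvd hk0 (Nat.gcd_dvd_right ((q + 1) * (q - 1)) k)
  omega

theorem mem_levRing_scalar (hF : Fintype.card F = q ^ 2) (H : HPair n F q) {c : F}
    (hc : c ^ q = c) : c • (1 : Module.End F H.V) ∈ levRing hF H := by
  by_cases hc0 : c = 0
  · rw [hc0, zero_smul]; exact zero_mem _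
  obtain ⟨A, hA, hAw⟩ := exists_lev hF H hc0 (M := (1 : Matrix (Fin n) (Fin n) F))
    (fun x y => by rw [one_mulVec, one_mulVec]) (one_mulVec _) (one_mulVec _)
    (by rw [hc, det_one, mul_one, mul_inv_cancel₀ hc0])
  refine Subring.subset_closure ⟨⟨A, hA⟩, LinearMap.ext fun w => Subtype.ext ?_⟩
  show rho H A w.1 = c • w.1
  rw [hAw w.1 w.2, one_mulVec, hc]

theorem levRing_eq_top (hF : Fintype.card F = q ^ 2) (H : HPair n F q)
    (hbig : 4 ≤ n ∨ (n = 3 ∧ 3 ≤ q)) : levRing hF H = ⊤ := by
  classical
  obtain ⟨f, hf, hspan, hm⟩ := H.exists_ON hF (by omega)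
  have hfr := H.finrank_V hF
  revert f
  generalize hgen : Module.finrank F H.V = m at hfr ⊢
  intro f hf hspan
  rw [hgen] at hm
  have hfV : ∀ i, f i ∈ H.V := fun i => hspan ▸ Submodule.subset_span ⟨i, rfl⟩
  have hfe : ∀ i, hermForm n F q H.e (f i) = 0 := fun i =>
    (herm_eq_zero_symm hF).1 (H.mem_V.1 (hfV i)).1
  have hff : ∀ i, hermForm n F q H.f (f i) = 0 := fun i =>
    (herm_eq_zero_symm hF).1 (H.mem_V.1 (hfV i)).2
  let E := elemE H f hfV
  have hf' : ∀ a b, hermForm n F q (f a) (f b) = if a = b then 1 else 0 := hf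
  have E_add : ∀ k i a b, E k i (a + b) = E k i a + E k i b := fun k i a b =>
    LinearMap.ext fun w => Subtype.ext (by
      show ((a + b) * _) • f k = (a * _) • f k + (b * _) • f k
      rw [add_mul, add_smul])
  have E_smul : ∀ k i a c, (c • (1 : Module.End F H.V)) * E k i a = E k i (c * a) := fun k i a c =>
    LinearMap.ext fun w => Subtype.ext (by
      show c • ((a * _) • f k) = (c * a * _) • f k
      rw [smul_smul, mul_assoc])
  have E_mul : ∀ k i l j a b, E k i a * E l j b = if i = l then E k j (a * b) else 0 := by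
    intro k i l j a b
    refine LinearMap.ext fun w => Subtype.ext ?_
    show (a * hermForm n F q ((b * hermForm n F q w.1 (f j)) • f l) (f i)) • f k = _
    rw [herm_smul_left, hf]
    split_ifs with h1 h2 h2
    · show _ = (a * b * hermForm n F q w.1 (f j)) • f k
      rw [mul_one, mul_assoc]
    · exact absurd h1.symm h2
    · exact absurd h2.symm h1
    · rw [mul_zero, mul_zero, zero_smul]; rfl
  -- all diagonal elementary endomorphisms
  have hdiag : ∀ i b, E i i b ∈ levRing hF H := by
    rcases Nat.lt_or_ge m 2 with hm2 | hm2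
    · -- one dimension
      have hm1 : m = 1 := by omega
      subst hm1
      have hq : 3 ≤ q := by omega
      intro i b
      obtain rfl : i = 0 := Subsingleton.elim _ _
      have hE1 : ∀ c, E 0 0 c = c • (1 : Module.End F H.V) := by
        intro c
        refine LinearMap.ext fun w => Subtype.ext ?_
        show (c * hermForm n F q w.1 (f 0)) • f 0 = c • w.1
        have := hf.proj_eq_self hF (x := w.1) (by rw [hspan]; exact w.2)
        rw [projON, Fin.sum_univ_one] at this
        conv_rhs => rw [← this, smul_smul]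
      let K : Subring F := (levRing hF H).comap (algebraMap F (Module.End F H.V))
      suffices hK : b ∈ K by
        rw [hE1]
        have h : algebraMap F (Module.End F H.V) b = b • 1 := Algebra.algebraMap_eq_smul_one b
        rw [← h]
        exact hK
      have hmem : ∀ t : F, t ≠ 0 → t ^ (2 * q - 1) ∈ K := by
        intro t ht
        have htq : t ^ q ≠ 0 := pow_ne_zero _ ht
        let μ := t ^ q / t
        have hμ : μ * μ ^ q = 1 := by
          simp only [μ, div_pow, pow_q_q hF]
          field_simp
        obtain ⟨A, hA, hAw⟩ := exists_lev hF H ht (M := reflM q (f 0) (μ - 1))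
          (preserves_reflM hF (by
            rw [hf, if_pos rfl, sub_pow_q hF, one_pow]
            linear_combination hμ))
          (by rw [reflM_mulVec, hfe]; simp) (by rw [reflM_mulVec, hff]; simp)
          (by rw [det_reflM, hf, if_pos rfl, mul_one, add_sub_cancel]; simp only [μ]; field_simp)
        show algebraMap F (Module.End F H.V) _ ∈ levRing hF H
        rw [Algebra.algebraMap_eq_smul_one, ← hE1]
        refine Subring.subset_closure ⟨⟨A, hA⟩, LinearMap.ext fun w => Subtype.ext ?_⟩
        show rho H A w.1 = (t ^ (2 * q - 1) * hermForm n F q w.1 (f 0)) • f 0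
        rw [hAw w.1 w.2, reflM_mulVec]
        have hw := hf.proj_eq_self hF (x := w.1) (by rw [hspan]; exact w.2)
        rw [projON, Fin.sum_univ_one] at hw
        have he : t ^ (2 * q - 1) = t ^ q * μ := by
          simp only [μ]
          rw [← mul_div_assoc, eq_div_iff ht, ← pow_succ, ← pow_add]
          congr 1
          omega
        conv_lhs => arg 2; arg 1; rw [← hw]
        rw [he]
        module
      by_contra hb
      -- a proper subring has at most `q` elements
      have hinv : ∀ x : F, x ∈ K → x⁻¹ ∈ K := by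
        intro x hx
        by_cases hx0 : x = 0
        · rw [hx0, _root_.inv_zero]; exact K.zero_mem
        have h1 : x ^ (Fintype.card F - 1) = 1 := FiniteField.pow_card_sub_one_eq_one x hx0
        have hc : 2 ≤ Fintype.card F := by
          have := Fintype.one_lt_card (α := F); omega
        have h2 : x⁻¹ = x ^ (Fintype.card F - 2) := by
          refine (eq_inv_of_mul_eq_one_left ?_).symm
          rw [← pow_succ, show Fintype.card F - 2 + 1 = Fintype.card F - 1 by omega, h1]
        rw [h2]
        exact pow_mem hx _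
      have hle : Nat.card K * Nat.card K ≤ q ^ 2 := by
        rw [← Nat.card_prod, ← hF, ← Nat.card_eq_fintype_card]
        refine Nat.card_le_card_of_injective (fun p : K × K => (p.1 : F) + b * p.2) ?_
        rintro ⟨x, y⟩ ⟨x', y'⟩ hxy
        simp only at hxy
        by_cases hy : (y : F) = y'
        · rw [hy] at hxy
          exact Prod.ext (Subtype.ext (add_right_cancel hxy)) (Subtype.ext hy)
        · exfalso
          apply hb
          have hb' : b = ((x' : F) - x) * ((y : F) - y')⁻¹ := by
            rw [← div_eq_mul_inv, eq_div_iff (sub_ne_zero.2 hy)]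
            linear_combination hxy
          rw [hb']
          exact mul_mem (sub_mem x'.2 x.2) (hinv _ (sub_mem y.2 y'.2))
      have hKq : Nat.card K ≤ q := by
        by_contra hlt
        push Not at hlt
        nlinarith
      let φ : Fˣ →* Fˣ := powMonoidHom (2 * q - 1)
      have hker : Nat.card φ.ker ≤ 3 := by
        rw [IsCyclic.card_powMonoidHom_ker, card_units hF]
        have hd1 : Nat.gcd ((q + 1) * (q - 1)) (2 * q - 1) ∣ (2 * q + 1) * (2 * q - 1) :=
          dvd_mul_of_dvd_right (Nat.gcd_dvd_right _ _) _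
        have hd2 : Nat.gcd ((q + 1) * (q - 1)) (2 * q - 1) ∣ 4 * ((q + 1) * (q - 1)) :=
          dvd_mul_of_dvd_right (Nat.gcd_dvd_left _ _) _
        have heq : (2 * q + 1) * (2 * q - 1) = 4 * ((q + 1) * (q - 1)) + 3 := by
          obtain ⟨j, rfl⟩ : ∃ j, q = j + 1 := ⟨q - 1, by omega⟩
          simp only [Nat.add_sub_cancel, show 2 * (j + 1) - 1 = 2 * j + 1 by omega]
          ring
        rw [heq, Nat.dvd_add_right hd2] at hd1
        exact Nat.le_of_dvd (by norm_num) hd1
      have hran : Nat.card φ.range < q := by
        have hlt : Nat.card φ.range < Nat.card K := by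
          rw [Nat.card_eq_fintype_card, Nat.card_eq_fintype_card]
          refine Fintype.card_lt_of_injective_of_notMem
            (fun u : φ.range => (⟨((u : Fˣ) : F), by
              obtain ⟨v, hv⟩ := u.2
              rw [← hv]
              exact hmem (v : F) v.ne_zero⟩ : K))
            (fun u v h => Subtype.ext (Units.ext (congrArg Subtype.val h))) (b := 0) ?_
          rintro ⟨u, hu⟩
          exact (u : Fˣ).ne_zero (congrArg Subtype.val hu)
        omega
      have htot := Subgroup.card_mul_index φ.ker
      rw [Subgroup.index_ker, card_units hF] at htot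
      have hb1 : (q + 1) * (q - 1) ≤ 3 * (q - 1) := by
        rw [← htot]
        exact Nat.mul_le_mul hker (by omega)
      have := Nat.le_of_mul_le_mul_right hb1 (by omega)
      omega
    · -- two dimensions or more
      obtain ⟨t, ht, ht2⟩ := exists_pow_ne_one hF (k := 2 * (q - 1)) (by have := two_le_q hF; omega)
        (by
          have := two_le_q hF
          exact Nat.mul_lt_mul_of_pos_right (by omega) (by omega))
      have htq : t ^ q ≠ 0 := pow_ne_zero _ ht
      obtain ⟨μ, hμdef⟩ : ∃ μ, μ = t ^ q / t := ⟨_, rfl⟩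
      have hμ : μ * μ ^ q = 1 := by
        simp only [hμdef, div_pow, pow_q_q hF]
        field_simp
      have hμ2 : μ * μ ≠ 1 := by
        intro h
        apply ht2
        have hμ' : μ = t ^ (q - 1) := by
          rw [hμdef, div_eq_iff ht, ← pow_succ, Nat.sub_add_cancel (q_pos hF)]
        rw [hμ', ← pow_add] at h
        rwa [two_mul]
      have hμfix : μ ^ q ≠ μ := fun h => hμ2 (by nth_rw 2 [← h]; exact hμ)
      intro j b
      obtain ⟨i, hij⟩ : ∃ i : Fin m, i ≠ j :=
        (Fin.nontrivial_iff_two_le.2 hm2).exists_pair_ne.elim fun a ⟨c, hac⟩ =>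
          if h : a = j then ⟨c, fun h' => hac (h.trans h'.symm)⟩ else ⟨a, h⟩
      let Δ : F → Module.End F H.V := fun a => E i i a + E j j (a ^ q)
      have Δ_add : ∀ a b, Δ (a + b) = Δ a + Δ b := fun a b => by
        simp only [Δ, E_add, add_pow_q hF]; abel
      have Δ_mul : ∀ a b, Δ a * Δ b = Δ (a * b) := fun a b => by
        simp only [Δ, add_mul, mul_add, E_mul, if_neg hij, if_neg hij.symm, if_true, add_zero, zero_add,
          mul_pow]
      have Δ_smul : ∀ a c, c ^ q = c → (c • (1 : Module.End F H.V)) * Δ a = Δ (c * a) := fun a c hc => by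
        simp only [Δ, mul_add, E_smul, mul_pow, hc]
      -- the element `D`
      have hD : Δ (μ - 1) ∈ levRing hF H := by
        have hp1 : Preserves q (reflM q (f i) (μ - 1)) := preserves_reflM hF (by
          rw [hf, if_pos rfl, sub_pow_q hF, one_pow]; linear_combination hμ)
        have hp2 : Preserves q (reflM q (f j) (μ ^ q - 1)) := preserves_reflM hF (by
          rw [hf, if_pos rfl, sub_pow_q hF, one_pow, pow_q_q hF]; linear_combination hμ)
        obtain ⟨A, hA, hAw⟩ := exists_lev hF H one_ne_zero
          (M := reflM q (f i) (μ - 1) * reflM q (f j) (μ ^ q - 1)) (preserves_mul hp1 hp2)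
          (by simp [← mulVec_mulVec, reflM_mulVec, hfe])
          (by simp [← mulVec_mulVec, reflM_mulVec, hff])
          (by rw [det_mul, det_reflM, det_reflM, hf, hf, if_pos rfl, if_pos rfl]; simp [hμ])
        have h1 : rhoE hF H ⟨A, hA⟩ = 1 + Δ (μ - 1) := by
          refine LinearMap.ext fun w => Subtype.ext ?_
          show rho H A w.1 = w.1 + (((μ - 1) * hermForm n F q w.1 (f i)) • f i
            + ((μ - 1) ^ q * hermForm n F q w.1 (f j)) • f j)
          rw [hAw w.1 w.2, ← mulVec_mulVec]
          simp only [reflM_mulVec, herm_add_left, herm_smul_left, hf', if_neg hij.symm, one_pow,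
            sub_pow_q hF]
          module
        have h2 : Δ (μ - 1) = rhoE hF H ⟨A, hA⟩ - 1 := by rw [h1]; abel
        rw [h2]
        exact (levRing hF H).sub_mem (Subring.subset_closure (Set.mem_range_self _)) (levRing hF H).one_mem
      -- hence every `Δ`
      have hΔ : ∀ a, Δ a ∈ levRing hF H := by
        obtain ⟨ν, hν⟩ : ∃ ν, ν = μ - 1 := ⟨_, rfl⟩
        rw [← hν] at hD
        have hνfix : ν ^ q - ν ≠ 0 := by
          rw [hν, sub_pow_q hF, one_pow]
          intro h; exact hμfix (by linear_combination h)
        have hc : ∀ c, c ^ q = c → ∀ a, Δ a ∈ levRing hF H → Δ (c * a) ∈ levRing hF H :=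
          fun c hc a ha => by rw [← Δ_smul a c hc]; exact mul_mem (mem_levRing_scalar hF H hc) ha
        have hN0 : ν * ν ^ q ≠ 0 := by
          have : ν ≠ 0 := fun h => hνfix (by rw [h, zero_pow (q_ne_zero hF), sub_self])
          exact mul_ne_zero this (pow_ne_zero _ this)
        have hone : Δ 1 ∈ levRing hF H := by
          have h1 : Δ (ν * ν ^ q) ∈ levRing hF H := by
            have h2 : Δ ((ν + ν ^ q) * ν) ∈ levRing hF H := hc _ (trace_pow_q hF ν) _ hD
            have h3 : Δ (ν * ν) ∈ levRing hF H := by rw [← Δ_mul]; exact mul_mem hD hD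
            have h4 : Δ ((ν + ν ^ q) * ν) = Δ (ν * ν ^ q) + Δ (ν * ν) := by
              rw [← Δ_add]; congr 1; ring
            rw [show Δ (ν * ν ^ q) = Δ ((ν + ν ^ q) * ν) - Δ (ν * ν) by rw [h4]; abel]
            exact sub_mem h2 h3
          have h5 := hc (ν * ν ^ q)⁻¹ (by rw [inv_pow, norm_pow_q hF]) _ h1
          rwa [inv_mul_cancel₀ hN0] at h5
        intro a
        obtain ⟨y, hy⟩ : ∃ y, y = (a ^ q - a) / (ν ^ q - ν) := ⟨_, rfl⟩
        have hyq : y ^ q = y := by
          rw [hy, div_pow, sub_pow_q hF, sub_pow_q hF, pow_q_q hF, pow_q_q hF, ← neg_sub (a ^ q) a,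
            ← neg_sub (ν ^ q) ν, neg_div_neg_eq]
        have hx : (a - y * ν) ^ q = a - y * ν := by
          rw [sub_pow_q hF, mul_pow, hyq]
          have : y * (ν ^ q - ν) = a ^ q - a := by rw [hy, div_mul_cancel₀ _ hνfix]
          linear_combination -this
        have e : Δ a = Δ ((a - y * ν) * 1) + Δ (y * ν) := by
          rw [← Δ_add, mul_one, sub_add_cancel]
        rw [e]
        exact add_mem (hc _ hx _ hone) (hc _ hyq _ hD)
      -- the element `X` separates the two coordinates
      obtain ⟨A, hA, hAw⟩ := exists_lev hF H ht (M := reflM q (f i) (μ - 1))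
        (preserves_reflM hF (by
          rw [hf, if_pos rfl, sub_pow_q hF, one_pow]; linear_combination hμ))
        (by rw [reflM_mulVec, hfe]; simp) (by rw [reflM_mulVec, hff]; simp)
        (by rw [det_reflM, hf, if_pos rfl, mul_one, add_sub_cancel, hμdef]; field_simp)
      have hX : rhoE hF H ⟨A, hA⟩ = (t ^ q) • (1 + E i i (μ - 1)) := by
        refine LinearMap.ext fun w => Subtype.ext ?_
        show rho H A w.1 = t ^ q • (w.1 + ((μ - 1) * hermForm n F q w.1 (f i)) • f i)
        rw [hAw w.1 w.2, reflM_mulVec]
      have key : ∀ a, E j j (a ^ q * (t ^ q - (t ^ q * μ) ^ q)) ∈ levRing hF H := by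
        intro a
        have h1 : Δ a * rhoE hF H ⟨A, hA⟩ - Δ (a * (t ^ q * μ))
            = E j j (a ^ q * (t ^ q - (t ^ q * μ) ^ q)) := by
          rw [hX, mul_smul_comm, mul_add, mul_one]
          simp only [Δ, add_mul, E_mul, if_neg hij.symm, if_true, add_zero]
          refine LinearMap.ext fun w => Subtype.ext ?_
          simp only [LinearMap.sub_apply, LinearMap.smul_apply, LinearMap.add_apply,
            AddSubgroupClass.coe_sub, Submodule.coe_smul, Submodule.coe_add]
          show t ^ q • (((a * _) • f i + (a ^ q * _) • f j) + (a * (μ - 1) * _) • f i)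
            - (((a * (t ^ q * μ)) * _) • f i + ((a * (t ^ q * μ)) ^ q * _) • f j) = (_ * _) • f j
          rw [mul_pow a]
          module
        rw [← h1]
        exact sub_mem (mul_mem (hΔ a) (Subring.subset_closure ⟨_, rfl⟩)) (hΔ _)
      have hne : t ^ q - (t ^ q * μ) ^ q ≠ 0 := by
        rw [sub_ne_zero]
        intro h
        apply hμ2
        rw [mul_pow, pow_q_q hF] at h
        have hμ' : μ * t = t ^ q := by rw [hμdef, div_mul_cancel₀ _ ht]
        have h' : t ^ q * μ = t := by
          calc t ^ q * μ = t * μ ^ q * μ := by rw [← h]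
            _ = t * (μ * μ ^ q) := by ring
            _ = t := by rw [hμ, mul_one]
        exact mul_right_cancel₀ ht (by linear_combination μ * hμ' + h')
      obtain ⟨a, ha⟩ : ∃ a : F, a ^ q = b / (t ^ q - (t ^ q * μ) ^ q) := ⟨_, pow_q_q hF _⟩
      have := key a
      rwa [ha, div_mul_cancel₀ _ hne] at this
  -- all elementary endomorphisms
  have hall : ∀ k i b, E k i b ∈ levRing hF H := by
    intro k i b
    by_cases hki : k = i
    · rw [hki]; exact hdiag i b
    obtain ⟨δ, hδ0, hδ⟩ := exists_skew hF
    have hneg : ((-1 : F)) ^ q = -1 := by rw [neg_pow_q hF, one_pow]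
    obtain ⟨A, hA, hAw⟩ := exists_lev hF H hδ0 (M := reflM q (f i - f k) (-1))
      (preserves_reflM hF (by
        simp only [herm_sub_left, herm_sub_right hF, hf', if_neg hki, if_neg (Ne.symm hki), if_true, hneg]
        ring))
      (by simp [reflM_mulVec, herm_sub_right hF, hfe])
      (by simp [reflM_mulVec, herm_sub_right hF, hff])
      (by
        rw [det_reflM, hδ, herm_sub_left, herm_sub_right hF, herm_sub_right hF, hf, hf, hf, hf,
          if_pos rfl, if_pos rfl, if_neg hki, if_neg (Ne.symm hki)]
        field_simp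
        ring)
    have h1 : rhoE hF H ⟨A, hA⟩ * E i i (b / δ ^ q) = E k i b := by
      refine LinearMap.ext fun w => Subtype.ext ?_
      show rho H A ((b / δ ^ q * hermForm n F q w.1 (f i)) • f i) = (b * hermForm n F q w.1 (f i)) • f k
      rw [hAw _ (H.V.smul_mem _ (hfV i)), reflM_mulVec, herm_smul_left, herm_sub_right hF, hf, hf,
        if_pos rfl, if_neg (Ne.symm hki)]
      have hδq : δ ^ q ≠ 0 := pow_ne_zero _ hδ0
      match_scalars <;> field_simp
      all_goals ring
    rw [← h1]
    exact mul_mem (Subring.subset_closure ⟨_, rfl⟩) (hdiag i _)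
  rw [eq_top_iff]
  intro L _
  have hL : L = ∑ i, ∑ k, E k i (hermForm n F q (L ⟨f i, hfV i⟩).1 (f k)) := by
    refine LinearMap.ext fun w => Subtype.ext ?_
    have hw : w = ∑ i, hermForm n F q w.1 (f i) • (⟨f i, hfV i⟩ : H.V) := by
      refine Subtype.ext ?_
      have := hf.proj_eq_self hF (x := w.1) (by rw [hspan]; exact w.2)
      rw [projON] at this
      simpa using this.symm
    conv_lhs => rw [hw]
    simp only [map_sum, map_smul, LinearMap.sum_apply, Submodule.coe_sum, Submodule.coe_smul]
    refine Finset.sum_congr rfl fun i _ => ?_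
    show _ = ∑ k, (hermForm n F q (L ⟨f i, hfV i⟩).1 (f k) * hermForm n F q w.1 (f i)) • f k
    have := hf.proj_eq_self hF (x := (L ⟨f i, hfV i⟩).1) (by rw [hspan]; exact (L _).2)
    rw [projON] at this
    conv_lhs => rw [← this, Finset.smul_sum]
    refine Finset.sum_congr rfl fun k _ => ?_
    rw [smul_smul, mul_comm]
  rw [hL]
  exact sum_mem fun i _ => sum_mem fun k _ => hall k i _

end Cfsg.Agent.Unitary
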