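import Mathlib
import Cfsg.Agent.Unitary.AutAlgebra

/-!
# Every automorphism of `PSU` is semilinear
-/

set_option autoImplicit false
set_option linter.unusedSectionVars false

namespace Cfsg.Agent.Unitary

open Cfsg Matrix

variable {F : Type*} [Field F] [Fintype F] {n q : ℕ}

/-- The image of the radical. -/
def punip (H : HPair n F q) : Subgroup (PSU n F q) := (unip n F q H.e).map toPSU

/-- The point of the first vector. -/
def HPair.pe (H : HPair n F q) (hF : Fintype.card F = q ^ 2) : IsoPoint n F q := isoPt (H.e_ne hF) H.he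

/-- The point of the second vector. -/
def HPair.pf (H : HPair n F q) : IsoPoint n F q := isoPt H.f_ne H.hf

theorem smul_isoPt_eq_iff {g : SU n F q} {u v : Fin n → F} (hu0 : u ≠ 0)
    (hu : hermForm n F q u u = 0) (hv0 : v ≠ 0) (hv : hermForm n F q v v = 0) :
    g • isoPt hu0 hu = isoPt hv0 hv ↔ ∃ l : F, l ≠ 0 ∧ ap g u = l • v := by
  refine ⟨fun h => ?_, fun ⟨l, hl, h⟩ => smul_isoPt_eq hu0 hu hv0 hv hl h⟩
  have h1 : ap g u ∈ (g • isoPt hu0 hu).1 := by
    rw [coe_smul_isoPoint]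
    exact Submodule.mem_map_of_mem (Submodule.mem_span_singleton_self u)
  rw [h] at h1
  obtain ⟨l, hl⟩ := Submodule.mem_span_singleton.1 h1
  refine ⟨l, fun h0 => hu0 (ap_injective g ?_), hl.symm⟩
  rw [← hl, h0, zero_smul, ap_zero]

theorem exists_dual_one' {M : Type*} [AddCommGroup M] [Module F M] {x : M} (hx : x ≠ 0) :
    ∃ φ : M →ₗ[F] F, φ x = 1 := by
  obtain ⟨φ, hφ, -⟩ := Submodule.exists_dual_map_eq_bot_of_notMem (p := (⊥ : Submodule F M))
    (by rwa [Submodule.mem_bot]) inferInstance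
  exact ⟨(φ x)⁻¹ • φ, by rw [LinearMap.smul_apply, smul_eq_mul, inv_mul_cancel₀ hφ]⟩

theorem mem_of_span_range {k : ℕ} {f : Fin k → Fin n → F} {W : Submodule F (Fin n → F)}
    (h : Submodule.span F (Set.range f) = W) (i : Fin k) : f i ∈ W :=
  h ▸ Submodule.subset_span (Set.mem_range_self i)

/-- A non-zero additive subgroup invariant under the Levi complement is everything. -/
theorem eq_top_of_invariant (hF : Fintype.card F = q ^ 2) (H : HPair n F q)
    (hbig : 4 ≤ n ∨ (n = 3 ∧ 3 ≤ q)) (T : AddSubgroup H.V) (hT : T ≠ ⊥)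
    (hinv : ∀ l : lev H, ∀ w ∈ T, rhoE hF H l w ∈ T) : T = ⊤ := by
  have hall : ∀ L : Module.End F H.V, ∀ w ∈ T, L w ∈ T := by
    intro L
    have hL : L ∈ levRing hF H := by rw [levRing_eq_top hF H hbig]; trivial
    induction hL using Subring.closure_induction with
    | mem x hx => obtain ⟨l, rfl⟩ := hx; exact hinv l
    | zero => intro w _; exact T.zero_mem
    | one => intro w hw; exact hw
    | add x y _ _ hx hy => intro w hw; exact T.add_mem (hx w hw) (hy w hw)
    | neg x _ hx => intro w hw; exact T.neg_mem (hx w hw)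
    | mul x y _ _ hx hy => intro w hw; exact hx _ (hy w hw)
  obtain ⟨x, hx, hx0⟩ := (AddSubgroup.bot_or_exists_ne_zero T).resolve_left hT
  obtain ⟨φ, hφ⟩ := exists_dual_one' (F := F) (M := H.V) hx0
  rw [eq_top_iff]
  intro y _
  have := hall (LinearMap.smulRight φ y) x hx
  rwa [LinearMap.smulRight_apply, hφ, one_smul] at this

/-- Additive maps commuting with the Levi complement are scalars. -/
theorem scalar_of_commute (hF : Fintype.card F = q ^ 2) (H : HPair n F q)
    (hbig : 4 ≤ n ∨ (n = 3 ∧ 3 ≤ q)) (C : H.V →+ H.V) {x : H.V} (hx0 : x ≠ 0)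
    (hC : ∀ l : lev H, ∀ w, C (rhoE hF H l w) = rhoE hF H l (C w)) :
    ∃ c : F, ∀ w, C w = c • w := by
  have hall : ∀ L : Module.End F H.V, ∀ w, C (L w) = L (C w) := by
    intro L
    have hL : L ∈ levRing hF H := by rw [levRing_eq_top hF H hbig]; trivial
    induction hL using Subring.closure_induction with
    | mem x hx => obtain ⟨l, rfl⟩ := hx; exact hC l
    | zero => intro w; simp
    | one => intro w; rfl
    | add x y _ _ hx hy => intro w; simp [hx, hy]
    | neg x _ hx => intro w; simp [hx]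
    | mul x y _ _ hx hy => intro w; simp [hx, hy]
  obtain ⟨φ, hφ⟩ := exists_dual_one' (F := F) (M := H.V) hx0
  refine ⟨φ (C x), fun y => ?_⟩
  have h1 := hall (LinearMap.smulRight φ y) x
  rwa [LinearMap.smulRight_apply, LinearMap.smulRight_apply, hφ, one_smul] at h1

/-- A Levi element acting trivially on the orthogonal space is central. -/
theorem mem_center_of_rho (hF : Fintype.card F = q ^ 2) (hn : 3 ≤ n) (H : HPair n F q) {A : SU n F q}
    (hA : A ∈ lev H) (h : ∀ w ∈ H.V, rho H A w = w) : A ∈ Subgroup.center (SU n F q) := by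
  obtain ⟨ht0, hte, htf, -⟩ := lev_spec hF hA
  obtain ⟨f, hf, hspan, hm⟩ := H.exists_ON hF hn
  have hfV : f ⟨0, hm⟩ ∈ H.V := mem_of_span_range hspan _
  have htq : tc H A ^ q ≠ 0 := pow_ne_zero _ ht0
  have hap : ∀ w ∈ H.V, ap A w = (tc H A ^ q)⁻¹ • w := fun w hw => by
    conv_rhs => rw [← h w hw, rho, smul_smul, inv_mul_cancel₀ htq, one_smul]
  have hnorm : tc H A ^ q * tc H A = 1 := by
    have h1 := herm_ap A (f ⟨0, hm⟩) (f ⟨0, hm⟩)
    rw [hap _ hfV, herm_self_smul, hf, if_pos rfl, mul_one, inv_pow, pow_q_q hF, ← _root_.mul_inv_rev,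
      inv_eq_one] at h1
    linear_combination h1
  have hinv : (tc H A ^ q)⁻¹ = tc H A := inv_eq_of_mul_eq_one_right hnorm
  refine smul_mem_center (l := tc H A) fun x => ?_
  rw [H.decomp x]
  simp only [ap_add, ap_smul, hte, htf, hap _ (H.proj_mem hF x), hinv, smul_add, smul_comm (tc H A)]

theorem rho_center (hF : Fintype.card F = q ^ 2) (hn : 2 ≤ n) (H : HPair n F q) {z : SU n F q}
    (hz : z ∈ Subgroup.center (SU n F q)) (w : Fin n → F) : rho H z w = w := by
  obtain ⟨l, hl⟩ := eq_smul_of_mem_center hF hn hz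
  have h1 := herm_ap z H.f H.e
  rw [hl, hl, herm_smul_left, herm_smul_right, H.hfe, mul_one] at h1
  rw [rho, tc, hl, hl, herm_smul_left, H.hef hF, mul_one, smul_smul, mul_comm, h1, one_smul]

theorem mem_pstab_pe (hF : Fintype.card F = q ^ 2) (H : HPair n F q) {x : PSU n F q} :
    x ∈ pstab (H.pe hF) ↔ ∃ a : SU n F q, (∃ t : F, t ≠ 0 ∧ ap a H.e = t • H.e) ∧ toPSU a = x := by
  simp only [pstab, Subgroup.mem_map, MulAction.mem_stabilizer_iff, HPair.pe, smul_isoPt_eq_iff]

theorem punip_le_pstab (hF : Fintype.card F = q ^ 2) (H : HPair n F q) :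
    punip H ≤ pstab (H.pe hF) := by
  rintro _ ⟨a, ha, rfl⟩
  exact (mem_pstab_pe hF H).2 ⟨a, ⟨1, one_ne_zero, by rw [one_smul]; exact ha.1⟩, rfl⟩

theorem punip_normal (hF : Fintype.card F = q ^ 2) (H : HPair n F q) :
    ∀ x ∈ pstab (H.pe hF), ∀ d ∈ punip H, x * d * x⁻¹ ∈ punip H := by
  intro x hx d hd
  obtain ⟨a, ⟨t, ht0, ht⟩, rfl⟩ := (mem_pstab_pe hF H).1 hx
  obtain ⟨b, hb, rfl⟩ := hd
  exact ⟨_, conj_mem_unip ht ht0 hb, by simp⟩

/-- The radical is the largest normal `p`-subgroup of the point stabiliser. -/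
theorem le_punip (hF : Fintype.card F = q ^ 2) (hbig : 4 ≤ n ∨ (n = 3 ∧ 3 ≤ q)) (H : HPair n F q)
    {p : ℕ} [Fact p.Prime] [CharP F p] {D : Subgroup (PSU n F q)} (hD : D ≤ pstab (H.pe hF))
    (hDp : IsPGroup p D) (hDn : ∀ x ∈ pstab (H.pe hF), ∀ d ∈ D, x * d * x⁻¹ ∈ D) : D ≤ punip H := by
  classical
  have hn : 3 ≤ n := by omega
  have hPp : IsPGroup p (punip H) := (isPGroup_unip hF (by omega) H).map _
  have hnorm : D ≤ Subgroup.normalizer (punip H : Set (PSU n F q)) := by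
    intro d hd
    rw [Subgroup.mem_normalizer_iff]
    refine fun x => ⟨fun hx => punip_normal hF H d (hD hd) x hx, fun hx => ?_⟩
    have := punip_normal hF H d⁻¹ (inv_mem (hD hd)) _ hx
    simpa [mul_assoc] using this
  have hJ : IsPGroup p (D ⊔ punip H : Subgroup (PSU n F q)) := hDp.to_sup_of_normal_right' hPp hnorm
  have hJn : ∀ x ∈ pstab (H.pe hF), ∀ d ∈ D ⊔ punip H, x * d * x⁻¹ ∈ D ⊔ punip H := by
    intro x hx d hd
    have h1 : (D ⊔ punip H).map (MulAut.conj x).toMonoidHom ≤ D ⊔ punip H := by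
      rw [Subgroup.map_sup]
      refine sup_le_sup ?_ ?_
      · rintro _ ⟨y, hy, rfl⟩; exact hDn x hx y hy
      · rintro _ ⟨y, hy, rfl⟩; exact punip_normal hF H x hx y hy
    exact h1 ⟨d, hd, rfl⟩
  let S : Subgroup (SU n F q) := lev H ⊓ (D ⊔ punip H).comap toPSU
  let r : S →* Equiv.Perm H.V :=
    { toFun := fun s =>
        { toFun := rhoE hF H ⟨s.1, s.2.1⟩
          invFun := rhoE hF H ⟨s.1⁻¹, inv_mem s.2.1⟩
          left_inv := fun w => Subtype.ext (by
            show rho H s.1⁻¹ (rho H s.1 w.1) = w.1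
            rw [← rho_mul hF (inv_mem s.2.1) s.2.1, inv_mul_cancel, rho_one hF])
          right_inv := fun w => Subtype.ext (by
            show rho H s.1 (rho H s.1⁻¹ w.1) = w.1
            rw [← rho_mul hF s.2.1 (inv_mem s.2.1), mul_inv_cancel, rho_one hF]) }
      map_one' := Equiv.ext fun w => Subtype.ext (rho_one hF H w.1)
      map_mul' := fun s s' => Equiv.ext fun w => Subtype.ext (rho_mul hF s.2.1 s'.2.1 w.1) }
  have hr : IsPGroup p r.range := by
    rintro ⟨_, s, rfl⟩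
    obtain ⟨k, hk⟩ := hJ ⟨toPSU s.1, s.2.2⟩
    have hk' : toPSU (s.1 ^ p ^ k) = 1 := by
      rw [map_pow]; exact congrArg Subtype.val hk
    rw [← MonoidHom.mem_ker, ker_toPSU] at hk'
    refine ⟨k, Subtype.ext ?_⟩
    show r s ^ p ^ k = 1
    rw [← map_pow]
    exact Equiv.ext fun w => Subtype.ext (rho_center hF (by omega) H hk' w.1)
  let T : AddSubgroup H.V :=
    { carrier := {w | ∀ s : S, rho H s.1 w.1 = w.1}
      add_mem' := fun {a b} ha hb s => by
        show rho H s.1 (a.1 + b.1) = a.1 + b.1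
        rw [rho, ap_add, smul_add]
        exact congrArg₂ (· + ·) (ha s) (hb s)
      zero_mem' := fun s => by
        show rho H s.1 0 = 0
        rw [rho, ap_zero, smul_zero]
      neg_mem' := fun {a} ha s => by
        show rho H s.1 (-a.1) = -a.1
        conv_rhs => rw [← ha s]
        rw [rho, rho, ← neg_one_smul F a.1, ap_smul, smul_comm, neg_one_smul] }
  have hTbot : T ≠ ⊥ := by
    obtain ⟨f, hf, hspan, hm⟩ := H.exists_ON hF hn
    let x : H.V := ⟨f ⟨0, hm⟩, mem_of_span_range hspan _⟩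
    have hx0 : x ≠ 0 := fun h => by
      have := hf ⟨0, hm⟩ ⟨0, hm⟩
      rw [if_pos rfl, show f ⟨0, hm⟩ = 0 from congrArg Subtype.val h, herm_zero_left] at this
      exact zero_ne_one this
    have hp : p ∣ Nat.card H.V := by
      have h1 : addOrderOf x = p := by
        refine addOrderOf_eq_prime ?_ hx0
        rw [← Nat.cast_smul_eq_nsmul F, CharP.cast_eq_zero, zero_smul]
      have := addOrderOf_dvd_natCard x
      rwa [h1] at this
    have hfix : (0 : H.V) ∈ MulAction.fixedPoints r.range H.V := by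
      rintro ⟨_, s, rfl⟩
      exact (rhoE hF H ⟨s.1, s.2.1⟩).map_zero
    obtain ⟨b, hb, hb0⟩ := hr.exists_fixed_point_of_prime_dvd_card_of_fixed_point H.V hp hfix
    intro h
    apply hb0
    have hbT : b ∈ T := fun s => congrArg Subtype.val (hb ⟨r s, s, rfl⟩)
    rw [h, AddSubgroup.mem_bot] at hbT
    exact hbT.symm
  have hTtop : T = ⊤ := by
    refine eq_top_of_invariant hF H hbig T hTbot fun l w hw s => ?_
    have hs' : l.1⁻¹ * s.1 * l.1 ∈ S := by
      refine Subgroup.mem_inf.2 ⟨(lev H).mul_mem ((lev H).mul_mem ((lev H).inv_mem l.2) s.2.1) l.2, ?_⟩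
      have hl : toPSU l.1⁻¹ ∈ pstab (H.pe hF) := by
        obtain ⟨ht0, hte, -, -⟩ := lev_spec hF (inv_mem l.2)
        exact (mem_pstab_pe hF H).2 ⟨_, ⟨_, ht0, hte⟩, rfl⟩
      have := hJn _ hl _ s.2.2
      simpa [Subgroup.mem_comap] using this
    show rho H s.1 (rho H l.1 w.1) = rho H l.1 w.1
    rw [← rho_mul hF s.2.1 l.2, show s.1 * l.1 = l.1 * (l.1⁻¹ * s.1 * l.1) by group,
      rho_mul hF l.2 hs'.1, hw ⟨_, hs'⟩]
  intro d hd
  obtain ⟨a, ⟨t, -, ht⟩, rfl⟩ := (mem_pstab_pe hF H).1 (hD hd)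
  obtain ⟨X, hX, hl⟩ := exists_unip_lev hF ht
  have hlS : X⁻¹ * a ∈ S := by
    refine ⟨hl, ?_⟩
    show toPSU (X⁻¹ * a) ∈ D ⊔ punip H
    rw [map_mul, map_inv]
    exact mul_mem (inv_mem (Subgroup.mem_sup_right (Subgroup.mem_map_of_mem _ hX)))
      (Subgroup.mem_sup_left hd)
  have hc : X⁻¹ * a ∈ Subgroup.center (SU n F q) :=
    mem_center_of_rho hF hn H hl fun w hw =>
      (show (⟨w, hw⟩ : H.V) ∈ T by rw [hTtop]; trivial) ⟨_, hlS⟩
  rw [← ker_toPSU, MonoidHom.mem_ker, map_mul, map_inv, inv_mul_eq_one] at hc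
  exact ⟨X, hX, hc⟩

/-- An automorphism fixing a root group preserves the radical of its normaliser. -/
theorem map_punip (hF : Fintype.card F = q ^ 2) (hbig : 4 ≤ n ∨ (n = 3 ∧ 3 ≤ q)) (H : HPair n F q)
    (φ : MulAut (PSU n F q)) (hφ : (proot (H.pe hF)).map φ.toMonoidHom = proot (H.pe hF)) :
    (punip H).map φ.toMonoidHom = punip H := by
  have hn : 3 ≤ n := by omega
  obtain ⟨p, hp⟩ := CharP.exists F
  have : Fact p.Prime := ⟨CharP.char_is_prime F p⟩
  have hst := map_pstab hF hn φ hφ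
  have hle : (punip H).map φ.toMonoidHom ≤ punip H := by
    refine le_punip hF hbig H (p := p) ?_ (((isPGroup_unip hF (by omega) H).map _).map _) ?_
    · rw [← hst]; exact Subgroup.map_mono (punip_le_pstab hF H)
    · intro x hx d hd
      rw [← hst] at hx
      obtain ⟨y, hy, rfl⟩ := hx
      obtain ⟨e, he, rfl⟩ := hd
      exact ⟨_, punip_normal hF H y hy e he, by simp⟩
  refine Subgroup.eq_of_le_of_card_ge hle ?_
  exact (Subgroup.card_map_of_injective (f := φ.toMonoidHom) φ.injective).ge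

/-- Two elements of the point stabilisers with the same image differ by a scalar. -/
theorem exists_lev_of_mem (hF : Fintype.card F = q ^ 2) (hn : 3 ≤ n) (H : HPair n F q) {x : PSU n F q}
    (he : x ∈ pstab (H.pe hF)) (hf : x ∈ pstab H.pf) : ∃ a ∈ lev H, toPSU a = x := by
  obtain ⟨a, ⟨t, -, ht⟩, rfl⟩ := (mem_pstab_pe hF H).1 he
  obtain ⟨b, hb, hba⟩ := hf
  obtain ⟨s, -, hs⟩ := (smul_isoPt_eq_iff _ _ _ _).1 (MulAction.mem_stabilizer_iff.1 hb)
  have h1 : b⁻¹ * a ∈ Subgroup.center (SU n F q) := by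
    rw [← ker_toPSU, MonoidHom.mem_ker, map_mul, map_inv, hba, inv_mul_cancel]
  obtain ⟨l, hl⟩ := eq_smul_of_mem_center hF (by omega) h1
  refine ⟨a, ⟨⟨t, ht⟩, l * s, ?_⟩, rfl⟩
  rw [show a = b * (b⁻¹ * a) by group, ap_mul, hl, ap_smul, hs, smul_smul]

theorem lev_mem_pstab (hF : Fintype.card F = q ^ 2) (H : HPair n F q) {a : SU n F q} (ha : a ∈ lev H) :
    toPSU a ∈ pstab (H.pe hF) ∧ toPSU a ∈ pstab H.pf := by
  obtain ⟨ht0, hte, htf, -⟩ := lev_spec hF ha
  refine ⟨(mem_pstab_pe hF H).2 ⟨a, ⟨_, ht0, hte⟩, rfl⟩, Subgroup.mem_map_of_mem _ ?_⟩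
  exact MulAction.mem_stabilizer_iff.2
    ((smul_isoPt_eq_iff _ _ _ _).2 ⟨_, inv_ne_zero (pow_ne_zero _ ht0), htf⟩)

theorem map_inv_proot (φ : MulAut (PSU n F q)) {L : IsoPoint n F q}
    (h : (proot L).map φ.toMonoidHom = proot L) : (proot L).map φ⁻¹.toMonoidHom = proot L := by
  conv_lhs => rw [← h]
  rw [Subgroup.map_map]
  convert Subgroup.map_id (proot L)
  ext x
  exact φ.symm_apply_apply x

/-- The data induced by an automorphism fixing two opposite root groups. -/
theorem exists_induced (hF : Fintype.card F = q ^ 2) (hbig : 4 ≤ n ∨ (n = 3 ∧ 3 ≤ q)) (H : HPair n F q)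
    (φ : MulAut (PSU n F q)) (he : (proot (H.pe hF)).map φ.toMonoidHom = proot (H.pe hF))
    (hf : (proot H.pf).map φ.toMonoidHom = proot H.pf) :
    ∃ Φ : SU n F q → SU n F q, ∃ A : H.V ≃+ H.V,
      (∀ x ∈ unip n F q H.e, Φ x ∈ unip n F q H.e ∧ toPSU (Φ x) = φ (toPSU x)) ∧
      (∀ x (hx : x ∈ unip n F q H.e) (hx' : Φ x ∈ unip n F q H.e),
        A ⟨H.psi x, H.psi_mem hF hx⟩ = ⟨H.psi (Φ x), H.psi_mem hF hx'⟩) ∧
      (∀ l : lev H, ∃ l' : lev H, toPSU l'.1 = φ (toPSU l.1) ∧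
        ∀ w, A (rhoE hF H l w) = rhoE hF H l' (A w)) ∧
      (∀ l' : lev H, ∃ l : lev H, ∀ w, A (rhoE hF H l w) = rhoE hF H l' (A w)) := by
  classical
  have hn : 3 ≤ n := by omega
  have hQ := map_punip hF hbig H φ he
  have hex : ∀ x : SU n F q, x ∈ unip n F q H.e →
      ∃ y ∈ unip n F q H.e, toPSU y = φ (toPSU x) := by
    intro x hx
    have h1 : φ (toPSU x) ∈ punip H := by
      rw [← hQ]; exact ⟨_, Subgroup.mem_map_of_mem _ hx, rfl⟩
    exact h1
  let Φ : SU n F q → SU n F q := fun x => if h : x ∈ unip n F q H.e then (hex x h).choose else 1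
  have hΦ : ∀ x ∈ unip n F q H.e, Φ x ∈ unip n F q H.e ∧ toPSU (Φ x) = φ (toPSU x) := by
    intro x hx
    simp only [Φ, dif_pos hx]
    exact (hex x hx).choose_spec
  have hinj : ∀ {a b : SU n F q}, a ∈ unip n F q H.e → b ∈ unip n F q H.e →
      toPSU a = toPSU b → a = b := fun ha hb h =>
    toPSU_inj_of_fix hF (by omega) (H.e_ne hF) ha.1 hb.1 h
  have hΦmul : ∀ x y, x ∈ unip n F q H.e → y ∈ unip n F q H.e → Φ (x * y) = Φ x * Φ y := by
    intro x y hx hy
    refine hinj (hΦ _ (mul_mem hx hy)).1 (mul_mem (hΦ x hx).1 (hΦ y hy).1) ?_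
    rw [(hΦ _ (mul_mem hx hy)).2, map_mul, map_mul, map_mul, (hΦ x hx).2, (hΦ y hy).2]
  -- the root group of the first point is preserved
  have hroot : ∀ x ∈ unip n F q H.e, H.psi x = 0 ↔ H.psi (Φ x) = 0 := by
    intro x hx
    rw [← H.mem_rootSub_iff_psi hF hx, ← H.mem_rootSub_iff_psi hF (hΦ x hx).1]
    have key : ∀ a ∈ unip n F q H.e, a ∈ rootSub (H.pe hF) ↔ toPSU a ∈ proot (H.pe hF) := by
      intro a ha
      refine ⟨fun h => Subgroup.mem_map_of_mem _ h, ?_⟩
      rintro ⟨b, hb, hba⟩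
      rw [← hinj (rootSub_le_unip hF (H.e_ne hF) H.he hb) ha hba]
      exact hb
    change x ∈ rootSub (H.pe hF) ↔ Φ x ∈ rootSub (H.pe hF)
    rw [key x hx, key _ (hΦ x hx).1, (hΦ x hx).2]
    conv_rhs => rw [← he]
    exact (Subgroup.mem_map_iff_mem (f := φ.toMonoidHom) φ.injective).symm
  have psi_one : H.psi (1 : SU n F q) = 0 := by
    simp [HPair.psi, H.hf]
  have psi_inv : ∀ x ∈ unip n F q H.e, H.psi x⁻¹ = -H.psi x := by
    intro x hx
    have := H.psi_mul hF hx (inv_mem hx)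
    rw [mul_inv_cancel, psi_one] at this
    exact (neg_eq_of_add_eq_zero_right this.symm).symm
  have hwd : ∀ x y, x ∈ unip n F q H.e → y ∈ unip n F q H.e →
      (H.psi x = H.psi y ↔ H.psi (Φ x) = H.psi (Φ y)) := by
    intro x y hx hy
    have h1 := hroot (x * y⁻¹) (mul_mem hx (inv_mem hy))
    have h2 : Φ y⁻¹ = (Φ y)⁻¹ := by
      refine hinj (hΦ _ (inv_mem hy)).1 (inv_mem (hΦ y hy).1) ?_
      rw [(hΦ _ (inv_mem hy)).2, map_inv, map_inv, map_inv, (hΦ y hy).2]
    rwa [H.psi_mul hF hx (inv_mem hy), psi_inv y hy, ← sub_eq_add_neg, sub_eq_zero,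
      hΦmul _ _ hx (inv_mem hy), h2, H.psi_mul hF (hΦ x hx).1 (inv_mem (hΦ y hy).1),
      psi_inv _ (hΦ y hy).1, ← sub_eq_add_neg, sub_eq_zero] at h1
  have hsec : ∀ w : H.V, ∃ x ∈ unip n F q H.e, H.psi x = w.1 := fun w => H.exists_psi hF w.2
  choose sec hsec1 hsec2 using hsec
  let A₀ : H.V →+ H.V := AddMonoidHom.mk'
    (fun w => ⟨H.psi (Φ (sec w)), H.psi_mem hF (hΦ _ (hsec1 w)).1⟩) fun w w' => Subtype.ext (by
      show H.psi (Φ (sec (w + w'))) = H.psi (Φ (sec w)) + H.psi (Φ (sec w'))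
      rw [← H.psi_mul hF (hΦ _ (hsec1 w)).1 (hΦ _ (hsec1 w')).1, ← hΦmul _ _ (hsec1 w) (hsec1 w'),
        ← hwd _ _ (hsec1 _) (mul_mem (hsec1 w) (hsec1 w')), hsec2, H.psi_mul hF (hsec1 w) (hsec1 w'),
        hsec2, hsec2]
      rfl)
  have hA₀ : ∀ x (hx : x ∈ unip n F q H.e), (A₀ ⟨H.psi x, H.psi_mem hF hx⟩).1 = H.psi (Φ x) :=
    fun x hx => (hwd _ _ (hsec1 _) hx).1 (hsec2 _)
  have hA₀inj : Function.Injective A₀ := by
    intro w w' h
    have := (hwd _ _ (hsec1 w) (hsec1 w')).2 (congrArg Subtype.val h)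
    rw [hsec2, hsec2] at this
    exact Subtype.ext this
  let A : H.V ≃+ H.V := AddEquiv.ofBijective A₀ (Finite.injective_iff_bijective.1 hA₀inj)
  have key : ∀ (a b : SU n F q) (ha : a ∈ lev H) (hb : b ∈ lev H), toPSU b = φ (toPSU a) →
      ∀ w, A (rhoE hF H ⟨a, ha⟩ w) = rhoE hF H ⟨b, hb⟩ (A w) := by
    intro a b ha hb hab w
    obtain ⟨hc, hcp⟩ := psi_conj hF ha (hsec1 w)
    have h1 : A₀ ⟨H.psi (a * sec w * a⁻¹), H.psi_mem hF hc⟩ = A₀ (rhoE hF H ⟨a, ha⟩ w) := by
      congr 1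
      exact Subtype.ext (hcp.trans (by rw [hsec2]; rfl))
    show A₀ _ = _
    rw [← h1]
    refine Subtype.ext ?_
    rw [hA₀ _ hc]
    show _ = rho H b (H.psi (Φ (sec w)))
    rw [← (psi_conj hF hb (hΦ _ (hsec1 w)).1).2]
    congr 1
    refine hinj (hΦ _ hc).1 (psi_conj hF hb (hΦ _ (hsec1 w)).1).1 ?_
    rw [(hΦ _ hc).2, map_mul, map_mul, map_inv, map_mul, map_mul, map_inv, map_mul, map_mul, map_inv,
      hab, (hΦ _ (hsec1 w)).2]
  have hlev : ∀ (ψ : MulAut (PSU n F q)), (proot (H.pe hF)).map ψ.toMonoidHom = proot (H.pe hF) →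
      (proot H.pf).map ψ.toMonoidHom = proot H.pf →
      ∀ a : SU n F q, a ∈ lev H → ∃ b ∈ lev H, toPSU b = ψ (toPSU a) := by
    intro ψ h1 h2 a ha
    obtain ⟨hae, haf⟩ := lev_mem_pstab hF H ha
    refine exists_lev_of_mem hF hn H ?_ ?_
    · rw [← map_pstab hF hn ψ h1]; exact Subgroup.mem_map_of_mem _ hae
    · rw [← map_pstab hF hn ψ h2]; exact Subgroup.mem_map_of_mem _ haf
  refine ⟨Φ, A, hΦ, fun x hx hx' => Subtype.ext (hA₀ x hx), fun l => ?_, fun l' => ?_⟩
  · obtain ⟨b, hb, hab⟩ := hlev φ he hf l.1 l.2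
    exact ⟨⟨b, hb⟩, hab, key _ _ l.2 hb hab⟩
  · obtain ⟨a, ha, hab⟩ := hlev φ⁻¹ (map_inv_proot φ he) (map_inv_proot φ hf) l'.1 l'.2
    exact ⟨⟨a, ha⟩, key _ _ ha l'.2 (by rw [hab]; exact (φ.apply_symm_apply _).symm)⟩

/-- The induced map is semilinear and a similitude. -/
theorem exists_semilinear (hF : Fintype.card F = q ^ 2) (hbig : 4 ≤ n ∨ (n = 3 ∧ 3 ≤ q)) (H : HPair n F q)
    (φ : MulAut (PSU n F q)) (he : (proot (H.pe hF)).map φ.toMonoidHom = proot (H.pe hF))
    (hf : (proot H.pf).map φ.toMonoidHom = proot H.pf) :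
    ∃ (σ : F ≃+* F) (ν : F), ν ≠ 0 ∧ ∃ A : H.V ≃+ H.V,
      (∀ (c : F) w, A (c • w) = σ c • A w) ∧
      (∀ w w', hermForm n F q (A w).1 (A w').1 = ν * ν ^ q * σ (hermForm n F q w.1 w'.1)) ∧
      ∀ x ∈ unip n F q H.e, ∃ y ∈ unip n F q H.e, toPSU y = φ (toPSU x) ∧
        ∀ w : H.V, w.1 = H.psi x → (A w).1 = H.psi y := by
  have hn : 3 ≤ n := by omega
  obtain ⟨Φ, A, hΦ, hA, hl, hl'⟩ := exists_induced hF hbig H φ he hf
  obtain ⟨f, hfon, hspan, hm⟩ := H.exists_ON hF hn
  have hfV : ∀ i, f i ∈ H.V := fun i => mem_of_span_range hspan i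
  obtain ⟨w₁, hw₁def⟩ : ∃ w : H.V, w.1 = f ⟨0, hm⟩ := ⟨⟨_, hfV _⟩, rfl⟩
  have hw₁ : hermForm n F q w₁.1 w₁.1 = 1 := by rw [hw₁def, hfon, if_pos rfl]
  have hw₁0 : w₁ ≠ 0 := fun h => by
    rw [h, Submodule.coe_zero, herm_zero_left] at hw₁
    exact zero_ne_one hw₁
  have hAw0 : A w₁ ≠ 0 := by rwa [ne_eq, map_eq_zero_iff A A.injective]
  -- semilinearity
  have hscal : ∀ c : F, ∃ d : F, ∀ w, A (c • w) = d • A w := by
    intro c
    let C : H.V →+ H.V := AddMonoidHom.mk' (fun w => A (c • A.symm w)) fun a b => by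
      rw [map_add, smul_add, map_add]
    obtain ⟨d, hd⟩ := scalar_of_commute hF H hbig C hAw0 fun l' w => by
      obtain ⟨l, hll⟩ := hl' l'
      have h1 : A.symm (rhoE hF H l' w) = rhoE hF H l (A.symm w) := by
        rw [AddEquiv.symm_apply_eq, hll, AddEquiv.apply_symm_apply]
      show A (c • A.symm (rhoE hF H l' w)) = rhoE hF H l' (A (c • A.symm w))
      rw [h1, ← map_smul, hll]
    refine ⟨d, fun w => ?_⟩
    have := hd (A w)
    rwa [show C (A w) = A (c • w) from by show A (c • A.symm (A w)) = _; rw [A.symm_apply_apply]] at this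
  choose s hs using hscal
  have hsinj : ∀ {a b : F}, a • A w₁ = b • A w₁ → a = b := fun h => smul_left_injective F hAw0 h
  let σ₀ : F →+* F :=
    { toFun := s
      map_one' := hsinj (by rw [← hs, one_smul, one_smul])
      map_mul' := fun a b => hsinj (by rw [← hs, mul_smul, hs, hs, mul_smul])
      map_zero' := hsinj (by rw [← hs, zero_smul, zero_smul, map_zero])
      map_add' := fun a b => hsinj (by rw [← hs, add_smul, map_add, hs, hs, add_smul]) }
  let σ : F ≃+* F := RingEquiv.ofBijective σ₀ (Finite.injective_iff_bijective.1 σ₀.injective)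
  have hσ : ∀ c w, A (c • w) = σ c • A w := fun c w => hs c w
  -- the commutator form
  have hsym : ∀ w w' : H.V, hermForm n F q w.1 w'.1 = hermForm n F q w'.1 w.1 →
      hermForm n F q (A w).1 (A w').1 = hermForm n F q (A w').1 (A w).1 := by
    intro w w' h
    obtain ⟨x, hx, hxw⟩ := H.exists_psi hF w.2
    obtain ⟨y, hy, hyw⟩ := H.exists_psi hF w'.2
    have hc : Commute x y := (H.commute_iff hF hx hy).2 (by rw [hxw, hyw, h])
    have hc' : Commute (Φ x) (Φ y) := by
      refine toPSU_inj_of_fix hF (by omega) (H.e_ne hF) (mul_mem (hΦ x hx).1 (hΦ y hy).1).1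
        (mul_mem (hΦ y hy).1 (hΦ x hx).1).1 ?_
      rw [map_mul, map_mul, (hΦ x hx).2, (hΦ y hy).2, ← map_mul, ← map_mul, ← map_mul, ← map_mul, hc.eq]
    have hAx : (A w).1 = H.psi (Φ x) := by
      rw [show w = ⟨H.psi x, H.psi_mem hF hx⟩ from Subtype.ext hxw.symm, hA x hx (hΦ x hx).1]
    have hAy : (A w').1 = H.psi (Φ y) := by
      rw [show w' = ⟨H.psi y, H.psi_mem hF hy⟩ from Subtype.ext hyw.symm, hA y hy (hΦ y hy).1]
    rw [hAx, hAy]
    exact (H.commute_iff hF (hΦ x hx).1 (hΦ y hy).1).1 hc'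
  let B : H.V → H.V → F := fun w w' => σ.symm (hermForm n F q (A w).1 (A w').1)
  have B_left : ∀ a w w', B (a • w) w' = a * B w w' := fun a w w' => by
    simp only [B, hσ, Submodule.coe_smul, herm_smul_left, map_mul, RingEquiv.symm_apply_apply]
  have B_addl : ∀ u v w', B (u + v) w' = B u w' + B v w' := fun u v w' => by
    simp only [B, map_add, Submodule.coe_add, herm_add_left]
  have B_addr : ∀ u v w', B w' (u + v) = B w' u + B w' v := fun u v w' => by
    simp only [B, map_add, Submodule.coe_add, herm_add_right hF]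
  have B_swap : ∀ w w', B w w' ^ q = B w' w := fun w w' => by
    simp only [B, ← map_pow, herm_swap hF]
  have B_zero : ∀ w w', hermForm n F q w.1 w'.1 = 0 → B w w' = 0 := by
    intro w w' h
    have h1 : ∀ a : F, a * B w w' = a ^ q * B w' w := by
      intro a
      have := hsym (a • w) w' (by
        rw [Submodule.coe_smul, herm_smul_left, herm_smul_right, h, (herm_eq_zero_symm hF).1 h,
          mul_zero, mul_zero])
      have h2 : σ.symm (hermForm n F q (A (a • w)).1 (A w').1)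
          = σ.symm (hermForm n F q (A w').1 (A (a • w)).1) := congrArg _ this
      simp only [hσ, Submodule.coe_smul, herm_smul_left, herm_smul_right, map_mul, map_pow,
        RingEquiv.symm_apply_apply] at h2
      exact h2
    obtain ⟨δ, hδ0, hδ⟩ := exists_skew hF
    obtain ⟨t, ht⟩ := exists_trace_ne_zero hF
    have e1 := h1 1
    rw [one_mul, one_pow, one_mul] at e1
    have e2 := h1 (δ * t)
    rw [mul_pow, hδ, ← e1] at e2
    have : δ * (t + t ^ q) * B w w' = 0 := by linear_combination e2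
    exact (mul_eq_zero.1 this).resolve_left (mul_ne_zero hδ0 ht)
  let κ := B w₁ w₁
  have hκ : κ ^ q = κ := B_swap w₁ w₁
  have hB1 : ∀ w, B w w₁ = κ * hermForm n F q w.1 w₁.1 := by
    intro w
    have h1 := B_zero (w + (-hermForm n F q w.1 w₁.1) • w₁) w₁ (by
      rw [Submodule.coe_add, Submodule.coe_smul, herm_add_left, herm_smul_left, hw₁, mul_one,
        add_neg_cancel])
    rw [B_addl, B_left] at h1
    linear_combination h1
  have hBk : ∀ w', hermForm n F q w₁.1 w'.1 ≠ 0 → ∀ w, B w w' = κ * hermForm n F q w.1 w'.1 := by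
    intro w' hne w
    have h1 := B_zero (w + (-(hermForm n F q w.1 w'.1 / hermForm n F q w₁.1 w'.1)) • w₁) w' (by
      rw [Submodule.coe_add, Submodule.coe_smul, herm_add_left, herm_smul_left]
      field_simp
      ring)
    rw [B_addl, B_left, ← B_swap w' w₁, hB1 w', mul_pow, hκ, herm_swap hF] at h1
    field_simp at h1
    linear_combination h1
  have hB : ∀ w w', B w w' = κ * hermForm n F q w.1 w'.1 := by
    intro w w'
    by_cases hne : hermForm n F q w₁.1 w'.1 = 0
    · have h2 := hBk (w' + w₁) (by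
        rw [Submodule.coe_add, herm_add_right hF, hne, hw₁, zero_add]; exact one_ne_zero) w
      rw [B_addr, hB1, Submodule.coe_add, herm_add_right hF] at h2
      linear_combination h2
    · exact hBk w' hne w
  have hκ0 : κ ≠ 0 := by
    intro h
    obtain ⟨w, hw⟩ := A.surjective w₁
    have := hB w w
    simp only [B, hw, hw₁, map_one, h, zero_mul] at this
    exact one_ne_zero this
  obtain ⟨ν, hν⟩ := exists_norm_eq hF (a := σ κ) (by rw [← map_pow, hκ])
  have hν0 : ν ≠ 0 := fun h => hκ0 (by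
    rw [h, zero_mul] at hν
    exact (map_eq_zero_iff σ σ.injective).1 hν.symm)
  refine ⟨σ, ν, hν0, A, hσ, fun w w' => ?_, fun x hx => ⟨Φ x, (hΦ x hx).1, (hΦ x hx).2, fun w hw => ?_⟩⟩
  · rw [hν, ← map_mul, ← hB]
    exact (σ.apply_symm_apply _).symm
  · rw [show w = ⟨H.psi x, H.psi_mem hF hx⟩ from Subtype.ext hw, hA x hx (hΦ x hx).1]

/-- An automorphism fixing two opposite root groups and the parameters of the radical is trivial. -/
theorem eq_one_of_fixed (hF : Fintype.card F = q ^ 2) (hbig : 4 ≤ n ∨ (n = 3 ∧ 3 ≤ q)) (H : HPair n F q)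
    (φ : MulAut (PSU n F q)) (he : (proot (H.pe hF)).map φ.toMonoidHom = proot (H.pe hF))
    (hf : (proot H.pf).map φ.toMonoidHom = proot H.pf)
    (hpsi : ∀ x ∈ unip n F q H.e, ∀ y ∈ unip n F q H.e, toPSU y = φ (toPSU x) → H.psi y = H.psi x) :
    φ = 1 := by
  classical
  have hn : 3 ≤ n := by omega
  obtain ⟨Φ, A, hΦ, hA, hl, -⟩ := exists_induced hF hbig H φ he hf
  have hinj : ∀ {a b : SU n F q}, a ∈ unip n F q H.e → b ∈ unip n F q H.e →
      toPSU a = toPSU b → a = b := fun ha hb h =>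
    toPSU_inj_of_fix hF (by omega) (H.e_ne hF) ha.1 hb.1 h
  have hAid : ∀ w, A w = w := by
    intro w
    obtain ⟨x, hx, hxw⟩ := H.exists_psi hF w.2
    rw [show w = ⟨H.psi x, H.psi_mem hF hx⟩ from Subtype.ext hxw.symm, hA x hx (hΦ x hx).1]
    exact Subtype.ext (hpsi x hx _ (hΦ x hx).1 (hΦ x hx).2)
  -- the Levi complement is fixed
  have hfixL : ∀ a ∈ lev H, φ (toPSU a) = toPSU a := by
    intro a ha
    obtain ⟨l', hl'1, hl'2⟩ := hl ⟨a, ha⟩
    have hc : l'.1⁻¹ * a ∈ Subgroup.center (SU n F q) := by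
      refine mem_center_of_rho hF hn H (mul_mem (inv_mem l'.2) ha) fun w hw => ?_
      have h1 := hl'2 ⟨w, hw⟩
      rw [hAid, hAid] at h1
      have h2 : rho H a w = rho H l'.1 w := congrArg Subtype.val h1
      rw [rho_mul hF (inv_mem l'.2) ha, h2, ← rho_mul hF (inv_mem l'.2) l'.2, inv_mul_cancel,
        rho_one hF]
    rw [← ker_toPSU, MonoidHom.mem_ker, map_mul, map_inv, inv_mul_eq_one] at hc
    rw [← hl'1, hc]
  -- the radical is fixed
  let d : SU n F q → SU n F q := fun x => Φ x * x⁻¹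
  have hd : ∀ x ∈ unip n F q H.e, d x ∈ rootSub (H.pe hF) := by
    intro x hx
    have hm := mul_mem (hΦ x hx).1 (inv_mem hx)
    show d x ∈ rootSub (isoPt (H.e_ne hF) H.he)
    rw [H.mem_rootSub_iff_psi hF hm]
    have h1 : H.psi (x * x⁻¹) = H.psi x + H.psi x⁻¹ := H.psi_mul hF hx (inv_mem hx)
    show H.psi (Φ x * x⁻¹) = 0
    rw [H.psi_mul hF (hΦ x hx).1 (inv_mem hx), hpsi x hx _ (hΦ x hx).1 (hΦ x hx).2, ← h1,
      mul_inv_cancel]
    simp [HPair.psi, H.hf]
  have hcomm : ∀ x ∈ unip n F q H.e, ∀ z ∈ rootSub (H.pe hF), Commute x z := by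
    intro x hx z hz
    refine (H.commute_iff hF hx (rootSub_le_unip hF _ _ hz)).2 ?_
    rw [(H.mem_rootSub_iff_psi hF (rootSub_le_unip hF _ _ hz)).1 hz, herm_zero_right hF, herm_zero_left]
  have hfixQ : ∀ x ∈ unip n F q H.e, φ (toPSU x) = toPSU x := by
    let K : Subgroup (SU n F q) :=
      { carrier := {x | x ∈ unip n F q H.e ∧ φ (toPSU x) = toPSU x}
        one_mem' := ⟨one_mem _, by rw [map_one, map_one]⟩
        mul_mem' := fun {a b} ha hb => ⟨mul_mem ha.1 hb.1, by rw [map_mul, map_mul, ha.2, hb.2]⟩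
        inv_mem' := fun {a} ha => ⟨inv_mem ha.1, by rw [map_inv, map_inv, ha.2]⟩ }
    -- the parameters of the fixed elements
    let T : AddSubgroup H.V :=
      { carrier := {w | ∃ x ∈ K, H.psi x = w.1}
        zero_mem' := ⟨1, one_mem K, by simp [HPair.psi, H.hf]⟩
        add_mem' := fun {a b} ⟨x, hx, hxa⟩ ⟨y, hy, hyb⟩ => ⟨x * y, mul_mem hx hy, by
          rw [H.psi_mul hF hx.1 hy.1, hxa, hyb]; rfl⟩
        neg_mem' := fun {a} ⟨x, hx, hxa⟩ => ⟨x⁻¹, inv_mem hx, by
          have := H.psi_mul hF hx.1 (inv_mem hx.1)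
          rw [mul_inv_cancel, show H.psi (1 : SU n F q) = 0 by simp [HPair.psi, H.hf]] at this
          rw [← neg_eq_of_add_eq_zero_right this.symm, hxa]
          rfl⟩ }
    have hdmul : ∀ x y, x ∈ unip n F q H.e → y ∈ unip n F q H.e → d (x * y) = d x * d y := by
      intro x y hx hy
      have h1 : Φ (x * y) = Φ x * Φ y := by
        refine hinj (hΦ _ (mul_mem hx hy)).1 (mul_mem (hΦ x hx).1 (hΦ y hy).1) ?_
        rw [(hΦ _ (mul_mem hx hy)).2, map_mul, map_mul, map_mul, (hΦ x hx).2, (hΦ y hy).2]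
      show Φ (x * y) * (x * y)⁻¹ = Φ x * x⁻¹ * (Φ y * y⁻¹)
      have h2 := hcomm x⁻¹ (inv_mem hx) _ (hd y hy)
      calc Φ (x * y) * (x * y)⁻¹ = Φ x * (d y * x⁻¹) := by rw [h1]; simp only [d]; group
        _ = Φ x * (x⁻¹ * d y) := by rw [h2.eq]
        _ = Φ x * x⁻¹ * (Φ y * y⁻¹) := by simp only [d, mul_assoc]
    have hTbot : T ≠ ⊥ := by
      obtain ⟨f, hfon, hspan, hm⟩ := H.exists_ON hF hn
      let w₁ : H.V := ⟨f ⟨0, hm⟩, mem_of_span_range hspan _⟩
      -- pigeonhole on the multiples of `w₁`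
      have hsec : ∀ a : F, ∃ x ∈ unip n F q H.e, H.psi x = (a • w₁).1 := fun a =>
        H.exists_psi hF (a • w₁).2
      choose sec hsec1 hsec2 using hsec
      have hroot : ∀ z ∈ rootSub (H.pe hF), ∃ c : F, c + c ^ q = 0 ∧ H.theta z = c := by
        intro z hz
        obtain ⟨c, hc, rfl⟩ := (mem_rootSub_iff hF (H.e_ne hF) H.he).1 hz
        exact ⟨c, hc, H.theta_eSU hF (eSpec_tv hF H.he hc) (herm_zero_left _)⟩
      have hθinj : ∀ z z', z ∈ rootSub (H.pe hF) → z' ∈ rootSub (H.pe hF) →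
          H.theta z = H.theta z' → z = z' := by
        intro z z' hz hz' h
        obtain ⟨c, hc, rfl⟩ := (mem_rootSub_iff hF (H.e_ne hF) H.he).1 hz
        obtain ⟨c', hc', rfl⟩ := (mem_rootSub_iff hF (H.e_ne hF) H.he).1 hz'
        have e1 : H.theta (tv hF H.he hc) = c := H.theta_eSU hF (eSpec_tv hF H.he hc) (herm_zero_left _)
        have e2 : H.theta (tv hF H.he hc') = c' := H.theta_eSU hF (eSpec_tv hF H.he hc') (herm_zero_left _)
        exact tv_congr hF _ _ _ (e1 ▸ e2 ▸ h)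
      let θ : F → {c : F // c + c ^ q = 0} := fun a => ⟨H.theta (d (sec a)), by
        obtain ⟨c, hc, hc'⟩ := hroot _ (hd _ (hsec1 a))
        rw [hc']; exact hc⟩
      obtain ⟨a, b, hab, heq⟩ : ∃ a b, a ≠ b ∧ θ a = θ b := by
        by_contra hcon
        push Not at hcon
        have hθ : Function.Injective θ := fun a b h => by
          by_contra hne; exact hcon a b hne h
        have hcard := Nat.card_le_card_of_injective θ hθ
        rw [Nat.card_eq_fintype_card, hF, card_trace_zero hF] at hcard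
        have := two_le_q hF
        nlinarith
      have hdeq : d (sec a) = d (sec b) :=
        hθinj _ _ (hd _ (hsec1 a)) (hd _ (hsec1 b)) (congrArg Subtype.val heq)
      intro hbot
      obtain ⟨x, hxdef⟩ : ∃ x, x = sec a * (sec b)⁻¹ := ⟨_, rfl⟩
      have hxu : x ∈ unip n F q H.e := hxdef ▸ mul_mem (hsec1 a) (inv_mem (hsec1 b))
      have hx : d x = 1 := by
        have h1 := hdmul x (sec b) hxu (hsec1 b)
        rw [hxdef, inv_mul_cancel_right, ← hxdef, hdeq] at h1
        exact right_eq_mul.1 h1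
      have hxK : x ∈ K := by
        refine ⟨hxu, ?_⟩
        rw [← (hΦ x hxu).2, show Φ x = x from mul_inv_eq_one.1 hx]
      have hpx : H.psi x = (a • w₁).1 - (b • w₁).1 := by
        have h1 := H.psi_mul hF hxu (hsec1 b)
        rw [hxdef, inv_mul_cancel_right, ← hxdef, hsec2, hsec2] at h1
        rw [h1, add_sub_cancel_right]
      have hmem : (a • w₁ - b • w₁) ∈ T := ⟨x, hxK, hpx⟩
      rw [hbot, AddSubgroup.mem_bot, sub_eq_zero] at hmem
      refine hab (smul_left_injective F (fun h => ?_) (congrArg Subtype.val hmem))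
      have := hfon ⟨0, hm⟩ ⟨0, hm⟩
      rw [if_pos rfl, show f ⟨0, hm⟩ = 0 from h, herm_zero_left] at this
      exact zero_ne_one this
    have hTtop : T = ⊤ := by
      refine eq_top_of_invariant hF H hbig T hTbot fun l w hw => ?_
      obtain ⟨x, hx, hxw⟩ := hw
      obtain ⟨hc, hcp⟩ := psi_conj hF l.2 hx.1
      refine ⟨l.1 * x * l.1⁻¹, ⟨hc, ?_⟩, hcp.trans (by rw [hxw]; rfl)⟩
      simp only [map_mul, map_inv, hx.2, hfixL _ l.2]
    have hT0 : ∀ z ∈ rootSub (H.pe hF), φ (toPSU z) = toPSU z := by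
      intro z hz
      -- root elements are commutators of radical elements
      obtain ⟨c, hc, rfl⟩ := (mem_rootSub_iff hF (H.e_ne hF) H.he).1 hz
      obtain ⟨f, hfon, hspan, hm⟩ := H.exists_ON hF hn
      have hfV : f ⟨0, hm⟩ ∈ H.V := mem_of_span_range hspan _
      obtain ⟨r, hr⟩ := exists_trace_ne_zero hF
      obtain ⟨y, hy⟩ : ∃ y, y = -(c * r / (r + r ^ q)) := ⟨_, rfl⟩
      have hcq : c ^ q = -c := eq_neg_of_add_eq_zero_right hc
      have hyy : y ^ q - y = c := by
        rw [hy, neg_pow_q hF, div_pow, mul_pow, hcq, trace_pow_q hF]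
        field_simp
        ring
      obtain ⟨x₁, ⟨hx₁u, hx₁f⟩, hx₁⟩ := (show (⟨y • f ⟨0, hm⟩, H.V.smul_mem _ hfV⟩ : H.V) ∈ T by
        rw [hTtop]; trivial)
      obtain ⟨x₂, ⟨hx₂u, hx₂f⟩, hx₂⟩ := (show (⟨f ⟨0, hm⟩, hfV⟩ : H.V) ∈ T by rw [hTtop]; trivial)
      have key : x₂ * x₁ = tv hF H.he hc * (x₁ * x₂) := by
        obtain ⟨w, α, h, hw, rfl⟩ := H.exists_eq_eSU hF hx₁u
        obtain ⟨w', α', h', hw', rfl⟩ := H.exists_eq_eSU hF hx₂u
        rw [H.psi_eSU hF h hw] at hx₁
        rw [H.psi_eSU hF h' hw'] at hx₂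
        refine Unitary.ap_ext fun v => ?_
        simp only at hx₁ hx₂
        subst hx₁ hx₂
        have hye : hermForm n F q (f ⟨0, hm⟩) H.e = 0 := (H.mem_V.1 hfV).1
        have hey : hermForm n F q H.e (f ⟨0, hm⟩) = 0 := (herm_eq_zero_symm hF).1 hye
        have hww : hermForm n F q (f ⟨0, hm⟩) (f ⟨0, hm⟩) = 1 := by rw [hfon, if_pos rfl]
        simp only [ap_mul, ap_eSU, ap_tv, herm_add_left, herm_sub_left, herm_smul_left,
          herm_smul_right, H.he, hye, hey, hww, mul_zero, mul_one, sub_zero, add_zero]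
        rw [← hyy]
        module
      have h2 : tv hF H.he hc = x₂ * x₁ * (x₁ * x₂)⁻¹ := eq_mul_inv_of_mul_eq key.symm
      simp only [h2, map_mul, map_inv, hx₁f, hx₂f]
    intro x hx
    obtain ⟨x', ⟨hx'u, hx'f⟩, hx'p⟩ := (show (⟨H.psi x, H.psi_mem hF hx⟩ : H.V) ∈ T by rw [hTtop]; trivial)
    have hz : x * x'⁻¹ ∈ rootSub (H.pe hF) := by
      show x * x'⁻¹ ∈ rootSub (isoPt (H.e_ne hF) H.he)
      rw [H.mem_rootSub_iff_psi hF (mul_mem hx (inv_mem hx'u))]
      have h1 := H.psi_mul hF (mul_mem hx (inv_mem hx'u)) hx'u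
      rw [inv_mul_cancel_right, hx'p] at h1
      exact add_eq_right.1 h1.symm
    have h3 := hT0 _ hz
    rw [show x = x * x'⁻¹ * x' by group, map_mul, map_mul, h3, hx'f]
  -- every root group is fixed
  have hall : ∀ L, (proot L).map φ.toMonoidHom = proot L := by
    intro L
    obtain ⟨u, hu0, hu, rfl⟩ := exists_isoPt L
    have hconj : ∀ (x : SU n F q) (M : IsoPoint n F q), φ (toPSU x) = toPSU x →
        (proot M).map φ.toMonoidHom = proot M → (proot (x • M)).map φ.toMonoidHom = proot (x • M) := by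
      intro x M hx hM
      rw [← map_conj_proot, Subgroup.map_map]
      conv_rhs => rw [← hM, Subgroup.map_map]
      congr 1
      ext y
      simp [hx]
    by_cases hue : hermForm n F q u H.e = 0
    · by_cases huV : H.proj u = 0
      · have hdec := H.decomp u
        rw [hue, huV, zero_smul, add_zero, add_zero] at hdec
        have : isoPt hu0 hu = H.pe hF := by
          apply Subtype.ext
          show Submodule.span F {u} = Submodule.span F {H.e}
          rw [hdec, Submodule.span_singleton_smul_eq]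
          exact Ne.isUnit fun h => hu0 (by rw [hdec, h, zero_smul])
        rw [this, he]
      · obtain ⟨w, hwdef⟩ : ∃ w, w = H.proj u := ⟨_, rfl⟩
        rw [← hwdef] at huV
        have hwV : w ∈ H.V := hwdef ▸ H.proj_mem hF u
        obtain ⟨hwe, hwf⟩ := H.mem_V.1 hwV
        have hdec : u = hermForm n F q u H.f • H.e + w := by
          conv_lhs => rw [H.decomp u, hue, zero_smul, add_zero, ← hwdef]
        have hww : hermForm n F q w w = 0 := by
          have h1 := hu
          rw [hdec] at h1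
          simpa [herm_add_left, herm_add_right hF, herm_smul_left, herm_smul_right, H.he, hwe,
            (herm_eq_zero_symm hF).1 hwe] using h1
        have hwfix : (proot (isoPt huV hww)).map φ.toMonoidHom = proot (isoPt huV hww) := by
          ext y
          simp only [Subgroup.mem_map]
          have hA : ∀ a ∈ rootSub (isoPt huV hww), φ (toPSU a) = toPSU a := by
            intro a ha
            obtain ⟨c, hc, rfl⟩ := (mem_rootSub_iff hF huV hww).1 ha
            refine hfixL _ ⟨⟨1, ?_⟩, 1, ?_⟩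
            · simp [ap_tv, (herm_eq_zero_symm hF).1 hwe]
            · simp [ap_tv, (herm_eq_zero_symm hF).1 hwf]
          constructor
          · rintro ⟨_, ⟨a, ha, rfl⟩, rfl⟩
            exact ⟨a, ha, (hA a ha).symm⟩
          · rintro ⟨a, ha, rfl⟩
            exact ⟨_, ⟨a, ha, rfl⟩, hA a ha⟩
        -- move `w` to `u` inside the radical
        obtain ⟨z, hzV, hz⟩ : ∃ z ∈ H.V, hermForm n F q w z = -hermForm n F q u H.f := by
          obtain ⟨f, hfon, hspan, hm⟩ := H.exists_ON hF hn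
          obtain ⟨i, hi⟩ : ∃ i, hermForm n F q w (f i) ≠ 0 := by
            by_contra hcon
            push Not at hcon
            apply huV
            rw [← hfon.proj_eq_self hF (x := w) (by rw [hspan]; exact hwV), projON]
            simp [hcon]
          obtain ⟨c, hc⟩ : ∃ c : F, c ^ q = -hermForm n F q u H.f / hermForm n F q w (f i) :=
            ⟨_, pow_q_q hF _⟩
          exact ⟨c • f i, H.V.smul_mem _ (mem_of_span_range hspan i), by
            rw [herm_smul_right, hc, div_mul_cancel₀ _ hi]⟩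
        obtain ⟨α, hα⟩ := exists_alpha hF H.he (H.mem_V.1 hzV).1
        have hmove : eSU hF hα • isoPt huV hww = isoPt hu0 hu := by
          refine smul_isoPt_eq huV hww hu0 hu one_ne_zero ?_
          rw [ap_eSU, hwe, hz, one_smul]
          conv_rhs => rw [hdec]
          module
        rw [← hmove]
        exact hconj _ _ (hfixQ _ (eSU_mem_unip hF hα)) hwfix
    · obtain ⟨X, hX, l, hl0, hXf⟩ := exists_unip_opposite hF H hu hue
      have hmove : X • H.pf = isoPt hu0 hu := smul_isoPt_eq H.f_ne H.hf hu0 hu hl0 hXf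
      rw [← hmove]
      exact hconj _ _ (hfixQ X hX) hf
  refine MulEquiv.ext fun x => ?_
  obtain ⟨a, rfl⟩ := toPSU_surjective x
  obtain ⟨b, hb⟩ := toPSU_surjective (φ (toPSU a))
  show φ (toPSU a) = toPSU a
  rw [← hb]
  have hc : a⁻¹ * b ∈ Subgroup.center (SU n F q) := by
    refine mem_center_of_fix hF hn fun L => ?_
    have h1 : proot (b • L) = proot (a • L) := by
      rw [← map_conj_proot, hb, ← hall (a • L), ← map_conj_proot, Subgroup.map_map]
      conv_lhs => rw [← hall L, Subgroup.map_map]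
      congr 1
      ext y
      simp
    rw [mul_smul, proot_injective hF hn h1, inv_smul_smul]
  rw [← ker_toPSU, MonoidHom.mem_ker, map_mul, map_inv, inv_mul_eq_one] at hc
  exact hc.symm

end Cfsg.Agent.Unitary
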