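import Mathlib
import Cfsg.Agent.Unitary.Aut

/-!
# The automorphism group of `PSU_n(q)` is `PΓU_n(q)`
-/

set_option autoImplicit false
set_option linter.unusedSectionVars false

namespace Cfsg.Agent.Unitary

open Cfsg Matrix

variable {F : Type*} [Field F] [Fintype F] {n q : ℕ}

/-- An isometry with prescribed images of a hyperbolic pair and an orthonormal basis of its orthogonal. -/
theorem exists_GU_frames (hF : Fintype.card F = q ^ 2) (H H' : HPair n F q) {m : ℕ} (hm : m + 2 = n)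
    {f f' : Fin m → Fin n → F} (hf : ON q f) (hfV : ∀ i, f i ∈ H.V) (hf' : ON q f')
    (hf'V : ∀ i, f' i ∈ H'.V) :
    ∃ g : GU n F q, gap g H.e = H'.e ∧ gap g H.f = H'.f ∧ ∀ i, gap g (f i) = f' i := by
  let a : Fin 2 ⊕ Fin m → Fin n → F := Sum.elim ![H.e, H.f] f
  let b : Fin 2 ⊕ Fin m → Fin n → F := Sum.elim ![H'.e, H'.f] f'
  have hspanV : Submodule.span F (Set.range f) = H.V := by
    have hle : Submodule.span F (Set.range f) ≤ H.V :=
      Submodule.span_le.2 (by rintro _ ⟨i, rfl⟩; exact hfV i)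
    refine Submodule.eq_of_le_of_finrank_eq hle ?_
    have := H.finrank_V hF
    rw [hf.finrank_span, Fintype.card_fin]
    omega
  have has : ⊤ ≤ Submodule.span F (Set.range a) := by
    intro x _
    rw [H.decomp x]
    refine add_mem (add_mem (Submodule.smul_mem _ _ ?_) (Submodule.smul_mem _ _ ?_)) ?_
    · exact Submodule.subset_span ⟨Sum.inl 0, rfl⟩
    · exact Submodule.subset_span ⟨Sum.inl 1, rfl⟩
    · have h1 : Submodule.span F (Set.range f) ≤ Submodule.span F (Set.range a) :=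
        Submodule.span_mono (by rintro _ ⟨i, rfl⟩; exact ⟨Sum.inr i, rfl⟩)
      exact h1 (hspanV.symm ▸ H.proj_mem hF x)
  have hai : LinearIndependent F a := by
    refine linearIndependent_of_top_le_span_of_card_eq_finrank has ?_
    simp [Module.finrank_fin_fun]
    omega
  obtain ⟨g, hg⟩ := exists_isometry_of_gram hF hai has (b := b) (by
    have he : ∀ i, hermForm n F q H.e (f i) = 0 ∧ hermForm n F q (f i) H.e = 0 ∧
        hermForm n F q H.f (f i) = 0 ∧ hermForm n F q (f i) H.f = 0 := fun i =>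
      ⟨(herm_eq_zero_symm hF).1 (H.mem_V.1 (hfV i)).1, (H.mem_V.1 (hfV i)).1,
        (herm_eq_zero_symm hF).1 (H.mem_V.1 (hfV i)).2, (H.mem_V.1 (hfV i)).2⟩
    have he' : ∀ i, hermForm n F q H'.e (f' i) = 0 ∧ hermForm n F q (f' i) H'.e = 0 ∧
        hermForm n F q H'.f (f' i) = 0 ∧ hermForm n F q (f' i) H'.f = 0 := fun i =>
      ⟨(herm_eq_zero_symm hF).1 (H'.mem_V.1 (hf'V i)).1, (H'.mem_V.1 (hf'V i)).1,
        (herm_eq_zero_symm hF).1 (H'.mem_V.1 (hf'V i)).2, (H'.mem_V.1 (hf'V i)).2⟩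
    rintro (i | i) (j | j)
    · fin_cases i <;> fin_cases j <;>
        simp [a, b, H.he, H.hf, H.hfe, H.hef hF, H'.he, H'.hf, H'.hfe, H'.hef hF]
    · fin_cases i <;> simp [a, b, he, he']
    · fin_cases j <;> simp [a, b, he, he']
    · simp [a, b, hf i j, hf' i j])
  exact ⟨g, hg (Sum.inl 0), hg (Sum.inl 1), fun i => hg (Sum.inr i)⟩

theorem exists_noncommuting (hF : Fintype.card F = q ^ 2) (hn : 3 ≤ n) (H : HPair n F q) :
    ∃ x ∈ proot (H.pe hF), ∃ y ∈ proot H.pf, ¬ Commute x y := by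
  obtain ⟨δ, hδ0, hδ⟩ := exists_skew hF
  have hδt : δ + δ ^ q = 0 := by rw [hδ, add_neg_cancel]
  refine ⟨_, Subgroup.mem_map_of_mem _ ((mem_rootSub_iff hF (H.e_ne hF) H.he).2 ⟨δ, hδt, rfl⟩),
    _, Subgroup.mem_map_of_mem _ ((mem_rootSub_iff hF H.f_ne H.hf).2 ⟨δ, hδt, rfl⟩), fun hc => ?_⟩
  obtain ⟨f, hfon, hspan, hm⟩ := H.exists_ON hF hn
  obtain ⟨w, hw⟩ : ∃ w, w = f ⟨0, hm⟩ := ⟨_, rfl⟩
  obtain ⟨hwe, hwf⟩ := H.mem_V.1 (hw ▸ mem_of_span_range hspan _ : w ∈ H.V)
  have hw0 : w ≠ 0 := fun h => by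
    have := hfon ⟨0, hm⟩ ⟨0, hm⟩
    rw [if_pos rfl, ← hw, h, herm_zero_left] at this
    exact zero_ne_one this
  have h1 : tv hF H.he hδt * tv hF H.hf hδt = tv hF H.hf hδt * tv hF H.he hδt := by
    refine toPSU_inj_of_fix hF (by omega) hw0 ?_ ?_ (by rw [map_mul, map_mul]; exact hc.eq)
    · simp [ap_mul, ap_tv, hwe, hwf]
    · simp [ap_mul, ap_tv, hwe, hwf]
  have h2 := congrArg (fun A => hermForm n F q (ap A H.e) H.f) h1
  simp only [ap_mul, ap_tv, H.he, H.hf, H.hfe, H.hef hF, herm_add_left, herm_smul_left, mul_zero,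
    mul_one, zero_smul, add_zero, zero_add] at h2
  exact mul_ne_zero hδ0 hδ0 (by linear_combination h2)

theorem commute_proot_of_orth (hF : Fintype.card F = q ^ 2) {u v : Fin n → F} (hu0 : u ≠ 0)
    (hu : hermForm n F q u u = 0) (hv0 : v ≠ 0) (hv : hermForm n F q v v = 0)
    (huv : hermForm n F q u v = 0) :
    ∀ x ∈ proot (isoPt hu0 hu), ∀ y ∈ proot (isoPt hv0 hv), Commute x y := by
  rintro _ ⟨A, hA, rfl⟩ _ ⟨B, hB, rfl⟩
  obtain ⟨c, hc, rfl⟩ := (mem_rootSub_iff hF hu0 hu).1 hA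
  obtain ⟨d, hd, rfl⟩ := (mem_rootSub_iff hF hv0 hv).1 hB
  have h : tv hF hu hc * tv hF hv hd = tv hF hv hd * tv hF hu hc := by
    refine ap_ext fun x => ?_
    simp only [ap_mul, ap_tv, herm_add_left, herm_smul_left, huv, (herm_eq_zero_symm hF).1 huv]
    module
  exact Commute.map (show Commute _ _ from h) toPSU

theorem isoPt_congr {u v : Fin n → F} (hu0 : u ≠ 0) (hu : hermForm n F q u u = 0) (hv0 : v ≠ 0)
    (hv : hermForm n F q v v = 0) {c : F} (h : u = c • v) : isoPt hu0 hu = isoPt hv0 hv := by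
  apply Subtype.ext
  show Submodule.span F {u} = Submodule.span F {v}
  rw [h, Submodule.span_singleton_smul_eq]
  exact Ne.isUnit fun h0 => hu0 (by rw [h, h0, zero_smul])

theorem eq_of_map_proot {φ ψ : MulAut (PSU n F q)} {L M : IsoPoint n F q}
    (h : (proot L).map φ.toMonoidHom = proot M) (h' : (proot L).map ψ.toMonoidHom = proot M) :
    (proot L).map (ψ⁻¹ * φ).toMonoidHom = proot L := by
  rw [show (ψ⁻¹ * φ).toMonoidHom = ψ⁻¹.toMonoidHom.comp φ.toMonoidHom from rfl, ← Subgroup.map_map, h,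
    ← h', Subgroup.map_map]
  convert Subgroup.map_id (proot L)
  ext x
  exact ψ.symm_apply_apply x

theorem semiSU_eSU (hF : Fintype.card F = q ^ 2) (g : GU n F q) (σ : F ≃+* F) {u w : Fin n → F} {α : F}
    (h : ESpec q u w α) (h' : ESpec q (semi g σ u) (semi g σ w) (σ α)) :
    semiSU g σ (eSU hF h) = eSU hF h' := by
  refine ap_ext fun y => ?_
  obtain ⟨x, rfl⟩ := semi_surjective g σ y
  rw [ap_semiSU, ap_eSU, ap_eSU]
  simp only [sub_eq_add_neg, ← neg_smul, semi_add, semi_smul, herm_semi, map_mul, map_neg]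

/-- Every automorphism of `PSU_n(q)` is semilinear. -/
theorem exists_semiAut (hF : Fintype.card F = q ^ 2) (hn : 3 ≤ n) (h32 : ¬ (n = 3 ∧ q = 2))
    (φ : MulAut (PSU n F q)) : ∃ (g : GU n F q) (σ : F ≃+* F), φ = semiAut g σ := by
  have hbig := hbig_of hF hn h32
  obtain ⟨H⟩ := exists_hpair (n := n) hF (by omega)
  obtain ⟨M₁, hM₁⟩ := exists_map_proot hF hn φ (H.pe hF)
  obtain ⟨M₂, hM₂⟩ := exists_map_proot hF hn φ H.pf
  obtain ⟨u, hu0, hu, rfl⟩ := exists_isoPt M₁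
  obtain ⟨v, hv0, hv, rfl⟩ := exists_isoPt M₂
  have huv : hermForm n F q v u ≠ 0 := by
    intro h
    obtain ⟨x, hx, y, hy, hnc⟩ := exists_noncommuting hF hn H
    apply hnc
    have h1 : φ x ∈ proot (isoPt hu0 hu) := hM₁ ▸ Subgroup.mem_map_of_mem φ.toMonoidHom hx
    have h2 : φ y ∈ proot (isoPt hv0 hv) := hM₂ ▸ Subgroup.mem_map_of_mem φ.toMonoidHom hy
    have h3 := commute_proot_of_orth hF hu0 hu hv0 hv ((herm_eq_zero_symm hF).1 h) _ h1 _ h2
    exact φ.injective (by rw [map_mul, map_mul]; exact h3.eq)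
  let H' : HPair n F q :=
    { e := u
      f := (hermForm n F q v u)⁻¹ • v
      he := hu
      hf := by rw [herm_self_smul, hv, mul_zero]
      hfe := by rw [herm_smul_left, inv_mul_cancel₀ huv] }
  obtain ⟨f, hfon, hspan, -⟩ := H.exists_ON hF hn
  obtain ⟨f', hfon', hspan', -⟩ := H'.exists_ON hF hn
  have hfV := mem_of_span_range hspan
  have hmV := H.finrank_V hF
  have hm' : Module.finrank F H'.V = Module.finrank F H.V := by
    have := H'.finrank_V hF; omega
  obtain ⟨g₀, hg₀e, hg₀f, -⟩ := exists_GU_frames hF H H' (f := f)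
    (f' := fun i => f' (Fin.cast hm'.symm i)) hmV hfon hfV
    (fun i j => by
      have := hfon' (Fin.cast hm'.symm i) (Fin.cast hm'.symm j)
      simpa [Fin.ext_iff] using this)
    (fun i => mem_of_span_range hspan' _)
  have hs₀ : ∀ x, semi g₀ (RingEquiv.refl F) x = gap g₀ x := fun x => rfl
  have h0e : (proot (H.pe hF)).map (semiAut g₀ (RingEquiv.refl F)).toMonoidHom = proot (isoPt hu0 hu) := by
    rw [HPair.pe, map_semiAut_proot hF]
    exact congrArg proot (isoPt_congr _ _ _ _ (c := 1) (by rw [hs₀, hg₀e, one_smul]))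
  have h0f : (proot H.pf).map (semiAut g₀ (RingEquiv.refl F)).toMonoidHom = proot (isoPt hv0 hv) := by
    rw [HPair.pf, map_semiAut_proot hF]
    exact congrArg proot (isoPt_congr _ _ _ _ (c := (hermForm n F q v u)⁻¹) (by rw [hs₀, hg₀f]))
  obtain ⟨φ₁, hφ₁⟩ : ∃ ψ, ψ = (semiAut g₀ (RingEquiv.refl F))⁻¹ * φ := ⟨_, rfl⟩
  have h1e : (proot (H.pe hF)).map φ₁.toMonoidHom = proot (H.pe hF) := hφ₁ ▸ eq_of_map_proot hM₁ h0e
  have h1f : (proot H.pf).map φ₁.toMonoidHom = proot H.pf := hφ₁ ▸ eq_of_map_proot hM₂ h0f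
  obtain ⟨σ, ν, hν, A, hAσ, hAh, hAx⟩ := exists_semilinear hF hbig H φ₁ h1e h1f
  let Hs : HPair n F q :=
    { e := sig σ H.e
      f := sig σ H.f
      he := by rw [herm_sig, H.he, map_zero]
      hf := by rw [herm_sig, H.hf, map_zero]
      hfe := by rw [herm_sig, H.hfe, map_one] }
  let Hc : HPair n F q :=
    { e := ν ^ q • H.e
      f := ν⁻¹ • H.f
      he := by rw [herm_self_smul, H.he, mul_zero]
      hf := by rw [herm_self_smul, H.hf, mul_zero]
      hfe := by rw [herm_smul_left, herm_smul_right, H.hfe, pow_q_q hF, mul_one, inv_mul_cancel₀ hν] }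
  obtain ⟨g, hge, hgf, hgi⟩ := exists_GU_frames hF Hs Hc (f := fun i => sig σ (f i))
    (f' := fun i => ν⁻¹ • (A ⟨f i, hfV i⟩).1) hmV
    (fun i j => by rw [herm_sig, hfon, apply_ite σ, map_one, map_zero])
    (fun i => by
      obtain ⟨h1, h2⟩ := H.mem_V.1 (hfV i)
      exact Hs.mem_V.2 ⟨by rw [herm_sig, h1, map_zero], by rw [herm_sig, h2, map_zero]⟩)
    (fun i j => by
      rw [herm_smul_left, herm_smul_right, hAh, hfon, apply_ite σ, map_one, map_zero, inv_pow]
      have hνq : ν ^ q ≠ 0 := pow_ne_zero _ hν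
      split_ifs <;> field_simp)
    (fun i => by
      obtain ⟨h1, h2⟩ := H.mem_V.1 (A ⟨f i, hfV i⟩).2
      refine Hc.mem_V.2 ⟨?_, ?_⟩ <;> simp [Hc, herm_smul_left, herm_smul_right, h1, h2])
  have hse : semi g σ H.e = ν ^ q • H.e := hge
  have hsf : semi g σ H.f = ν⁻¹ • H.f := hgf
  have hsV : ∀ w, ∀ hw : w ∈ H.V, semi g σ w = ν⁻¹ • (A ⟨w, hw⟩).1 := by
    intro w hw
    have hw' : w ∈ Submodule.span F (Set.range f) := by rw [hspan]; exact hw
    have key : ∀ hw : w ∈ H.V, semi g σ w = ν⁻¹ • (A ⟨w, hw⟩).1 := by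
      induction hw' using Submodule.span_induction with
      | mem x hx => obtain ⟨i, rfl⟩ := hx; exact fun _ => hgi i
      | zero =>
        intro h
        rw [show (⟨0, h⟩ : H.V) = 0 from rfl, map_zero, Submodule.coe_zero, smul_zero,
          ← zero_smul F (0 : Fin n → F), semi_smul, map_zero, zero_smul, zero_smul]
      | add x y hx hy ihx ihy =>
        intro h
        have hx' : x ∈ H.V := hspan ▸ hx
        have hy' : y ∈ H.V := hspan ▸ hy
        rw [semi_add, ihx hx' hx', ihy hy' hy', show (⟨x + y, h⟩ : H.V) = ⟨x, hx'⟩ + ⟨y, hy'⟩ from rfl,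
          map_add, Submodule.coe_add, smul_add]
      | smul a x hx ihx =>
        intro h
        have hx' : x ∈ H.V := hspan ▸ hx
        rw [semi_smul, ihx hx' hx', show (⟨a • x, h⟩ : H.V) = a • ⟨x, hx'⟩ from rfl, hAσ,
          Submodule.coe_smul, smul_comm]
    exact key hw
  have h2e : (proot (H.pe hF)).map (semiAut g σ).toMonoidHom = proot (H.pe hF) := by
    rw [HPair.pe, map_semiAut_proot hF]
    exact congrArg proot (isoPt_congr _ _ _ _ hse)
  have h2f : (proot H.pf).map (semiAut g σ).toMonoidHom = proot H.pf := by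
    rw [HPair.pf, map_semiAut_proot hF]
    exact congrArg proot (isoPt_congr _ _ _ _ hsf)
  have hone : (semiAut g σ)⁻¹ * φ₁ = 1 := by
    refine eq_one_of_fixed hF hbig H _ (eq_of_map_proot h1e h2e) (eq_of_map_proot h1f h2f) ?_
    intro x hx y hy hxy
    obtain ⟨w, α, hs, hwf, rfl⟩ := H.exists_eq_eSU hF hy
    obtain ⟨y', hy', hy'π, hy'A⟩ := hAx x hx
    have hwV : w ∈ H.V := H.mem_V.2 ⟨hs.orth, hwf⟩
    obtain ⟨W, hW⟩ : ∃ W, W = (A ⟨w, hwV⟩).1 := ⟨_, rfl⟩
    obtain ⟨hWe, hWf⟩ := H.mem_V.1 (hW ▸ (A ⟨w, hwV⟩).2 : W ∈ H.V)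
    have hsw : semi g σ w = ν⁻¹ • W := by rw [hsV w hwV, hW]
    have hsp : ESpec q (semi g σ H.e) (semi g σ w) (σ α) := by
      refine ⟨by rw [herm_semi, hs.iso, map_zero], by rw [herm_semi, hs.orth, map_zero], ?_⟩
      rw [herm_semi, ← map_pow, ← map_add, ← map_add, hs.tr, map_zero]
    have hspW : ESpec q H.e W (ν * ν ^ q * σ α) := by
      refine ⟨H.he, hWe, ?_⟩
      have h1 := hAh ⟨w, hwV⟩ ⟨w, hwV⟩
      rw [← hW] at h1
      rw [h1, mul_pow, mul_pow, pow_q_q hF]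
      have h2 := hsp.tr
      rw [herm_semi] at h2
      linear_combination (ν * ν ^ q) * h2
    have heq : semiSU g σ (eSU hF hs) = eSU hF hspW := by
      rw [semiSU_eSU hF g σ hs hsp]
      refine ap_ext fun z => ?_
      simp only [ap_eSU, hse, hsw, herm_smul_right, pow_q_q hF]
      match_scalars <;> field_simp
      all_goals rw [div_pow, one_pow]
      all_goals field_simp
      all_goals ring
    have hπ : toPSU (eSU hF hspW) = φ₁ (toPSU x) := by
      rw [← heq, ← semiAut_toPSU]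
      show semiAut g σ (toPSU (eSU hF hs)) = _
      rw [hxy]
      exact MulEquiv.apply_symm_apply _ _
    have hyy : y' = eSU hF hspW :=
      toPSU_inj_of_fix hF (by omega) (H.e_ne hF) hy'.1 (eSU_mem_unip hF hspW).1 (hy'π.trans hπ.symm)
    have h5 := hy'A ⟨H.psi x, H.psi_mem hF hx⟩ rfl
    rw [hyy, H.psi_eSU hF hspW hWf, hW] at h5
    have h6 := A.injective (Subtype.ext h5)
    rw [H.psi_eSU hF hs hwf]
    exact (congrArg Subtype.val h6).symm
  rw [inv_mul_eq_one] at hone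
  refine ⟨g₀ * guMap hF (RingEquiv.refl F) g, σ.trans (RingEquiv.refl F), ?_⟩
  rw [← semiAut_mul hF, hone, hφ₁, mul_inv_cancel_left]

end Cfsg.Agent.Unitary
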