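import Mathlib
import Cfsg.Agent.Unitary.Order

/-!
# The centre of `GU` and the quotient `GU / (SU · Z)`
-/

set_option autoImplicit false
set_option linter.unusedSectionVars false

namespace Cfsg.Agent.Unitary

open Cfsg Matrix

variable {F : Type*} [Field F] [Fintype F] {n q : ℕ}

theorem exists_norm_one_ne_one (hF : Fintype.card F = q ^ 2) :
    ∃ a : F, a * a ^ q = 1 ∧ a ≠ 1 := by
  by_contra h
  push Not at h
  have : Nat.card {x : F // x * x ^ q = 1} ≤ 1 := by
    rw [Finite.card_le_one_iff_subsingleton]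
    exact ⟨fun x y => Subtype.ext ((h x.1 x.2).trans (h y.1 y.2).symm)⟩
  rw [card_norm_eq_one hF] at this
  have := two_le_q hF
  omega

theorem preserves_perm (σ : Equiv.Perm (Fin n)) :
    Preserves q ((1 : Matrix (Fin n) (Fin n) F).submatrix σ id) := by
  intro u v
  have h : ∀ w : Fin n → F, (1 : Matrix (Fin n) (Fin n) F).submatrix σ id *ᵥ w = w ∘ σ := by
    intro w
    funext i
    simp [Matrix.mulVec, dotProduct, Matrix.one_apply]
  rw [h, h]
  exact Equiv.sum_comp σ (fun i => u i * v i ^ q)

theorem preserves_smul_one {c : F} (hc : c * c ^ q = 1) :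
    Preserves q (c • (1 : Matrix (Fin n) (Fin n) F)) := by
  intro u v
  rw [smul_mulVec, smul_mulVec, one_mulVec, one_mulVec, herm_smul_left, herm_smul_right, ← mul_assoc,
    hc, one_mul]

/-- The centre of `GU` consists of scalars. -/
theorem eq_smul_of_mem_center_GU (hF : Fintype.card F = q ^ 2) [NeZero n] {g : GU n F q}
    (hg : g ∈ Subgroup.center (GU n F q)) :
    ∃ c : F, ((g : GL (Fin n) F) : Matrix (Fin n) (Fin n) F) = c • (1 : Matrix (Fin n) (Fin n) F) ∧
      c * c ^ q = 1 := by
  obtain ⟨a, ha, ha1⟩ := exists_norm_one_ne_one hF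
  generalize hM : ((g : GL (Fin n) F) : Matrix (Fin n) (Fin n) F) = M
  have hcomm : ∀ {N : Matrix (Fin n) (Fin n) F}, Preserves q N → N * M = M * N := by
    intro N hN
    have h := congrArg (fun x : GU n F q => ((x : GL (Fin n) F) : Matrix (Fin n) (Fin n) F))
      (Subgroup.mem_center_iff.1 hg (toGU hF hN))
    simpa [Subgroup.coe_mul, Units.val_mul, coe_toGU, hM] using h
  have hoff : ∀ i j, i ≠ j → M i j = 0 := by
    intro i j hij
    let d : Fin n → F := Function.update 1 i a
    have hd : ∀ k, d k * d k ^ q = 1 := by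
      intro k
      simp only [d, Function.update_apply, Pi.one_apply]
      split_ifs
      · exact ha
      · simp
    have h := congrFun (congrFun (hcomm (preserves_diagonal hd)) i) j
    rw [Matrix.diagonal_mul, Matrix.mul_diagonal] at h
    simp only [d, Function.update_self, Function.update_of_ne (Ne.symm hij), Pi.one_apply,
      mul_one] at h
    by_contra hM0
    exact ha1 ((mul_eq_right₀ hM0).1 h)
  have hdiag : ∀ i j, M i i = M j j := by
    intro i j
    have h := congrFun (congrFun (hcomm (preserves_perm (q := q) (Equiv.swap i j))) i) j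
    simpa [Matrix.mul_apply, Matrix.one_apply, Finset.sum_eq_single_of_mem,
      Equiv.swap_apply_eq_iff] using h.symm
  refine ⟨M 0 0, ?_, ?_⟩
  · ext i j
    rcases eq_or_ne i j with rfl | hij
    · simp [hdiag i 0]
    · simp [hoff i j hij, hij]
  · have h := mem_GU_iff.1 g.2 (Pi.single 0 1) (Pi.single 0 1)
    have hM2 : M = M 0 0 • (1 : Matrix (Fin n) (Fin n) F) := by
      ext i j
      rcases eq_or_ne i j with rfl | hij
      · simp [hdiag i 0]
      · simp [hoff i j hij, hij]
    rw [hM, hM2, smul_mulVec, one_mulVec, herm_self_smul, herm_single_single hF, if_pos rfl,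
      mul_one] at h
    exact h

/-- `GU / (SU · Z)` is cyclic of order `gcd(n, q + 1)`. -/
theorem exists_quotient_hom (hF : Fintype.card F = q ^ 2) (hn : 1 ≤ n) :
    ∃ φ : GU n F q →* Multiplicative (ZMod (Nat.gcd n (q + 1))), Function.Surjective φ ∧
      φ.ker = (detGU n F q).ker ⊔ Subgroup.center (GU n F q) := by
  have : NeZero n := ⟨by omega⟩
  set d := Nat.gcd n (q + 1) with hd
  obtain ⟨k, hk⟩ := Nat.gcd_dvd_right n (q + 1)
  set U : Subgroup Fˣ := (powMonoidHom (q + 1) : Fˣ →* Fˣ).ker with hU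
  have hUcard : Nat.card U = q + 1 := card_ker_pow hF
  let D : GU n F q →* U :=
    (detGU n F q).codRestrict U fun g => by rw [hU, ← detGU_range hF hn]; exact ⟨g, rfl⟩
  have hD : Function.Surjective D := by
    rintro ⟨u, hu⟩
    obtain ⟨g, hg⟩ : u ∈ (detGU n F q).range := (detGU_range hF hn).symm ▸ hu
    exact ⟨g, Subtype.ext hg⟩
  let P : U →* U := powMonoidHom k
  have hk0 : 0 < k := by
    rcases Nat.eq_zero_or_pos k with h | h
    · rw [h, mul_zero] at hk; omega
    · exact h
  have hPr : Nat.card P.range = d := by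
    rw [IsCyclic.card_powMonoidHom_range, hUcard, Nat.gcd_eq_right ⟨d, by rw [hk, mul_comm, ← hd]⟩,
      hk, ← hd, Nat.mul_div_cancel _ hk0]
  have hPk : P.ker = (powMonoidHom n : U →* U).range := by
    apply (Subgroup.eq_of_le_of_card_ge ?_ ?_).symm
    · rintro _ ⟨u, rfl⟩
      obtain ⟨m, hm⟩ := Nat.gcd_dvd_left n (q + 1)
      rw [MonoidHom.mem_ker, powMonoidHom_apply, powMonoidHom_apply, ← pow_mul,
        show n * k = m * (q + 1) by rw [hm, ← hd, hk, ← hd]; ring, mul_comm, pow_mul,
        show u ^ (q + 1) = 1 by rw [← hUcard, pow_card_eq_one'], one_pow]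
    · rw [IsCyclic.card_powMonoidHom_ker, IsCyclic.card_powMonoidHom_range, hUcard,
        Nat.gcd_eq_right ⟨d, by rw [hk, mul_comm, ← hd]⟩, Nat.gcd_comm, ← hd, hk, ← hd,
        Nat.mul_div_cancel_left _ (Nat.gcd_pos_of_pos_left _ (by omega))]
  have e : P.range ≃* Multiplicative (ZMod d) := by
    have h := zmodCyclicMulEquiv (G := P.range) inferInstance
    rw [hPr] at h
    exact h.symm
  refine ⟨e.toMonoidHom.comp (P.rangeRestrict.comp D),
    e.surjective.comp (P.rangeRestrict_surjective.comp hD), ?_⟩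
  have hker : (e.toMonoidHom.comp (P.rangeRestrict.comp D)).ker = (P.comp D).ker := by
    ext x
    rw [MonoidHom.mem_ker, MonoidHom.mem_ker, MonoidHom.comp_apply, MulEquiv.toMonoidHom_eq_coe,
      MonoidHom.coe_coe, EmbeddingLike.map_eq_one_iff, MonoidHom.comp_apply, MonoidHom.comp_apply]
    exact Subtype.ext_iff
  rw [hker]
  refine le_antisymm (fun g hg => ?_) (sup_le (fun g hg => ?_) (fun g hg => ?_))
  · rw [MonoidHom.mem_ker, MonoidHom.comp_apply] at hg
    obtain ⟨c, hc⟩ : D g ∈ (powMonoidHom n : U →* U).range := hPk ▸ hg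
    have hc' : ((c : Fˣ) : F) * ((c : Fˣ) : F) ^ q = 1 := by
      have := congrArg Units.val (MonoidHom.mem_ker.1 c.2)
      simpa [pow_succ'] using this
    let s : GU n F q := toGU hF (preserves_smul_one hc')
    have hs : detGU n F q s = detGU n F q g := by
      refine Units.ext ?_
      have h := congrArg (fun x : U => ((x : Fˣ) : F)) hc
      simp only [powMonoidHom_apply, SubmonoidClass.coe_pow, Units.val_pow_eq_pow_val] at h
      rw [detGU_val, coe_toGU, Matrix.det_smul, Fintype.card_fin, Matrix.det_one, mul_one, h]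
      rfl
    rw [← inv_mul_cancel_right g s]
    refine Subgroup.mul_mem_sup ?_ ?_
    · rw [MonoidHom.mem_ker, map_mul, map_inv, hs, mul_inv_cancel]
    · rw [Subgroup.mem_center_iff]
      intro x
      refine Subtype.ext (Units.ext ?_)
      simp only [Subgroup.coe_mul, Units.val_mul, s, coe_toGU]
      simp
  · rw [MonoidHom.mem_ker, MonoidHom.comp_apply,
      show D g = 1 from Subtype.ext (MonoidHom.mem_ker.1 hg), map_one]
  · rw [MonoidHom.mem_ker, MonoidHom.comp_apply, ← MonoidHom.mem_ker, hPk]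
    obtain ⟨c, hc, hcn⟩ := eq_smul_of_mem_center_GU hF hg
    have hc0 : c ≠ 0 := by rintro rfl; simp at hcn
    refine ⟨⟨Units.mk0 c hc0, ?_⟩, ?_⟩
    · rw [hU, MonoidHom.mem_ker, powMonoidHom_apply]
      ext
      simpa [pow_succ'] using hcn
    · refine Subtype.ext (Units.ext ?_)
      show ((Units.mk0 c hc0 ^ n : Fˣ) : F) = ((detGU n F q g : Fˣ) : F)
      rw [detGU_val, hc, Matrix.det_smul, Fintype.card_fin, Matrix.det_one, mul_one,
        Units.val_pow_eq_pow_val, Units.val_mk0]

end Cfsg.Agent.Unitary
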