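import Mathlib
import Cfsg.Prelude.Def_KGroupFacts
import Cfsg.Agent.Unitary.AutThm
import Cfsg.Agent.Unitary.GUCenter
import Cfsg.Agent.H56.OutPSL

/-!
# Consequences: order and structure of `Aut` and `Out` of `PSU_n(q)`
-/

set_option autoImplicit false
set_option linter.unusedSectionVars false

namespace Cfsg.Agent.Unitary

open Cfsg Matrix

variable {F : Type*} [Field F] [Fintype F] {n q : ℕ}

/-! ### The predicates of the prelude -/

theorem isInduced_semiAut (g : GU n F q) (σ : F ≃+* F) :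
    Cfsg.IsInducedBySemilinearPSU (g : GL (Fin n) F) σ (semiAut g σ) := by
  intro s s' h
  have e : semiSU g σ s = s' := Subtype.ext (Subtype.ext h.symm)
  show toPSU (semiSU g σ s) = _
  rw [e]
  rfl

theorem eq_semiAut_of_isInduced {g : GL (Fin n) F} {σ : F ≃+* F} {β : MulAut (PSU n F q)}
    (hg : g ∈ GU n F q) (h : Cfsg.IsInducedBySemilinearPSU g σ β) : β = semiAut ⟨g, hg⟩ σ := by
  refine MulEquiv.ext fun x => ?_
  obtain ⟨s, rfl⟩ := toPSU_surjective x
  exact h s (semiSU ⟨g, hg⟩ σ s) rfl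

theorem isInnerDiagonal_semiAut (g : GU n F q) :
    Cfsg.IsInnerDiagonalAutPSU (semiAut g (RingEquiv.refl F)) :=
  ⟨g, g.2, fun s s' h => isInduced_semiAut g (RingEquiv.refl F) s s' (h.trans (by simp))⟩

theorem exists_of_isInnerDiagonal {β : MulAut (PSU n F q)} (h : Cfsg.IsInnerDiagonalAutPSU β) :
    ∃ g : GU n F q, β = semiAut g (RingEquiv.refl F) := by
  obtain ⟨g, hg, hβ⟩ := h
  exact ⟨⟨g, hg⟩, eq_semiAut_of_isInduced hg fun s s' h' => hβ s s' (h'.trans (by simp))⟩

theorem isFieldAut_semiAut (σ : F ≃+* F) :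
    Cfsg.IsFieldAutPSUOf σ (semiAut (1 : GU n F q) σ) := by
  intro s s' h
  exact isInduced_semiAut 1 σ s s' (h.trans (by simp))

theorem eq_semiAut_of_isFieldAut {σ : F ≃+* F} {β : MulAut (PSU n F q)}
    (h : Cfsg.IsFieldAutPSUOf σ β) : β = semiAut (1 : GU n F q) σ :=
  eq_semiAut_of_isInduced (one_mem _) fun s s' h' => h s s' (h'.trans (by simp))

/-! ### The two homomorphisms -/

variable (hF : Fintype.card F = q ^ 2)

include hF

theorem guMap_refl (g : GU n F q) : guMap hF (RingEquiv.refl F) g = g :=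
  gap_ext fun x => by rw [gap, gmat_guMap, gap]; simp

theorem guMap_one (σ : F ≃+* F) : guMap hF σ (1 : GU n F q) = 1 :=
  gap_ext fun x => by
    rw [gap, gmat_guMap, gap]
    simp [gmat]

/-- The semilinear automorphism splits as inner-diagonal times field. -/
theorem semiAut_split (g : GU n F q) (σ : F ≃+* F) :
    semiAut g σ = semiAut g (RingEquiv.refl F) * semiAut 1 σ := by
  rw [semiAut_mul hF, guMap_refl hF, mul_one]
  rfl

/-- The inner-diagonal automorphisms as a homomorphism. -/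
noncomputable def diagHom : GU n F q →* MulAut (PSU n F q) where
  toFun g := semiAut g (RingEquiv.refl F)
  map_one' := semiAut_one
  map_mul' g h := by rw [semiAut_mul hF, guMap_refl hF]; rfl

theorem diagHom_apply (g : GU n F q) : diagHom hF g = semiAut g (RingEquiv.refl F) := rfl

theorem gammaPSU_eq_top (hn : 3 ≤ n) (h32 : ¬ (n = 3 ∧ q = 2)) :
    Cfsg.gammaPSU n F q = ⊤ := by
  rw [eq_top_iff]
  intro φ _
  obtain ⟨g, σ, rfl⟩ := exists_semiAut hF hn h32 φ
  exact Subgroup.subset_closure ⟨g, σ, g.2, isInduced_semiAut g σ⟩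

theorem inndiagPSU_eq :
    Cfsg.inndiagPSU n F q = (diagHom (n := n) hF).range := by
  apply le_antisymm
  · refine (Subgroup.closure_le _).2 fun β hβ => ?_
    obtain ⟨g, rfl⟩ := exists_of_isInnerDiagonal hβ
    exact ⟨g, rfl⟩
  · rintro _ ⟨g, rfl⟩
    exact Subgroup.subset_closure (isInnerDiagonal_semiAut g)

theorem semiAut_inj_field (hn : 3 ≤ n) {g h : GU n F q} {σ τ : F ≃+* F}
    (e : semiAut g σ = semiAut h τ) : σ = τ := by
  obtain ⟨k, hk⟩ : ∃ k : GU n F q, semiAut k τ.symm * semiAut h τ = 1 := by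
    refine ⟨(guMap hF τ.symm h)⁻¹, ?_⟩
    rw [semiAut_mul hF, inv_mul_cancel, RingEquiv.self_trans_symm, semiAut_one]
  rw [← e, semiAut_mul hF] at hk
  obtain ⟨h1, -⟩ := eq_of_semiAut_eq_one hF hn hk
  exact RingEquiv.ext fun x => τ.symm.injective
    ((RingEquiv.congr_fun h1 x).trans (τ.symm_apply_apply x).symm)

variable (hn : 3 ≤ n) (h32 : ¬ (n = 3 ∧ q = 2))

include hn

theorem exists_fieldPart (φ : MulAut (PSU n F q)) (h32 : ¬ (n = 3 ∧ q = 2)) :
    ∃ σ : RingAut F, ∃ g : GU n F q, φ = semiAut g σ := by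
  obtain ⟨g, σ, h⟩ := exists_semiAut hF hn h32 φ
  exact ⟨σ, g, h⟩

/-- The field part of an automorphism. -/
noncomputable def fieldHomPSU : MulAut (PSU n F q) →* RingAut F :=
  MonoidHom.mk' (fun φ => Classical.choose (exists_fieldPart hF hn φ h32))
    fun φ ψ => by
      obtain ⟨g₁, h₁⟩ := Classical.choose_spec (exists_fieldPart hF hn φ h32)
      obtain ⟨g₂, h₂⟩ := Classical.choose_spec (exists_fieldPart hF hn ψ h32)
      obtain ⟨g₃, h₃⟩ := Classical.choose_spec (exists_fieldPart hF hn (φ * ψ) h32)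
      have h := congrArg₂ (· * ·) h₁ h₂
      simp only [semiAut_mul hF] at h
      exact semiAut_inj_field hF hn (h₃.symm.trans h)

theorem fieldHomPSU_semiAut (g : GU n F q) (σ : F ≃+* F) :
    fieldHomPSU hF hn h32 (semiAut g σ) = σ :=
  semiAut_inj_field hF hn (Classical.choose_spec (Classical.choose_spec (exists_fieldPart hF hn (semiAut g σ) h32))).symm

theorem fieldHomPSU_surjective : Function.Surjective (fieldHomPSU (n := n) hF hn h32) := fun σ =>
  ⟨semiAut 1 σ, fieldHomPSU_semiAut hF hn h32 1 σ⟩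

theorem ker_fieldHomPSU : (fieldHomPSU hF hn h32).ker = (diagHom (n := n) hF).range := by
  ext φ
  rw [MonoidHom.mem_ker, MonoidHom.mem_range]
  constructor
  · intro h
    obtain ⟨g, σ, rfl⟩ := exists_semiAut hF hn h32 φ
    rw [fieldHomPSU_semiAut] at h
    exact ⟨g, by rw [h]; rfl⟩
  · rintro ⟨g, rfl⟩
    exact fieldHomPSU_semiAut hF hn h32 g _

/-- The scalars of norm one as a subgroup of `GU`. -/
noncomputable def scalarHom : (powMonoidHom (q + 1) : Fˣ →* Fˣ).ker →* GU n F q where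
  toFun u := toGU hF (preserves_smul_one (n := n) (c := ((u : Fˣ) : F)) (by
    have h : (u : Fˣ) ^ (q + 1) = 1 := u.2
    have := congrArg Units.val h
    simpa [pow_succ'] using this))
  map_one' := gap_ext fun x => by
    rw [gap, gmat, coe_toGU, gap, gmat]
    simp
  map_mul' u v := gap_ext fun x => by
    rw [gap_mul, gap, gmat, coe_toGU, gap, gmat, coe_toGU, gap, gmat, coe_toGU]
    simp [smul_mulVec, mulVec_smul, mul_smul]
    rw [smul_comm]

omit hn in
theorem gap_scalarHom (u : (powMonoidHom (q + 1) : Fˣ →* Fˣ).ker) (x : Fin n → F) :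
    gap (scalarHom hF u : GU n F q) x = ((u : Fˣ) : F) • x := by
  rw [scalarHom]
  simp [gap, gmat, coe_toGU, smul_mulVec]

theorem ker_diagHom : (diagHom (n := n) hF).ker = (scalarHom (n := n) hF).range := by
  ext g
  rw [MonoidHom.mem_ker, MonoidHom.mem_range, diagHom_apply]
  constructor
  · intro h
    obtain ⟨-, c, hc⟩ := eq_of_semiAut_eq_one hF hn h
    have : NeZero n := ⟨by omega⟩
    have hnorm : c * c ^ q = 1 := by
      have h1 := herm_gap g (Pi.single 0 1) (Pi.single 0 1)
      rw [hc, herm_self_smul, herm_single_single hF, if_pos rfl, mul_one] at h1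
      exact h1
    have hc0 : c ≠ 0 := fun h0 => by rw [h0, zero_mul] at hnorm; exact zero_ne_one hnorm
    refine ⟨⟨Units.mk0 c hc0, ?_⟩, gap_ext fun x => ?_⟩
    · rw [MonoidHom.mem_ker, powMonoidHom_apply]
      exact Units.ext (by simpa [pow_succ'] using hnorm)
    · rw [gap_scalarHom, hc]; rfl
  · rintro ⟨u, rfl⟩
    exact semiAut_scalar (gap_scalarHom hF u)

theorem card_range_diagHom :
    Nat.card (diagHom (n := n) hF).range = Nat.gcd n (q + 1) * Nat.card (PSU n F q) := by
  have hk : Nat.card (diagHom (n := n) hF).ker = q + 1 := by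
    rw [ker_diagHom hF hn]
    rw [← Nat.card_congr (MonoidHom.ofInjective (f := scalarHom (n := n) hF) ?_).toEquiv, card_ker_pow hF]
    intro u v h
    have : NeZero n := ⟨by omega⟩
    have h1 := congrArg (fun g => gap g (Pi.single 0 1) 0) h
    simp only [gap_scalarHom, Pi.smul_apply, Pi.single_eq_same, smul_eq_mul, mul_one] at h1
    exact Subtype.ext (Units.ext h1)
  have h1 := Subgroup.card_mul_index (diagHom (n := n) hF).ker
  rw [Subgroup.index_ker, hk, card_GU_eq_mul_card_SU hF (by omega),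
    ← card_PSU hF (by omega : 2 ≤ n)] at h1
  exact Nat.eq_of_mul_eq_mul_left (by omega : 0 < q + 1) h1

omit hn in
theorem card_ringAut {p f : ℕ} [Fact p.Prime] (hf : 1 ≤ f) (hq : q = p ^ f) :
    ∃ e : RingAut F ≃* Multiplicative (ZMod (2 * f)), Nat.card (RingAut F) = 2 * f ∧ e 1 = 1 := by
  obtain ⟨e⟩ := Cfsg.Agent.H56.ringAut_equiv F (p := p) (f := 2 * f) (by omega)
    (by rw [hF, hq, ← pow_mul, mul_comm])
  exact ⟨e, by rw [Nat.card_congr e.toEquiv, Nat.card_congr Multiplicative.toAdd, Nat.card_zmod],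
    map_one e⟩

include h32 in
theorem card_mulAut_PSU {p f : ℕ} [Fact p.Prime] (hf : 1 ≤ f) (hq : q = p ^ f) :
    Nat.card (MulAut (PSU n F q)) = Nat.gcd n (q + 1) * (2 * f) * Nat.card (PSU n F q) := by
  have h1 := Subgroup.card_mul_index (fieldHomPSU hF hn h32).ker
  rw [Subgroup.index_ker, MonoidHom.range_eq_top.2 (fieldHomPSU_surjective hF hn h32), Subgroup.card_top,
    ker_fieldHomPSU, card_range_diagHom hF hn] at h1
  obtain ⟨-, h2, -⟩ := card_ringAut hF hf hq
  rw [← h1, h2]
  ring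

theorem inn_le_diag : Cfsg.Inn (PSU n F q) ≤ (diagHom (n := n) hF).range := by
  rintro _ ⟨x, rfl⟩
  obtain ⟨a, rfl⟩ := toPSU_surjective x
  exact ⟨suGU hF a, semiAut_suGU hF a⟩

theorem conj_injective_PSU : Function.Injective (MulAut.conj : PSU n F q →* MulAut (PSU n F q)) := by
  rw [injective_iff_map_eq_one]
  intro x hx
  obtain ⟨a, rfl⟩ := toPSU_surjective x
  rw [← semiAut_suGU hF] at hx
  obtain ⟨-, c, hc⟩ := eq_of_semiAut_eq_one hF hn hx
  rw [← MonoidHom.mem_ker, ker_toPSU]
  exact smul_mem_center (l := c) fun v => by rw [← gap_suGU hF, hc]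

include h32 in
theorem exists_out_hom {p f : ℕ} [Fact p.Prime] (hf : 1 ≤ f) (hq : q = p ^ f) :
    ∃ φ : Cfsg.Out (PSU n F q) →* Multiplicative (ZMod (2 * f)), Function.Surjective φ ∧
      IsCyclic φ.ker ∧ Nat.card φ.ker = Nat.gcd n (q + 1) := by
  classical
  obtain ⟨e, -, -⟩ := card_ringAut hF hf hq
  let φ₀ : MulAut (PSU n F q) →* Multiplicative (ZMod (2 * f)) :=
    e.toMonoidHom.comp (fieldHomPSU hF hn h32)
  have hφ₀k : φ₀.ker = (diagHom (n := n) hF).range := by
    rw [← ker_fieldHomPSU hF hn h32]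
    ext x
    simp [φ₀]
  have hle : Cfsg.Inn (PSU n F q) ≤ φ₀.ker := hφ₀k ▸ inn_le_diag hF hn
  let φ := QuotientGroup.lift (Cfsg.Inn (PSU n F q)) φ₀ hle
  have hsurj : Function.Surjective φ₀ := e.surjective.comp (fieldHomPSU_surjective hF hn h32)
  have hφs : Function.Surjective φ := fun y => by
    obtain ⟨x, hx⟩ := hsurj y
    exact ⟨QuotientGroup.mk x, hx⟩
  refine ⟨φ, hφs, ?_, ?_⟩
  · -- the kernel is an image of the determinant
    let ψ : GU n F q →* φ.ker :=
      { toFun := fun g => ⟨QuotientGroup.mk (diagHom hF g), by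
          show φ₀ (diagHom hF g) = 1
          rw [← MonoidHom.mem_ker, hφ₀k]
          exact ⟨g, rfl⟩⟩
        map_one' := Subtype.ext (by simp)
        map_mul' := fun g h => Subtype.ext (by simp) }
    have hψs : Function.Surjective ψ := by
      rintro ⟨x, hx⟩
      obtain ⟨y, rfl⟩ := QuotientGroup.mk_surjective x
      have hy : y ∈ φ₀.ker := hx
      rw [hφ₀k] at hy
      obtain ⟨g, rfl⟩ := hy
      exact ⟨g, rfl⟩
    have hker : (detGU n F q).rangeRestrict.ker ≤ ψ.ker := by
      intro g hg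
      rw [MonoidHom.ker_rangeRestrict] at hg
      obtain ⟨a, ha⟩ := (suEquivKer n F q).surjective ⟨g, hg⟩
      rw [MonoidHom.mem_ker]
      refine Subtype.ext ?_
      show (QuotientGroup.mk (diagHom hF g) : Cfsg.Out (PSU n F q)) = 1
      rw [QuotientGroup.eq_one_iff]
      refine ⟨toPSU a, ?_⟩
      have hga : g = suGU hF a := by
        refine gap_ext fun v => ?_
        rw [gap_suGU, ap_def, gap]
        exact congrArg (· *ᵥ v) (congrArg (fun z : (detGU n F q).ker => gmat (z : GU n F q)) ha).symm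
      rw [hga, diagHom_apply, semiAut_suGU]
    let θ := (detGU n F q).rangeRestrict.liftOfSurjective (detGU n F q).rangeRestrict_surjective ⟨ψ, hker⟩
    have hθ : Function.Surjective θ := fun y => by
      obtain ⟨g, hg⟩ := hψs y
      exact ⟨(detGU n F q).rangeRestrict g, by
        rw [← hg]
        exact MonoidHom.liftOfRightInverse_comp_apply _ _ _ _ _⟩
    exact isCyclic_of_surjective θ hθ
  · have h1 := Subgroup.card_mul_index φ.ker
    rw [Subgroup.index_ker, MonoidHom.range_eq_top.2 hφs, Subgroup.card_top,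
      Nat.card_congr Multiplicative.toAdd, Nat.card_zmod] at h1
    have h2 := Subgroup.card_eq_card_quotient_mul_card_subgroup (Cfsg.Inn (PSU n F q))
    rw [← Nat.card_congr (MonoidHom.ofInjective (conj_injective_PSU hF hn)).toEquiv,
      card_mulAut_PSU hF hn h32 hf hq] at h2
    have h3 : Nat.card (Cfsg.Out (PSU n F q)) = Nat.gcd n (q + 1) * (2 * f) :=
      (Nat.eq_of_mul_eq_mul_right Nat.card_pos h2).symm
    rw [h3] at h1
    exact Nat.eq_of_mul_eq_mul_right (by omega) h1

end Cfsg.Agent.Unitary
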