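import Mathlib
import Cfsg.Agent.Unitary.Order
import Cfsg.Agent.Unitary.Stab
import Cfsg.Agent.Unitary.Isotropic

/-!
# Totally isotropic frames and subspaces
-/

set_option autoImplicit false
set_option linter.unusedSectionVars false

namespace Cfsg.Agent.Unitary

open Cfsg Matrix

variable {F : Type*} [Field F] [Fintype F] {n q : ℕ}

/-- A linearly independent family spanning a totally isotropic subspace. -/
abbrev TIFrame (n : ℕ) (F : Type*) [Field F] (q k : ℕ) :=
  {f : Fin k → Fin n → F // LinearIndependent F f ∧ ∀ i j, hermForm n F q (f i) (f j) = 0}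

/-- A totally isotropic frame completed to a basis: hyperbolic partners and an orthonormal rest. -/
structure HypBasis (q : ℕ) {k : ℕ} (f : Fin k → Fin n → F) where
  /-- the partners -/
  v : Fin k → Fin n → F
  /-- the orthonormal rest -/
  e : Fin (n - 2 * k) → Fin n → F
  le : 2 * k ≤ n
  vf : ∀ i j, hermForm n F q (v i) (f j) = if i = j then 1 else 0
  vv : ∀ i j, hermForm n F q (v i) (v j) = 0
  ee : ON q e
  ef : ∀ i j, hermForm n F q (e i) (f j) = 0
  ev : ∀ i j, hermForm n F q (e i) (v j) = 0
  indep : LinearIndependent F (Sum.elim (Sum.elim f v) e)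
  spans : ⊤ ≤ Submodule.span F (Set.range (Sum.elim (Sum.elim f v) e))

theorem exists_hypBasis (hF : Fintype.card F = q ^ 2) {k : ℕ} (f : TIFrame n F q k) :
    Nonempty (HypBasis q f.1) := by
  classical
  obtain ⟨f, hind, hf⟩ := f
  choose z hz using fun i => exists_herm_eq hF hind (fun j => if i = j then (1 : F) else 0)
  choose d hd using fun i => exists_trace_eq hF (a := -hermForm n F q (z i) (z i))
    (by rw [neg_pow_q hF, herm_self_fixed hF])
  let c : Fin k → Fin k → F := fun i l =>
    if i = l then d i else if i < l then -hermForm n F q (z i) (z l) else 0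
  let v := fun i => z i + ∑ j, c i j • f j
  have hvf : ∀ i j, hermForm n F q (v i) (f j) = if i = j then 1 else 0 := by
    intro i j
    simp only [v, herm_add_left, herm_sum_left, herm_smul_left, hf, mul_zero,
      Finset.sum_const_zero, add_zero, hz]
  have hzf : ∀ i j, hermForm n F q (f j) (z i) = if i = j then 1 else 0 := by
    intro i j
    rw [← herm_swap hF, hz]
    split_ifs <;> simp [q_ne_zero hF]
  have hvv : ∀ i l, hermForm n F q (v i) (v l) = 0 := by
    intro i l
    have h : hermForm n F q (v i) (v l) = hermForm n F q (z i) (z l) + c i l + c l i ^ q := by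
      simp only [v, herm_add_left, herm_add_right hF, herm_sum_left, herm_sum_right hF,
        herm_smul_left, herm_smul_right, hf, hz, hzf, mul_zero, Finset.sum_const_zero, add_zero,
        mul_ite, mul_one, Finset.sum_ite_eq, Finset.mem_univ, if_true]
    rw [h]
    rcases lt_trichotomy i l with hil | rfl | hil
    · simp [c, hil, hil.ne, hil.ne', hil.not_gt, q_ne_zero hF]
    · simp only [c, if_pos]
      linear_combination hd i
    · simp only [c, hil, hil.ne, hil.ne', hil.not_gt, if_false, if_true, neg_pow_q hF]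
      rw [herm_swap hF]
      ring
  let B : Fin k ⊕ Fin k → Fin n → F := Sum.elim f v
  have hcoef : ∀ (c : Fin k ⊕ Fin k → F) (j : Fin k),
      hermForm n F q (∑ i, c i • B i) (f j) = c (Sum.inr j) ∧
      hermForm n F q (∑ i, c i • B i) (v j) = c (Sum.inl j) := by
    intro c j
    have hfv : ∀ i l, hermForm n F q (f i) (v l) = if l = i then 1 else 0 := by
      intro i l
      rw [← herm_swap hF, hvf]
      split_ifs <;> simp [q_ne_zero hF]
    constructor <;>
      simp [B, herm_sum_left, herm_smul_left, Fintype.sum_sum_type, herm_add_left, hf, hvf, hvv, hfv]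
  have hBind : LinearIndependent F B := by
    rw [Fintype.linearIndependent_iff]
    intro c hc i
    rcases i with i | i
    · rw [← (hcoef c i).2, hc, herm_zero_left]
    · rw [← (hcoef c i).1, hc, herm_zero_left]
  have hBnd : Nondeg q (Submodule.span F (Set.range B)) := by
    intro u hu h
    obtain ⟨c, rfl⟩ := (Submodule.mem_span_range_iff_exists_fun F).1 hu
    refine Finset.sum_eq_zero fun i _ => ?_
    rcases i with i | i
    · rw [← (hcoef c i).2, h (v i) (Submodule.subset_span ⟨Sum.inr i, rfl⟩), zero_smul]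
    · rw [← (hcoef c i).1, h (f i) (Submodule.subset_span ⟨Sum.inl i, rfl⟩), zero_smul]
  have hd2 := finrank_perp_add hF hBnd
  rw [finrank_span_eq_card hBind, Fintype.card_sum, Fintype.card_fin] at hd2
  obtain ⟨e, he, hes⟩ := exists_ON_basis hF _ (nondeg_perp hF hBnd)
  have hk : Module.finrank F (perp q (Submodule.span F (Set.range B) : Set (Fin n → F))) = n - 2 * k := by
    omega
  revert e
  rw [hk]
  intro e he hes
  have heB : ∀ i b, hermForm n F q (e i) (B b) = 0 := fun i b =>
    (hes ▸ Submodule.subset_span ⟨i, rfl⟩ :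
      e i ∈ perp q (Submodule.span F (Set.range B) : Set (Fin n → F))) _
      (Submodule.subset_span ⟨b, rfl⟩)
  refine ⟨⟨v, e, by omega, hvf, hvv, he, fun i j => heB i (Sum.inl j),
    fun i j => heB i (Sum.inr j), ?_, ?_⟩⟩
  · rw [linearIndependent_sum]
    refine ⟨hBind, he.linearIndependent, ?_⟩
    simp only [Sum.elim_comp_inl, Sum.elim_comp_inr, hes]
    exact (isCompl_perp hF hBnd).disjoint
  · rw [Set.Sum.elim_range, Submodule.span_union, hes, (isCompl_perp hF hBnd).sup_eq_top]

/-- Witt's theorem for totally isotropic frames. -/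
theorem exists_GU_map_TIFrame (hF : Fintype.card F = q ^ 2) {k : ℕ} (f f' : TIFrame n F q k) :
    ∃ g : GU n F q, ∀ i, gap g (f.1 i) = f'.1 i := by
  obtain ⟨b⟩ := exists_hypBasis hF f
  obtain ⟨b'⟩ := exists_hypBasis hF f'
  have hfv : ∀ (f : TIFrame n F q k) (b : HypBasis q f.1) i j,
      hermForm n F q (f.1 i) (b.v j) = if j = i then 1 else 0 := by
    intro f b i j
    rw [← herm_swap hF, b.vf]
    split_ifs <;> simp [q_ne_zero hF]
  obtain ⟨g, hg⟩ := exists_isometry_of_gram hF b.indep b.spans
    (b := Sum.elim (Sum.elim f'.1 b'.v) b'.e) (by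
      rintro ((i | i) | i) ((j | j) | j) <;>
        simp only [Sum.elim_inl, Sum.elim_inr, f.2.2, f'.2.2, b.vf, b'.vf, b.vv, b'.vv, b.ef, b'.ef,
          b.ev, b'.ev, hfv, b.ee _ _, b'.ee _ _, (herm_eq_zero_symm hF).1 (b.ef _ _),
          (herm_eq_zero_symm hF).1 (b'.ef _ _), (herm_eq_zero_symm hF).1 (b.ev _ _),
          (herm_eq_zero_symm hF).1 (b'.ev _ _)])
  exact ⟨g, fun i => hg (Sum.inl (Sum.inl i))⟩

theorem two_mul_le_of_frame (hF : Fintype.card F = q ^ 2) {k : ℕ} (f : TIFrame n F q k) :
    2 * k ≤ n := by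
  obtain ⟨b⟩ := exists_hypBasis hF f
  exact b.le

/-- The number of extensions of a frame. -/
theorem card_extend (hF : Fintype.card F = q ^ 2) {k : ℕ} (f : TIFrame n F q k) :
    Nat.card {x : Fin n → F // x ∉ Submodule.span F (Set.range f.1) ∧ hermForm n F q x x = 0 ∧
        ∀ i, hermForm n F q x (f.1 i) = 0}
      = (q ^ 2) ^ k * (normCount (n - 2 * k) q (0 : F) - 1) := by
  classical
  obtain ⟨b⟩ := exists_hypBasis hF f
  obtain ⟨f, hind, hf⟩ := f
  have hfv : ∀ i j, hermForm n F q (f i) (b.v j) = if j = i then 1 else 0 := by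
    intro i j
    rw [← herm_swap hF, b.vf]
    split_ifs <;> simp [q_ne_zero hF]
  let mk : (Fin k → F) → (Fin (n - 2 * k) → F) → (Fin n → F) :=
    fun c w => ∑ i, c i • f i + ∑ i, w i • b.e i
  have hmk : ∀ c w, (∀ i, hermForm n F q (mk c w) (f i) = 0) ∧
      (∀ i, hermForm n F q (mk c w) (b.v i) = c i) ∧
      (∀ i, hermForm n F q (mk c w) (b.e i) = w i) ∧
      hermForm n F q (mk c w) (mk c w) = hermForm (n - 2 * k) F q w w := by
    intro c w
    have h1 : ∀ i, hermForm n F q (mk c w) (f i) = 0 := fun i => by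
      simp [mk, herm_add_left, herm_sum_left, herm_smul_left, hf, b.ef]
    refine ⟨h1, fun i => ?_, fun i => ?_, ?_⟩
    · simp [mk, herm_add_left, herm_sum_left, herm_smul_left, hfv, b.ev]
    · simp only [mk, herm_add_left, b.ee.coeff, herm_sum_left, herm_smul_left,
        (herm_eq_zero_symm hF).1 (b.ef _ _), mul_zero, Finset.sum_const_zero, zero_add]
    · have hd : hermForm n F q (∑ i, c i • f i) (∑ i, w i • b.e i) = 0 := by
        simp [herm_sum_left, herm_sum_right hF, herm_smul_left, herm_smul_right,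
          (herm_eq_zero_symm hF).1 (b.ef _ _)]
      have hc : hermForm n F q (∑ i, c i • f i) (∑ i, c i • f i) = 0 := by
        simp [herm_sum_left, herm_sum_right hF, herm_smul_left, herm_smul_right, hf]
      simp only [mk]
      rw [herm_self_add hF, hc, hd, b.ee.inner_self hF, zero_pow (q_ne_zero hF)]
      simp [hermForm]
  have hrec : ∀ x : Fin n → F, (∀ i, hermForm n F q x (f i) = 0) →
      mk (fun i => hermForm n F q x (b.v i)) (fun i => hermForm n F q x (b.e i)) = x := by
    intro x hx
    refine ext_herm hF fun y => ?_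
    obtain ⟨a, rfl⟩ :=
      (Submodule.mem_span_range_iff_exists_fun F).1 (b.spans (Submodule.mem_top (x := y)))
    rw [herm_sum_right hF, herm_sum_right hF]
    refine Finset.sum_congr rfl fun t _ => ?_
    rw [herm_smul_right, herm_smul_right]
    rcases t with (i | i) | i
    · simp only [Sum.elim_inl, (hmk _ _).1 i, hx i]
    · simp only [Sum.elim_inl, Sum.elim_inr, (hmk _ _).2.1 i]
    · simp only [Sum.elim_inr, (hmk _ _).2.2.1 i]
  have hspan : ∀ c w, mk c w ∈ Submodule.span F (Set.range f) ↔ w = 0 := by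
    intro c w
    constructor
    · intro h
      obtain ⟨a, ha⟩ := (Submodule.mem_span_range_iff_exists_fun F).1 h
      funext i
      rw [← (hmk c w).2.2.1 i, ← ha]
      simp [herm_sum_left, herm_smul_left, (herm_eq_zero_symm hF).1 (b.ef _ _)]
    · rintro rfl
      simp only [mk, Pi.zero_apply, zero_smul, Finset.sum_const_zero, add_zero]
      exact Submodule.sum_mem _ fun i _ => Submodule.smul_mem _ _ (Submodule.subset_span ⟨i, rfl⟩)
  have E : {x : Fin n → F // x ∉ Submodule.span F (Set.range f) ∧ hermForm n F q x x = 0 ∧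
      ∀ i, hermForm n F q x (f i) = 0} ≃
      (Fin k → F) × {w : Fin (n - 2 * k) → F // w ≠ 0 ∧ hermForm (n - 2 * k) F q w w = 0} :=
    { toFun := fun x => (fun i => hermForm n F q x.1 (b.v i), ⟨fun i => hermForm n F q x.1 (b.e i),
        fun h => x.2.1 (by
          rw [← hrec x.1 x.2.2.2, h]
          exact (hspan _ _).2 rfl),
        by rw [← (hmk (fun i => hermForm n F q x.1 (b.v i)) _).2.2.2, hrec x.1 x.2.2.2]; exact x.2.2.1⟩)
      invFun := fun p => ⟨mk p.1 p.2.1, (hspan _ _).not.2 p.2.2.1,
        by rw [(hmk _ _).2.2.2]; exact p.2.2.2, (hmk _ _).1⟩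
      left_inv := fun x => Subtype.ext (hrec x.1 x.2.2.2)
      right_inv := fun p => Prod.ext (funext (hmk p.1 p.2.1).2.1)
        (Subtype.ext (funext (hmk p.1 p.2.1).2.2.1)) }
  show Nat.card {x : Fin n → F // x ∉ Submodule.span F (Set.range f) ∧ hermForm n F q x x = 0 ∧
      ∀ i, hermForm n F q x (f i) = 0} = _
  rw [Nat.card_congr E, Nat.card_prod, Nat.card_fun, Nat.card_fin,
    Nat.card_eq_fintype_card (α := F), hF]
  congr 1
  have e2 : {w : Fin (n - 2 * k) → F // hermForm (n - 2 * k) F q w w = 0} ≃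
      Option {w : Fin (n - 2 * k) → F // w ≠ 0 ∧ hermForm (n - 2 * k) F q w w = 0} :=
    { toFun := fun w => if h : w.1 = 0 then none else some ⟨w.1, h, w.2⟩
      invFun := fun o => o.elim ⟨0, herm_zero_left 0⟩ fun w => ⟨w.1, w.2.2⟩
      left_inv := fun w => by
        by_cases h : w.1 = 0
        · simp [h]; exact Subtype.ext h.symm
        · simp [h]
      right_inv := fun o => by
        cases o with
        | none => simp
        | some u => simp [u.2.1] }
  rw [normCount, Nat.card_congr e2, Finite.card_option, Nat.add_sub_cancel]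

theorem card_TIFrame_succ (hF : Fintype.card F = q ^ 2) (k : ℕ) :
    Nat.card (TIFrame n F q (k + 1))
      = Nat.card (TIFrame n F q k) * ((q ^ 2) ^ k * (normCount (n - 2 * k) q (0 : F) - 1)) := by
  classical
  have E : TIFrame n F q (k + 1) ≃ Σ f : TIFrame n F q k, {x : Fin n → F //
      x ∉ Submodule.span F (Set.range f.1) ∧ hermForm n F q x x = 0 ∧
        ∀ i, hermForm n F q x (f.1 i) = 0} :=
    { toFun := fun f => ⟨⟨Fin.tail f.1, (linearIndependent_finSucc.1 f.2.1).1,
          fun i j => f.2.2 i.succ j.succ⟩,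
        ⟨f.1 0, (linearIndependent_finSucc.1 f.2.1).2, f.2.2 0 0, fun i => f.2.2 0 i.succ⟩⟩
      invFun := fun p => ⟨Fin.cons p.2.1 p.1.1,
        linearIndependent_finCons.2 ⟨p.1.2.1, p.2.2.1⟩, by
          intro i j
          refine Fin.cases ?_ (fun i => ?_) i <;> refine Fin.cases ?_ (fun j => ?_) j
          · simpa using p.2.2.2.1
          · simpa using p.2.2.2.2 j
          · simpa using (herm_eq_zero_symm hF).1 (p.2.2.2.2 i)
          · simpa using p.1.2.2 i j⟩
      left_inv := fun f => Subtype.ext (Fin.cons_self_tail f.1)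
      right_inv := fun p => by
        obtain ⟨⟨f, hf⟩, x, hx⟩ := p
        exact Sigma.subtype_ext (Subtype.ext (Fin.tail_cons (α := fun _ => Fin n → F) x f))
          (Fin.cons_zero (α := fun _ => Fin n → F) x f) }
  have : Fintype (TIFrame n F q k) := Fintype.ofFinite _
  rw [Nat.card_congr E, Nat.card_sigma, Finset.sum_congr rfl fun f _ => card_extend hF f,
    Finset.sum_const, Finset.card_univ, smul_eq_mul, Nat.card_eq_fintype_card]

theorem card_GU_add_two (hF : Fintype.card F = q ^ 2) (m : ℕ) :
    Nat.card (GU (m + 2) F q)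
      = q ^ (2 * m + 1) * (normCount (m + 2) q (0 : F) - 1) * Nat.card (GU m F q) := by
  have h0 : normCount (m + 2) q (0 : F) - 1 = guFactor q (m + 1) * guFactor q m := by
    have h := normCount_zero_vec hF (m + 1)
    have h1 : (normCount (m + 2) q (0 : F) : ℤ) = (guFactor q (m + 1) * guFactor q m + 1 : ℕ) := by
      push_cast
      rw [h, guFactor_cast (q_pos hF), guFactor_cast (q_pos hF)]
      ring
    rw [Nat.cast_inj.1 h1, Nat.add_sub_cancel]
  have hexp : ∀ j : ℕ, (j + 1) * (j + 1 - 1) / 2 = j * (j - 1) / 2 + j := by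
    intro j
    rw [← Finset.sum_range_id, ← Finset.sum_range_id, Finset.sum_range_succ]
  rw [h0, card_GU hF, card_GU hF, Finset.prod_range_succ, Finset.prod_range_succ,
    hexp (m + 1), hexp m]
  ring

/-- The number of totally isotropic frames. -/
theorem card_TIFrame (hF : Fintype.card F = q ^ 2) {k : ℕ} (hk : 2 * k ≤ n) :
    q ^ (k * (2 * n - 3 * k)) * Nat.card (GU (n - 2 * k) F q) * Nat.card (TIFrame n F q k)
      = Nat.card (GU n F q) := by
  induction k with
  | zero =>
    have : Nat.card (TIFrame n F q 0) = 1 := by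
      rw [Nat.card_eq_one_iff_unique]
      exact ⟨⟨fun a b => Subtype.ext (funext fun i => i.elim0)⟩,
        ⟨⟨Fin.elim0, linearIndependent_empty_type, fun i => i.elim0⟩⟩⟩
    rw [this]
    simp
  | succ k ih =>
    obtain ⟨m, hm⟩ : ∃ m, n = 2 * k + (m + 2) := ⟨n - 2 * k - 2, by omega⟩
    have e1 : n - 2 * k = m + 2 := by omega
    have e2 : n - 2 * (k + 1) = m := by omega
    have e3 : 2 * n - 3 * k = k + 2 * (m + 2) := by omega
    have e4 : 2 * n - 3 * (k + 1) = k + 2 * m + 1 := by omega
    rw [← ih (by omega), card_TIFrame_succ hF k, e1, e2, e3, e4, card_GU_add_two hF m]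
    ring

end Cfsg.Agent.Unitary
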