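import Cfsg.Agent.Unitary.Wall
import Cfsg.Agent.Aschbacher.Forms

/-!
# Adjoints for the standard hermitian form and subalgebras closed under them
-/

set_option autoImplicit false
set_option linter.unusedSectionVars false

namespace Cfsg.Agent.Unitary.Asch

open Matrix
open scoped MatrixGroups
open Cfsg.Geo
open Cfsg.Agent.Aschbacher (env centre mem_centre)

variable {F : Type*} [Field F] [Fintype F] {q n : ℕ} {κ : Type} [Fintype κ] [DecidableEq κ]

/-- The conjugate transpose for `x ↦ x ^ q`. -/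
def hst (q : ℕ) (M : Matrix κ κ F) : Matrix κ κ F := (M.map fun x => x ^ q)ᵀ

lemma hst_eq (hF : Fintype.card F = q ^ 2) (M : Matrix κ κ F) :
    hst q M = ((frob hF).toRingHom.mapMatrix M)ᵀ := rfl

lemma hst_apply (M : Matrix κ κ F) (i j : κ) : hst q M i j = M j i ^ q := rfl

lemma hst_mul (hF : Fintype.card F = q ^ 2) (M N : Matrix κ κ F) :
    hst q (M * N) = hst q N * hst q M := by
  rw [hst_eq hF, hst_eq hF, hst_eq hF, map_mul, Matrix.transpose_mul]

lemma hst_one (hF : Fintype.card F = q ^ 2) : hst q (1 : Matrix κ κ F) = 1 := by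
  rw [hst_eq hF, map_one, Matrix.transpose_one]

lemma hst_zero (hF : Fintype.card F = q ^ 2) : hst q (0 : Matrix κ κ F) = 0 := by
  rw [hst_eq hF, map_zero, Matrix.transpose_zero]

lemma hst_add (hF : Fintype.card F = q ^ 2) (M N : Matrix κ κ F) :
    hst q (M + N) = hst q M + hst q N := by
  rw [hst_eq hF, hst_eq hF, hst_eq hF, map_add, Matrix.transpose_add]

lemma hst_sub (hF : Fintype.card F = q ^ 2) (M N : Matrix κ κ F) :
    hst q (M - N) = hst q M - hst q N := by
  rw [hst_eq hF, hst_eq hF, hst_eq hF, map_sub, Matrix.transpose_sub]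

lemma hst_sum (hF : Fintype.card F = q ^ 2) {α : Type*} (s : Finset α) (M : α → Matrix κ κ F) :
    hst q (∑ a ∈ s, M a) = ∑ a ∈ s, hst q (M a) := by
  classical
  induction s using Finset.induction_on with
  | empty => simp [hst_zero hF]
  | insert a s ha ih => rw [Finset.sum_insert ha, Finset.sum_insert ha, hst_add hF, ih]

lemma hst_smul (c : F) (M : Matrix κ κ F) : hst q (c • M) = c ^ q • hst q M := by
  ext i j
  simp [hst_apply, mul_pow]

lemma hst_smul_one (hF : Fintype.card F = q ^ 2) (c : F) :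
    hst q (c • (1 : Matrix κ κ F)) = c ^ q • (1 : Matrix κ κ F) := by
  rw [hst_smul, hst_one hF]

lemma hst_hst (hF : Fintype.card F = q ^ 2) (M : Matrix κ κ F) : hst q (hst q M) = M := by
  ext i j
  exact pow_q_q hF (M i j)

lemma hst_isUnit (hF : Fintype.card F = q ^ 2) {M : Matrix κ κ F} (h : IsUnit M) :
    IsUnit (hst q M) := by
  obtain ⟨u, rfl⟩ := h
  exact ⟨⟨hst q (u : Matrix κ κ F), hst q (↑u⁻¹ : Matrix κ κ F),
    by rw [← hst_mul hF, Units.inv_mul, hst_one hF],
    by rw [← hst_mul hF, Units.mul_inv, hst_one hF]⟩, rfl⟩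

lemma hst_reindex {κ' : Type} [Fintype κ'] [DecidableEq κ'] (e : κ ≃ κ') (M : Matrix κ κ F) :
    hst q (Matrix.reindex e e M) = Matrix.reindex e e (hst q M) := rfl

lemma hst_eq_hstar (M : Matrix (Fin n) (Fin n) F) : hst q M = hstar q M := rfl

/-- The defining property of the adjoint. -/
lemma herm_mulVec_left (hF : Fintype.card F = q ^ 2) (A : Matrix (Fin n) (Fin n) F)
    (u v : Fin n → F) :
    hermForm n F q (A *ᵥ u) v = hermForm n F q u (hst q A *ᵥ v) := by
  simp only [hermForm, Matrix.mulVec, dotProduct, hst_apply, Finset.sum_mul, sum_pow_q hF,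
    mul_pow, pow_q_q hF, Finset.mul_sum]
  rw [Finset.sum_comm]
  exact Finset.sum_congr rfl fun i _ => Finset.sum_congr rfl fun j _ => by ring

lemma herm_mulVec_mulVec (hF : Fintype.card F = q ^ 2) (A : Matrix (Fin n) (Fin n) F)
    (u v : Fin n → F) :
    hermForm n F q (A *ᵥ u) (A *ᵥ v) = hermForm n F q u ((hst q A * A) *ᵥ v) := by
  rw [herm_mulVec_left hF, Matrix.mulVec_mulVec]

lemma matrix_ext_herm (hF : Fintype.card F = q ^ 2) {A B : Matrix (Fin n) (Fin n) F}
    (h : ∀ u v, hermForm n F q u (A *ᵥ v) = hermForm n F q u (B *ᵥ v)) : A = B := by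
  refine Matrix.toLin'.injective (LinearMap.ext fun v => sub_eq_zero.mp ?_)
  rw [Matrix.toLin'_apply, Matrix.toLin'_apply]
  refine eq_zero_of_forall_left hF fun u => ?_
  rw [herm_sub_right hF, h, sub_self]

/-- A unitary matrix up to a scalar. -/
def IsSim (q : ℕ) (g : GL κ F) : Prop :=
  ∃ c : F, c ≠ 0 ∧ c ^ q = c ∧ hst q (g : Matrix κ κ F) * (g : Matrix κ κ F) = c • 1

lemma isSim_of_smul (hF : Fintype.card F = q ^ 2) {g : GL κ F} [Nonempty κ] {c : F}
    (h : hst q (g : Matrix κ κ F) * (g : Matrix κ κ F) = c • 1) : IsSim q g := by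
  have hu : IsUnit (c • (1 : Matrix κ κ F)) := h ▸ (hst_isUnit hF g.isUnit).mul g.isUnit
  refine ⟨c, fun hc => ?_, ?_, h⟩
  · rw [hc, zero_smul] at hu
    exact not_isUnit_zero hu
  · have h2 := congrArg (hst q) h
    rw [hst_mul hF, hst_hst hF, h, hst_smul_one hF] at h2
    exact (smul_left_injective F (one_ne_zero (α := Matrix κ κ F)) h2).symm

lemma mem_GU_iff_hst (hF : Fintype.card F = q ^ 2) {g : GL (Fin n) F} :
    g ∈ GU n F q ↔ hst q (g : Matrix (Fin n) (Fin n) F) * (g : Matrix (Fin n) (Fin n) F) = 1 := by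
  rw [mem_GU_iff, preserves_iff_hstar hF]
  rfl

lemma isSim_of_mem_similarity (hF : Fintype.card F = q ^ 2) [NeZero n] {g : GL (Fin n) F}
    (hg : g ∈ similarityGroup (hermForm n F q)) : IsSim q g := by
  obtain ⟨c, hc⟩ := hg
  haveI : Nonempty (Fin n) := ⟨⟨0, NeZero.pos n⟩⟩
  refine isSim_of_smul hF (c := (c : F) ^ q) (matrix_ext_herm hF fun u v => ?_)
  rw [← herm_mulVec_mulVec hF, hc, Matrix.smul_mulVec, Matrix.one_mulVec, herm_smul_right,
    pow_q_q hF]

lemma mem_similarity_of_isSim (hF : Fintype.card F = q ^ 2) {g : GL (Fin n) F} (hg : IsSim q g) :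
    g ∈ similarityGroup (hermForm n F q) := by
  obtain ⟨c, hc0, hcq, hc⟩ := hg
  refine ⟨Units.mk0 c hc0, fun u v => ?_⟩
  rw [herm_mulVec_mulVec hF, hc, Matrix.smul_mulVec, Matrix.one_mulVec, herm_smul_right, hcq,
    Units.val_mk0]

lemma GU_le_similarity : GU n F q ≤ similarityGroup (hermForm n F q) := fun g hg =>
  ⟨1, fun u v => by rw [Units.val_one, one_mul]; exact hg u v⟩

lemma scalars_le_similarity :
    scalars (Fin n) F ≤ similarityGroup (hermForm n F q) := by
  intro g hg
  obtain ⟨c, hc⟩ := (mem_scalars_iff g).mp hg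
  refine ⟨Units.mk0 ((c : F) * (c : F) ^ q) (mul_ne_zero c.ne_zero (pow_ne_zero _ c.ne_zero)),
    fun u v => ?_⟩
  rw [hc, Matrix.smul_mulVec, Matrix.smul_mulVec, Matrix.one_mulVec, Matrix.one_mulVec,
    herm_smul_left, herm_smul_right, Units.val_mk0]
  ring

lemma sup_scalars_le_similarity {H : Subgroup (GL (Fin n) F)} (hH : H ≤ GU n F q) :
    H ⊔ scalars (Fin n) F ≤ similarityGroup (hermForm n F q) :=
  sup_le (hH.trans GU_le_similarity) scalars_le_similarity

lemma hst_val_of_sim (hF : Fintype.card F = q ^ 2) {g : GL κ F} {c : F}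
    (h : hst q (g : Matrix κ κ F) * (g : Matrix κ κ F) = c • 1) :
    hst q (g : Matrix κ κ F) = c • ((g⁻¹ : GL κ F) : Matrix κ κ F) := by
  calc hst q (g : Matrix κ κ F)
      = hst q (g : Matrix κ κ F) * (g : Matrix κ κ F) * ((g⁻¹ : GL κ F) : Matrix κ κ F) := by
        rw [mul_assoc, ← Units.val_mul, mul_inv_cancel, Units.val_one, mul_one]
    _ = _ := by rw [h, Matrix.smul_mul, one_mul]

/-- Conjugation by a similitude commutes with the adjoint. -/
lemma hst_cj (hF : Fintype.card F = q ^ 2) {g : GL κ F} (hg : IsSim q g) (X : Matrix κ κ F) :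
    hst q (Aschbacher.cj g X) = Aschbacher.cj g (hst q X) := by
  obtain ⟨c, hc0, hcq, hc⟩ := hg
  have h1 := hst_val_of_sim hF hc
  have h2 : hst q ((g⁻¹ : GL κ F) : Matrix κ κ F) = c⁻¹ • (g : Matrix κ κ F) := by
    have := congrArg (hst q) h1
    rw [hst_hst hF, hst_smul, hcq] at this
    rw [this, smul_smul, inv_mul_cancel₀ hc0, one_smul]
  simp only [Aschbacher.cj_apply, hst_mul hF, h1, h2, Matrix.mul_smul, Matrix.smul_mul, smul_smul]
  rw [mul_inv_cancel₀ hc0, one_smul, mul_assoc]

/-- Closed under the adjoint. -/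
def StarClosed (q : ℕ) (A : Subalgebra F (Matrix κ κ F)) : Prop := ∀ X ∈ A, hst q X ∈ A

lemma StarClosed.centre (hF : Fintype.card F = q ^ 2) {A : Subalgebra F (Matrix κ κ F)}
    (h : StarClosed q A) : StarClosed q (centre A) := by
  intro X hX
  rw [mem_centre] at hX ⊢
  refine ⟨h X hX.1, fun Y hY => ?_⟩
  have := congrArg (hst q) (hX.2 _ (h Y hY))
  rw [hst_mul hF, hst_mul hF, hst_hst hF] at this
  exact this.symm

lemma env_starClosed (hF : Fintype.card F = q ^ 2) [NeZero n] {S : Subgroup (GL (Fin n) F)}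
    (hS : S ≤ similarityGroup (hermForm n F q)) : StarClosed q (env S) := by
  let B : Subalgebra F (Matrix (Fin n) (Fin n) F) :=
    { carrier := {X | hst q X ∈ env S}
      mul_mem' := fun {X Y} hX hY => by
        show hst q (X * Y) ∈ env S
        rw [hst_mul hF]; exact (env S).mul_mem hY hX
      add_mem' := fun {X Y} hX hY => by
        show hst q (X + Y) ∈ env S
        rw [hst_add hF]; exact (env S).add_mem hX hY
      algebraMap_mem' := fun c => by
        show hst q (algebraMap F _ c) ∈ env S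
        rw [Algebra.algebraMap_eq_smul_one, hst_smul_one hF, ← Algebra.algebraMap_eq_smul_one]
        exact (env S).algebraMap_mem _ }
  have : env S ≤ B := Aschbacher.env_le_iff.mpr fun x hx => by
    obtain ⟨c, -, -, hc⟩ := isSim_of_mem_similarity hF (hS hx)
    show hst q (x : Matrix (Fin n) (Fin n) F) ∈ env S
    rw [hst_val_of_sim hF hc]
    exact (env S).smul_mem (Aschbacher.val_mem_env (S.inv_mem hx)) _
  exact fun X hX => this hX

lemma isAdjointClosedFor_of_starClosed (hF : Fintype.card F = q ^ 2)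
    {K : Subalgebra F (Matrix (Fin n) (Fin n) F)} (h : StarClosed q K) :
    IsAdjointClosedFor (hermForm n F q) K :=
  fun k hk => ⟨hst q k, h k hk, herm_mulVec_left hF k⟩

end Cfsg.Agent.Unitary.Asch
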