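import Mathlib

/-!
# Hilbert 90 and surjectivity of the norm for finite commutative rings with involution
-/

set_option autoImplicit false
set_option linter.unusedSectionVars false

namespace Cfsg.Agent.Unitary

variable {R : Type*} [CommRing R] [Finite R] (τ : R ≃+* R)

/-- Hilbert 90: if some `w - τ w` is a unit, every `z` with `z τ z = 1` has the form `y / τ y`. -/
theorem exists_unit_eq_mul (hτ : ∀ x, τ (τ x) = x) {w : R} (hw : IsUnit (w - τ w)) {z : R}
    (hz : z * τ z = 1) : ∃ y : R, IsUnit y ∧ y = z * τ y := by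
  classical
  let M := {m : Ideal R // m.IsMaximal}
  have hzu : ∀ m : M, z ∉ m.1 := fun m h =>
    m.2.ne_top (Ideal.eq_top_of_isUnit_mem _ h (IsUnit.of_mul_eq_one _ hz))
  have hmax : ∀ m : M, (m.1.comap (τ : R →+* R)).IsMaximal := fun m => by
    have := m.2
    exact Ideal.comap_isMaximal_of_surjective (τ : R →+* R) τ.surjective
  let T : M → M := fun m => ⟨m.1.comap (τ : R →+* R), hmax m⟩
  have hTT : ∀ m, T (T m) = m := fun m => Subtype.ext (Ideal.ext fun x => by
    show τ (τ x) ∈ m.1 ↔ x ∈ m.1
    rw [hτ])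
  -- an ordering to choose one of each pair
  obtain ⟨e⟩ : Nonempty (M ≃ Fin (Nat.card M)) := ⟨Finite.equivFin M⟩
  let t : M → R := fun m =>
    if T m = m then (if 1 + z ∈ m.1 then w else 1) else if e m < e (T m) then 1 else 0
  have hI : Pairwise (Function.onFun IsCoprime fun m : M => m.1) := fun a b hab => by
    have := a.2
    have := b.2
    exact Ideal.isCoprime_of_isMaximal fun h => hab (Subtype.ext h)
  obtain ⟨a, ha⟩ := Ideal.exists_forall_sub_mem_ideal hI t
  have hta : ∀ m : M, τ a - τ (t (T m)) ∈ m.1 := by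
    intro m
    have h : τ (a - t (T m)) ∈ m.1 := ha (T m)
    rwa [map_sub] at h
  have hnot : ∀ m : M, a + z * τ a ∉ m.1 := by
    intro m h
    have h' : t m + z * τ (t (T m)) ∈ m.1 := by
      have := m.1.sub_mem h (m.1.add_mem (ha m) (m.1.mul_mem_left z (hta m)))
      convert this using 1
      ring
    by_cases hT : T m = m
    · rw [hT] at h'
      simp only [t, hT, if_true] at h'
      split_ifs at h' with h1
      · have h2 : w - τ w ∈ m.1 := by
          have := m.1.sub_mem h' (m.1.mul_mem_right (τ w) h1)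
          convert this using 1
          ring
        exact m.2.ne_top (Ideal.eq_top_of_isUnit_mem _ h2 hw)
      · exact h1 (by simpa using h')
    · have hT' : T (T m) ≠ T m := by rw [hTT]; exact fun h => hT h.symm
      simp only [t, if_neg hT, if_neg hT', hTT] at h'
      rcases lt_trichotomy (e m) (e (T m)) with hlt | heq | hgt
      · rw [if_pos hlt, if_neg hlt.not_gt, map_zero, mul_zero, add_zero] at h'
        exact m.2.ne_top (Ideal.eq_top_of_isUnit_mem _ h' isUnit_one)
      · exact hT (e.injective heq).symm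
      · rw [if_neg hgt.not_gt, if_pos hgt, map_one, mul_one, zero_add] at h'
        exact hzu m h'
  refine ⟨a + z * τ a, ?_, ?_⟩
  · by_contra hu
    obtain ⟨m, hm, hmem⟩ := exists_max_ideal_of_mem_nonunits (mem_nonunits_iff.2 hu)
    exact hnot ⟨m, hm⟩ hmem
  · rw [map_add, map_mul, hτ, mul_add, ← mul_assoc, hz, one_mul, add_comm]

/-- The norm `y ↦ y τ y` maps the units onto the fixed units. -/
theorem exists_norm_eq_of_fixed (hτ : ∀ x, τ (τ x) = x) {w : R} (hw : IsUnit (w - τ w)) {c : Rˣ}
    (hc : τ (c : R) = c) : ∃ y : Rˣ, (y : R) * τ (y : R) = c := by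
  classical
  let τu : Rˣ →* Rˣ := Units.map (τ : R →* R)
  have hτu : ∀ u, τu (τu u) = u := fun u => Units.ext (hτ u)
  let N : Rˣ →* Rˣ :=
    { toFun := fun u => u * τu u
      map_one' := by simp
      map_mul' := fun u v => by rw [map_mul, mul_mul_mul_comm] }
  let D : Rˣ →* Rˣ :=
    { toFun := fun u => u / τu u
      map_one' := by simp
      map_mul' := fun u v => by rw [map_mul, mul_div_mul_comm] }
  have hD : D.range = N.ker := by
    refine le_antisymm ?_ fun z hz => ?_
    · rintro _ ⟨u, rfl⟩
      show u / τu u * τu (u / τu u) = 1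
      rw [map_div, hτu, div_mul_div_cancel, div_self']
    · obtain ⟨y, hy, hyz⟩ := exists_unit_eq_mul τ hτ hw (z := (z : R))
        (by have := congrArg Units.val hz; exact this)
      refine ⟨hy.unit, ?_⟩
      show hy.unit / τu hy.unit = z
      rw [div_eq_iff_eq_mul]
      exact Units.ext hyz
  let Fx : Subgroup Rˣ := D.ker
  have hFx : ∀ u, u ∈ Fx ↔ τu u = u := fun u => by
    show u / τu u = 1 ↔ _
    rw [div_eq_one, eq_comm]
  have hle : N.range ≤ Fx := by
    rintro _ ⟨u, rfl⟩
    rw [hFx]
    show τu (u * τu u) = u * τu u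
    rw [map_mul, hτu, mul_comm]
  have heq : N.range = Fx := by
    apply Subgroup.eq_of_le_of_card_ge hle
    have h1 := Subgroup.card_mul_index D.ker
    have h2 := Subgroup.card_mul_index N.ker
    rw [Subgroup.index_ker, hD] at h1
    rw [Subgroup.index_ker, ← h1, mul_comm] at h2
    exact (Nat.eq_of_mul_eq_mul_right Nat.card_pos h2).ge
  obtain ⟨y, hy⟩ : c ∈ N.range := heq ▸ (hFx c).2 (Units.ext hc)
  exact ⟨y, congrArg Units.val hy⟩

end Cfsg.Agent.Unitary
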