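import Mathlib
import Cfsg.Agent.Unitary.HilbertNinety
import Cfsg.Agent.Unitary.Stab

/-!
# Conjugacy in `GU` is similarity in `GL`
-/

set_option autoImplicit false
set_option linter.unusedSectionVars false

namespace Cfsg.Agent.Unitary

open Cfsg Matrix

variable {F : Type*} [Field F] [Fintype F] {n q : ℕ}

/-- The conjugate transpose. -/
def hstar (q : ℕ) (M : Matrix (Fin n) (Fin n) F) : Matrix (Fin n) (Fin n) F :=
  (M.map fun x => x ^ q)ᵀ

theorem hstar_eq_map (hF : Fintype.card F = q ^ 2) (M : Matrix (Fin n) (Fin n) F) :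
    hstar q M = ((frob hF).toRingHom.mapMatrix M)ᵀ := rfl

theorem hstar_mul (hF : Fintype.card F = q ^ 2) (M N : Matrix (Fin n) (Fin n) F) :
    hstar q (M * N) = hstar q N * hstar q M := by
  rw [hstar_eq_map hF, hstar_eq_map hF, hstar_eq_map hF, map_mul, transpose_mul]

theorem hstar_one (hF : Fintype.card F = q ^ 2) : hstar q (1 : Matrix (Fin n) (Fin n) F) = 1 := by
  rw [hstar_eq_map hF, map_one, transpose_one]

theorem hstar_add (hF : Fintype.card F = q ^ 2) (M N : Matrix (Fin n) (Fin n) F) :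
    hstar q (M + N) = hstar q M + hstar q N := by
  rw [hstar_eq_map hF, hstar_eq_map hF, hstar_eq_map hF, map_add, transpose_add]

theorem hstar_hstar (hF : Fintype.card F = q ^ 2) (M : Matrix (Fin n) (Fin n) F) :
    hstar q (hstar q M) = M := by
  ext i j
  exact pow_q_q hF (M i j)

theorem hstar_algebraMap (hF : Fintype.card F = q ^ 2) (a : F) :
    hstar q (algebraMap F (Matrix (Fin n) (Fin n) F) a) = algebraMap F _ (a ^ q) := by
  ext i j
  rcases eq_or_ne i j with rfl | hij
  · simp [hstar, Algebra.algebraMap_eq_smul_one]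
  · simp [hstar, Algebra.algebraMap_eq_smul_one, hij, hij.symm, q_ne_zero hF]

theorem hstar_isUnit (hF : Fintype.card F = q ^ 2) {M : Matrix (Fin n) (Fin n) F} (h : IsUnit M) :
    IsUnit (hstar q M) := by
  obtain ⟨u, rfl⟩ := h
  exact ⟨⟨hstar q u, hstar q (u⁻¹ : (Matrix (Fin n) (Fin n) F)ˣ),
    by rw [← hstar_mul hF, Units.inv_mul, hstar_one hF],
    by rw [← hstar_mul hF, Units.mul_inv, hstar_one hF]⟩, rfl⟩

theorem preserves_iff_hstar (hF : Fintype.card F = q ^ 2) {M : Matrix (Fin n) (Fin n) F} :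
    Preserves q M ↔ hstar q M * M = 1 := by
  rw [preserves_iff_transpose_mul hF]
  have h : hstar q (Mᵀ * M.map fun x => x ^ q) = Mᵀ * M.map (fun x => x ^ q) ↔ True := by
    simp only [iff_true]
    ext i j
    simp only [hstar, Matrix.transpose_apply, Matrix.map_apply, Matrix.mul_apply, sum_pow_q hF,
      mul_pow, pow_q_q hF]
    exact Finset.sum_congr rfl fun l _ => mul_comm _ _
  have h' : hstar q M * M = (Mᵀ * M.map fun x => x ^ q)ᵀ := by
    rw [Matrix.transpose_mul, Matrix.transpose_transpose]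
    rfl
  rw [h', Matrix.transpose_eq_one]

/-- The two consequences of Hilbert 90 in a commutative subalgebra with involution. -/
theorem algebra_lemma (hF : Fintype.card F = q ^ 2) (X : (Matrix (Fin n) (Fin n) F)ˣ)
    (Z : Matrix (Fin n) (Fin n) F)
    (hZ : (↑X⁻¹ : Matrix (Fin n) (Fin n) F) * hstar q Z * (X : Matrix (Fin n) (Fin n) F) ∈ Algebra.adjoin F {Z})
    (hXX : Commute ((↑X⁻¹ : Matrix (Fin n) (Fin n) F) * hstar q (X : Matrix (Fin n) (Fin n) F)) Z) :
    (IsUnit Z → (↑X⁻¹ : Matrix (Fin n) (Fin n) F) * hstar q Z * (X : Matrix (Fin n) (Fin n) F) = Z → ∃ y ∈ Algebra.adjoin F {Z}, IsUnit y ∧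
      y * ((↑X⁻¹ : Matrix (Fin n) (Fin n) F) * hstar q y * (X : Matrix (Fin n) (Fin n) F)) = Z) ∧
    (Z * ((↑X⁻¹ : Matrix (Fin n) (Fin n) F) * hstar q Z * (X : Matrix (Fin n) (Fin n) F)) = 1 → ∃ y ∈ Algebra.adjoin F {Z}, IsUnit y ∧
      y = Z * ((↑X⁻¹ : Matrix (Fin n) (Fin n) F) * hstar q y * (X : Matrix (Fin n) (Fin n) F))) := by
  classical
  rcases isEmpty_or_nonempty (Fin n) with hn | hn
  · have h1 : ∀ M : Matrix (Fin n) (Fin n) F, M = 1 := fun M => Matrix.ext fun i => isEmptyElim i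
    exact ⟨fun _ _ => ⟨1, one_mem _, isUnit_one, (h1 _).trans (h1 _).symm⟩,
      fun _ => ⟨1, one_mem _, isUnit_one, (h1 _).trans (h1 _).symm⟩⟩
  set R := Algebra.adjoin F {Z}
  have hcomm : ∀ a ∈ R, ∀ b ∈ R, a * b = b * a := fun a ha b hb => by
    have hb' : Commute Z b := by
      induction hb using Algebra.adjoin_induction with
      | mem x hx => rw [Set.mem_singleton_iff.1 hx]
      | algebraMap r => exact (Algebra.commute_algebraMap_right r Z)
      | add x y _ _ hx hy => exact hx.add_right hy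
      | mul x y _ _ hx hy => exact hx.mul_right hy
    induction ha using Algebra.adjoin_induction with
    | mem x hx => rw [Set.mem_singleton_iff.1 hx]; exact hb'
    | algebraMap r => exact (Algebra.commute_algebraMap_left r b)
    | add x y _ _ hx hy => rw [add_mul, mul_add, hx, hy]
    | mul x y _ _ hx hy => rw [mul_assoc, hy, ← mul_assoc, hx, mul_assoc]
  let t : Matrix (Fin n) (Fin n) F → Matrix (Fin n) (Fin n) F := fun y => (↑X⁻¹ : Matrix (Fin n) (Fin n) F) * hstar q y * (X : Matrix (Fin n) (Fin n) F)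
  have t_add : ∀ a b, t (a + b) = t a + t b := fun a b => by
    simp [t, hstar_add hF, mul_add, add_mul]
  have t_mul : ∀ a b, t (a * b) = t b * t a := fun a b => by
    simp [t, hstar_mul hF, mul_assoc]
  have t_mem : ∀ y ∈ R, t y ∈ R := by
    intro y hy
    induction hy using Algebra.adjoin_induction with
    | mem x hx => rw [Set.mem_singleton_iff.1 hx]; exact hZ
    | algebraMap r =>
      simp only [t, hstar_algebraMap hF]
      rw [← Algebra.commutes, mul_assoc, Units.inv_mul, mul_one]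
      exact Subalgebra.algebraMap_mem _ _
    | add x y _ _ hx hy => rw [t_add]; exact add_mem hx hy
    | mul x y _ _ hx hy => rw [t_mul]; exact mul_mem hy hx
  have hW : ∀ y ∈ R, Commute ((↑X⁻¹ : Matrix (Fin n) (Fin n) F) * hstar q (X : Matrix (Fin n) (Fin n) F)) y := by
    intro y hy
    induction hy using Algebra.adjoin_induction with
    | mem x hx => rw [Set.mem_singleton_iff.1 hx]; exact hXX
    | algebraMap r => exact (Algebra.commute_algebraMap_right r _)
    | add x y _ _ hx hy => exact hx.add_right hy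
    | mul x y _ _ hx hy => exact hx.mul_right hy
  have t_t : ∀ y ∈ R, t (t y) = y := by
    intro y hy
    have hinv : hstar q (↑X⁻¹ : Matrix (Fin n) (Fin n) F) * hstar q (X : Matrix (Fin n) (Fin n) F) = 1 := by
      rw [← hstar_mul hF, Units.mul_inv, hstar_one hF]
    have hinv' : hstar q (X : Matrix (Fin n) (Fin n) F) * hstar q (↑X⁻¹ : Matrix (Fin n) (Fin n) F) = 1 := by
      rw [← hstar_mul hF, Units.inv_mul, hstar_one hF]
    show (↑X⁻¹ : Matrix (Fin n) (Fin n) F) * hstar q ((↑X⁻¹ : Matrix (Fin n) (Fin n) F) * hstar q y * (X : Matrix (Fin n) (Fin n) F)) * (X : Matrix (Fin n) (Fin n) F) = y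
    rw [hstar_mul hF, hstar_mul hF, hstar_hstar hF, ← mul_assoc (↑X⁻¹ : Matrix (Fin n) (Fin n) F),
      ← mul_assoc ((↑X⁻¹ : Matrix (Fin n) (Fin n) F) * hstar q (X : Matrix (Fin n) (Fin n) F)), (hW y hy).eq]
    simp only [mul_assoc]
    rw [← mul_assoc (hstar q (X : Matrix (Fin n) (Fin n) F)), hinv', one_mul, Units.inv_mul, mul_one]
  let _ : CommRing R := { (inferInstance : Ring R) with
    mul_comm := fun a b => Subtype.ext (hcomm a.1 a.2 b.1 b.2) }
  let τ : R ≃+* R :=
    { toFun := fun y => ⟨t y.1, t_mem _ y.2⟩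
      invFun := fun y => ⟨t y.1, t_mem _ y.2⟩
      left_inv := fun y => Subtype.ext (t_t _ y.2)
      right_inv := fun y => Subtype.ext (t_t _ y.2)
      map_mul' := fun a b => Subtype.ext (by
        show t (a.1 * b.1) = t a.1 * t b.1
        rw [t_mul]; exact hcomm _ (t_mem _ b.2) _ (t_mem _ a.2))
      map_add' := fun a b => Subtype.ext (t_add a.1 b.1) }
  have hτ : ∀ y, τ (τ y) = y := fun y => Subtype.ext (t_t _ y.2)
  obtain ⟨ω, hω⟩ : ∃ ω : F, ω - ω ^ q ≠ 0 := by
    obtain ⟨a, ha, ha1⟩ : ∃ a : F, a * a ^ q = 1 ∧ a ^ q ≠ a := by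
      by_contra h
      push Not at h
      have hle : Nat.card {x : F // x * x ^ q = 1} ≤ 2 := by
        rw [Nat.card_eq_fintype_card, Fintype.card_subtype]
        refine (Finset.card_le_card (t := {1, -1}) fun x hx => ?_).trans Finset.card_le_two
        simp only [Finset.mem_filter, Finset.mem_univ, true_and] at hx
        have h2 : x * x = 1 := by
          conv_lhs => arg 2; rw [← h x hx]
          exact hx
        simp only [Finset.mem_insert, Finset.mem_singleton]
        exact mul_self_eq_one_iff.1 h2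
      rw [card_norm_eq_one hF] at hle
      have := two_le_q hF
      omega
    exact ⟨a, sub_ne_zero.2 (Ne.symm ha1)⟩
  have hw : IsUnit (algebraMap F R ω - τ (algebraMap F R ω)) := by
    have h1 : algebraMap F R ω - τ (algebraMap F R ω) = algebraMap F R (ω - ω ^ q) := by
      rw [map_sub]
      congr 1
      refine Subtype.ext ?_
      show t (algebraMap F (Matrix (Fin n) (Fin n) F) ω) = algebraMap F (Matrix (Fin n) (Fin n) F) (ω ^ q)
      simp only [t, hstar_algebraMap hF]
      rw [← Algebra.commutes, mul_assoc, Units.inv_mul, mul_one]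
    rw [h1]
    exact (isUnit_iff_ne_zero.2 hω).map _
  let Z' : R := ⟨Z, Algebra.subset_adjoin rfl⟩
  refine ⟨fun hu hfix => ?_, fun hone => ?_⟩
  · have hu' : IsUnit Z' := by
      rw [isUnit_iff_mem_nonZeroDivisors_of_finite]
      refine mem_nonZeroDivisors_iff_right.2 fun x hx => Subtype.ext ?_
      have h1 : x.1 * Z = 0 := congrArg Subtype.val hx
      exact (hu.mul_left_eq_zero).1 h1
    obtain ⟨y, hy⟩ := exists_norm_eq_of_fixed τ hτ hw (c := hu'.unit) (Subtype.ext hfix)
    refine ⟨(y : R).1, (y : R).2, ?_, congrArg Subtype.val hy⟩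
    exact (y.isUnit).map R.val
  · obtain ⟨y, hy, hyz⟩ := exists_unit_eq_mul τ hτ hw (z := Z') (Subtype.ext hone)
    exact ⟨y.1, y.2, hy.map R.val, congrArg Subtype.val hyz⟩

theorem adjoin_commute {A B y : Matrix (Fin n) (Fin n) F} (h : Commute A B)
    (hy : y ∈ Algebra.adjoin F {A}) : Commute y B := by
  induction hy using Algebra.adjoin_induction with
  | mem x hx => rw [Set.mem_singleton_iff.1 hx]; exact h
  | algebraMap r => exact (Algebra.commute_algebraMap_left r B)
  | add x y _ _ hx hy => exact hx.add_left hy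
  | mul x y _ _ hx hy => exact hx.mul_left hy

/-- A hermitian invertible matrix is `y* y` with `y` a polynomial in it. -/
theorem exists_hstar_mul_self (hF : Fintype.card F = q ^ 2) {H : Matrix (Fin n) (Fin n) F}
    (hu : IsUnit H) (hH : hstar q H = H) :
    ∃ y, IsUnit y ∧ hstar q y * y = H ∧ ∀ B, Commute H B → Commute y B := by
  have h1 : ((1 : (Matrix (Fin n) (Fin n) F)ˣ)⁻¹ : (Matrix (Fin n) (Fin n) F)ˣ) = 1 := inv_one
  obtain ⟨y, hy, hyu, hyH⟩ := (algebra_lemma hF 1 H
    (by simp only [h1, Units.val_one, one_mul, mul_one, hH]; exact Algebra.subset_adjoin rfl)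
    (by simp only [h1, Units.val_one, one_mul, hstar_one hF]; exact Commute.one_left H)).1 hu
    (by simp only [h1, Units.val_one, one_mul, mul_one, hH])
  simp only [h1, Units.val_one, one_mul, mul_one] at hyH
  refine ⟨y, hyu, ?_, fun B hB => adjoin_commute hB hy⟩
  have hyH' : Commute H y := (adjoin_commute (Commute.refl H) hy).symm
  obtain ⟨u, rfl⟩ := hyu
  have h2 : hstar q (u : Matrix (Fin n) (Fin n) F) = (↑u⁻¹ : Matrix (Fin n) (Fin n) F) * H := by
    rw [← hyH, ← mul_assoc, Units.inv_mul, one_mul]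
  rw [h2, mul_assoc, hyH'.eq, ← mul_assoc, Units.inv_mul, one_mul]

/-- Conjugacy in `GU` is similarity. -/
theorem isConj_GU_iff (hF : Fintype.card F = q ^ 2) (A B : GU n F q) :
    IsConj A B ↔ IsConj (A : GL (Fin n) F) (B : GL (Fin n) F) := by
  refine ⟨fun h => ?_, fun h => ?_⟩
  · obtain ⟨g, hg⟩ := isConj_iff.1 h
    exact isConj_iff.2 ⟨g, congrArg Subtype.val hg⟩
  obtain ⟨x, hx⟩ := isConj_iff.1 h
  set X : Matrix (Fin n) (Fin n) F := (x : Matrix (Fin n) (Fin n) F)
  have hA : hstar q (gmat A) * gmat A = 1 := (preserves_iff_hstar hF).1 A.2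
  have hB : hstar q (gmat B) * gmat B = 1 := (preserves_iff_hstar hF).1 B.2
  have hxA : X * gmat A = gmat B * X := by
    have h1 := congrArg (fun g : GL (Fin n) F => (g : Matrix (Fin n) (Fin n) F)) (mul_inv_eq_iff_eq_mul.1 hx)
    simpa using h1
  set H := hstar q X * X with hHdef
  have hHu : IsUnit H := (hstar_isUnit hF x.isUnit).mul x.isUnit
  have hHs : hstar q H = H := by rw [hHdef, hstar_mul hF, hstar_hstar hF]
  have hAH : Commute H (gmat A) := by
    have h1 : hstar q (gmat A) * (H * gmat A) = H := by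
      rw [hHdef, show hstar q X * X * gmat A = hstar q X * (X * gmat A) from mul_assoc _ _ _, hxA,
        ← mul_assoc, ← hstar_mul hF, hxA, hstar_mul hF, mul_assoc,
        ← mul_assoc (hstar q (gmat B)), hB, one_mul]
    have hA' : gmat A * hstar q (gmat A) = 1 := mul_eq_one_comm.1 hA
    show H * gmat A = gmat A * H
    conv_rhs => rw [← h1, ← mul_assoc, hA', one_mul]
  obtain ⟨y, hyu, hy, hcomm⟩ := exists_hstar_mul_self hF hHu hHs
  obtain ⟨u, rfl⟩ := hyu
  have hP : Preserves q (X * (↑u⁻¹ : Matrix (Fin n) (Fin n) F)) := by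
    rw [preserves_iff_hstar hF, hstar_mul hF, mul_assoc, ← mul_assoc (hstar q X), ← hHdef, ← hy,
      mul_assoc (hstar q (u : Matrix (Fin n) (Fin n) F)), Units.mul_inv, mul_one, ← hstar_mul hF,
      Units.mul_inv, hstar_one hF]
  refine isConj_iff.2 ⟨toGU hF hP, ?_⟩
  rw [mul_inv_eq_iff_eq_mul]
  refine Subtype.ext (Units.ext ?_)
  show ((toGU hF hP : GL (Fin n) F) : Matrix (Fin n) (Fin n) F) * gmat A
    = gmat B * ((toGU hF hP : GL (Fin n) F) : Matrix (Fin n) (Fin n) F)
  rw [coe_toGU, mul_assoc, ((hcomm _ hAH).units_inv_left).eq, ← mul_assoc, hxA, mul_assoc]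

/-- A matrix is similar to an element of `GU` iff it is similar to the inverse of its conjugate
transpose. -/
theorem exists_similar_GU_iff (hF : Fintype.card F = q ^ 2) (A : GL (Fin n) F) :
    (∃ B : GU n F q, IsConj A (B : GL (Fin n) F)) ↔
      IsConj (A : Matrix (Fin n) (Fin n) F) (hstar q (A : Matrix (Fin n) (Fin n) F))⁻¹ := by
  constructor
  · rintro ⟨B, hB⟩
    obtain ⟨P, hP⟩ := isConj_iff.1 hB
    have hBs : hstar q (gmat B) * gmat B = 1 := (preserves_iff_hstar hF).1 B.2
    have hPA : (P : Matrix (Fin n) (Fin n) F) * (A : Matrix (Fin n) (Fin n) F)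
        = gmat B * (P : Matrix (Fin n) (Fin n) F) := by
      have h1 := congrArg (fun g : GL (Fin n) F => (g : Matrix (Fin n) (Fin n) F))
        (mul_inv_eq_iff_eq_mul.1 hP)
      simpa using h1
    set X := hstar q (P : Matrix (Fin n) (Fin n) F) * (P : Matrix (Fin n) (Fin n) F)
    have hXu : IsUnit X := (hstar_isUnit hF P.isUnit).mul P.isUnit
    have key : hstar q (A : Matrix (Fin n) (Fin n) F) * (X * (A : Matrix (Fin n) (Fin n) F)) = X := by
      simp only [X]
      rw [mul_assoc (hstar q _), hPA, ← mul_assoc, ← hstar_mul hF, hPA, hstar_mul hF, mul_assoc,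
        ← mul_assoc (hstar q (gmat B)), hBs, one_mul]
    refine ⟨hXu.unit, ?_⟩
    show X * (A : Matrix (Fin n) (Fin n) F) = (hstar q (A : Matrix (Fin n) (Fin n) F))⁻¹ * X
    have hdet := (Matrix.isUnit_iff_isUnit_det _).1 (hstar_isUnit hF A.isUnit)
    conv_rhs => rw [← key, ← mul_assoc, Matrix.nonsing_inv_mul _ hdet, one_mul]
  · rintro ⟨X, hX⟩
    set M := (A : Matrix (Fin n) (Fin n) F)
    have hdet := (Matrix.isUnit_iff_isUnit_det _).1 (hstar_isUnit hF A.isUnit)
    have hXA : hstar q M * ((X : Matrix (Fin n) (Fin n) F) * M) = X := by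
      rw [hX.eq, ← mul_assoc, Matrix.mul_nonsing_inv _ hdet, one_mul]
    have hXA' : hstar q M * (hstar q (X : Matrix (Fin n) (Fin n) F) * M) = hstar q (X : Matrix (Fin n) (Fin n) F) := by
      conv_rhs => rw [← hXA, hstar_mul hF, hstar_mul hF, hstar_hstar hF, mul_assoc]
    set Z := (↑X⁻¹ : Matrix (Fin n) (Fin n) F) * hstar q (X : Matrix (Fin n) (Fin n) F) with hZdef
    have hZu : IsUnit Z := (Units.isUnit _).mul (hstar_isUnit hF X.isUnit)
    have hinv' : hstar q (↑X⁻¹ : Matrix (Fin n) (Fin n) F) * hstar q (X : Matrix (Fin n) (Fin n) F) = 1 := by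
      rw [← hstar_mul hF, Units.mul_inv, hstar_one hF]
    have hZt : Z * ((↑X⁻¹ : Matrix (Fin n) (Fin n) F) * hstar q Z * (X : Matrix (Fin n) (Fin n) F)) = 1 := by
      simp only [Z]
      rw [hstar_mul hF, hstar_hstar hF, ← mul_assoc (↑X⁻¹ : Matrix (Fin n) (Fin n) F),
        Units.inv_mul, one_mul]
      simp only [mul_assoc]
      rw [← mul_assoc (hstar q (X : Matrix (Fin n) (Fin n) F)),
        mul_eq_one_comm.1 hinv', one_mul, Units.inv_mul]
    have hZadj : (↑X⁻¹ : Matrix (Fin n) (Fin n) F) * hstar q Z * (X : Matrix (Fin n) (Fin n) F) ∈ Algebra.adjoin F {Z} := by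
      have : Finite (Matrix (Fin n) (Fin n) F)ˣ := inferInstance
      obtain ⟨u, hu⟩ := hZu
      have h2 : (↑X⁻¹ : Matrix (Fin n) (Fin n) F) * hstar q Z * (X : Matrix (Fin n) (Fin n) F) = ((u⁻¹ : (Matrix (Fin n) (Fin n) F)ˣ) : Matrix (Fin n) (Fin n) F) := by
        rw [← hu] at hZt ⊢
        exact (Units.eq_inv_of_mul_eq_one_left hZt)
      rw [h2, ← hu]
      have h3 : u⁻¹ = u ^ (orderOf u - 1) := by
        rw [inv_eq_iff_mul_eq_one, ← pow_succ', Nat.sub_add_cancel (orderOf_pos u), pow_orderOf_eq_one]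
      rw [h3, Units.val_pow_eq_pow_val]
      exact pow_mem (Algebra.subset_adjoin (Set.mem_singleton _)) _
    have hMZ : Commute Z M := by
      have hM' : IsUnit (hstar q M) := hstar_isUnit hF A.isUnit
      show (↑X⁻¹ : Matrix (Fin n) (Fin n) F) * hstar q (X : Matrix (Fin n) (Fin n) F) * M
        = M * ((↑X⁻¹ : Matrix (Fin n) (Fin n) F) * hstar q (X : Matrix (Fin n) (Fin n) F))
      apply X.isUnit.mul_left_cancel
      apply hM'.mul_left_cancel
      rw [mul_assoc (↑X⁻¹ : Matrix (Fin n) (Fin n) F), ← mul_assoc (X : Matrix (Fin n) (Fin n) F) _ _,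
        Units.mul_inv, one_mul, hXA', ← mul_assoc (X : Matrix (Fin n) (Fin n) F) M,
        ← mul_assoc (hstar q M), hXA, ← mul_assoc, Units.mul_inv, one_mul]
    obtain ⟨w, hw, hwu, hweq⟩ := (algebra_lemma hF X Z hZadj (by exact Commute.refl Z)).2 hZt
    set H := (X : Matrix (Fin n) (Fin n) F) * w with hHdef
    have hHu : IsUnit H := X.isUnit.mul hwu
    have hHs : hstar q H = H := by
      have e1 : hstar q w = (X : Matrix (Fin n) (Fin n) F) * ((↑X⁻¹ : Matrix (Fin n) (Fin n) F) * hstar q w * (X : Matrix (Fin n) (Fin n) F)) * (↑X⁻¹ : Matrix (Fin n) (Fin n) F) := by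
        simp only [mul_assoc]
        rw [Units.mul_inv, mul_one, ← mul_assoc, Units.mul_inv, one_mul]
      have hcw : (↑X⁻¹ : Matrix (Fin n) (Fin n) F) * hstar q w * (X : Matrix (Fin n) (Fin n) F) * Z = Z * ((↑X⁻¹ : Matrix (Fin n) (Fin n) F) * hstar q w * (X : Matrix (Fin n) (Fin n) F)) := by
        obtain ⟨u, hu⟩ := hZu
        have h5 : (↑X⁻¹ : Matrix (Fin n) (Fin n) F) * hstar q w * (X : Matrix (Fin n) (Fin n) F) = (↑u⁻¹ : Matrix (Fin n) (Fin n) F) * w := by
          conv_rhs => rw [hweq, ← hu, ← mul_assoc, Units.inv_mul, one_mul]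
        have h6 : Commute w Z := adjoin_commute (Commute.refl Z) hw
        rw [h5, ← hu, mul_assoc, (show Commute w (u : Matrix (Fin n) (Fin n) F) by rw [hu]; exact h6).eq, ← mul_assoc, Units.inv_mul, one_mul, ← mul_assoc,
          Units.mul_inv, one_mul]
      rw [hHdef, hstar_mul hF, e1]
      simp only [mul_assoc]
      congr 1
      rw [← hZdef, ← mul_assoc (hstar q w), ← mul_assoc (↑X⁻¹ : Matrix (Fin n) (Fin n) F),
        ← mul_assoc (↑X⁻¹ : Matrix (Fin n) (Fin n) F) (hstar q w), hcw, ← hweq]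
    have hHA : hstar q M * (H * M) = H := by
      rw [hHdef, mul_assoc (X : Matrix (Fin n) (Fin n) F), (adjoin_commute hMZ hw).eq,
        ← mul_assoc (X : Matrix (Fin n) (Fin n) F), ← mul_assoc, hXA]
    obtain ⟨y, hyu, hy, -⟩ := exists_hstar_mul_self hF hHu hHs
    obtain ⟨u, rfl⟩ := hyu
    have hP : Preserves q ((u : Matrix (Fin n) (Fin n) F) * M * (↑u⁻¹ : Matrix (Fin n) (Fin n) F)) := by
      rw [preserves_iff_hstar hF, hstar_mul hF, hstar_mul hF]
      simp only [mul_assoc]
      rw [← mul_assoc (hstar q (u : Matrix (Fin n) (Fin n) F)), hy, ← mul_assoc H,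
        ← mul_assoc (hstar q M), hHA, ← hy, mul_assoc (hstar q (u : Matrix (Fin n) (Fin n) F)),
        Units.mul_inv, mul_one, ← hstar_mul hF, Units.mul_inv, hstar_one hF]
    exact ⟨toGU hF hP, isConj_iff.2 ⟨u, Units.ext (by rw [coe_toGU]; rfl)⟩⟩

end Cfsg.Agent.Unitary
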