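/-
The special unitary group inside the general linear group: transvections, irreducibility,
perfectness, normal subgroups.
-/
import Cfsg.Agent.Unitary.AschAdjoint
import Cfsg.Agent.Unitary.Simple
import Cfsg.Agent.Unitary.GUCenter

set_option autoImplicit false
set_option maxHeartbeats 1000000
set_option linter.unusedSectionVars false
set_option linter.style.haveILetI false

namespace Cfsg.Agent.Unitary.Asch

open scoped MatrixGroups Matrix
open Cfsg Cfsg.Geo Cfsg.Agent.Unitary Matrix

variable {F : Type*} [Field F] [Fintype F] {n q : ℕ}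

/-- The special unitary group as a subgroup of the general linear group. -/
abbrev SUg (n : ℕ) (F : Type*) [Field F] (q : ℕ) : Subgroup (GL (Fin n) F) :=
  GU n F q ⊓ specialLinear (Fin n) F

/-- `SU` into the general linear group. -/
def toG (n : ℕ) (F : Type*) [Field F] (q : ℕ) : SU n F q →* GL (Fin n) F :=
  Matrix.SpecialLinearGroup.toGL.comp (SU n F q).subtype

lemma toG_val (A : SU n F q) : (toG n F q A : Matrix (Fin n) (Fin n) F) = mat A := rfl

lemma toG_injective : Function.Injective (toG n F q) := fun A B h =>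
  Subtype.ext (Subtype.ext (congrArg (fun g : GL (Fin n) F => (g : Matrix (Fin n) (Fin n) F)) h))

lemma range_toG : (toG n F q).range = SUg n F q := by
  ext g
  constructor
  · rintro ⟨A, rfl⟩
    refine ⟨mem_GU_iff.2 fun u v => A.2 u v, ?_⟩
    show Matrix.GeneralLinearGroup.det (toG n F q A) = 1
    exact Units.ext A.1.2
  · rintro ⟨h1, h2⟩
    exact ⟨toSU (M := (g : Matrix (Fin n) (Fin n) F)) (fun u v => mem_GU_iff.1 h1 u v)
      (congrArg Units.val (h2 : Matrix.GeneralLinearGroup.det g = 1)), Units.ext rfl⟩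

/-- The transvection with centre the isotropic vector `u`. -/
def tvG (hF : Fintype.card F = q ^ 2) {u : Fin n → F} {c : F} (hu : hermForm n F q u u = 0)
    (hc : c + c ^ q = 0) : GL (Fin n) F :=
  toG n F q (tv hF hu hc)

lemma tvG_mem (hF : Fintype.card F = q ^ 2) {u : Fin n → F} {c : F}
    (hu : hermForm n F q u u = 0) (hc : c + c ^ q = 0) : tvG hF hu hc ∈ SUg n F q :=
  range_toG.le ⟨_, rfl⟩

lemma tvG_val (hF : Fintype.card F = q ^ 2) {u : Fin n → F} {c : F}
    (hu : hermForm n F q u u = 0) (hc : c + c ^ q = 0) :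
    (tvG hF hu hc : Matrix (Fin n) (Fin n) F) = 1 + c • Matrix.vecMulVec u (fun j => u j ^ q) :=
  mat_tv hF hu hc

lemma tvG_mulVec (hF : Fintype.card F = q ^ 2) {u : Fin n → F} {c : F}
    (hu : hermForm n F q u u = 0) (hc : c + c ^ q = 0) (x : Fin n → F) :
    (tvG hF hu hc : Matrix (Fin n) (Fin n) F) *ᵥ x = x + (c * hermForm n F q x u) • u :=
  ap_tv hF hu hc x

lemma exists_skew_trace (hF : Fintype.card F = q ^ 2) : ∃ δ : F, δ ≠ 0 ∧ δ + δ ^ q = 0 := by
  obtain ⟨δ, h0, h⟩ := exists_skew hF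
  exact ⟨δ, h0, by rw [h, add_neg_cancel]⟩

/-- Every property of isotropic vectors closed under sums holds everywhere. -/
lemma forall_of_isotropic (hF : Fintype.card F = q ^ 2) (hn : 2 ≤ n) {p : (Fin n → F) → Prop}
    (hiso : ∀ u, hermForm n F q u u = 0 → p u) (hadd : ∀ u v, p u → p v → p (u + v))
    (x : Fin n → F) : p x :=
  exists_add_isotropic hF (nondeg_top hF) (by rw [finrank_top, Module.finrank_fin_fun]; exact hn)
    (fun w _ h => hiso w h) (fun w _ w' _ h h' => hadd w w' h h') x trivial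

/-- No proper non-zero subspace is, for every isotropic vector, either through it or orthogonal
to it. -/
theorem no_tv_invariant (hF : Fintype.card F = q ^ 2) (hn : 3 ≤ n) {W : Submodule F (Fin n → F)}
    (h1 : W ≠ ⊥) (h2 : W ≠ ⊤)
    (h : ∀ u, hermForm n F q u u = 0 → u ∈ W ∨ ∀ w ∈ W, hermForm n F q w u = 0) : False := by
  have h3 : 3 ≤ Module.finrank F (⊤ : Submodule F (Fin n → F)) := by
    rw [finrank_top, Module.finrank_fin_fun]; exact hn
  obtain ⟨v, hv, hvW⟩ : ∃ v, hermForm n F q v v = 0 ∧ v ∉ W := by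
    by_contra hall
    push Not at hall
    exact h2 (eq_top_iff.2 fun x _ =>
      forall_of_isotropic hF (by omega) (p := (· ∈ W)) hall (fun _ _ => W.add_mem) x)
  obtain ⟨u, hu, hu0, huW⟩ : ∃ u, hermForm n F q u u = 0 ∧ u ≠ 0 ∧ u ∈ W := by
    by_contra hall
    push Not at hall
    obtain ⟨w, hw, hw0⟩ := Submodule.exists_mem_ne_zero_of_ne_bot h1
    refine hw0 (eq_zero_of_forall_left hF fun x => ?_)
    refine (herm_eq_zero_symm hF).1 ?_
    refine forall_of_isotropic hF (by omega) (p := fun x => hermForm n F q w x = 0)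
      (fun x hx => ?_) (fun a b ha hb => by rw [herm_add_right hF, ha, hb, add_zero]) x
    by_cases hx0 : x = 0
    · rw [hx0, herm_zero_right hF]
    · exact (h x hx).resolve_left (hall x hx hx0) w hw
  have hv0 : v ≠ 0 := fun h0 => hvW (h0 ▸ W.zero_mem)
  obtain ⟨z, -, hz, hzu, hzv⟩ := exists_iso_nonperp hF (nondeg_top hF) h3 trivial trivial hu hv hu0 hv0
  rcases h z hz with hzW | hzW
  · exact hzv ((h v hv).resolve_left hvW z hzW)
  · exact hzu ((herm_eq_zero_symm hF).1 (hzW u huW))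

/-- Only scalars commute with all transvections. -/
theorem scalar_of_commute_tvG (hF : Fintype.card F = q ^ 2) (hn : 3 ≤ n)
    {M : Matrix (Fin n) (Fin n) F}
    (h : ∀ (u : Fin n → F) (c : F) (hu : hermForm n F q u u = 0) (hc : c + c ^ q = 0),
      (tvG hF hu hc : Matrix (Fin n) (Fin n) F) * M = M * tvG hF hu hc) :
    ∃ l : F, M = l • 1 := by
  obtain ⟨δ, hδ0, hδ⟩ := exists_skew_trace hF
  have key : ∀ u, hermForm n F q u u = 0 → ∀ x,
      hermForm n F q x u • (M *ᵥ u) = hermForm n F q (M *ᵥ x) u • u := by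
    intro u hu x
    have h1 := congrArg (· *ᵥ x) (h u δ hu hδ)
    simp only [← Matrix.mulVec_mulVec, tvG_mulVec, Matrix.mulVec_add, Matrix.mulVec_smul] at h1
    exact (smul_right_injective _ hδ0 (by simpa only [smul_smul] using add_left_cancel h1)).symm
  have heig : ∀ u, hermForm n F q u u = 0 → u ≠ 0 → ∃ l : F, M *ᵥ u = l • u ∧
      ∀ x, hermForm n F q (M *ᵥ x) u = l * hermForm n F q x u := by
    intro u hu hu0
    obtain ⟨v, -, -, hvu⟩ := exists_partner hF (nondeg_top hF) Submodule.mem_top hu0 hu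
    refine ⟨hermForm n F q (M *ᵥ v) u, ?_, fun x => ?_⟩
    · rw [← key u hu v, hvu, one_smul]
    · have h1 := key u hu x
      rw [show M *ᵥ u = hermForm n F q (M *ᵥ v) u • u by rw [← key u hu v, hvu, one_smul],
        smul_smul] at h1
      obtain ⟨i, hi⟩ := Function.ne_iff.1 hu0
      have h2 := congrFun h1 i
      simp only [Pi.smul_apply, smul_eq_mul] at h2
      rw [← mul_right_cancel₀ hi h2, mul_comm]
  have h3 : 3 ≤ Module.finrank F (⊤ : Submodule F (Fin n → F)) := by
    rw [finrank_top, Module.finrank_fin_fun]; exact hn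
  obtain ⟨u, hu0, hu⟩ := exists_isotropic_top (n := n) hF (by omega)
  obtain ⟨l, hl, hlf⟩ := heig u hu hu0
  refine ⟨l, Matrix.ext_of_mulVec_single fun i => ?_⟩
  rw [Matrix.smul_mulVec, Matrix.one_mulVec]
  refine forall_of_isotropic hF (by omega) (p := fun x => M *ᵥ x = l • x) (fun v hv => ?_)
    (fun a b ha hb => by rw [Matrix.mulVec_add, ha, hb, smul_add]) _
  by_cases hv0 : v = 0
  · rw [hv0, Matrix.mulVec_zero, smul_zero]
  obtain ⟨k, hk, hkf⟩ := heig v hv hv0
  obtain ⟨z, -, hz, hzu, hzv⟩ := exists_iso_nonperp hF (nondeg_top hF) h3 trivial trivial hu hv hu0 hv0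
  obtain ⟨j, hj, -⟩ := heig z hz (fun h0 => hzu (by rw [h0, herm_zero_left]))
  have e1 := hlf z
  have e2 := hkf z
  rw [hj, herm_smul_left] at e1 e2
  rw [hk, ← mul_right_cancel₀ hzv e2, mul_right_cancel₀ hzu e1]

theorem SUg_perfect (hF : Fintype.card F = q ^ 2) (hbig : 4 ≤ n ∨ (n = 3 ∧ 3 ≤ q)) :
    ⁅SUg n F q, SUg n F q⁆ = SUg n F q := by
  rw [← range_toG, MonoidHom.range_eq_map, ← Subgroup.map_commutator, ← commutator_def,
    commutator_eq_top hF hbig]

/-- Subgroups normalised by the special unitary group. -/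
theorem normal_le_scalars_or_eq (hF : Fintype.card F = q ^ 2) (hbig : 4 ≤ n ∨ (n = 3 ∧ 3 ≤ q))
    {N : Subgroup (GL (Fin n) F)} (hN : N ≤ SUg n F q)
    (hnorm : ∀ g ∈ SUg n F q, ∀ x ∈ N, g * x * g⁻¹ ∈ N) :
    N ≤ scalars (Fin n) F ∨ N = SUg n F q := by
  haveI : NeZero n := ⟨by omega⟩
  haveI : (N.comap (toG n F q)).Normal := ⟨fun x hx g => by
    simp only [Subgroup.mem_comap, map_mul, map_inv]
    exact hnorm _ (range_toG.le ⟨g, rfl⟩) _ hx⟩
  rcases normal_le_center_or_eq_top hF hbig (N.comap (toG n F q)) with h | h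
  · left
    intro x hx
    obtain ⟨A, rfl⟩ := (range_toG (n := n) (F := F) (q := q)).ge (hN hx)
    obtain ⟨l, hl⟩ := eq_smul_of_mem_center hF (by omega) (h hx)
    have hl0 : l ≠ 0 := fun h0 => by
      haveI : Nonempty (Fin n) := ⟨⟨0, by omega⟩⟩
      have hm := mat_of_ap_smul hl
      have hu := (toG n F q A).isUnit
      rw [toG_val, hm, h0, zero_smul] at hu
      exact not_isUnit_zero hu
    exact (mem_scalars_iff _).mpr ⟨Units.mk0 l hl0, by rw [toG_val, mat_of_ap_smul hl]; rfl⟩
  · right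
    refine le_antisymm hN ?_
    rw [← range_toG]
    rintro _ ⟨A, rfl⟩
    exact (Subgroup.eq_top_iff' _).1 h A

end Cfsg.Agent.Unitary.Asch
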