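import Mathlib
import Cfsg.Agent.Unitary.TIFrames

/-!
# Totally isotropic subspaces and their stabilisers
-/

set_option autoImplicit false
set_option linter.unusedSectionVars false

namespace Cfsg.Agent.Unitary

open Cfsg Matrix

variable {F : Type*} [Field F] [Fintype F] {n q : ℕ}

/-- The totally isotropic subspaces of dimension `k`. -/
abbrev TISub (n : ℕ) (F : Type*) [Field F] (q k : ℕ) :=
  {W : Submodule F (Fin n → F) //
    Module.finrank F W = k ∧ ∀ u ∈ W, ∀ v ∈ W, hermForm n F q u v = 0}

theorem finrank_span_TIFrame {k : ℕ} (f : TIFrame n F q k) :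
    Module.finrank F (Submodule.span F (Set.range f.1)) = k := by
  rw [finrank_span_eq_card f.2.1, Fintype.card_fin]

/-- The subspace spanned by a frame. -/
def TIFrame.span (hF : Fintype.card F = q ^ 2) {k : ℕ} (f : TIFrame n F q k) : TISub n F q k :=
  ⟨Submodule.span F (Set.range f.1), finrank_span_TIFrame f, fun u hu v hv => by
    obtain ⟨a, rfl⟩ := (Submodule.mem_span_range_iff_exists_fun F).1 hu
    obtain ⟨b, rfl⟩ := (Submodule.mem_span_range_iff_exists_fun F).1 hv
    simp [herm_sum_left, herm_sum_right hF, herm_smul_left, herm_smul_right, f.2.2]⟩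

theorem exists_frame_of_TISub (hF : Fintype.card F = q ^ 2) {k : ℕ} (W : TISub n F q k) :
    ∃ f : TIFrame n F q k, f.span hF = W := by
  obtain ⟨W, hWk, hW⟩ := W
  subst hWk
  let b := Module.finBasis F W
  refine ⟨⟨fun i => (b i : Fin n → F), b.linearIndependent.map' W.subtype (Submodule.ker_subtype W),
    fun i j => hW _ (b i).2 _ (b j).2⟩, Subtype.ext ?_⟩
  show Submodule.span F (Set.range fun i => (b i : Fin n → F)) = W
  rw [show (fun i => (b i : Fin n → F)) = W.subtype ∘ b from rfl, Set.range_comp,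
    Submodule.span_image, b.span_eq, Submodule.map_top, Submodule.range_subtype]

/-- The number of frames spanning a given subspace. -/
def glCard (q k : ℕ) : ℕ := ∏ i : Fin k, ((q ^ 2) ^ k - (q ^ 2) ^ (i : ℕ))

theorem glCard_pos (hF : Fintype.card F = q ^ 2) (k : ℕ) : 0 < glCard q k := by
  refine Finset.prod_pos fun i _ => Nat.sub_pos_of_lt (Nat.pow_lt_pow_right ?_ i.2)
  rw [← hF]
  exact Fintype.one_lt_card

theorem card_TIFrame_eq (hF : Fintype.card F = q ^ 2) (k : ℕ) :
    Nat.card (TIFrame n F q k) = Nat.card (TISub n F q k) * glCard q k := by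
  classical
  have hspan : ∀ (W : TISub n F q k) (s : Fin k → W.1), LinearIndependent F s →
      Submodule.span F (Set.range fun i => (s i : Fin n → F)) = W.1 := by
    intro W s hs
    refine Submodule.eq_of_le_of_finrank_le
      (Submodule.span_le.2 (Set.range_subset_iff.2 fun i => (s i).2)) ?_
    have h : LinearIndependent F (fun i => (s i : Fin n → F)) :=
      hs.map' W.1.subtype (Submodule.ker_subtype _)
    rw [finrank_span_eq_card h, Fintype.card_fin, W.2.1]
  let φ : (Σ W : TISub n F q k, {s : Fin k → W.1 // LinearIndependent F s}) → TIFrame n F q k :=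
    fun p => ⟨fun i => (p.2.1 i : Fin n → F),
      p.2.2.map' p.1.1.subtype (Submodule.ker_subtype _),
      fun i j => p.1.2.2 _ (p.2.1 i).2 _ (p.2.1 j).2⟩
  have hφ : Function.Bijective φ := by
    refine ⟨?_, fun f => ⟨⟨f.span hF, fun i => ⟨f.1 i, Submodule.subset_span ⟨i, rfl⟩⟩,
      LinearIndependent.of_comp (f.span hF).1.subtype f.2.1⟩, rfl⟩⟩
    rintro ⟨W, s, hs⟩ ⟨W', s', hs'⟩ h
    have h' : (fun i => (s i : Fin n → F)) = fun i => (s' i : Fin n → F) := congrArg Subtype.val h
    obtain rfl : W = W' := Subtype.ext (by rw [← hspan W s hs, ← hspan W' s' hs', h'])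
    exact Sigma.ext rfl (heq_of_eq (Subtype.ext (funext fun i => Subtype.ext (congrFun h' i))))
  let E := (Equiv.ofBijective φ hφ).symm
  have : Fintype (TISub n F q k) := Fintype.ofFinite _
  have hfib : ∀ W : TISub n F q k,
      Nat.card {s : Fin k → W.1 // LinearIndependent F s} = glCard q k := by
    intro W
    rw [card_linearIndependent W.2.1.ge, W.2.1, hF]
    rfl
  rw [Nat.card_congr E, Nat.card_sigma, Finset.sum_congr rfl fun W _ => hfib W, Finset.sum_const,
    Finset.card_univ, smul_eq_mul, Nat.card_eq_fintype_card]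

/-- The number of totally isotropic subspaces. -/
theorem card_TISub (hF : Fintype.card F = q ^ 2) {k : ℕ} (hk : 2 * k ≤ n) :
    q ^ (k * (2 * n - 3 * k)) * Nat.card (GU (n - 2 * k) F q) * glCard q k
      * Nat.card (TISub n F q k) = Nat.card (GU n F q) := by
  rw [← card_TIFrame hF hk, card_TIFrame_eq hF k]
  ring

/-- The action of `GU` on subspaces. -/
@[reducible] noncomputable def subAction (n : ℕ) (F : Type*) [Field F] [Fintype F] (q k : ℕ) :
    MulAction (GU n F q) (TISub n F q k) where
  smul g W := ⟨W.1.map (gmat g).mulVecLin, by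
    refine ⟨(LinearEquiv.finrank_eq (Submodule.equivMapOfInjective (gmat g).mulVecLin
      (gap_injective g) W.1).symm).trans W.2.1, ?_⟩
    rintro _ ⟨u, hu, rfl⟩ _ ⟨v, hv, rfl⟩
    exact (herm_gap g u v).trans (W.2.2 u hu v hv)⟩
  one_smul W := by
    apply Subtype.ext
    show W.1.map (gmat (1 : GU n F q)).mulVecLin = W.1
    rw [show gmat (1 : GU n F q) = 1 from rfl, Matrix.mulVecLin_one, Submodule.map_id]
  mul_smul g g' W := by
    apply Subtype.ext
    show W.1.map (gmat (g * g')).mulVecLin = (W.1.map (gmat g').mulVecLin).map (gmat g).mulVecLin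
    rw [← Submodule.map_comp, show gmat (g * g') = gmat g * gmat g' from rfl, Matrix.mulVecLin_mul]

theorem mem_stab_iff_map {W : Submodule F (Fin n → F)} {g : GU n F q} :
    g ∈ (stabilizing (glToMat (Fin n) F) (W : Set (Fin n → F))).subgroupOf (GU n F q) ↔
      W.map (gmat g).mulVecLin = W := by
  rw [mem_stab_iff]
  constructor
  · intro h
    ext v
    constructor
    · rintro ⟨u, hu, rfl⟩
      exact (h u).1 hu
    · intro hv
      refine ⟨gap g⁻¹ v, ?_, gap_gap_inv g v⟩
      exact (h _).2 (by rw [gap_gap_inv]; exact hv)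
  · intro h v
    constructor
    · intro hv
      rw [SetLike.mem_coe, ← h]
      exact ⟨v, hv, rfl⟩
    · intro hv
      rw [SetLike.mem_coe, ← h] at hv
      obtain ⟨u, hu, hgu⟩ := hv
      rw [← gap_injective g hgu]
      exact hu

theorem card_TISub_mul_stab (hF : Fintype.card F = q ^ 2) {k : ℕ} (W : TISub n F q k) :
    Nat.card (TISub n F q k) *
      Nat.card ↥((stabilizing (glToMat (Fin n) F) (W.1 : Set (Fin n → F))).subgroupOf (GU n F q))
        = Nat.card (GU n F q) := by
  let := subAction n F q k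
  have htrans : MulAction.orbit (GU n F q) W = Set.univ := by
    refine Set.eq_univ_iff_forall.2 fun W' => ?_
    obtain ⟨f, hf⟩ := exists_frame_of_TISub hF W
    obtain ⟨f', hf'⟩ := exists_frame_of_TISub hF W'
    obtain ⟨g, hg⟩ := exists_GU_map_TIFrame hF f f'
    refine ⟨g, Subtype.ext ?_⟩
    show W.1.map (gmat g).mulVecLin = W'.1
    rw [← hf, ← hf']
    show (Submodule.span F (Set.range f.1)).map _ = Submodule.span F (Set.range f'.1)
    rw [Submodule.map_span, ← Set.range_comp]
    exact congrArg (fun s => Submodule.span F (Set.range s)) (funext hg)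
  have hstab : MulAction.stabilizer (GU n F q) W
      = (stabilizing (glToMat (Fin n) F) (W.1 : Set (Fin n → F))).subgroupOf (GU n F q) := by
    ext g
    rw [MulAction.mem_stabilizer_iff, mem_stab_iff_map, Subtype.ext_iff]
    rfl
  rw [← hstab, ← Nat.card_prod, ← Nat.card_congr (MulAction.orbitProdStabilizerEquivGroup (GU n F q) W),
    Nat.card_prod, Nat.card_prod, htrans, Nat.card_congr (Equiv.Set.univ _)]

theorem card_stab_GU (hF : Fintype.card F = q ^ 2) {k : ℕ} (hk : 2 * k ≤ n) (W : TISub n F q k) :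
    Nat.card ↥((stabilizing (glToMat (Fin n) F) (W.1 : Set (Fin n → F))).subgroupOf (GU n F q))
      = q ^ (k * (2 * n - 3 * k)) * glCard q k * Nat.card (GU (n - 2 * k) F q) := by
  have : Nonempty (TISub n F q k) := ⟨W⟩
  have hpos : 0 < Nat.card (TISub n F q k) := Nat.card_pos
  apply Nat.eq_of_mul_eq_mul_left hpos
  rw [card_TISub_mul_stab hF W, ← card_TISub hF hk]
  ring

/-- The stabiliser contains elements of every determinant, for `k ≥ 1`. -/
theorem exists_stab_det (hF : Fintype.card F = q ^ 2) {k : ℕ} (W : TISub n F q k) (hk : 0 < k)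
    {c : Fˣ} (hc : c ∈ (powMonoidHom (q + 1) : Fˣ →* Fˣ).ker) :
    ∃ g ∈ (stabilizing (glToMat (Fin n) F) (W.1 : Set (Fin n → F))).subgroupOf (GU n F q),
      detGU n F q g = c := by
  rw [← range_pow_sub_eq_ker hF] at hc
  obtain ⟨l', hl'⟩ := hc
  -- the eigenvalues `l` on `W` and `(l ^ q)⁻¹` on the partner
  let l : F := ((l'⁻¹ : Fˣ) : F)
  have hl0 : l ≠ 0 := Units.ne_zero _
  have hlq0 : l ^ q ≠ 0 := pow_ne_zero _ hl0
  obtain ⟨f, hf⟩ := exists_frame_of_TISub hF W
  obtain ⟨b⟩ := exists_hypBasis hF f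
  have i₀ : Fin k := ⟨0, hk⟩
  set u := f.1 i₀ with hu_def
  set v := b.v i₀ with hv_def
  have hu : hermForm n F q u u = 0 := f.2.2 _ _
  have hv : hermForm n F q v v = 0 := b.vv _ _
  have hvu : hermForm n F q v u = 1 := by rw [hu_def, hv_def, b.vf, if_pos rfl]
  have huv : hermForm n F q u v = 1 := by rw [← herm_swap hF v u, hvu, one_pow]
  let M : Matrix (Fin n) (Fin n) F :=
    1 + vecMulVec ((l - 1) • u) (cj q v) + vecMulVec (((l ^ q)⁻¹ - 1) • v) (cj q u)
  have hM : ∀ x, M *ᵥ x = x + ((l - 1) * hermForm n F q x v) • u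
      + (((l ^ q)⁻¹ - 1) * hermForm n F q x u) • v := by
    intro x
    simp only [M, add_mulVec, one_mulVec, vecMulVec_mulVec, op_smul_eq_smul, smul_smul,
      herm_eq_dot, dotProduct_comm (cj q v), dotProduct_comm (cj q u)]
    rw [mul_comm (x ⬝ᵥ cj q v), mul_comm (x ⬝ᵥ cj q u)]
  have hpres : Preserves q M := by
    intro x y
    simp only [hM, herm_add_left, herm_add_right hF, herm_smul_left, herm_smul_right, hu, hv, huv,
      hvu, mul_zero, mul_one, add_zero, mul_pow, sub_pow_q hF, one_pow, inv_pow,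
      pow_q_q hF]
    rw [← herm_swap hF y u, ← herm_swap hF y v]
    field_simp
    ring
  have hdet : M.det = l * (l ^ q)⁻¹ := by
    let X : Matrix (Fin n) (Fin 2) F := Matrix.of fun i j => ![((l - 1) • u) i, (((l ^ q)⁻¹ - 1) • v) i] j
    let Y : Matrix (Fin 2) (Fin n) F := Matrix.of fun j i => ![cj q v i, cj q u i] j
    have hXY : M = 1 + X * Y := by
      ext i j
      simp only [M, X, Y, Matrix.add_apply, vecMulVec_apply, Matrix.mul_apply, Fin.sum_univ_two,
        Matrix.of_apply, Matrix.cons_val_zero, Matrix.cons_val_one]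
      ring
    have e : ∀ (w : Fin n → F) (z : Fin n → F), ∑ i, cj q z i * w i = hermForm n F q w z :=
      fun w z => Finset.sum_congr rfl fun i _ => mul_comm _ _
    rw [hXY, det_one_add_mul_comm, Matrix.det_fin_two]
    simp only [X, Y, Matrix.add_apply, Matrix.one_apply_eq, Matrix.mul_apply, Matrix.of_apply,
      Matrix.cons_val_zero, Matrix.cons_val_one, Matrix.one_apply_ne (show (0 : Fin 2) ≠ 1 by decide),
      Matrix.one_apply_ne (show (1 : Fin 2) ≠ 0 by decide), e, herm_smul_left, hu, hv, huv, hvu]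
    ring
  have hfix : ∀ j, M *ᵥ f.1 j = (if j = i₀ then l else 1) • f.1 j := by
    intro j
    rw [hM, show hermForm n F q (f.1 j) u = 0 from f.2.2 _ _, hv_def,
      ← herm_swap hF (b.v i₀), b.vf]
    by_cases h : j = i₀
    · subst h
      rw [if_pos rfl, if_pos rfl, one_pow, hu_def]
      module
    · rw [if_neg (Ne.symm h), if_neg h, zero_pow (q_ne_zero hF)]
      module
  refine ⟨toGU hF hpres, ?_, ?_⟩
  · rw [mem_stab_iff_map]
    refine Submodule.eq_of_le_of_finrank_le ?_ ?_
    · rw [← hf]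
      show (Submodule.span F (Set.range f.1)).map _ ≤ Submodule.span F (Set.range f.1)
      rw [Submodule.map_span_le]
      rintro _ ⟨j, rfl⟩
      rw [gmat, coe_toGU, Matrix.mulVecLin_apply, hfix]
      exact Submodule.smul_mem _ _ (Submodule.subset_span ⟨j, rfl⟩)
    · exact (LinearEquiv.finrank_eq (Submodule.equivMapOfInjective _
        (gap_injective (toGU hF hpres)) W.1)).le
  · refine Units.ext ?_
    rw [detGU_val, coe_toGU, hdet, ← hl']
    simp only [l, powMonoidHom_apply, Units.val_pow_eq_pow_val, Units.val_inv_eq_inv_val]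
    have hl'0 : ((l' : Fˣ) : F) ≠ 0 := Units.ne_zero _
    rw [inv_pow, inv_inv, ← pow_sub_one_mul (q_ne_zero hF) ((l' : Fˣ) : F)]
    field_simp

/-- The order of the stabiliser in `SU`. -/
theorem card_stab_SU (hF : Fintype.card F = q ^ 2) {k : ℕ} (hn : 1 ≤ n) (hk : 2 * k ≤ n)
    (W : TISub n F q k) :
    (q + 1) * Nat.card ↥((stabilizing (slToMat n F) (W.1 : Set (Fin n → F))).subgroupOf (SU n F q))
      = q ^ (k * (2 * n - 3 * k)) * glCard q k * Nat.card (GU (n - 2 * k) F q) := by
  rw [← card_stab_GU hF hk W]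
  set S := (stabilizing (glToMat (Fin n) F) (W.1 : Set (Fin n → F))).subgroupOf (GU n F q) with hS
  let D : S →* Fˣ := (detGU n F q).comp S.subtype
  have hr : D.range = (powMonoidHom (q + 1) : Fˣ →* Fˣ).ker := by
    refine le_antisymm ?_ fun c hc => ?_
    · rw [← detGU_range hF hn]
      rintro _ ⟨g, rfl⟩
      exact ⟨g.1, rfl⟩
    · rcases Nat.eq_zero_or_pos k with rfl | hk0
      · rw [← detGU_range hF hn] at hc
        obtain ⟨g, rfl⟩ := hc
        refine ⟨⟨g, ?_⟩, rfl⟩
        rw [hS, mem_stab_iff_map, Submodule.finrank_eq_zero.1 W.2.1, Submodule.map_bot]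
      · obtain ⟨g, hg, hgc⟩ := exists_stab_det hF W hk0 hc
        exact ⟨⟨g, hg⟩, hgc⟩
  have hker : Nat.card D.ker =
      Nat.card ↥((stabilizing (slToMat n F) (W.1 : Set (Fin n → F))).subgroupOf (SU n F q)) :=
    Nat.card_congr
      { toFun := fun g => ⟨(suEquivKer n F q).symm ⟨g.1.1, g.2⟩, g.1.2⟩
        invFun := fun A => ⟨⟨(suEquivKer n F q A.1).1, A.2⟩, (suEquivKer n F q A.1).2⟩
        left_inv := fun g => Subtype.ext (Subtype.ext (Subtype.ext (Units.ext rfl)))
        right_inv := fun A => rfl }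
  rw [← hker, ← Subgroup.card_mul_index D.ker, Subgroup.index_ker, hr, card_ker_pow hF, mul_comm]

end Cfsg.Agent.Unitary
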