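import Cfsg.Agent.Unitary.AschAdjoint
import Cfsg.Agent.Unitary.Basis
import Cfsg.Agent.Aschbacher.Imprimitive

/-!
# Reducible and imprimitive subgroups of the unitary groups
-/

set_option autoImplicit false
set_option linter.unusedSectionVars false

namespace Cfsg.Agent.Unitary.Asch

open Matrix
open scoped MatrixGroups
open Cfsg.Geo

variable {F : Type*} [Field F] [Fintype F] {q n : ℕ}

lemma nondegOn_iff (hF : Fintype.card F = q ^ 2) {W : Submodule F (Fin n → F)} :
    IsNondegenerateOn (hermForm n F q) W ↔ Nondeg q W := by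
  constructor
  · intro h u hu hall
    by_contra hu0
    obtain ⟨-, x, hx, hne⟩ := h u hu hu0
    exact hne (hall x hx)
  · intro h w hw hw0
    obtain ⟨x, hx, hne⟩ : ∃ x ∈ W, hermForm n F q w x ≠ 0 := by
      by_contra hc
      push Not at hc
      exact hw0 (h w hw hc)
    exact ⟨⟨x, hx, fun h0 => hne ((herm_eq_zero_symm hF).1 h0)⟩, x, hx, hne⟩

lemma mem_stab_mulVec {W : Submodule F (Fin n → F)} {g : GL (Fin n) F}
    (hg : g ∈ subspaceStabilizer W) (v : Fin n → F) :
    v ∈ W ↔ (g : Matrix (Fin n) (Fin n) F) *ᵥ v ∈ W := hg v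

lemma le_stab_of_maps {H : Subgroup (GL (Fin n) F)} {W : Submodule F (Fin n → F)}
    (h : ∀ g ∈ H, ∀ v ∈ W, (g : Matrix (Fin n) (Fin n) F) *ᵥ v ∈ W) :
    H ≤ subspaceStabilizer W := by
  intro g hg v
  refine ⟨h g hg v, fun hv => ?_⟩
  have := h g⁻¹ (H.inv_mem hg) _ hv
  have e : ((g⁻¹ : GL (Fin n) F) : Matrix (Fin n) (Fin n) F) *ᵥ
      ((g : Matrix (Fin n) (Fin n) F) *ᵥ v) = v := by
    rw [Matrix.mulVec_mulVec, ← Units.val_mul, inv_mul_cancel, Units.val_one, Matrix.one_mulVec]
  exact e ▸ this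

/-- A reducible group: a totally singular subspace, a small non-degenerate one, or a pair of
orthogonal non-degenerate halves. -/
theorem reducible_cases (hF : Fintype.card F = q ^ 2) {H : Subgroup (GL (Fin n) F)}
    (hH : H ≤ GU n F q) {W : Submodule F (Fin n → F)} (h1 : W ≠ ⊥) (h2 : W ≠ ⊤)
    (hW : H ≤ subspaceStabilizer W) :
    (∃ U : Submodule F (Fin n → F), U ≠ ⊥ ∧ IsTotallySingularFor (hermForm n F q) U ∧
      H ≤ subspaceStabilizer U) ∨
    (∃ U : Submodule F (Fin n → F), U ≠ ⊥ ∧ IsNondegenerateOn (hermForm n F q) U ∧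
      2 * Module.finrank F U < n ∧ H ≤ subspaceStabilizer U) ∨
    (∃ (k : ℕ) (D : Fin 2 → Submodule F (Fin n → F)), 2 * k = n ∧
      IsNondegenerateMDecomposition (hermForm n F q) k D ∧ H ≤ decompositionStabilizer D) := by
  classical
  set P := perp q (W : Set (Fin n → F)) with hP
  have hPinv : H ≤ subspaceStabilizer P := by
    refine le_stab_of_maps fun g hg x hx => ?_
    intro s hs
    have h' : ((g⁻¹ : GL (Fin n) F) : Matrix (Fin n) (Fin n) F) *ᵥ s ∈ W :=
      (mem_stab_mulVec (hW (H.inv_mem hg)) s).1 hs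
    have e : (g : Matrix (Fin n) (Fin n) F) *ᵥ
        (((g⁻¹ : GL (Fin n) F) : Matrix (Fin n) (Fin n) F) *ᵥ s) = s := by
      rw [Matrix.mulVec_mulVec, ← Units.val_mul, mul_inv_cancel, Units.val_one, Matrix.one_mulVec]
    rw [← e]
    exact (hH hg _ _).trans (hx _ h')
  by_cases hI : W ⊓ P = ⊥
  swap
  · refine Or.inl ⟨W ⊓ P, hI, fun u hu v hv => hu.2 v hv.1, le_stab_of_maps fun g hg v hv =>
      ⟨(mem_stab_mulVec (hW hg) v).1 hv.1, (mem_stab_mulVec (hPinv hg) v).1 hv.2⟩⟩
  have hnd : Nondeg q W := fun u hu hall => by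
    have : u ∈ W ⊓ P := ⟨hu, hall⟩
    rwa [hI, Submodule.mem_bot] at this
  have hsum := finrank_perp_add hF hnd
  rw [← hP] at hsum
  have hndP : Nondeg q P := nondeg_perp hF hnd
  have hWpos : 0 < Module.finrank F W := Nat.pos_of_ne_zero fun h => h1 (Submodule.finrank_eq_zero.1 h)
  have hWlt : Module.finrank F W < n := by
    have := Submodule.finrank_lt h2
    simpa using this
  rcases lt_trichotomy (2 * Module.finrank F W) n with hlt | heq | hgt
  · exact Or.inr (Or.inl ⟨W, h1, (nondegOn_iff hF).2 hnd, hlt, hW⟩)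
  swap
  · refine Or.inr (Or.inl ⟨P, fun h => ?_, (nondegOn_iff hF).2 hndP, by omega, hPinv⟩)
    rw [h, finrank_bot] at hsum
    omega
  have horth : AreOrthogonalFor (hermForm n F q) W P := fun u hu v hv =>
    (herm_eq_zero_symm hF).1 (hv u hu)
  have hc : IsCompl W P := isCompl_perp hF hnd
  refine Or.inr (Or.inr ⟨Module.finrank F W, ![W, P], heq, ⟨⟨le_rfl, hWpos, ?_, ?_, ?_⟩, ?_, ?_⟩, ?_⟩)
  · intro i; fin_cases i
    · rfl
    · show Module.finrank F P = _
      omega
  · rw [iSupIndep_pair (i := (0 : Fin 2)) (j := 1) (by decide) (fun i => by fin_cases i <;> simp)]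
    exact hc.disjoint
  · rw [eq_top_iff, ← hc.sup_eq_top]
    exact sup_le (le_iSup ![W, P] 0) (le_iSup ![W, P] 1)
  · intro i; fin_cases i
    · exact (nondegOn_iff hF).2 hnd
    · exact (nondegOn_iff hF).2 hndP
  · intro i j hij
    fin_cases i <;> fin_cases j
    · exact absurd rfl hij
    · exact horth
    · exact fun u hu v hv => hu v hv
    · exact absurd rfl hij
  · intro g hg
    refine ⟨1, fun i => ?_⟩
    have key : ∀ U : Submodule F (Fin n → F), g ∈ subspaceStabilizer U →
        U.map (Matrix.toLin' (g : Matrix (Fin n) (Fin n) F)) = U := by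
      intro U hU
      refine le_antisymm ?_ fun v hv => ?_
      · rintro _ ⟨v, hv, rfl⟩
        rw [Matrix.toLin'_apply]
        exact (mem_stab_mulVec hU v).1 hv
      · refine ⟨((g⁻¹ : GL (Fin n) F) : Matrix (Fin n) (Fin n) F) *ᵥ v,
          (mem_stab_mulVec ((subspaceStabilizer U).inv_mem hU) v).1 hv, ?_⟩
        rw [Matrix.toLin'_apply, Matrix.mulVec_mulVec, ← Units.val_mul, mul_inv_cancel,
          Units.val_one, Matrix.one_mulVec]
    rw [Equiv.Perm.one_apply]
    fin_cases i
    · exact key W (hW hg)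
    · exact key P (hPinv hg)

/-- The range of an idempotent. -/
def rangeOf (E : Matrix (Fin n) (Fin n) F) : Submodule F (Fin n → F) :=
  LinearMap.range (Matrix.toLin' E)

lemma mem_rangeOf {E : Matrix (Fin n) (Fin n) F} (hE : E * E = E) {v : Fin n → F} :
    v ∈ rangeOf E ↔ E *ᵥ v = v := by
  constructor
  · rintro ⟨w, rfl⟩
    simp [Matrix.mulVec_mulVec, hE]
  · intro hv
    exact ⟨v, by simpa using hv⟩

lemma map_rangeOf {E E' : Matrix (Fin n) (Fin n) F} (g : GL (Fin n) F)
    (h : Aschbacher.cj g E = E') :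
    (rangeOf E).map (Matrix.toLin' (g : Matrix (Fin n) (Fin n) F)) = rangeOf E' := by
  have hg : (g : Matrix (Fin n) (Fin n) F) * E = E' * (g : Matrix (Fin n) (Fin n) F) := by
    rw [Aschbacher.mul_eq_cj_mul, h]
  apply le_antisymm
  · rintro _ ⟨_, ⟨w, rfl⟩, rfl⟩
    exact ⟨(g : Matrix (Fin n) (Fin n) F) *ᵥ w, by simp [Matrix.mulVec_mulVec, hg]⟩
  · rintro _ ⟨w, rfl⟩
    refine ⟨E *ᵥ (((g⁻¹ : GL (Fin n) F) : Matrix (Fin n) (Fin n) F) *ᵥ w), ⟨_, rfl⟩, ?_⟩
    simp [Matrix.mulVec_mulVec, ← h, Aschbacher.cj_apply, mul_assoc]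

/-- Self-adjoint orthogonal idempotents permuted transitively give an orthogonal decomposition. -/
theorem decomposition_of_star (hF : Fintype.card F = q ^ 2) {H : Subgroup (GL (Fin n) F)} {t : ℕ}
    (E : Fin t → Matrix (Fin n) (Fin n) F) (ht : 2 ≤ t) (hidem : ∀ i, E i * E i = E i)
    (hne : ∀ i, E i ≠ 0) (horth : ∀ i j, i ≠ j → E i * E j = 0) (hsum : ∑ i, E i = 1)
    (hstar : ∀ i, hst q (E i) = E i)
    (hperm : ∀ g ∈ H, ∃ σ : Equiv.Perm (Fin t), ∀ i, Aschbacher.cj g (E i) = E (σ i))
    (htrans : ∀ i j, ∃ g : GL (Fin n) F, Aschbacher.cj g (E i) = E j) :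
    ∃ k, IsNondegenerateMDecomposition (hermForm n F q) k (fun i => rangeOf (E i)) ∧
      H ≤ decompositionStabilizer (fun i => rangeOf (E i)) ∧ t * k = n := by
  classical
  have i₀ : Fin t := ⟨0, by omega⟩
  set D := fun i => rangeOf (E i) with hD
  have hrank : ∀ i, Module.finrank F (D i) = (E i₀).rank := by
    intro i
    obtain ⟨g, hg⟩ := htrans i₀ i
    show (E i).rank = (E i₀).rank
    rw [← hg, Aschbacher.rank_cj]
  have htop : iSup D = ⊤ := by
    rw [eq_top_iff]
    intro v _
    have : v = ∑ i, E i *ᵥ v := by rw [← Matrix.sum_mulVec, hsum, Matrix.one_mulVec]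
    rw [this]
    exact Submodule.sum_mem _ fun i _ => Submodule.mem_iSup_of_mem i ⟨v, rfl⟩
  have hindep : iSupIndep D := by
    intro i
    rw [Submodule.disjoint_def]
    intro v hv hv'
    have hle : (⨆ (j) (_ : j ≠ i), D j) ≤ LinearMap.ker (Matrix.toLin' (E i)) := by
      refine iSup₂_le fun j hj => ?_
      rintro _ ⟨w, rfl⟩
      simp [Matrix.mulVec_mulVec, horth i j (Ne.symm hj)]
    have := hle hv'
    rw [LinearMap.mem_ker, Matrix.toLin'_apply, (mem_rangeOf (hidem i)).1 hv] at this
    exact this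
  have hpos : 0 < (E i₀).rank := by
    refine Nat.pos_of_ne_zero fun h0 => hne i₀ ?_
    have : LinearMap.range (Matrix.toLin' (E i₀)) = ⊥ := Submodule.finrank_eq_zero.mp h0
    rw [LinearMap.range_eq_bot] at this
    exact Matrix.toLin'.injective (this.trans (map_zero _).symm)
  have hint : DirectSum.IsInternal D :=
    DirectSum.isInternal_submodule_of_iSupIndep_of_iSup_eq_top hindep htop
  have horthD : ∀ i j, i ≠ j → AreOrthogonalFor (hermForm n F q) (D i) (D j) := by
    intro i j hij u hu v hv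
    rw [← (mem_rangeOf (hidem i)).1 hu, ← (mem_rangeOf (hidem j)).1 hv, herm_mulVec_left hF,
      Matrix.mulVec_mulVec, hstar i, horth i j hij, Matrix.zero_mulVec, herm_zero_right hF]
  refine ⟨(E i₀).rank, ⟨⟨ht, hpos, hrank, hindep, htop⟩, fun i => ?_, horthD⟩, ?_, ?_⟩
  · rw [nondegOn_iff hF]
    intro u hu hall
    refine eq_zero_of_forall_right hF fun v => ?_
    rw [← (mem_rangeOf (hidem i)).1 hu, herm_mulVec_left hF, hstar i]
    exact hall _ ⟨v, rfl⟩
  · intro g hg
    obtain ⟨σ, hσ⟩ := hperm g hg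
    exact ⟨σ, fun i => map_rangeOf g (hσ i)⟩
  · let b := fun i => Module.finBasis F (D i)
    have := Module.finrank_eq_card_basis (hint.collectedBasis b)
    simp only [Module.finrank_pi, Fintype.card_sigma, Fintype.card_fin, hrank, Finset.sum_const,
      Finset.card_univ, smul_eq_mul] at this
    omega

/-- The imprimitive case. -/
theorem idemSystem_cases (hF : Fintype.card F = q ^ 2) [NeZero n]
    {H' : Subgroup (GL (Fin n) F)} (hsim : H' ≤ similarityGroup (hermForm n F q))
    {A : Subalgebra F (Matrix (Fin n) (Fin n) F)} (hA : StarClosed q A) {t : ℕ}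
    {e : Fin t → Matrix (Fin n) (Fin n) F} (he : Aschbacher.IdemSystem H' A e) :
    (∃ (s k : ℕ) (D : Fin s → Submodule F (Fin n → F)), s * k = n ∧
      IsNondegenerateMDecomposition (hermForm n F q) k D ∧ H' ≤ decompositionStabilizer D) ∨
    (∃ (k : ℕ) (D : Fin 2 → Submodule F (Fin n → F)), 2 * k = n ∧ IsMDecomposition k D ∧
      (∀ i, IsTotallySingularFor (hermForm n F q) (D i)) ∧ H' ≤ decompositionStabilizer D) := by
  classical
  have hC : StarClosed q (Aschbacher.centre A) := hA.centre hF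
  -- the involution induced by the adjoint
  have hπ : ∀ i, ∃ j, hst q (e i) = e j := by
    intro i
    have hff : hst q (e i) * hst q (e i) = hst q (e i) := by rw [← hst_mul hF, he.idem i]
    have hcase := fun j => he.primitive j (hst q (e i)) (hC _ (he.mem i)) hff
    by_contra hnone
    push Not at hnone
    have hcomm : ∀ j, hst q (e i) * e j = e j * hst q (e i) := fun j =>
      ((Aschbacher.mem_centre.mp (he.mem j)).2 _ (Aschbacher.mem_centre.mp (hC _ (he.mem i))).1)
    obtain ⟨j, hj⟩ : ∃ j, hst q (e i) * e j = e j := by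
      by_contra hno
      push Not at hno
      have h0 : hst q (e i) = 0 := by
        rw [← mul_one (hst q (e i)), ← he.sum_eq, Finset.mul_sum]
        exact Finset.sum_eq_zero fun j _ => (hcase j).resolve_right (hno j)
      have := congrArg (hst q) h0
      rw [hst_hst hF, hst_zero hF] at this
      exact he.ne_zero i this
    -- then the adjoint of e j is below e i
    have h2 : hst q (e j) * e i = hst q (e j) := by
      have := congrArg (hst q) hj
      rw [hst_mul hF, hst_hst hF] at this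
      exact this
    have hffj : hst q (e j) * hst q (e j) = hst q (e j) := by rw [← hst_mul hF, he.idem j]
    rcases he.primitive i (hst q (e j)) (hC _ (he.mem j)) hffj with h | h
    · have h0 : hst q (e j) = 0 := h2 ▸ h
      have := congrArg (hst q) h0
      rw [hst_hst hF, hst_zero hF] at this
      exact he.ne_zero j this
    · refine hnone j ?_
      rw [h2] at h
      rw [← h, hst_hst hF]
  choose π hπ using hπ
  have hinj : ∀ i j, e i = e j → i = j := fun i j h => by
    by_contra hij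
    have := he.ortho i j hij
    rw [h, he.idem] at this
    exact he.ne_zero j this
  have hππ : ∀ i, π (π i) = i := fun i => hinj _ _ (by rw [← hπ, ← hπ, hst_hst hF])
  have hequiv : ∀ g ∈ H', ∀ (σ : Equiv.Perm (Fin t)), (∀ i, Aschbacher.cj g (e i) = e (σ i)) →
      ∀ i, π (σ i) = σ (π i) := by
    intro g hg σ hσ i
    apply hinj
    rw [← hπ, ← hσ, hst_cj hF (isSim_of_mem_similarity hF (hsim hg)), hπ, hσ]
  by_cases hfix : ∀ i, π i = i
  · obtain ⟨k, hD, hle, hcard⟩ := decomposition_of_star hF e he.two_le he.idem he.ne_zero he.ortho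
      he.sum_eq (fun i => by rw [hπ, hfix]) he.perm (fun i j => by
        obtain ⟨g, -, hg⟩ := he.trans i j; exact ⟨g, hg⟩)
    exact Or.inl ⟨t, k, _, hcard, hD, hle⟩
  push Not at hfix
  obtain ⟨i₁, hi₁⟩ := hfix
  have hfree : ∀ i, π i ≠ i := by
    intro i hi
    obtain ⟨g, hg, hgi⟩ := he.trans i i₁
    obtain ⟨σ, hσ⟩ := he.perm g hg
    have h1 : σ i = i₁ := hinj _ _ ((hσ i).symm.trans hgi)
    have := hequiv g hg σ hσ i
    rw [h1, hi, h1] at this
    exact hi₁ this
  by_cases ht2 : t = 2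
  · subst ht2
    obtain ⟨m, hm, hle, hcard⟩ := he.isMDecomposition
    rw [Fintype.card_fin] at hcard
    refine Or.inr ⟨m, _, hcard, hm, fun i u hu v hv => ?_, hle⟩
    rw [← he.mem_space.mp hu, ← he.mem_space.mp hv, herm_mulVec_left hF, Matrix.mulVec_mulVec, hπ,
      he.ortho _ _ (hfree i), Matrix.zero_mulVec, herm_zero_right hF]
  -- merge the pairs
  let S : Finset (Fin t) := Finset.univ.filter fun i => i < π i
  let ee := S.equivFin.symm
  have hS : ∀ x : S, (x : Fin t) < π x := fun x => (Finset.mem_filter.1 x.2).2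
  have hSmem : ∀ i : Fin t, i ∈ S ∨ π i ∈ S := by
    intro i
    rcases lt_or_gt_of_ne (hfree i) with h | h
    · exact Or.inr (Finset.mem_filter.2 ⟨Finset.mem_univ _, by rw [hππ]; exact h⟩)
    · exact Or.inl (Finset.mem_filter.2 ⟨Finset.mem_univ _, h⟩)
  let E : Fin S.card → Matrix (Fin n) (Fin n) F := fun s => e (ee s) + e (π (ee s))
  have hdis : ∀ s s', s ≠ s' → ((ee s : Fin t) ≠ ee s' ∧ (ee s : Fin t) ≠ π (ee s')) := by
    intro s s' hss
    refine ⟨fun h => hss (ee.injective (Subtype.ext h)), fun h => ?_⟩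
    have h1 := hS (ee s)
    have h2 := hS (ee s')
    rw [h, hππ] at h1
    exact lt_asymm h1 h2
  have hpair : ∀ i, e i + e (π i) = e (π i) + e (π (π i)) := fun i => by rw [hππ, add_comm]
  have hrep : ∀ i, ∃ s, E s = e i + e (π i) := by
    intro i
    rcases hSmem i with h | h
    · exact ⟨ee.symm ⟨i, h⟩, by simp [E]⟩
    · exact ⟨ee.symm ⟨π i, h⟩, by simp [E, hpair i]⟩
  have hEidem : ∀ s, E s * E s = E s := by
    intro s
    simp only [E, mul_add, add_mul, he.idem, he.ortho _ _ (hfree _), he.ortho _ _ (Ne.symm (hfree _))]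
    simp
  have hEne : ∀ s, E s ≠ 0 := by
    intro s h
    have := congrArg (fun X => e (ee s) * X) h
    simp only [E, mul_add, he.idem, he.ortho _ _ (Ne.symm (hfree _)), add_zero, mul_zero] at this
    exact he.ne_zero _ this
  have hEorth : ∀ s s', s ≠ s' → E s * E s' = 0 := by
    intro s s' hss
    obtain ⟨h1, h2⟩ := hdis s s' hss
    have h3 : π (ee s : Fin t) ≠ ee s' := fun h => h2 (by rw [← h, hππ])
    have h4 : π (ee s : Fin t) ≠ π (ee s') := fun h => h1 (by rw [← hππ (ee s : Fin t), h, hππ])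
    simp only [E, mul_add, add_mul, he.ortho _ _ h1, he.ortho _ _ h2, he.ortho _ _ h3,
      he.ortho _ _ h4, add_zero]
  have hsum : ∑ s, E s = 1 := by
    rw [← he.sum_eq, Equiv.sum_comp ee (fun x : S => e x + e (π x)),
      Finset.sum_coe_sort S (fun x => e x + e (π x)), Finset.sum_add_distrib]
    have hc : ∑ x ∈ S, e (π x) = ∑ x ∈ Finset.univ.filter (fun i => ¬ i < π i), e x := by
      refine Finset.sum_bij (fun x _ => π x) (fun x hx => ?_) (fun x _ y _ h => ?_) (fun y hy => ?_)
        (fun x _ => rfl)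
      · simp only [S, Finset.mem_filter, Finset.mem_univ, true_and] at hx ⊢
        rw [hππ]; exact lt_asymm hx
      · rw [← hππ x, h, hππ]
      · simp only [S, Finset.mem_filter, Finset.mem_univ, true_and] at hy ⊢
        refine ⟨π y, ?_, hππ y⟩
        rw [hππ]
        exact lt_of_le_of_ne (not_lt.1 hy) (hfree y)
    rw [hc, Finset.sum_filter_add_sum_filter_not]
  have hperm : ∀ g ∈ H', ∃ τ : Equiv.Perm (Fin S.card), ∀ s, Aschbacher.cj g (E s) = E (τ s) := by
    intro g hg
    obtain ⟨σ, hσ⟩ := he.perm g hg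
    choose f hf using fun s : Fin S.card => hrep (σ (ee s))
    have hfE : ∀ s, Aschbacher.cj g (E s) = E (f s) := fun s => by
      rw [hf, hequiv g hg σ hσ]
      simp only [E, map_add, hσ]
    have hfinj : Function.Injective f := fun a b h => by
      by_contra hab
      have h' := hEorth a b hab
      have h2 : E a = E b := (Aschbacher.cj g).injective (by rw [hfE, hfE, h])
      rw [h2, hEidem] at h'
      exact hEne b h'
    exact ⟨Equiv.ofBijective f (Finite.injective_iff_bijective.mp hfinj), hfE⟩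
  have ht2' : 2 ≤ S.card := by
    by_contra hlt
    apply ht2
    have ht := he.two_le
    by_contra hne
    obtain ⟨c, hc1, hc2⟩ : ∃ c : Fin t, c ≠ i₁ ∧ c ≠ π i₁ := by
      by_contra hc
      push Not at hc
      have : (Finset.univ : Finset (Fin t)) ⊆ {i₁, π i₁} := fun c _ => by
        by_cases hci : c = i₁
        · simp [hci]
        · simp [hc c hci]
      have := Finset.card_le_card this
      have := Finset.card_le_two (a := i₁) (b := π i₁)
      simp only [Finset.card_univ, Fintype.card_fin] at *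
      omega
    obtain ⟨s, hs⟩ := hrep i₁
    obtain ⟨s', hs'⟩ := hrep c
    have hss : s = s' := by
      have := s.isLt; have := s'.isLt; exact Fin.ext (by omega)
    subst hss
    have h := congrArg (fun X => e c * X) (hs.symm.trans hs')
    have h4 : c ≠ π i₁ := hc2
    simp only [mul_add, he.ortho _ _ hc1, he.ortho _ _ h4, he.idem,
      he.ortho _ _ (Ne.symm (hfree c)), add_zero] at h
    exact he.ne_zero c h.symm
  obtain ⟨k, hD, hle, hcard⟩ := decomposition_of_star hF E ht2' hEidem hEne hEorth hsum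
    (fun s => by simp only [E, hst_add hF, hπ, hππ, add_comm]) hperm (fun s s' => by
      obtain ⟨g, hg, hgi⟩ := he.trans (ee s) (ee s')
      obtain ⟨σ, hσ⟩ := he.perm g hg
      have h1 : σ (ee s : Fin t) = ee s' := hinj _ _ ((hσ _).symm.trans hgi)
      exact ⟨g, by simp only [E, map_add, hσ, ← hequiv g hg σ hσ, h1]⟩)
  exact Or.inl ⟨S.card, k, _, hcard, hD, hle⟩

end Cfsg.Agent.Unitary.Asch
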