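import Cfsg.Agent.Unitary.AschSubfield
import Cfsg.Agent.Unitary.AschDecomp
import Cfsg.Agent.Aschbacher.TwoFactor

/-!
# Unitary groups preserving bilinear forms up to scalars
-/

set_option autoImplicit false
set_option linter.unusedSectionVars false

namespace Cfsg.Agent.Unitary.Asch

open Matrix
open scoped MatrixGroups
open Cfsg.Geo

variable {F : Type*} [Field F] [Fintype F] {q n : ℕ}

lemma diag_conj_eq_zero {J M : Matrix (Fin n) (Fin n) F} (hs : ∀ i j, J i j = - J j i)
    (hd : ∀ i, J i i = 0) (i : Fin n) : (Mᵀ * J * M) i i = 0 := by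
  simp only [Matrix.mul_apply, Matrix.transpose_apply, Finset.sum_mul, ← Fintype.sum_prod_type']
  refine Finset.sum_involution (fun p _ => (p.2, p.1)) ?_ ?_ ?_ ?_
  · intro p _; rw [hs p.1 p.2]; ring
  · intro p _ hp h
    have : p.1 = p.2 := (congrArg Prod.fst h).symm
    rw [this, hd] at hp
    simp at hp
  · simp
  · simp

/-- A group fixing the hermitian form and, in a basis with Gram matrix `E`, a symmetric or
alternating bilinear form up to scalars. -/
theorem class5_of_gram_conj (hF : Fintype.card F = q ^ 2) (hn : 0 < n) {H : Subgroup (GL (Fin n) F)}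
    (hH : H ≤ GU n F q) (P : GL (Fin n) F) (E : Matrix (Fin n) (Fin n) F)
    (hE : gramP q (P : Matrix (Fin n) (Fin n) F) = E)
    (hEfix : E.map (fun x => x ^ q) = E) (hEE : E * E = 1)
    (J : Matrix (Fin n) (Fin n) F) (hJfix : J.map (fun x => x ^ q) = J) (a : F) (ha : a ≠ 0)
    (hJ2 : E * J * (E * J) = a • 1)
    (hcase : (Odd q ∧ ∀ i j, J i j = J j i) ∨ ((∀ i j, J i j = - J j i) ∧ ∀ i, J i i = 0))
    (hpres : ∀ h ∈ H, ∃ c : F, c ≠ 0 ∧
      ((P⁻¹ * h * P : GL (Fin n) F) : Matrix (Fin n) (Fin n) F)ᵀ * J *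
        ((P⁻¹ * h * P : GL (Fin n) F) : Matrix (Fin n) (Fin n) F) = c • J) :
    InClass5 q H := by
  let σm : Matrix (Fin n) (Fin n) F →+* Matrix (Fin n) (Fin n) F := (frob hF).toRingHom.mapMatrix
  have hσm : ∀ M, M.map (fun x => x ^ q) = σm M := fun M => rfl
  rw [hσm] at hEfix hJfix
  set Pm := (P : Matrix (Fin n) (Fin n) F) with hPm
  set Pi' := ((P⁻¹ : GL (Fin n) F) : Matrix (Fin n) (Fin n) F) with hPi
  have hPPi : Pm * Pi' = 1 := by rw [hPm, hPi, ← Units.val_mul, mul_inv_cancel, Units.val_one]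
  have hPiP : Pi' * Pm = 1 := by rw [hPm, hPi, ← Units.val_mul, inv_mul_cancel, Units.val_one]
  have hT1 : Pi'ᵀ * Pmᵀ = 1 := by rw [← Matrix.transpose_mul, hPPi, Matrix.transpose_one]
  rw [gramP, hσm] at hE
  have hσP : σm Pm = Pi'ᵀ * E := by rw [← hE, ← mul_assoc, hT1, one_mul]
  have hJu : IsUnit J := by
    have h : J * (a⁻¹ • (E * J * E)) = 1 := by
      have : J * (E * J * E) = a • 1 := by
        calc J * (E * J * E) = E * (E * J * (E * J)) * E := by
              simp only [← mul_assoc, hEE, one_mul]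
          _ = _ := by rw [hJ2, Matrix.mul_smul, mul_one, Matrix.smul_mul, hEE]
      rw [Matrix.mul_smul, this, smul_smul, inv_mul_cancel₀ ha, one_smul]
    exact (Matrix.isUnit_iff_isUnit_det _).mpr (Matrix.isUnit_det_of_right_inverse h)
  have hAu : IsUnit (Pi'ᵀ * J * Pi') :=
    (((Matrix.isUnit_transpose _).mpr (P⁻¹).isUnit).mul hJu).mul (P⁻¹).isUnit
  refine class5_of_semilinear hF hn hAu.unit a ?_ ?_ ?_
  · rw [hAu.unit_spec, hσm]
    have hA2 : Pi'ᵀ * J * Pi' = σm Pm * (E * J) * Pi' := by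
      rw [hσP]; simp only [← mul_assoc]; rw [mul_assoc (Pi'ᵀ) E E, hEE, mul_one]
    have h1 : σm Pi' * σm Pm = 1 := by rw [← map_mul, hPiP, map_one]
    have hσσ : σm (σm Pm) = Pm := by ext i j; exact pow_q_q hF (Pm i j)
    rw [hA2, map_mul, map_mul, hσσ, map_mul σm E J, hEfix, hJfix]
    calc Pm * (E * J) * σm Pi' * (σm Pm * (E * J) * Pi')
        = Pm * (E * J) * (σm Pi' * σm Pm) * (E * J) * Pi' := by simp only [mul_assoc]
      _ = Pm * (E * J * (E * J)) * Pi' := by rw [h1]; simp only [mul_assoc, one_mul]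
      _ = _ := by rw [hJ2, Matrix.mul_smul, mul_one, Matrix.smul_mul, hPPi]
  · rw [hAu.unit_spec]
    rcases hcase with ⟨hodd, hs⟩ | ⟨hs, hd⟩
    · refine Or.inl ⟨hodd, fun i j => ?_⟩
      have : (Pi'ᵀ * J * Pi')ᵀ = Pi'ᵀ * J * Pi' := by
        rw [Matrix.transpose_mul, Matrix.transpose_mul, Matrix.transpose_transpose,
          show Jᵀ = J from Matrix.ext fun i j => hs j i, mul_assoc]
      exact congrFun (congrFun this j) i
    · refine Or.inr ⟨fun i j => ?_, diag_conj_eq_zero hs hd⟩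
      have : (Pi'ᵀ * J * Pi')ᵀ = -(Pi'ᵀ * J * Pi') := by
        rw [Matrix.transpose_mul, Matrix.transpose_mul, Matrix.transpose_transpose,
          show Jᵀ = -J from Matrix.ext fun i j => hs j i, Matrix.neg_mul, Matrix.mul_neg, mul_assoc]
      exact congrFun (congrFun this j) i
  · intro h hh
    obtain ⟨c, hc0, hc⟩ := hpres h hh
    refine ⟨c⁻¹, ?_⟩
    set hm := (h : Matrix (Fin n) (Fin n) F)
    rw [hσm, Aschbacher.cj_apply, hAu.unit_spec]
    set A := Pi'ᵀ * J * Pi' with hA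
    have hgu : hmᵀ * σm hm = 1 := (preserves_iff_transpose_mul hF).1 (mem_GU_iff.1 (hH hh))
    have hA' : hmᵀ * A * hm = c • A := by
      rw [Units.val_mul, Units.val_mul, ← hPi, ← hPm] at hc
      calc hmᵀ * A * hm
          = (Pi'ᵀ * Pmᵀ) * hmᵀ * Pi'ᵀ * J * Pi' * hm * (Pm * Pi') := by
            rw [hT1, hPPi, hA]; simp only [one_mul, mul_one, mul_assoc]
        _ = Pi'ᵀ * ((Pi' * hm * Pm)ᵀ * J * (Pi' * hm * Pm)) * Pi' := by
            simp only [Matrix.transpose_mul, mul_assoc]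
        _ = _ := by rw [hc, Matrix.mul_smul, Matrix.smul_mul]
    have hu : IsUnit hmᵀ := (Matrix.isUnit_transpose _).mpr h.isUnit
    refine hu.mul_left_cancel ?_
    rw [hgu, Matrix.mul_smul]
    calc (1 : Matrix (Fin n) (Fin n) F) = c⁻¹ • (c • A * ((hAu.unit⁻¹ : GL (Fin n) F) : Matrix (Fin n) (Fin n) F)) := by
          rw [Matrix.smul_mul, smul_smul, inv_mul_cancel₀ hc0, one_smul]
          exact hAu.mul_val_inv.symm
      _ = _ := by rw [← hA']; simp only [hA, mul_assoc]

lemma altTwo_mul_altTwo : (Aschbacher.altTwo : Matrix (Fin 2) (Fin 2) F) * Aschbacher.altTwo = -1 := by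
  ext a b
  fin_cases a <;> fin_cases b <;> simp [Aschbacher.altTwo, Matrix.mul_apply, Fin.sum_univ_two]

/-- A tensor power of two-dimensional unitary spaces lies in a subfield member. -/
theorem class5_of_wreath_two (hF : Fintype.card F = q ^ 2) {t : ℕ} (ht : 0 < t)
    {H : Subgroup (GL (Fin n) F)} (hH : H ≤ GU n F q) (e : Fin n ≃ (Fin t → Fin 2))
    {P : GL (Fin n) F} (hP : P ∈ GU n F q) (hle : H ≤ tensorWreathSubgroup 2 t e P) :
    InClass5 q H := by
  classical
  have hn : 0 < n := by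
    have := Fintype.card_congr e
    simp only [Fintype.card_fin, Fintype.card_fun] at this
    rw [this]; exact Nat.two_pow_pos t
  let ρ := Matrix.reindexAlgEquiv F F e.symm
  let J : Matrix (Fin n) (Fin n) F := ρ (Aschbacher.altPow t)
  have hfix2 : ∀ a b : Fin 2, (Aschbacher.altTwo : Matrix (Fin 2) (Fin 2) F) a b ^ q =
      Aschbacher.altTwo a b := by
    intro a b
    fin_cases a <;> fin_cases b <;>
      simp [Aschbacher.altTwo, q_ne_zero hF, neg_pow_q hF]
  have hJJ : J * J = (-1 : F) ^ t • 1 := by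
    rw [← map_mul, Aschbacher.altPow, Aschbacher.pureMat_mul,
      show (fun i : Fin t => (Aschbacher.altTwo : Matrix (Fin 2) (Fin 2) F) * Aschbacher.altTwo) =
        fun i => (-1 : F) • (1 : Matrix (Fin 2) (Fin 2) F) by
          funext i; rw [altTwo_mul_altTwo, neg_one_smul],
      Aschbacher.pureMat_smul, Aschbacher.pureMat_one, Finset.prod_const, Finset.card_univ,
      Fintype.card_fin, map_smul, map_one]
  refine class5_of_gram_conj hF hn hH P 1 ?_ ?_ (one_mul 1) J ?_ ((-1) ^ t)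
    (pow_ne_zero _ (neg_ne_zero.mpr one_ne_zero)) (by rw [one_mul]; exact hJJ) ?_ ?_
  · exact (preserves_iff_transpose_mul hF).1 (mem_GU_iff.1 hP)
  · exact map_one (frob hF).toRingHom.mapMatrix
  · ext i j
    show (∏ k, (Aschbacher.altTwo : Matrix (Fin 2) (Fin 2) F) (e i k) (e j k)) ^ q = _
    rw [← Finset.prod_pow]
    exact Finset.prod_congr rfl fun k _ => hfix2 _ _
  · by_cases hc : ((-1 : F) ^ t = -1)
    · refine Or.inr ⟨fun i j => ?_, fun i => Aschbacher.altPow_diag ht (e i)⟩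
      show Aschbacher.altPow t (e i) (e j) = - Aschbacher.altPow t (e j) (e i)
      rw [Aschbacher.altPow_symm t (e i) (e j), hc, neg_one_mul]
    · have h1 : (-1 : F) ^ t = 1 := (neg_one_pow_eq_or F t).resolve_right hc
      refine Or.inl ⟨?_, fun i j => ?_⟩
      · obtain ⟨p, a, hp, ha, hchar, hq⟩ := exists_char_pow hF
        rw [hq]
        refine (hp.odd_of_ne_two fun h2 => hc ?_).pow
        subst h2
        rw [h1, CharTwo.neg_eq]
      · show Aschbacher.altPow t (e i) (e j) = Aschbacher.altPow t (e j) (e i)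
        rw [Aschbacher.altPow_symm t (e i) (e j), h1, one_mul]
  · intro h hh
    obtain ⟨_, ⟨k, hk, rfl⟩, hk'⟩ := hle hh
    obtain ⟨c, hc0, hc⟩ := Aschbacher.gtr_altPow hk
    refine ⟨c, hc0, ?_⟩
    have e1 : P⁻¹ * h * P = glReindex e.symm k := by
      rw [← hk']; show P⁻¹ * (P * glReindex e.symm k * P⁻¹) * P = _; group
    rw [e1]
    show (ρ (k : Matrix (Fin t → Fin 2) (Fin t → Fin 2) F))ᵀ * ρ (Aschbacher.altPow t) *
      ρ (k : Matrix (Fin t → Fin 2) (Fin t → Fin 2) F) = c • ρ (Aschbacher.altPow t)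
    rw [show (ρ (k : Matrix (Fin t → Fin 2) (Fin t → Fin 2) F))ᵀ
        = ρ ((k : Matrix (Fin t → Fin 2) (Fin t → Fin 2) F)ᵀ) from rfl, ← map_mul, ← map_mul, hc,
      map_smul]

/-- Over the smallest fields a pair of totally singular planes lies in a subfield member. -/
theorem class5_of_ts_planes (hF : Fintype.card F = q ^ 2) (hq : q ≤ 3)
    {H : Subgroup (GL (Fin 4) F)} (hH : H ≤ GU 4 F q ⊓ specialLinear (Fin 4) F)
    {D : Fin 2 → Submodule F (Fin 4 → F)} (hD : IsMDecomposition 2 D)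
    (hts : ∀ i, IsTotallySingularFor (hermForm 4 F q) (D i)) (hle : H ≤ decompositionStabilizer D) :
    InClass5 q H := by
  classical
  let v := Module.finBasisOfFinrankEq F (D 0) (hD.finrank_eq 0)
  let φ : D 1 →ₗ[F] (Fin 2 → F) :=
    LinearMap.pi fun i => (hermL 4 q (v i : Fin 4 → F)).comp (D 1).subtype
  have htop : D 0 ⊔ D 1 = ⊤ := by
    rw [eq_top_iff, ← hD.iSup_eq_top]
    refine iSup_le fun i => ?_
    fin_cases i
    · exact le_sup_left
    · exact le_sup_right
  have hinj : Function.Injective φ := by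
    rw [← LinearMap.ker_eq_bot, Submodule.eq_bot_iff]
    intro w hw
    rw [LinearMap.mem_ker] at hw
    refine Subtype.ext (eq_zero_of_forall_right hF fun y => ?_)
    obtain ⟨x, hx, z, hz, rfl⟩ := Submodule.mem_sup.1 (htop ▸ Submodule.mem_top : y ∈ D 0 ⊔ D 1)
    rw [herm_add_right hF, hts 1 w w.2 z hz, add_zero]
    have hx' : x = ∑ i, v.repr ⟨x, hx⟩ i • (v i : Fin 4 → F) := by
      have := congrArg (fun y : D 0 => (y : Fin 4 → F)) (v.sum_repr ⟨x, hx⟩)
      simp only [Fin.sum_univ_two, Submodule.coe_add, Submodule.coe_smul] at this ⊢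
      exact this.symm
    rw [hx', herm_sum_right hF]
    refine Finset.sum_eq_zero fun i _ => ?_
    rw [herm_smul_right, show hermForm 4 F q (w : Fin 4 → F) (v i) = 0 from congrFun hw i, mul_zero]
  have hsurj : Function.Surjective φ :=
    (LinearMap.injective_iff_surjective_of_finrank_eq_finrank
      (by rw [hD.finrank_eq, Module.finrank_fin_fun])).1 hinj
  choose w hw using fun j : Fin 2 => hsurj (Pi.single j 1)
  have hwv : ∀ i j, hermForm 4 F q (w j : Fin 4 → F) (v i) = if i = j then 1 else 0 := fun i j => by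
    have := congrFun (hw j) i
    simpa [φ, Pi.single_apply, hermL_apply] using this
  have hvw : ∀ i j, hermForm 4 F q (v i : Fin 4 → F) (w j) = if i = j then 1 else 0 := fun i j => by
    rw [← herm_swap hF (w j : Fin 4 → F) (v i), hwv]
    split_ifs <;> simp [q_ne_zero hF]
  let col : Fin 4 → (Fin 4 → F) := ![(v 0 : Fin 4 → F), v 1, w 0, w 1]
  let Pm : Matrix (Fin 4) (Fin 4) F := Matrix.of fun i j => col j i
  let E : Matrix (Fin 4) (Fin 4) F := !![0,0,1,0; 0,0,0,1; 1,0,0,0; 0,1,0,0]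
  let J : Matrix (Fin 4) (Fin 4) F := !![0,1,0,0; -1,0,0,0; 0,0,0,1; 0,0,-1,0]
  have hgram : gramP q Pm = E := by
    ext i j
    have h : gramP q Pm i j = hermForm 4 F q (col i) (col j) := rfl
    rw [h]
    fin_cases i <;> fin_cases j <;>
      simp [col, E, hvw, hwv, hts 0 _ (v 0).2 _ (v 0).2, hts 0 _ (v 0).2 _ (v 1).2,
        hts 0 _ (v 1).2 _ (v 0).2, hts 0 _ (v 1).2 _ (v 1).2, hts 1 _ (w 0).2 _ (w 0).2,
        hts 1 _ (w 0).2 _ (w 1).2, hts 1 _ (w 1).2 _ (w 0).2, hts 1 _ (w 1).2 _ (w 1).2]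
  have hEfix : E.map (fun x => x ^ q) = E := by
    ext i j; fin_cases i <;> fin_cases j <;> simp [E, q_ne_zero hF]
  have hEE : E * E = 1 := by
    ext i j
    fin_cases i <;> fin_cases j <;> simp [E, Matrix.mul_apply, Fin.sum_univ_four]
  have hPu : IsUnit Pm := by
    have hu : IsUnit (gramP q Pm) := by rw [hgram]; exact IsUnit.of_mul_eq_one _ hEE
    rw [gramP, Matrix.isUnit_iff_isUnit_det, Matrix.det_mul, Matrix.det_transpose] at hu
    exact (Matrix.isUnit_iff_isUnit_det _).mpr (isUnit_of_mul_isUnit_left hu)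
  let P := hPu.unit
  refine class5_of_gram_conj hF (by norm_num) (hH.trans inf_le_left) P E
    (by rw [hPu.unit_spec]; exact hgram) hEfix hEE J ?_ (-1) (neg_ne_zero.mpr one_ne_zero) ?_ ?_ ?_
  · ext i j; fin_cases i <;> fin_cases j <;> simp [J, q_ne_zero hF, neg_pow_q hF]
  · ext i j
    fin_cases i <;> fin_cases j <;> simp [E, J, Matrix.mul_apply, Fin.sum_univ_four]
  · exact Or.inr ⟨fun i j => by fin_cases i <;> fin_cases j <;> simp [J],
      fun i => by fin_cases i <;> simp [J]⟩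
  intro h hh
  set M := ((P⁻¹ * h * P : GL (Fin 4) F) : Matrix (Fin 4) (Fin 4) F) with hM
  have hPM : (h : Matrix (Fin 4) (Fin 4) F) * Pm = Pm * M := by
    rw [← hPu.unit_spec, hM, ← Units.val_mul, ← Units.val_mul]
    congr 1
    simp [P, mul_assoc]
  have hcol : ∀ j, (h : Matrix (Fin 4) (Fin 4) F) *ᵥ col j = ∑ i, M i j • col i := fun j => by
    funext k
    have := congrFun (congrFun hPM k) j
    simp only [Matrix.mul_apply, Pm, Matrix.of_apply] at this
    simp only [Matrix.mulVec, dotProduct, Finset.sum_apply, Pi.smul_apply, smul_eq_mul]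
    rw [this]
    exact Finset.sum_congr rfl fun i _ => mul_comm _ _
  obtain ⟨σ, hσ⟩ := hle hh
  have hblock : ∀ i : Fin 2, ∀ x ∈ D i, (h : Matrix (Fin 4) (Fin 4) F) *ᵥ x ∈ D (σ i) := fun i x hx => by
    rw [← hσ i]; exact ⟨x, hx, by rw [Matrix.toLin'_apply]⟩
  have hcoef : ∀ (x : Fin 4 → F) (c : Fin 4 → F), x = ∑ i, c i • col i →
      (x ∈ D 0 → c 2 = 0 ∧ c 3 = 0) ∧ (x ∈ D 1 → c 0 = 0 ∧ c 1 = 0) := by
    intro x c hx
    have hf : ∀ k : Fin 2, hermForm 4 F q x (v k) = c (![2, 3] k) ∧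
        hermForm 4 F q x (w k) = c (![0, 1] k) := by
      intro k
      rw [hx, herm_sum_left, herm_sum_left]
      fin_cases k <;>
        simp [Fin.sum_univ_four, herm_smul_left, col, hvw, hwv, hts 0 _ (v 0).2 _ (v 0).2,
          hts 0 _ (v 0).2 _ (v 1).2, hts 0 _ (v 1).2 _ (v 0).2, hts 0 _ (v 1).2 _ (v 1).2,
          hts 1 _ (w 0).2 _ (w 0).2, hts 1 _ (w 0).2 _ (w 1).2, hts 1 _ (w 1).2 _ (w 0).2,
          hts 1 _ (w 1).2 _ (w 1).2]
    refine ⟨fun hx0 => ⟨?_, ?_⟩, fun hx1 => ⟨?_, ?_⟩⟩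
    · have := (hf 0).1; rw [hts 0 x hx0 _ (v 0).2] at this; simpa using this.symm
    · have := (hf 1).1; rw [hts 0 x hx0 _ (v 1).2] at this; simpa using this.symm
    · have := (hf 0).2; rw [hts 1 x hx1 _ (w 0).2] at this; simpa using this.symm
    · have := (hf 1).2; rw [hts 1 x hx1 _ (w 1).2] at this; simpa using this.symm
  have c0 : col 0 ∈ D 0 := (v 0).2
  have c1 : col 1 ∈ D 0 := (v 1).2
  have c2 : col 2 ∈ D 1 := (w 0).2
  have c3 : col 3 ∈ D 1 := (w 1).2
  have hgu : Mᵀ * E * M.map (fun x => x ^ q) = E := by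
    have h1 : gramP q ((h : Matrix (Fin 4) (Fin 4) F) * Pm) = gramP q Pm := by
      simp only [gramP]
      have hg := (preserves_iff_transpose_mul hF).1 (mem_GU_iff.1 (hH hh).1)
      have hmap : ((h : Matrix (Fin 4) (Fin 4) F) * Pm).map (fun x => x ^ q) =
          (h : Matrix (Fin 4) (Fin 4) F).map (fun x => x ^ q) * Pm.map (fun x => x ^ q) :=
        map_mul (frob hF).toRingHom.mapMatrix _ _
      rw [Matrix.transpose_mul, hmap, mul_assoc,
        ← mul_assoc (h : Matrix (Fin 4) (Fin 4) F)ᵀ, hg, one_mul]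
    rw [hPM] at h1
    have h2 : gramP q (Pm * M) = Mᵀ * gramP q Pm * M.map (fun x => x ^ q) := by
      have hmap : (Pm * M).map (fun x => x ^ q) = Pm.map (fun x => x ^ q) * M.map (fun x => x ^ q) :=
        map_mul (frob hF).toRingHom.mapMatrix _ _
      simp only [gramP, Matrix.transpose_mul, hmap, mul_assoc]
    rw [h2, hgram] at h1
    exact h1
  have hdetM : M.det = 1 := by
    have hdh : (h : Matrix (Fin 4) (Fin 4) F).det = 1 := congrArg Units.val ((hH hh).2 : _ = _)
    have := congrArg Matrix.det hPM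
    rw [Matrix.det_mul, Matrix.det_mul, hdh, one_mul] at this
    exact (mul_eq_left₀ ((Matrix.isUnit_iff_isUnit_det _).mp hPu).ne_zero).mp this.symm
  have sgn : ∀ a b : F, a * b = 1 → a * b ^ q = 1 → a = b := by
    intro a b h1 h2
    have hbq : b ^ q = b := mul_left_cancel₀ (left_ne_zero_of_mul_eq_one h1) (h2.trans h1.symm)
    have h3 : b * b = 1 := by
      have h2q := two_le_q hF
      interval_cases q
      · have : b = 1 := mul_right_cancel₀ (right_ne_zero_of_mul_eq_one h1) (by rw [one_mul, ← sq]; exact hbq)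
        rw [this, one_mul]
      · exact mul_right_cancel₀ (right_ne_zero_of_mul_eq_one h1) (by
          rw [one_mul, ← sq, ← pow_succ]; exact hbq)
    exact mul_right_cancel₀ (right_ne_zero_of_mul_eq_one h1) (h1.trans h3.symm)
  have entries := fun i j => congrFun (congrFun hgu i) j
  have hmemc : ∀ j : Fin 4, ∀ i : Fin 2, col j ∈ D i →
      (σ i = 0 → M 2 j = 0 ∧ M 3 j = 0) ∧ (σ i = 1 → M 0 j = 0 ∧ M 1 j = 0) := by
    intro j i hji
    have hmem := hblock i _ hji
    have hc := hcoef _ (fun k => M k j) (hcol j)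
    exact ⟨fun h => hc.1 (h ▸ hmem), fun h => hc.2 (h ▸ hmem)⟩
  rcases (by omega : (σ 0 = 0) ∨ (σ 0 = 1)) with h0 | h0
  · have h1 : σ 1 = 1 := by
      have h := σ.injective.ne (show (1 : Fin 2) ≠ 0 by decide)
      rw [h0] at h
      omega
    obtain ⟨z20, z30⟩ := (hmemc 0 0 c0).1 h0
    obtain ⟨z21, z31⟩ := (hmemc 1 0 c1).1 h0
    obtain ⟨z02, z12⟩ := (hmemc 2 1 c2).2 h1
    obtain ⟨z03, z13⟩ := (hmemc 3 1 c3).2 h1
    have e02 := entries 0 2
    have e03 := entries 0 3
    have e12 := entries 1 2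
    have e13 := entries 1 3
    simp [E, Matrix.mul_apply, Fin.sum_univ_four, z20, z30, z21, z31] at e02 e03 e12 e13
    have hd : (M 0 0 * M 1 1 - M 1 0 * M 0 1) * (M 2 2 * M 3 3 - M 3 2 * M 2 3) = 1 := by
      rw [← hdetM]
      simp [Matrix.det_succ_row_zero, Fin.sum_univ_succ, Fin.succAbove, z20, z30, z21, z31,
        z02, z12, z03, z13]
      ring
    have hdd : (M 0 0 * M 1 1 - M 1 0 * M 0 1) * (M 2 2 * M 3 3 - M 3 2 * M 2 3) ^ q = 1 := by
      rw [sub_pow_q hF, mul_pow, mul_pow]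
      linear_combination (M 0 1 * M 2 3 ^ q + M 1 1 * M 3 3 ^ q) * e02 + e13
        - (M 0 1 * M 2 2 ^ q + M 1 1 * M 3 2 ^ q) * e03
    have hab := sgn _ _ hd hdd
    refine ⟨M 0 0 * M 1 1 - M 1 0 * M 0 1, left_ne_zero_of_mul_eq_one hd, ?_⟩
    ext i j
    fin_cases i <;> fin_cases j <;>
      simp [J, Matrix.mul_apply, Fin.sum_univ_four, z20, z30, z21, z31, z02, z12, z03, z13] <;>
      first | ring1 | linear_combination hab | linear_combination -hab
  · have h1 : σ 1 = 0 := by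
      have h := σ.injective.ne (show (1 : Fin 2) ≠ 0 by decide)
      rw [h0] at h
      omega
    obtain ⟨z00, z10⟩ := (hmemc 0 0 c0).2 h0
    obtain ⟨z01, z11⟩ := (hmemc 1 0 c1).2 h0
    obtain ⟨z22, z32⟩ := (hmemc 2 1 c2).1 h1
    obtain ⟨z23, z33⟩ := (hmemc 3 1 c3).1 h1
    have e02 := entries 0 2
    have e03 := entries 0 3
    have e12 := entries 1 2
    have e13 := entries 1 3
    simp [E, Matrix.mul_apply, Fin.sum_univ_four, z00, z10, z01, z11] at e02 e03 e12 e13
    have hd : (M 2 0 * M 3 1 - M 3 0 * M 2 1) * (M 0 2 * M 1 3 - M 1 2 * M 0 3) = 1 := by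
      rw [← hdetM]
      simp [Matrix.det_succ_row_zero, Fin.sum_univ_succ, Fin.succAbove, z00, z10, z01, z11,
        z22, z32, z23, z33]
      ring
    have hdd : (M 2 0 * M 3 1 - M 3 0 * M 2 1) * (M 0 2 * M 1 3 - M 1 2 * M 0 3) ^ q = 1 := by
      rw [sub_pow_q hF, mul_pow, mul_pow]
      linear_combination (M 2 1 * M 0 3 ^ q + M 3 1 * M 1 3 ^ q) * e02 + e13
        - (M 2 1 * M 0 2 ^ q + M 3 1 * M 1 2 ^ q) * e03
    have hab := sgn _ _ hd hdd
    refine ⟨M 2 0 * M 3 1 - M 3 0 * M 2 1, left_ne_zero_of_mul_eq_one hd, ?_⟩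
    ext i j
    fin_cases i <;> fin_cases j <;>
      simp [J, Matrix.mul_apply, Fin.sum_univ_four, z00, z10, z01, z11, z22, z32, z23, z33] <;>
      first | ring1 | linear_combination hab | linear_combination -hab

end Cfsg.Agent.Unitary.Asch
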