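import Cfsg.Agent.Aschbacher.Wreath

/-!
# Tensor powers with prescribed coordinate inclusions

The argument of `Cfsg.Agent.Aschbacher.exists_tensorPower`, also exporting the coordinates.
-/

set_option autoImplicit false
set_option linter.unusedSectionVars false
set_option linter.style.haveILetI false

namespace Cfsg.Agent.Unitary.Asch

open scoped MatrixGroups Matrix
open Cfsg.Geo
open Cfsg.Agent.Aschbacher (prodFn prodFn_mul prodFn_one prodFn_single prodFn_sum prodFn_smul pureMat pureMat_mul
  pureMat_one pureGL factorPerm factorPerm_conj factorPermGL MatUnits skolem_noether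
  cj_eq_self_iff cj_inv_apply)

variable {ι : Type} [Fintype ι] [DecidableEq ι] {F : Type*} [Field F]

/-- Pairwise commuting subalgebras isomorphic to `M_m(F)` generating the matrix algebra: the
dimension is `m ^ t`, the given isomorphisms are the coordinate inclusions, and whatever permutes
them stabilises the tensor power decomposition. -/
theorem exists_tensorPower_slots [Nonempty ι] {m t : ℕ} (hm : 0 < m) (ht : 0 < t)
    (A : Fin t → Subalgebra F (Matrix ι ι F))
    (f : ∀ i, Matrix (Fin m) (Fin m) F ≃ₐ[F] A i)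
    (hcomm : ∀ i j, i ≠ j → ∀ X ∈ A i, ∀ Y ∈ A j, X * Y = Y * X)
    (hgen : ⨆ i, A i = ⊤) :
    Fintype.card ι = m ^ t ∧ ∃ (e : ι ≃ (Fin t → Fin m)) (P : GL ι F),
      (∀ i X, Aschbacher.cj P (Matrix.reindex e.symm e.symm (pureMat (Function.update (fun _ => 1) i X)))
        = (f i X : Matrix ι ι F)) ∧
      ∀ (g : GL ι F) (σ : Equiv.Perm (Fin t)), (∀ i, ∀ X ∈ A i, Aschbacher.cj g X ∈ A (σ i)) →
        g ∈ tensorWreathSubgroup m t e P := by
  classical
  haveI : Nonempty (Fin m) := ⟨⟨0, hm⟩⟩
  haveI : Nonempty (Fin t) := ⟨⟨0, ht⟩⟩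
  let π : Fin t → (Matrix (Fin m) (Fin m) F →ₐ[F] Matrix ι ι F) :=
    fun i => (A i).val.comp (f i).toAlgHom
  have hπmem : ∀ i X, π i X ∈ A i := fun i X => (f i X).2
  have hπc : ∀ i j, i ≠ j → ∀ X Y, Commute (π i X) (π j Y) :=
    fun i j h X Y => hcomm i j h _ (hπmem i X) _ (hπmem j Y)
  let Φ : (Fin t → Matrix (Fin m) (Fin m) F) → Matrix ι ι F := fun X => prodFn fun i => π i (X i)
  have hΦmul : ∀ X Y, Φ X * Φ Y = Φ (fun i => X i * Y i) := fun X Y => by
    simp only [Φ]
    rw [← prodFn_mul _ _ fun i j h => hπc i j h _ _]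
    simp
  let E : (Fin t → Fin m) → (Fin t → Fin m) → Matrix ι ι F :=
    fun x y => Φ fun i => Matrix.single (x i) (y i) 1
  have hΦE : ∀ X, Φ X = ∑ x, ∑ y, pureMat X x y • E x y := by
    intro X
    have hX : ∀ i, π i (X i) =
        ∑ k : Fin m × Fin m, X i k.1 k.2 • π i (Matrix.single k.1 k.2 1) := by
      intro i
      conv_lhs => rw [Matrix.matrix_eq_sum_single (X i)]
      rw [Fintype.sum_prod_type, map_sum]
      refine Finset.sum_congr rfl fun a _ => ?_
      rw [map_sum]
      refine Finset.sum_congr rfl fun b _ => ?_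
      rw [← map_smul, Matrix.smul_single, smul_eq_mul, mul_one]
    simp only [Φ, hX]
    rw [prodFn_sum, ← (Equiv.arrowProdEquivProdArrow (Fin t) (fun _ => Fin m)
      (fun _ => Fin m)).symm.sum_comp, Fintype.sum_prod_type]
    refine Finset.sum_congr rfl fun x _ => Finset.sum_congr rfl fun y _ => ?_
    rw [prodFn_smul]
    rfl
  have hU : MatUnits E := by
    constructor
    · intro a b c d
      simp only [E, hΦmul]
      split_ifs with h
      · subst h
        congr 1; funext i; simp
      · obtain ⟨i, hi⟩ := Function.ne_iff.mp h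
        rw [hΦE]
        refine Finset.sum_eq_zero fun x _ => Finset.sum_eq_zero fun y _ => ?_
        rw [show pureMat (fun i => Matrix.single (a i) (b i) (1 : F) *
          Matrix.single (c i) (d i) 1) x y = 0 from
          Finset.prod_eq_zero (Finset.mem_univ i) (by simp [hi]), zero_smul]
    · have h1 : Φ (fun _ => 1) = 1 := by simp [Φ, prodFn_one]
      rw [← h1, hΦE, pureMat_one]
      simp [Matrix.one_apply, Finset.sum_ite_eq]
  -- the span of the matrix units is everything
  have hsingle : ∀ i X, Φ (Function.update (fun _ => 1) i X) = π i X := by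
    intro i X
    simp only [Φ]
    rw [prodFn_single _ i (fun j hj => by simp [Function.update_of_ne hj]),
      Function.update_self]
  obtain ⟨b, e₀, P₀, hb, hP₀⟩ := hU.exists_normal_form
  have hcardι : Fintype.card ι = m ^ t * b := by
    have := Fintype.card_congr e₀
    simpa [Fintype.card_prod] using this
  let S : Subalgebra F (Matrix ι ι F) :=
    (Submodule.span F (Set.range fun p : (Fin t → Fin m) × (Fin t → Fin m) => E p.1 p.2)).toSubalgebra
      (by
        rw [← hU.sum_eq]
        exact Submodule.sum_mem _ fun a _ => Submodule.subset_span ⟨(a, a), rfl⟩)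
      (fun x y hx hy => by
        induction hx using Submodule.span_induction with
        | mem x hx =>
          induction hy using Submodule.span_induction with
          | mem y hy =>
            obtain ⟨p, rfl⟩ := hx; obtain ⟨r, rfl⟩ := hy
            rw [hU.mul]
            split_ifs
            · exact Submodule.subset_span ⟨(p.1, r.2), rfl⟩
            · exact Submodule.zero_mem _
          | zero => simp
          | add a b _ _ ha hb => rw [mul_add]; exact Submodule.add_mem _ ha hb
          | smul c a _ ha => rw [mul_smul_comm]; exact Submodule.smul_mem _ c ha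
        | zero => simp
        | add a b _ _ ha hb => rw [add_mul]; exact Submodule.add_mem _ ha hb
        | smul c a _ ha => rw [smul_mul_assoc]; exact Submodule.smul_mem _ c ha)
  have hS : S = ⊤ := by
    rw [eq_top_iff, ← hgen]
    refine iSup_le fun i X hX => ?_
    have : X = π i ((f i).symm ⟨X, hX⟩) := by simp [π]
    rw [this, ← hsingle, hΦE]
    exact S.sum_mem fun x _ => S.sum_mem fun y _ =>
      S.smul_mem (Submodule.subset_span ⟨(x, y), rfl⟩) _
  have hcard : Fintype.card ι = m ^ t := by
    have hsp : Submodule.span F (Set.range fun p : (Fin t → Fin m) × (Fin t → Fin m) => E p.1 p.2)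
        = ⊤ := by
      have h2 : Subalgebra.toSubmodule S = ⊤ := by rw [hS, Algebra.top_toSubmodule]
      exact h2
    have h := finrank_range_le_card (R := F)
      (fun p : (Fin t → Fin m) × (Fin t → Fin m) => E p.1 p.2)
    rw [Set.finrank, hsp, finrank_top, Module.finrank_matrix, Module.finrank_self, mul_one] at h
    simp only [Fintype.card_prod, Fintype.card_fun, Fintype.card_fin] at h
    rw [hcardι] at h
    have hmt : 0 < m ^ t := Nat.pow_pos hm
    have h' : m ^ t * m ^ t * (b * b) ≤ m ^ t * m ^ t * 1 := by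
      calc m ^ t * m ^ t * (b * b) = m ^ t * b * (m ^ t * b) := by ring
        _ ≤ _ := by rw [mul_one]; exact h
    have hb2 : b * b ≤ 1 := Nat.le_of_mul_le_mul_left h' (Nat.mul_pos hmt hmt)
    have : b = 1 := by nlinarith
    rw [hcardι, this, mul_one]
  refine ⟨hcard, ?_⟩
  obtain ⟨e, P, hP⟩ := hU.exists_conj (by simp [hcard])
  let ρ : Matrix (Fin t → Fin m) (Fin t → Fin m) F ≃ₐ[F] Matrix ι ι F :=
    (Matrix.reindexAlgEquiv F F e.symm).trans (Aschbacher.cj P)
  have hρE : ∀ x y, ρ (Matrix.single x y 1) = E x y := by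
    intro x y
    rw [hP]
    show Aschbacher.cj P _ = Aschbacher.cj P _
    congr 1
    ext i j
    show Matrix.single x y (1 : F) (e i) (e j) = _
    simp only [Matrix.single_apply, Equiv.symm_apply_eq]
  have hρΦ : ∀ X, ρ (pureMat X) = Φ X := by
    intro X
    rw [hΦE]
    conv_lhs => rw [Matrix.matrix_eq_sum_single (pureMat X)]
    rw [map_sum]
    refine Finset.sum_congr rfl fun x _ => ?_
    rw [map_sum]
    refine Finset.sum_congr rfl fun y _ => ?_
    rw [← hρE, ← map_smul, Matrix.smul_single, smul_eq_mul, mul_one]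
  refine ⟨e, P, fun i X => (hρΦ _).trans (hsingle i X), fun g σ hσ => ?_⟩
  -- the inner automorphism on each factor
  have hu : ∀ i, ∃ u : GL (Fin m) F, ∀ X, Aschbacher.cj g (π i X) = π (σ i) (Aschbacher.cj u X) := by
    intro i
    let ψ : Matrix (Fin m) (Fin m) F →ₐ[F] Matrix (Fin m) (Fin m) F :=
      (f (σ i)).symm.toAlgHom.comp (((Aschbacher.cj g).toAlgHom.comp (π i)).codRestrict (A (σ i))
        fun X => hσ i _ (hπmem i X))
    obtain ⟨u, hu⟩ := skolem_noether ψ
    refine ⟨u, fun X => ?_⟩
    rw [← hu]
    simp [ψ, π]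
    rfl
  choose u hu using hu
  set T := tensorWreathSubgroup m t e P
  let emb : GL (Fin t → Fin m) F → GL ι F := fun k => P * glReindex e.symm k * P⁻¹
  have hemb : ∀ k, (IsPureTensor m t k ∨ IsFactorPermutation m t k) → emb k ∈ T := fun k hk =>
    ⟨glReindex e.symm k, ⟨k, Subgroup.subset_closure hk, rfl⟩, rfl⟩
  have hembv : ∀ k, (emb k : Matrix ι ι F) =
      ρ (k : Matrix (Fin t → Fin m) (Fin t → Fin m) F) := fun k => by
    simp only [emb, Units.val_mul]; rfl
  set w := emb (pureGL fun j => u (σ.symm j)) * emb (factorPermGL σ)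
  have hwT : w ∈ T := T.mul_mem (hemb _ (Or.inl ⟨fun j => u (σ.symm j), fun x y => rfl⟩))
    (hemb _ (Or.inr ⟨σ, fun x y => rfl⟩))
  have hw : ∀ i X, Aschbacher.cj w (π i X) = π (σ i) (Aschbacher.cj (u i) X) := by
    intro i X
    suffices h : (w : Matrix ι ι F) * π i X = π (σ i) (Aschbacher.cj (u i) X) * (w : Matrix ι ι F) by
      rw [Aschbacher.cj_apply, h, mul_assoc, ← Units.val_mul, mul_inv_cancel, Units.val_one, mul_one]
    rw [← hsingle, ← hsingle, ← hρΦ, ← hρΦ, Units.val_mul, hembv, hembv]
    simp only [← map_mul]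
    congr 1
    show pureMat _ * factorPerm σ * pureMat _ = pureMat _ * (pureMat _ * factorPerm σ)
    rw [mul_assoc, factorPerm_conj, ← mul_assoc, ← mul_assoc, pureMat_mul, pureMat_mul]
    congr 2
    funext j
    by_cases hj : σ.symm j = i
    · have hj' : j = σ i := by rw [← hj]; simp
      subst hj'
      simp [Aschbacher.cj_apply, mul_assoc]
    · have hj' : j ≠ σ i := fun h => hj (by simp [h])
      simp [Function.update_of_ne hj, Function.update_of_ne hj']
  set z := w⁻¹ * g with hz
  have hzc : ∀ i, A i ≤ Subalgebra.centralizer F {(z : Matrix ι ι F)} := by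
    intro i X hX
    rw [Subalgebra.mem_centralizer_iff]
    rintro _ rfl
    have h1 : X = π i ((f i).symm ⟨X, hX⟩) := by simp [π]
    rw [← cj_eq_self_iff, h1, hz, Aschbacher.cj_mul, hu, ← hw, cj_inv_apply]
  have hzall : ∀ X : Matrix ι ι F, (z : Matrix ι ι F) * X = X * (z : Matrix ι ι F) := by
    intro X
    have h : (⨆ i, A i) ≤ Subalgebra.centralizer F {(z : Matrix ι ι F)} := iSup_le hzc
    rw [hgen] at h
    exact Subalgebra.mem_centralizer_iff F |>.mp (h (Algebra.mem_top (x := X))) _ rfl
  obtain ⟨c, hc⟩ := Matrix.mem_range_scalar_of_commute_single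
    (M := (z : Matrix ι ι F)) (fun i j _ => (hzall _).symm)
  have hc0 : c ≠ 0 := by
    intro h
    have := z.ne_zero
    rw [← hc, h, map_zero] at this
    exact this rfl
  let i₀ : Fin t := ⟨0, ht⟩
  have hzT : z ∈ T := by
    let k := pureGL (F := F) (Function.update (fun _ : Fin t => (1 : GL (Fin m) F)) i₀
      (Units.map (algebraMap F (Matrix (Fin m) (Fin m) F)).toMonoidHom (Units.mk0 c hc0)))
    have : z = emb k := by
      apply Units.ext
      rw [hembv, show (k : Matrix (Fin t → Fin m) (Fin t → Fin m) F) = pureMat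
        (Function.update (fun _ => 1) i₀ (algebraMap F (Matrix (Fin m) (Fin m) F) c)) by
          show pureMat _ = pureMat _
          congr 1; funext j
          by_cases hj : j = i₀
          · subst hj; simp
          · simp [Function.update_of_ne hj], hρΦ, hsingle, AlgHom.commutes, ← hc]
      rfl
    rw [this]
    exact hemb _ (Or.inl ⟨_, fun x y => rfl⟩)
  have : g = w * z := by rw [hz, mul_inv_cancel_left]
  rw [this]
  exact T.mul_mem hwT hzT

end Cfsg.Agent.Unitary.Asch
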