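import Cfsg.Agent.Unitary.AschAdjoint
import Cfsg.Agent.Unitary.AschPower
import Cfsg.Agent.Unitary.HilbertNinety
import Cfsg.Agent.Aschbacher.Tensor
import Cfsg.Agent.Aschbacher.SympType

/-!
# Adjoint-closed tensor factors give unitary tensor decompositions
-/

set_option autoImplicit false
set_option linter.unusedSectionVars false

namespace Cfsg.Agent.Unitary.Asch

open Matrix
open scoped MatrixGroups Kronecker
open Cfsg.Geo

variable {F : Type*} [Field F] [Fintype F] {q n : ℕ}

lemma exists_move (hF : Fintype.card F = q ^ 2) : ∃ w : F, w ^ q ≠ w := by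
  by_contra hall
  push Not at hall
  have := card_fixed hF
  rw [Nat.card_congr (Equiv.subtypeUnivEquiv hall), Nat.card_eq_fintype_card, hF] at this
  have := two_le_q hF
  nlinarith

lemma exists_rescale (hF : Fintype.card F = q ^ 2) {l : F} (hl : l * l ^ q = 1) :
    ∃ μ : F, μ ≠ 0 ∧ μ ^ q * l = μ := by
  obtain ⟨w, hw⟩ := exists_move hF
  obtain ⟨y, hy, hyz⟩ := exists_unit_eq_mul (frob hF) (fun x => pow_q_q hF x)
    (w := w) (isUnit_iff_ne_zero.mpr (sub_ne_zero.mpr fun h => hw (by rw [← frob_apply hF, ← h])))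
    (z := l) (by rw [frob_apply hF]; exact hl)
  exact ⟨y, hy.ne_zero, by rw [mul_comm, ← frob_apply hF]; exact hyz.symm⟩

lemma scalar_of_commute {κ : Type} [Fintype κ] [DecidableEq κ] {M : Matrix κ κ F}
    (h : ∀ X : Matrix κ κ F, X * M = M * X) : ∃ c : F, M = c • 1 := by
  obtain ⟨c, hc⟩ := Matrix.mem_range_scalar_of_commute_single (M := M) (fun i j _ => h _)
  exact ⟨c, by rw [← hc, Matrix.scalar_apply, Matrix.smul_one_eq_diagonal]⟩

/-- A semilinear anti-involution of the matrix algebra is the adjoint after a change of basis. -/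
theorem exists_star_cj (hF : Fintype.card F = q ^ 2) {m : ℕ} (hm : 0 < m)
    (τ : Matrix (Fin m) (Fin m) F → Matrix (Fin m) (Fin m) F)
    (hmul : ∀ X Y, τ (X * Y) = τ Y * τ X) (hadd : ∀ X Y, τ (X + Y) = τ X + τ Y)
    (hsmul : ∀ (c : F) X, τ (c • X) = c ^ q • τ X) (hinv : ∀ X, τ (τ X) = X) :
    ∃ u : GL (Fin m) F, ∀ X, τ (Aschbacher.cj u X) = Aschbacher.cj u (hst q X) := by
  haveI : Nonempty (Fin m) := ⟨⟨0, hm⟩⟩
  have h1 : τ 1 = 1 := by
    have h := hmul (τ 1) 1
    rw [mul_one, hinv, mul_one] at h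
    exact h.symm
  let ψ : Matrix (Fin m) (Fin m) F →ₐ[F] Matrix (Fin m) (Fin m) F :=
    AlgHom.ofLinearMap
      { toFun := fun X => τ (hst q X)
        map_add' := fun X Y => by rw [hst_add hF, hadd]
        map_smul' := fun c X => by
          show τ (hst q (c • X)) = c • τ (hst q X)
          rw [hst_smul, hsmul, pow_q_q hF] }
      (by show τ (hst q 1) = 1; rw [hst_one hF, h1])
      (fun X Y => by
        show τ (hst q (X * Y)) = τ (hst q X) * τ (hst q Y)
        rw [hst_mul hF, hmul])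
  obtain ⟨w, hw⟩ := Aschbacher.skolem_noether ψ
  have hτ : ∀ Y, τ Y = Aschbacher.cj w (hst q Y) := fun Y => by
    have h := hw (hst q Y)
    have h' : ψ (hst q Y) = τ (hst q (hst q Y)) := rfl
    rw [h', hst_hst hF] at h
    exact h
  set W := (w : Matrix (Fin m) (Fin m) F) with hW
  set W' := ((w⁻¹ : GL (Fin m) F) : Matrix (Fin m) (Fin m) F) with hW'
  have hWW : W * W' = 1 := by rw [hW, hW', ← Units.val_mul, mul_inv_cancel, Units.val_one]
  have hW'W : W' * W = 1 := by rw [hW, hW', ← Units.val_mul, inv_mul_cancel, Units.val_one]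
  have key : ∀ Y, W * (hst q W' * (Y * hst q W)) * W' = Y := fun Y => by
    conv_rhs => rw [← hinv Y, hτ (τ Y), hτ Y]
    simp only [Aschbacher.cj_apply, hst_mul hF, hst_hst hF, ← hW, ← hW']
  have hs1 : hst q W' * hst q W = 1 := by rw [← hst_mul hF, hWW, hst_one hF]
  have hs2 : hst q W * hst q W' = 1 := by rw [← hst_mul hF, hW'W, hst_one hF]
  obtain ⟨l, hl⟩ := scalar_of_commute (M := hst q W * W') (fun Y => by
    calc Y * (hst q W * W') = hst q W * W' * (W * (hst q W' * (Y * hst q W)) * W') := by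
          simp only [← mul_assoc]
          rw [mul_assoc (hst q W) W' W, hW'W, mul_one, hs2, one_mul]
      _ = hst q W * W' * Y := by rw [key])
  have hWl : hst q W = l • W := by
    calc hst q W = hst q W * W' * W := by rw [mul_assoc, hW'W, mul_one]
      _ = l • W := by rw [hl, Matrix.smul_mul, one_mul]
  have hll : l * l ^ q = 1 := by
    have h := congrArg (hst q) hWl
    rw [hst_hst hF, hst_smul, hWl, smul_smul] at h
    have h' : (1 - l ^ q * l) • W = 0 := by rw [sub_smul, one_smul, ← h, sub_self]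
    rcases smul_eq_zero.mp h' with h5 | h5
    · rw [mul_comm]; exact (sub_eq_zero.mp h5).symm
    · exact absurd h5 w.ne_zero
  obtain ⟨μ, hμ0, hμ⟩ := exists_rescale hF hll
  have hherm : hst q (μ • W) = μ • W := by rw [hst_smul, hWl, smul_smul, hμ]
  obtain ⟨y, hy, hyy, -⟩ := exists_hstar_mul_self hF (H := μ • W)
    (by have := w.isUnit.smul (Units.mk0 μ hμ0); simpa [Units.smul_def] using this) hherm
  let Y : GL (Fin m) F := hy.unit
  have hYv : (Y : Matrix (Fin m) (Fin m) F) = y := hy.unit_spec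
  let u : GL (Fin m) F := ⟨hst q (Y : Matrix (Fin m) (Fin m) F),
    hst q ((Y⁻¹ : GL (Fin m) F) : Matrix (Fin m) (Fin m) F),
    by rw [← hst_mul hF, ← Units.val_mul, inv_mul_cancel, Units.val_one, hst_one hF],
    by rw [← hst_mul hF, ← Units.val_mul, mul_inv_cancel, Units.val_one, hst_one hF]⟩
  refine ⟨u, fun X => ?_⟩
  have hu : (u : Matrix (Fin m) (Fin m) F) = hst q y := by rw [← hYv]
  have hui : ((u⁻¹ : GL (Fin m) F) : Matrix (Fin m) (Fin m) F) =
      hst q ((Y⁻¹ : GL (Fin m) F) : Matrix (Fin m) (Fin m) F) := rfl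
  set Y' := ((Y⁻¹ : GL (Fin m) F) : Matrix (Fin m) (Fin m) F) with hY'
  have hyY : y * Y' = 1 := by rw [hY', ← hYv, ← Units.val_mul, mul_inv_cancel, Units.val_one]
  have hW2 : hst q y * y = μ • W := hyy
  have hWy : W = μ⁻¹ • (hst q y * y) := by rw [hW2, smul_smul, inv_mul_cancel₀ hμ0, one_smul]
  have hW'y : W' = μ • (Y' * hst q Y') := by
    calc W' = W' * (hst q y * y * (Y' * hst q Y')) := by
          rw [show hst q y * y * (Y' * hst q Y') = 1 by
            rw [mul_assoc, ← mul_assoc y, hyY, one_mul, ← hst_mul hF,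
              show Y' * y = 1 by rw [hY', ← hYv, ← Units.val_mul, inv_mul_cancel, Units.val_one],
              hst_one hF], mul_one]
      _ = μ • (W' * W * (Y' * hst q Y')) := by
          rw [hW2, Matrix.smul_mul, Matrix.mul_smul, ← mul_assoc]
      _ = _ := by rw [hW'W, one_mul]
  rw [hτ, Aschbacher.cj_apply, Aschbacher.cj_apply, Aschbacher.cj_apply, hu, hui, ← hW, ← hW',
    hst_mul hF, hst_mul hF, hst_hst hF, hst_hst hF, hWy, hW'y]
  simp only [Matrix.smul_mul, Matrix.mul_smul, smul_smul]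
  rw [mul_inv_cancel₀ hμ0, one_smul]
  calc hst q y * y * (Y' * (hst q X * y)) * (Y' * hst q Y')
      = hst q y * (y * Y') * hst q X * (y * Y') * hst q Y' := by simp only [mul_assoc]
    _ = _ := by rw [hyY, mul_one, mul_one]

lemma hst_kronecker {κ κ' : Type} [Fintype κ] [DecidableEq κ] [Fintype κ'] [DecidableEq κ']
    (A : Matrix κ κ F) (B : Matrix κ' κ' F) :
    hst q (A ⊗ₖ B) = hst q A ⊗ₖ hst q B := by
  ext i j
  simp [hst_apply, mul_pow]

/-- The Kronecker product as an invertible matrix. -/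
def krGL {a b : ℕ} (x : GL (Fin a) F) (y : GL (Fin b) F) : GL (Fin a × Fin b) F :=
  ⟨(x : Matrix (Fin a) (Fin a) F) ⊗ₖ (y : Matrix (Fin b) (Fin b) F),
    ((x⁻¹ : GL (Fin a) F) : Matrix (Fin a) (Fin a) F) ⊗ₖ
      ((y⁻¹ : GL (Fin b) F) : Matrix (Fin b) (Fin b) F),
    by rw [← Matrix.mul_kronecker_mul]; simp [Matrix.one_kronecker_one],
    by rw [← Matrix.mul_kronecker_mul]; simp [Matrix.one_kronecker_one]⟩

lemma tensorProductSubgroup_mul {a b : ℕ} (e : Fin n ≃ Fin a × Fin b) (P : GL (Fin n) F)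
    {k : GL (Fin a × Fin b) F} (hk : k ∈ kroneckerSubgroup a b F) :
    tensorProductSubgroup a b e (P * glReindex e.symm k) = tensorProductSubgroup a b e P := by
  set S := (kroneckerSubgroup a b F).map (glReindex (F := F) e.symm).toMonoidHom
  have hk' : glReindex e.symm k ∈ S := ⟨k, hk, rfl⟩
  ext g
  constructor
  · rintro ⟨s, hs, rfl⟩
    exact ⟨glReindex e.symm k * s * (glReindex e.symm k)⁻¹,
      S.mul_mem (S.mul_mem hk' hs) (S.inv_mem hk'), by simp [mul_assoc]⟩
  · rintro ⟨s, hs, rfl⟩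
    exact ⟨(glReindex e.symm k)⁻¹ * s * glReindex e.symm k,
      S.mul_mem (S.mul_mem (S.inv_mem hk') hs) hk', by simp [mul_assoc]⟩

lemma cj_reindex {a b : ℕ} (e : Fin n ≃ Fin a × Fin b) (k : GL (Fin a × Fin b) F)
    (X : Matrix (Fin a × Fin b) (Fin a × Fin b) F) :
    Aschbacher.cj (glReindex e.symm k) (Matrix.reindex e.symm e.symm X) =
      Matrix.reindex e.symm e.symm (Aschbacher.cj k X) := by
  simp only [Aschbacher.cj_apply]
  show Matrix.reindexAlgEquiv F F e.symm _ * Matrix.reindexAlgEquiv F F e.symm X *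
    Matrix.reindexAlgEquiv F F e.symm _ = Matrix.reindexAlgEquiv F F e.symm _
  rw [← map_mul, ← map_mul]
  rfl

/-- An adjoint-closed simple central subalgebra gives a unitary tensor decomposition. -/
theorem exists_unitary_tensor (hF : Fintype.card F = q ^ 2) [NeZero n] {a : ℕ} (ha : 0 < a)
    (A : Subalgebra F (Matrix (Fin n) (Fin n) F)) (f : Matrix (Fin a) (Fin a) F ≃ₐ[F] A)
    (hA : StarClosed q A) :
    ∃ (b : ℕ) (e : Fin n ≃ Fin a × Fin b) (P : GL (Fin n) F), 0 < b ∧ P ∈ GU n F q ∧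
      subalgebraNormalizer A ≤ tensorProductSubgroup a b e P := by
  classical
  haveI : Nonempty (Fin n) := ⟨⟨0, NeZero.pos n⟩⟩
  haveI : Nonempty (Fin a) := ⟨⟨0, ha⟩⟩
  obtain ⟨b, e, P, hb, hAeq, hle⟩ := Aschbacher.exists_tensorProduct ha A f
  set lf := Aschbacher.leftFactor e P with hlf
  have hinj : Function.Injective lf := by
    intro X Y h
    rw [hlf, Aschbacher.leftFactor_apply, Aschbacher.leftFactor_apply] at h
    have h2 := (Matrix.reindex e.symm e.symm).injective ((Aschbacher.cj P).injective h)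
    ext i j
    simpa using congrFun (congrFun h2 (i, ⟨0, hb⟩)) (j, ⟨0, hb⟩)
  have hmem : ∀ X, ∃ Y, lf Y = hst q (lf X) := fun X => by
    have : hst q (lf X) ∈ A := hA _ (by rw [hAeq]; exact ⟨X, rfl⟩)
    rw [hAeq] at this
    exact this
  choose τ hτ using hmem
  obtain ⟨u, hu⟩ := exists_star_cj hF ha τ
    (fun X Y => hinj (by rw [map_mul, hτ, hτ, hτ, map_mul, hst_mul hF]))
    (fun X Y => hinj (by rw [map_add, hτ, hτ, hτ, map_add, hst_add hF]))
    (fun c X => hinj (by rw [map_smul, hτ, hτ, map_smul, hst_smul]))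
    (fun X => hinj (by rw [hτ, hτ, hst_hst hF]))
  set P₁ := P * glReindex e.symm (krGL u 1) with hP₁
  set R := fun X : Matrix (Fin a) (Fin a) F =>
    Matrix.reindex e.symm e.symm (X ⊗ₖ (1 : Matrix (Fin b) (Fin b) F)) with hR
  have hP₁R : ∀ X, Aschbacher.cj P₁ (R X) = lf (Aschbacher.cj u X) := by
    intro X
    rw [hP₁, Aschbacher.cj_mul, hR, cj_reindex, hlf, Aschbacher.leftFactor_apply]
    congr 2
    simp only [Aschbacher.cj_apply, krGL]
    show (u : Matrix (Fin a) (Fin a) F) ⊗ₖ ((1 : GL (Fin b) F) : Matrix (Fin b) (Fin b) F) * _ *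
      (((u⁻¹ : GL (Fin a) F) : Matrix (Fin a) (Fin a) F) ⊗ₖ
        ((1⁻¹ : GL (Fin b) F) : Matrix (Fin b) (Fin b) F)) = _
    rw [← Matrix.mul_kronecker_mul, ← Matrix.mul_kronecker_mul]
    simp
  have hstarR : ∀ X, hst q (Aschbacher.cj P₁ (R X)) = Aschbacher.cj P₁ (R (hst q X)) := fun X => by
    rw [hP₁R, hP₁R, ← hu, hτ]
  set M := hst q (P₁ : Matrix (Fin n) (Fin n) F) * (P₁ : Matrix (Fin n) (Fin n) F) with hM
  have hMc : ∀ X, M * R X = R X * M := by
    intro X
    set Pv := (P₁ : Matrix (Fin n) (Fin n) F)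
    set Pi' := ((P₁⁻¹ : GL (Fin n) F) : Matrix (Fin n) (Fin n) F)
    have h12 : Pv * Pi' = 1 := by rw [← Units.val_mul, mul_inv_cancel, Units.val_one]
    have h21 : Pi' * Pv = 1 := by rw [← Units.val_mul, inv_mul_cancel, Units.val_one]
    have hRs : hst q (R (hst q X)) = R X := by
      rw [hR]
      show hst q (Matrix.reindex e.symm e.symm (hst q X ⊗ₖ (1 : Matrix (Fin b) (Fin b) F))) = _
      rw [hst_reindex, hst_kronecker, hst_hst hF, hst_one hF]
    have h := hstarR (hst q X)
    rw [Aschbacher.cj_apply, Aschbacher.cj_apply, hst_mul hF, hst_mul hF, hRs, hst_hst hF] at h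
    -- h : Pi'* R X Pv* = Pv R X Pi'
    calc M * R X = hst q Pv * (Pv * R X * Pi') * Pv := by
          rw [hM]; simp only [mul_assoc]; rw [h21, mul_one]
      _ = hst q Pv * (hst q Pi' * (R X * hst q Pv)) * Pv := by rw [h]
      _ = R X * M := by
          rw [← mul_assoc (hst q Pv), ← hst_mul hF, show Pi' * Pv = 1 from h21, hst_one hF, one_mul,
            hM, mul_assoc]
  set M' := Matrix.reindex e e M with hM'
  have hM'c := Aschbacher.eq_one_kronecker_of_commute ha M' (fun x y => by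
    apply (Matrix.reindexAlgEquiv F F e.symm).injective
    rw [map_mul, map_mul]
    have e1 : Matrix.reindexAlgEquiv F F e.symm M' = M := by ext i j; simp [hM']
    rw [e1]
    exact hMc (Matrix.single x y 1))
  set C := Matrix.of (fun k l => M' (⟨0, ha⟩, k) (⟨0, ha⟩, l)) with hC
  have hMh : hst q M = M := by rw [hM, hst_mul hF, hst_hst hF]
  have hCh : hst q C = C := by
    ext k l
    have h := congrFun (congrFun hMh (e.symm (⟨0, ha⟩, k))) (e.symm (⟨0, ha⟩, l))
    simpa [hC, hM', hst_apply] using h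
  have hCu : IsUnit C := by
    have hMu : IsUnit M' := ((hst_isUnit hF P₁.isUnit).mul P₁.isUnit).map (Matrix.reindexAlgEquiv F F e)
    rw [Matrix.isUnit_iff_isUnit_det, hM'c, Matrix.det_kronecker] at hMu
    rw [Matrix.isUnit_iff_isUnit_det]
    simp only [Matrix.det_one, one_pow, one_mul, Fintype.card_fin] at hMu
    exact (isUnit_pow_iff ha.ne').mp hMu
  obtain ⟨y, hy, hyy, -⟩ := exists_hstar_mul_self hF hCu hCh
  set k := krGL (1 : GL (Fin a) F) (hy.unit⁻¹ : GL (Fin b) F) with hk
  set P₂ := P₁ * glReindex e.symm k with hP₂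
  refine ⟨b, e, P₂, hb, ?_, ?_⟩
  · rw [mem_GU_iff_hst hF, hP₂, Units.val_mul, hst_mul hF]
    set K := ((glReindex e.symm k : GL (Fin n) F) : Matrix (Fin n) (Fin n) F)
    calc hst q K * hst q (P₁ : Matrix (Fin n) (Fin n) F) * ((P₁ : Matrix (Fin n) (Fin n) F) * K)
        = hst q K * M * K := by rw [hM]; simp only [mul_assoc]
      _ = Matrix.reindexAlgEquiv F F e.symm
          (hst q (k : Matrix (Fin a × Fin b) (Fin a × Fin b) F) * M' *
            (k : Matrix (Fin a × Fin b) (Fin a × Fin b) F)) := by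
          rw [map_mul, map_mul, show Matrix.reindexAlgEquiv F F e.symm M' = M by ext i j; simp [hM']]
          rfl
      _ = 1 := by
          rw [hM'c, hk]
          show Matrix.reindexAlgEquiv F F e.symm
            (hst q (((1 : GL (Fin a) F) : Matrix (Fin a) (Fin a) F) ⊗ₖ
              ((hy.unit⁻¹ : GL (Fin b) F) : Matrix (Fin b) (Fin b) F)) * _ *
            (((1 : GL (Fin a) F) : Matrix (Fin a) (Fin a) F) ⊗ₖ
              ((hy.unit⁻¹ : GL (Fin b) F) : Matrix (Fin b) (Fin b) F))) = 1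
          rw [hst_kronecker, Units.val_one, hst_one hF, ← Matrix.mul_kronecker_mul,
            ← Matrix.mul_kronecker_mul, one_mul, one_mul, ← hyy]
          have e2 : hst q ((hy.unit⁻¹ : GL (Fin b) F) : Matrix (Fin b) (Fin b) F) *
              (hstar q y * y) * ((hy.unit⁻¹ : GL (Fin b) F) : Matrix (Fin b) (Fin b) F) = 1 := by
            rw [← hst_eq_hstar, ← mul_assoc, mul_assoc, hy.mul_val_inv, mul_one, ← hst_mul hF,
              hy.mul_val_inv, hst_one hF]
          rw [e2, Matrix.one_kronecker_one, map_one]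
  · rw [hP₂, tensorProductSubgroup_mul e P₁ ⟨1, hy.unit⁻¹, rfl⟩, hP₁,
      tensorProductSubgroup_mul e P ⟨u, 1, rfl⟩]
    exact hle

lemma isUnitaryFormPow_hermForm (hF : Fintype.card F = q ^ 2) (k : ℕ) :
    IsUnitaryFormPow q (hermForm k F q) := by
  refine ⟨fun x y v => herm_add_left x y v, fun c x v => herm_smul_left c x v,
    fun v w => (herm_swap hF w v).symm, fun v hv => ⟨?_, ?_⟩⟩
  · by_contra hc
    push Not at hc
    exact hv (eq_zero_of_forall_left hF hc)
  · by_contra hc
    push Not at hc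
    exact hv (eq_zero_of_forall_right hF hc)

lemma gram_hermForm (hF : Fintype.card F = q ^ 2) (k : ℕ) :
    gramMatrix (hermForm k F q) = 1 := by
  ext a b
  rw [gramMatrix, herm_single_single hF, Matrix.one_apply]

lemma isTensorFormStructure_of_mem (hF : Fintype.card F = q ^ 2) {a b : ℕ}
    (e : Fin n ≃ Fin a × Fin b) {P : GL (Fin n) F} (hP : P ∈ GU n F q) :
    IsTensorFormStructure (fun x : F => x ^ q) (hermForm n F q) (hermForm a F q) (hermForm b F q)
      e P := by
  refine ⟨1, one_ne_zero, fun x y => ?_⟩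
  rw [mem_GU_iff.1 hP, one_mul, gram_hermForm hF, gram_hermForm hF, Matrix.one_kronecker_one]
  simp only [hermForm, formOfGram, Function.comp_apply, Matrix.one_apply, mul_ite, mul_one,
    mul_zero, ite_mul, zero_mul, Finset.sum_ite_eq, Finset.mem_univ, if_true]
  exact e.sum_comp (fun i => x i * y i ^ q)

lemma hst_pureMat (hF : Fintype.card F = q ^ 2) {m t : ℕ} (X : Fin t → Matrix (Fin m) (Fin m) F) :
    hst q (Aschbacher.pureMat X) = Aschbacher.pureMat (fun i => hst q (X i)) := by
  ext x y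
  simp only [hst_apply, Aschbacher.pureMat, Matrix.of_apply, Finset.prod_pow]

/-- Adjoint-closed commuting factors give a unitary tensor power decomposition. -/
theorem exists_unitary_power (hF : Fintype.card F = q ^ 2) [NeZero n] {m t : ℕ} (hm : 0 < m)
    (ht : 0 < t) (A : Fin t → Subalgebra F (Matrix (Fin n) (Fin n) F))
    (hiso : ∀ i, Nonempty (Matrix (Fin m) (Fin m) F ≃ₐ[F] A i))
    (hcomm : ∀ i j, i ≠ j → ∀ X ∈ A i, ∀ Y ∈ A j, X * Y = Y * X)
    (hgen : ⨆ i, A i = ⊤) (hA : ∀ i, StarClosed q (A i)) :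
    n = m ^ t ∧ ∃ (e : Fin n ≃ (Fin t → Fin m)) (P : GL (Fin n) F), P ∈ GU n F q ∧
      (∀ i X, ∃ Y ∈ A i, Y = Aschbacher.cj P (Matrix.reindex e.symm e.symm
        (Aschbacher.pureMat (Function.update (fun _ => 1) i X)))) ∧
      ∀ (g : GL (Fin n) F) (σ : Equiv.Perm (Fin t)),
        (∀ i, ∀ X ∈ A i, Aschbacher.cj g X ∈ A (σ i)) → g ∈ tensorWreathSubgroup m t e P := by
  classical
  haveI : Nonempty (Fin n) := ⟨⟨0, NeZero.pos n⟩⟩
  let f := fun i => (hiso i).some
  have hadj : ∀ i, ∃ u : GL (Fin m) F, ∀ X, hst q ((f i (Aschbacher.cj u X)) : Matrix (Fin n) (Fin n) F)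
      = (f i (Aschbacher.cj u (hst q X)) : Matrix (Fin n) (Fin n) F) := by
    intro i
    let τ : Matrix (Fin m) (Fin m) F → Matrix (Fin m) (Fin m) F := fun X =>
      (f i).symm ⟨hst q (f i X : Matrix (Fin n) (Fin n) F), hA i _ (f i X).2⟩
    have hval : ∀ X, (f i (τ X) : Matrix (Fin n) (Fin n) F) = hst q (f i X : Matrix (Fin n) (Fin n) F) :=
      fun X => by simp [τ]
    have hinj : ∀ X Y, (f i X : Matrix (Fin n) (Fin n) F) = f i Y → X = Y := fun X Y h =>
      (f i).injective (Subtype.ext h)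
    obtain ⟨u, hu⟩ := exists_star_cj hF hm τ
      (fun X Y => hinj _ _ (by
        simp only [hval, map_mul, Subalgebra.coe_mul, hst_mul hF]))
      (fun X Y => hinj _ _ (by simp only [hval, map_add, Subalgebra.coe_add, hst_add hF]))
      (fun c X => hinj _ _ (by simp only [hval, map_smul, Subalgebra.coe_smul, hst_smul]))
      (fun X => hinj _ _ (by simp only [hval, hst_hst hF]))
    exact ⟨u, fun X => by rw [← hval, hu]⟩
  choose u hu using hadj
  obtain ⟨hcard, e, P, hslot, hperm⟩ := exists_tensorPower_slots hm ht A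
    (fun i => (Aschbacher.cj (u i)).trans (f i)) hcomm hgen
  rw [Fintype.card_fin] at hcard
  let ρ : Matrix (Fin t → Fin m) (Fin t → Fin m) F ≃ₐ[F] Matrix (Fin n) (Fin n) F :=
    (Matrix.reindexAlgEquiv F F e.symm).trans (Aschbacher.cj P)
  let B : Subalgebra F (Matrix (Fin n) (Fin n) F) :=
    { carrier := {Y | hst q Y = ρ (hst q (ρ.symm Y))}
      mul_mem' := fun {X Y} hX hY => by
        show hst q (X * Y) = ρ (hst q (ρ.symm (X * Y)))
        rw [map_mul, hst_mul hF, hst_mul hF, map_mul]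
        exact congrArg₂ (· * ·) hY hX
      add_mem' := fun {X Y} hX hY => by
        show hst q (X + Y) = ρ (hst q (ρ.symm (X + Y)))
        rw [map_add, hst_add hF, hst_add hF, map_add]
        exact congrArg₂ (· + ·) hX hY
      algebraMap_mem' := fun c => by
        show hst q _ = ρ (hst q (ρ.symm (algebraMap F _ c)))
        rw [AlgEquiv.commutes, Algebra.algebraMap_eq_smul_one, Algebra.algebraMap_eq_smul_one,
          hst_smul_one hF, hst_smul_one hF, map_smul, map_one] }
  have hB : B = ⊤ := by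
    rw [eq_top_iff, ← hgen]
    refine iSup_le fun i Y hY => ?_
    obtain ⟨X, rfl⟩ : ∃ X, (f i (Aschbacher.cj (u i) X) : Matrix (Fin n) (Fin n) F) = Y :=
      ⟨Aschbacher.cj (u i)⁻¹ ((f i).symm ⟨Y, hY⟩), by
        rw [← Aschbacher.cj_mul, mul_inv_cancel]; simp [Aschbacher.cj_apply]⟩
    show hst q _ = ρ (hst q (ρ.symm _))
    have h1 : ρ.symm (f i (Aschbacher.cj (u i) X) : Matrix (Fin n) (Fin n) F) =
        Aschbacher.pureMat (Function.update (fun _ => 1) i X) := by
      rw [AlgEquiv.symm_apply_eq]; exact (hslot i X).symm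
    rw [h1, hu, hst_pureMat hF]
    have h2 : (fun j => hst q (Function.update (fun _ : Fin t => (1 : Matrix (Fin m) (Fin m) F)) i X j))
        = Function.update (fun _ => 1) i (hst q X) := by
      funext j
      by_cases hj : j = i
      · subst hj; simp
      · simp [Function.update_of_ne hj, hst_one hF]
    rw [h2]
    exact (hslot i (hst q X)).symm
  set Pv := (P : Matrix (Fin n) (Fin n) F)
  set Pi' := ((P⁻¹ : GL (Fin n) F) : Matrix (Fin n) (Fin n) F)
  have h12 : Pv * Pi' = 1 := by rw [← Units.val_mul, mul_inv_cancel, Units.val_one]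
  have h21 : Pi' * Pv = 1 := by rw [← Units.val_mul, inv_mul_cancel, Units.val_one]
  obtain ⟨c, hc⟩ := scalar_of_commute (M := hst q Pv * Pv) (fun X => by
    have h : hst q (Aschbacher.cj P (hst q X)) = Aschbacher.cj P X := by
      have h1 : Aschbacher.cj P (hst q X) ∈ B := by rw [hB]; trivial
      refine (show hst q _ = ρ (hst q (ρ.symm _)) from h1).trans ?_
      have h2 : ρ.symm (Aschbacher.cj P (hst q X)) = Matrix.reindex e e (hst q X) := by
        rw [AlgEquiv.symm_apply_eq]
        show Aschbacher.cj P (hst q X) = Aschbacher.cj P _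
        congr 1
        ext i j; simp
      rw [h2]
      show Aschbacher.cj P _ = _
      congr 1
      ext i j
      simp [hst_apply, pow_q_q hF]
    simp only [Aschbacher.cj_apply, hst_mul hF, hst_hst hF] at h
    calc X * (hst q Pv * Pv) = hst q Pv * (hst q Pi' * (X * hst q Pv)) * Pv := by
          rw [← mul_assoc (hst q Pv) (hst q Pi'), ← hst_mul hF, h21, hst_one hF, one_mul, mul_assoc]
      _ = hst q Pv * (Pv * X * Pi') * Pv := by rw [h]
      _ = hst q Pv * Pv * X := by simp only [mul_assoc]; rw [h21, mul_one])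
  obtain ⟨c', hc0, hcq, hc'⟩ := isSim_of_smul hF hc
  obtain ⟨d, hd⟩ := exists_norm_eq hF (a := c'⁻¹) (by rw [inv_pow, hcq])
  have hd0 : d ≠ 0 := fun h => by
    rw [h, zero_mul] at hd; exact inv_ne_zero hc0 hd.symm
  set s : GL (Fin n) F := Units.map (Matrix.scalar (Fin n) : F →+* _).toMonoidHom (Units.mk0 d hd0)
  have hs : ∀ g : GL (Fin n) F, s * g = g * s := fun g =>
    Aschbacher.scalars_comm ⟨Units.mk0 d hd0, rfl⟩ g
  have hsP : ((P * s : GL (Fin n) F) : Matrix (Fin n) (Fin n) F) = d • Pv := by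
    rw [Units.val_mul]
    show Pv * Matrix.scalar (Fin n) d = _
    rw [Matrix.scalar_apply, ← Matrix.smul_one_eq_diagonal, Matrix.mul_smul, mul_one]
  have hcj : ∀ X, Aschbacher.cj (P * s) X = Aschbacher.cj P X := fun X => by
    rw [Aschbacher.cj_mul]
    congr 1
    rw [Aschbacher.cj_eq_self_iff]
    show Matrix.scalar (Fin n) d * X = X * Matrix.scalar (Fin n) d
    exact (Matrix.scalar_commute d (fun r => Commute.all d r) X).eq
  have hT : tensorWreathSubgroup m t e (P * s) = tensorWreathSubgroup m t e P := by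
    simp only [tensorWreathSubgroup]
    congr 1
    refine MonoidHom.ext fun g => ?_
    show P * s * g * (P * s)⁻¹ = P * g * P⁻¹
    rw [_root_.mul_inv_rev, mul_assoc P s g, hs g]
    group
  refine ⟨hcard, e, P * s, ?_, fun i X => ⟨(f i (Aschbacher.cj (u i) X) : Matrix (Fin n) (Fin n) F),
    (f i _).2, by rw [hcj]; exact (hslot i X).symm⟩, fun g σ h => hT ▸ hperm g σ h⟩
  rw [mem_GU_iff_hst hF, hsP, hst_smul, Matrix.smul_mul, Matrix.mul_smul, hc', smul_smul, smul_smul,
    mul_comm (d ^ q) d, hd, inv_mul_cancel₀ hc0, one_smul]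

lemma isTensorPowerFormStructure_of_mem (hF : Fintype.card F = q ^ 2) {m t : ℕ}
    (e : Fin n ≃ (Fin t → Fin m)) {P : GL (Fin n) F} (hP : P ∈ GU n F q) :
    IsTensorPowerFormStructure (fun x : F => x ^ q) (hermForm n F q) (hermForm m F q) e P := by
  refine ⟨1, one_ne_zero, fun x y => ?_⟩
  rw [mem_GU_iff.1 hP, one_mul, gram_hermForm hF]
  have hone : ∀ a b : Fin t → Fin m, (∏ i, (1 : Matrix (Fin m) (Fin m) F) (a i) (b i)) =
      (1 : Matrix (Fin t → Fin m) (Fin t → Fin m) F) a b := fun a b => by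
    rw [← Aschbacher.pureMat_one]; rfl
  simp only [hone]
  simp only [hermForm, Function.comp_apply, Matrix.one_apply, mul_ite, mul_one,
    mul_zero, ite_mul, zero_mul, Finset.sum_ite_eq, Finset.mem_univ, if_true]
  exact e.sum_comp (fun i => x i * y i ^ q)

end Cfsg.Agent.Unitary.Asch
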