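import Cfsg.Agent.Unitary.AschHeis
import Cfsg.Agent.Unitary.AschTensor

/-!
# The tensor square of a Heisenberg group as symplectic-type data
-/

set_option autoImplicit false
set_option linter.unusedSectionVars false
set_option linter.style.haveILetI false

namespace Cfsg.Agent.Unitary.Asch.Heis

open Matrix
open scoped MatrixGroups Kronecker
open Cfsg.Geo

variable {F : Type*} [Field F] [Fintype F] {r n : ℕ} [Fact r.Prime]

/-- `(A, B) ↦ P (A ⊗ B) P⁻¹`. -/
def pairHom (e : Fin n ≃ ZMod r × ZMod r) (P : GL (Fin n) F) :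
    GL (ZMod r) F × GL (ZMod r) F →* GL (Fin n) F :=
  (MulAut.conj P).toMonoidHom.comp ((glReindex (F := F) e.symm).toMonoidHom.comp
    { toFun := fun x =>
        ⟨(x.1 : Matrix (ZMod r) (ZMod r) F) ⊗ₖ (x.2 : Matrix (ZMod r) (ZMod r) F),
          ((x.1⁻¹ : GL (ZMod r) F) : Matrix (ZMod r) (ZMod r) F) ⊗ₖ
            ((x.2⁻¹ : GL (ZMod r) F) : Matrix (ZMod r) (ZMod r) F),
          by rw [← Matrix.mul_kronecker_mul]; simp [Matrix.one_kronecker_one],
          by rw [← Matrix.mul_kronecker_mul]; simp [Matrix.one_kronecker_one]⟩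
      map_one' := Units.ext (by simp)
      map_mul' := fun x y => Units.ext (by simp [Matrix.mul_kronecker_mul]) })

lemma pairHom_val (e : Fin n ≃ ZMod r × ZMod r) (P : GL (Fin n) F)
    (x : GL (ZMod r) F × GL (ZMod r) F) :
    (pairHom e P x : Matrix (Fin n) (Fin n) F) = Aschbacher.cj P (Matrix.reindexAlgEquiv F F e.symm
      ((x.1 : Matrix (ZMod r) (ZMod r) F) ⊗ₖ (x.2 : Matrix (ZMod r) (ZMod r) F))) := by
  simp [pairHom, Aschbacher.cj_apply]
  rfl

/-- The tensor square of the Heisenberg group. -/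
def pairN (ψ : AddChar (ZMod r) F) (e : Fin n ≃ ZMod r × ZMod r) (P : GL (Fin n) F) :
    Subgroup (GL (Fin n) F) :=
  ((heis ψ).prod (heis ψ)).map (pairHom e P)

variable (ψ : AddChar (ZMod r) F) (e : Fin n ≃ ZMod r × ZMod r) (P : GL (Fin n) F)

lemma pairHom_mem_normalizer {A B : GL (ZMod r) F} (hA : A ∈ subgroupNormalizer (heis ψ))
    (hB : B ∈ subgroupNormalizer (heis ψ)) :
    pairHom e P (A, B) ∈ subgroupNormalizer (pairN ψ e P) := by
  haveI : Finite (GL (Fin n) F) := inferInstance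
  refine mem_normalizer_of_conj ?_
  rintro _ ⟨x, hx, rfl⟩
  refine ⟨(A, B) * x * (A, B)⁻¹, ?_, by rw [map_mul, map_mul, map_inv]⟩
  exact ⟨((Subgroup.mem_normalizer_iff.1 hA) x.1).1 hx.1, ((Subgroup.mem_normalizer_iff.1 hB) x.2).1 hx.2⟩

lemma scalar_of_pairHom {A B : GL (ZMod r) F} (hA : A ∈ scalars (ZMod r) F)
    (hB : B ∈ scalars (ZMod r) F) : pairHom e P (A, B) ∈ scalars (Fin n) F := by
  obtain ⟨a, ha⟩ := (mem_scalars_iff A).mp hA
  obtain ⟨b, hb⟩ := (mem_scalars_iff B).mp hB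
  refine (mem_scalars_iff _).mpr ⟨a * b, ?_⟩
  rw [pairHom_val, ha, hb, Matrix.smul_kronecker, Matrix.kronecker_smul, Matrix.one_kronecker_one,
    smul_smul, map_smul, map_one, map_smul, map_one, Units.val_mul]

lemma scalars_le_pairN : scalars (Fin n) F ≤ pairN ψ e P := by
  intro g hg
  obtain ⟨c, hc⟩ := (mem_scalars_iff g).mp hg
  refine ⟨(monGL ψ 0 0 c, 1), ⟨⟨0, 0, c, rfl⟩, (heis ψ).one_mem⟩, Units.ext ?_⟩
  rw [pairHom_val, monGL_val, mon_zero, hc, Units.val_one, Matrix.smul_kronecker,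
    Matrix.one_kronecker_one, map_smul, map_one, map_smul, map_one]

lemma heis_commutator {A B : GL (ZMod r) F} (hA : A ∈ heis ψ) (hB : B ∈ heis ψ) :
    A * B * A⁻¹ * B⁻¹ ∈ scalars (ZMod r) F := by
  obtain ⟨a, b, c, rfl⟩ := hA
  obtain ⟨a', b', c', rfl⟩ := hB
  have hu : ∀ t, ψ t ≠ 0 := fun t => (AddChar.val_isUnit ψ t).ne_zero
  set u : Fˣ := Units.mk0 _ (hu (b * a')) / Units.mk0 _ (hu (b' * a)) with hudef
  refine (mem_scalars_iff _).mpr ⟨u, ?_⟩
  have key : monGL ψ a b c * monGL ψ a' b' c' =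
      monGL ψ 0 0 u * (monGL ψ a' b' c' * monGL ψ a b c) := by
    refine Units.ext ?_
    simp only [Units.val_mul, monGL_val, mon_mul, zero_add, zero_mul, AddChar.map_zero_eq_one,
      hudef, Units.val_div_eq_div_val, Units.val_mk0, add_comm a' a, add_comm b' b]
    congr 1
    have h1 := hu (b' * a)
    field_simp
  have e2 : monGL ψ a b c * monGL ψ a' b' c' * (monGL ψ a b c)⁻¹ * (monGL ψ a' b' c')⁻¹ =
      monGL ψ 0 0 u := by rw [key]; group
  rw [e2, monGL_val, mon_zero]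

lemma pairN_commutator : ⁅pairN ψ e P, pairN ψ e P⁆ ≤ scalars (Fin n) F := by
  rw [Subgroup.commutator_le]
  rintro _ ⟨x, hx, rfl⟩ _ ⟨y, hy, rfl⟩
  rw [commutatorElement_def, ← map_inv, ← map_inv, ← map_mul, ← map_mul, ← map_mul]
  exact scalar_of_pairHom e P (heis_commutator ψ hx.1 hy.1) (heis_commutator ψ hx.2 hy.2)

lemma pairN_absIrred [NeZero n] (hψ : ψ.IsPrimitive) (hr : (r : F) ≠ 0) :
    ActsAbsolutelyIrreducibly (matrixSet (pairN ψ e P)) := by
  haveI : Nonempty (Fin n) := ⟨⟨0, NeZero.pos n⟩⟩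
  refine Aschbacher.absIrred_of_env_eq_top ?_
  set ρ := (Matrix.reindexAlgEquiv F F e.symm).trans (Aschbacher.cj P) with hρ
  have hk : ∀ A ∈ heis ψ, ∀ Y, ρ ((A : Matrix (ZMod r) (ZMod r) F) ⊗ₖ Y) ∈ Aschbacher.env (pairN ψ e P) := by
    intro A hA Y
    have hY : Y ∈ Aschbacher.env (heis ψ) := by rw [env_heis ψ hψ hr]; trivial
    rw [← Subalgebra.mem_toSubmodule, Aschbacher.env_toSubmodule] at hY
    induction hY using Submodule.span_induction with
    | mem Y hY =>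
      obtain ⟨B, hB, rfl⟩ := hY
      have h : ρ ((A : Matrix (ZMod r) (ZMod r) F) ⊗ₖ (B : Matrix (ZMod r) (ZMod r) F)) =
          (pairHom e P (A, B) : Matrix (Fin n) (Fin n) F) := (pairHom_val e P (A, B)).symm
      rw [h]
      exact Aschbacher.val_mem_env ⟨(A, B), ⟨hA, hB⟩, rfl⟩
    | zero => rw [Matrix.kronecker_zero, map_zero]; exact Subalgebra.zero_mem _
    | add a b _ _ ha hb => rw [Matrix.kronecker_add, map_add]; exact Subalgebra.add_mem _ ha hb
    | smul c a _ ha => rw [Matrix.kronecker_smul, map_smul]; exact Subalgebra.smul_mem _ ha c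
  have hall : ∀ X Y, ρ (X ⊗ₖ Y) ∈ Aschbacher.env (pairN ψ e P) := by
    intro X Y
    have hX : X ∈ Aschbacher.env (heis ψ) := by rw [env_heis ψ hψ hr]; trivial
    rw [← Subalgebra.mem_toSubmodule, Aschbacher.env_toSubmodule] at hX
    induction hX using Submodule.span_induction with
    | mem X hX =>
      obtain ⟨A, hA, rfl⟩ := hX
      exact hk A hA Y
    | zero => rw [Matrix.zero_kronecker, map_zero]; exact Subalgebra.zero_mem _
    | add a b _ _ ha hb => rw [Matrix.add_kronecker, map_add]; exact Subalgebra.add_mem _ ha hb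
    | smul c a _ ha => rw [Matrix.smul_kronecker, map_smul]; exact Subalgebra.smul_mem _ ha c
  rw [eq_top_iff]
  intro M _
  obtain ⟨Z, rfl⟩ := ρ.surjective M
  rw [Matrix.matrix_eq_sum_single Z, map_sum]
  refine Subalgebra.sum_mem _ fun i _ => ?_
  rw [map_sum]
  refine Subalgebra.sum_mem _ fun j _ => ?_
  have h : Matrix.single i j (Z i j) = Z i j •
      (Matrix.single i.1 j.1 (1 : F) ⊗ₖ Matrix.single i.2 j.2 (1 : F)) := by
    rw [Matrix.single_kronecker_single, mul_one, Matrix.smul_single, smul_eq_mul, mul_one]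
  rw [h, map_smul]
  exact Subalgebra.smul_mem _ (hall _ _) _

/-- The permutation exchanging the tensor factors. -/
noncomputable def swapGL (r : ℕ) [Fact r.Prime] (F : Type*) [Field F] : GL (ZMod r × ZMod r) F :=
  { val := (1 : Matrix (ZMod r × ZMod r) (ZMod r × ZMod r) F).submatrix id Prod.swap
    inv := (1 : Matrix (ZMod r × ZMod r) (ZMod r × ZMod r) F).submatrix id Prod.swap
    val_inv := by
      ext i j
      rw [Matrix.mul_apply, Finset.sum_eq_single (Prod.swap j)]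
      · simp [Matrix.submatrix_apply, Matrix.one_apply]
      · intro k _ hk
        simp [Matrix.submatrix_apply, Matrix.one_apply, hk]
      · simp
    inv_val := by
      ext i j
      rw [Matrix.mul_apply, Finset.sum_eq_single (Prod.swap j)]
      · simp [Matrix.submatrix_apply, Matrix.one_apply]
      · intro k _ hk
        simp [Matrix.submatrix_apply, Matrix.one_apply, hk]
      · simp }

lemma swap_conj (x : GL (ZMod r) F × GL (ZMod r) F) :
    (P * glReindex e.symm (swapGL r F) * P⁻¹) * pairHom e P x *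
      (P * glReindex e.symm (swapGL r F) * P⁻¹)⁻¹ = pairHom e P (x.2, x.1) := by
  rw [mul_inv_eq_iff_eq_mul]
  refine Units.ext ?_
  rw [Units.val_mul _ (pairHom e P x), Units.val_mul (pairHom e P (x.2, x.1)), pairHom_val,
    pairHom_val]
  set ρ := (Matrix.reindexAlgEquiv F F e.symm).trans (Aschbacher.cj P)
  have hs : ((P * glReindex e.symm (swapGL r F) * P⁻¹ : GL (Fin n) F) : Matrix (Fin n) (Fin n) F) =
      ρ (swapGL r F : Matrix (ZMod r × ZMod r) (ZMod r × ZMod r) F) := by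
    simp [ρ, Aschbacher.cj_apply]; rfl
  rw [hs]
  show ρ _ * ρ _ = ρ _ * ρ _
  rw [← map_mul, ← map_mul]
  congr 1
  ext ⟨i, k⟩ ⟨j, l⟩
  simp [swapGL, Matrix.mul_apply, Matrix.one_apply, Prod.ext_iff, Fintype.sum_prod_type, ite_and,
    mul_comm]

/-- Invariant subgroups of the tensor square under its normaliser. -/
theorem pairN_minimal (hψ : ψ.IsPrimitive) (hr : (r : F) ≠ 0) (d : ZMod r → Fˣ) (a₀ : Fˣ)
    (hd : ∀ s, (d (s + 1) : F) = (a₀ : F) * ψ s * d s)
    (M : Subgroup (GL (Fin n) F)) (hsM : scalars (Fin n) F ≤ M) (hMN : M ≤ pairN ψ e P)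
    (hM : ∀ h ∈ subgroupNormalizer (pairN ψ e P), ∀ x ∈ M, h * x * h⁻¹ ∈ M) :
    M = scalars (Fin n) F ∨ M = pairN ψ e P := by
  classical
  refine or_iff_not_imp_left.mpr fun hne => le_antisymm hMN ?_
  obtain ⟨m, hm, hmZ⟩ : ∃ m ∈ M, m ∉ scalars (Fin n) F := by
    by_contra h
    push Not at h
    exact hne (le_antisymm h hsM)
  let σ := P * glReindex e.symm (swapGL r F) * P⁻¹
  have hσ : σ ∈ subgroupNormalizer (pairN ψ e P) := by
    haveI : Finite (GL (Fin n) F) := inferInstance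
    refine mem_normalizer_of_conj ?_
    rintro _ ⟨x, hx, rfl⟩
    exact ⟨(x.2, x.1), ⟨hx.2, hx.1⟩, (swap_conj e P x).symm⟩
  let K : Subgroup (GL (ZMod r) F) :=
    (M.comap ((pairHom e P).comp (MonoidHom.inl (GL (ZMod r) F) (GL (ZMod r) F)))) ⊓ heis ψ
  have hKmem : ∀ g, g ∈ K ↔ pairHom e P (g, 1) ∈ M ∧ g ∈ heis ψ := fun g => Iff.rfl
  have hsc : scalars (ZMod r) F ≤ K := fun g hg =>
    (hKmem g).mpr ⟨hsM (scalar_of_pairHom e P hg (Subgroup.one_mem _)), scalars_le_heis ψ hg⟩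
  have hKinv : ∀ g ∈ subgroupNormalizer (heis ψ), ∀ x ∈ K, g * x * g⁻¹ ∈ K := by
    intro g hg x hx
    rw [hKmem] at hx ⊢
    refine ⟨?_, ((Subgroup.mem_normalizer_iff.1 hg) x).1 hx.2⟩
    have h := hM _ (pairHom_mem_normalizer ψ e P hg (Subgroup.one_mem _)) _ hx.1
    simpa [← map_inv, ← map_mul] using h
  obtain ⟨y, hyK, hyZ⟩ : ∃ y ∈ K, y ∉ scalars (ZMod r) F := by
    obtain ⟨x, ⟨hx1, hx2⟩, rfl⟩ := hMN hm
    have hnot : ∀ x : GL (ZMod r) F × GL (ZMod r) F, x.1 ∈ heis ψ → x.2 ∈ heis ψ →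
        pairHom e P x ∈ M → x.1 ∉ scalars (ZMod r) F → ∃ y ∈ K, y ∉ scalars (ZMod r) F := by
      intro x hx1 hx2 hxM hxn
      by_contra hall
      push Not at hall
      -- every commutator with a normalising element would be scalar
      have hcomm : ∀ g ∈ subgroupNormalizer (heis ψ), g * x.1 * g⁻¹ * x.1⁻¹ ∈ scalars (ZMod r) F := by
        intro g hg
        refine hall _ ((hKmem _).mpr ⟨?_, ?_⟩)
        · have h := M.mul_mem (hM _ (pairHom_mem_normalizer ψ e P hg (Subgroup.one_mem _)) _ hxM)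
            (M.inv_mem hxM)
          have e1 : ((g, 1) : GL (ZMod r) F × GL (ZMod r) F) * x * (g, 1)⁻¹ * x⁻¹ =
              (g * x.1 * g⁻¹ * x.1⁻¹, 1) := Prod.ext rfl (by simp)
          rw [← map_inv, ← map_inv, ← map_mul, ← map_mul, ← map_mul, e1] at h
          exact h
        · exact (heis ψ).mul_mem (((Subgroup.mem_normalizer_iff.1 hg) x.1).1 hx1) ((heis ψ).inv_mem hx1)
      let K₂ : Subgroup (GL (ZMod r) F) :=
        { carrier := {y | y ∈ heis ψ ∧ ∀ g ∈ subgroupNormalizer (heis ψ),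
            g * y * g⁻¹ * y⁻¹ ∈ scalars (ZMod r) F}
          one_mem' := ⟨(heis ψ).one_mem, fun g _ => by simp⟩
          mul_mem' := fun {a b} ha hb => ⟨(heis ψ).mul_mem ha.1 hb.1, fun g hg => by
            rw [show g * (a * b) * g⁻¹ * (a * b)⁻¹ =
              (g * a * g⁻¹ * a⁻¹) * (a * (g * b * g⁻¹ * b⁻¹) * a⁻¹) by group]
            exact Subgroup.mul_mem _ (ha.2 g hg) (scalars_normal.conj_mem _ (hb.2 g hg) a)⟩
          inv_mem' := fun {a} ha => ⟨(heis ψ).inv_mem ha.1, fun g hg => by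
            rw [show g * a⁻¹ * g⁻¹ * a⁻¹⁻¹ = a⁻¹ * (g * a * g⁻¹ * a⁻¹)⁻¹ * a⁻¹⁻¹ by group]
            exact scalars_normal.conj_mem _ (Subgroup.inv_mem _ (ha.2 g hg)) a⁻¹⟩ }
      have hK2inv : ∀ g ∈ subgroupNormalizer (heis ψ), ∀ y ∈ K₂, g * y * g⁻¹ ∈ K₂ := by
        intro g hg y hy
        refine ⟨((Subgroup.mem_normalizer_iff.1 hg) y).1 hy.1, fun g' hg' => ?_⟩
        rw [show g' * (g * y * g⁻¹) * g'⁻¹ * (g * y * g⁻¹)⁻¹ =
          g * ((g⁻¹ * g' * g) * y * (g⁻¹ * g' * g)⁻¹ * y⁻¹) * g⁻¹ by group]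
        exact scalars_normal.conj_mem _ (hy.2 _ (Subgroup.mul_mem _ (Subgroup.mul_mem _
          (Subgroup.inv_mem _ hg) hg') hg)) g
      have hscK2 : scalars (ZMod r) F ≤ K₂ := fun z hz => ⟨scalars_le_heis ψ hz, fun g _ =>
        Subgroup.mul_mem _ (scalars_normal.conj_mem z hz g) (Subgroup.inv_mem _ hz)⟩
      have hfull := heis_minimal ψ hψ hr d a₀ hd K₂ (fun y hy => hy.1) hscK2 hK2inv
        (show x.1 ∈ K₂ from ⟨hx1, hcomm⟩) hxn
      -- but the Fourier matrix moves the shift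
      let Fo : GL (ZMod r) F := (isUnit_fourier ψ hψ hr).unit
      have hFn : Fo ∈ subgroupNormalizer (heis ψ) := by
        have hconj : ∀ a b : ZMod r, ∀ c : Fˣ, Fo * monGL ψ a b c * Fo⁻¹ ∈ heis ψ := fun a b c => by
          have hu : ψ (-(a * b)) ≠ 0 := (AddChar.val_isUnit ψ _).ne_zero
          refine ⟨-b, a, c * Units.mk0 _ hu, Units.ext (diag_conj ?_)⟩
          rw [(isUnit_fourier ψ hψ hr).unit_spec, monGL_val, fourier_mul_mon, pow_one]; rfl
        exact mem_normalizer_heis ψ (hconj 1 0 1) (hconj 0 1 1)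
      have h10 := (hfull (show monGL ψ 1 0 1 ∈ heis ψ from ⟨1, 0, 1, rfl⟩)).2 Fo hFn
      obtain ⟨c, hc⟩ := (mem_scalars_iff _).mp h10
      have e1 : (Fo * monGL ψ 1 0 1 * Fo⁻¹ : GL (ZMod r) F) =
          (Fo * monGL ψ 1 0 1 * Fo⁻¹ * (monGL ψ 1 0 1)⁻¹) * monGL ψ 1 0 1 := by group
      have e2 := congrArg Units.val e1
      rw [Units.val_mul (Fo * monGL ψ 1 0 1 * Fo⁻¹ * (monGL ψ 1 0 1)⁻¹), hc,
        diag_conj (M := mon ψ (-0) 1 ((1 : Fˣ) * ψ (-(1 * 0)))) (by
          rw [(isUnit_fourier ψ hψ hr).unit_spec, monGL_val, fourier_mul_mon, pow_one])] at e2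
      have := congrFun (congrFun e2 0) 0
      simp [mon, monGL_val, Matrix.smul_apply] at this
    by_cases h : x.1 ∈ scalars (ZMod r) F
    · have h2 : x.2 ∉ scalars (ZMod r) F := fun h2 => hmZ (scalar_of_pairHom e P h h2)
      have hxs := hM σ hσ _ hm
      rw [swap_conj] at hxs
      exact hnot (x.2, x.1) hx2 hx1 hxs h2
    · exact hnot x hx1 hx2 hm h
  have hfull : heis ψ ≤ K :=
    heis_minimal ψ hψ hr d a₀ hd K inf_le_right hsc hKinv hyK hyZ
  rintro _ ⟨⟨A, B⟩, ⟨hA, hB⟩, rfl⟩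
  have h1 : pairHom e P (A, 1) ∈ M := ((hKmem A).mp (hfull hA)).1
  have h2 : pairHom e P (1, B) ∈ M := by
    have h := hM σ hσ _ ((hKmem B).mp (hfull hB)).1
    rwa [swap_conj] at h
  have := M.mul_mem h1 h2
  rwa [← map_mul, Prod.mk_mul_mk, mul_one, one_mul] at this

lemma pairN_similarity {q : ℕ} (hF : Fintype.card F = q ^ 2) [NeZero n]
    (hψq : ∀ x, ψ x * ψ x ^ q = 1) (hP : P ∈ GU n F q) :
    pairN ψ e P ≤ similarityGroup (hermForm n F q) := by
  have hmon : ∀ A ∈ heis ψ, ∃ c : F, hst q (A : Matrix (ZMod r) (ZMod r) F) *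
      (A : Matrix (ZMod r) (ZMod r) F) = c • 1 := by
    rintro _ ⟨a, b, c, rfl⟩
    refine ⟨(c : F) ^ q * c, ?_⟩
    ext i j
    simp only [monGL_val, Matrix.mul_apply, hst_apply, mon, Matrix.of_apply, mul_ite, mul_zero,
      Finset.sum_ite_eq', Finset.mem_univ, if_true, Matrix.smul_apply, Matrix.one_apply,
      smul_eq_mul, mul_one, add_left_inj]
    split_ifs with h h' h'
    · subst h
      rw [mul_pow]
      linear_combination ((c : F) ^ q * c) * hψq (b * j)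
    · exact absurd h.symm h'
    · exact absurd h'.symm h
    · simp [zero_pow (q_ne_zero hF)]
  rintro _ ⟨x, hx, rfl⟩
  obtain ⟨a, ha⟩ := hmon x.1 hx.1
  obtain ⟨b, hb⟩ := hmon x.2 hx.2
  haveI : Nonempty (Fin n) := ⟨⟨0, NeZero.pos n⟩⟩
  refine mem_similarity_of_isSim hF (isSim_of_smul hF (c := a * b) ?_)
  rw [pairHom_val]
  have hPh : ∀ X, hst q (Aschbacher.cj P X) = Aschbacher.cj P (hst q X) :=
    fun X => hst_cj hF (isSim_of_mem_similarity hF (GU_le_similarity hP)) X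
  rw [hPh, ← map_mul, show hst q (Matrix.reindexAlgEquiv F F e.symm
      ((x.1 : Matrix (ZMod r) (ZMod r) F) ⊗ₖ (x.2 : Matrix (ZMod r) (ZMod r) F))) =
    Matrix.reindexAlgEquiv F F e.symm (hst q ((x.1 : Matrix (ZMod r) (ZMod r) F) ⊗ₖ
      (x.2 : Matrix (ZMod r) (ZMod r) F))) from rfl, ← map_mul, hst_kronecker,
    ← Matrix.mul_kronecker_mul, ha, hb, Matrix.smul_kronecker, Matrix.kronecker_smul,
    Matrix.one_kronecker_one, smul_smul, map_smul, map_one, map_smul, map_one]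

theorem pair_sympData (hn : 2 ≤ n) (hψ : ψ.IsPrimitive) (hr : (r : F) ≠ 0) (d : ZMod r → Fˣ)
    (a₀ : Fˣ) (hd : ∀ s, (d (s + 1) : F) = (a₀ : F) * ψ s * d s) :
    ∃ (r' m z : ℕ) (R : Subgroup (GL (Fin n) F)),
      Aschbacher.SympData (subgroupNormalizer (pairN ψ e P)) (pairN ψ e P) r' m z R := by
  haveI : Nonempty (Fin n) := ⟨⟨0, by omega⟩⟩
  haveI : NeZero n := ⟨by omega⟩
  refine Aschbacher.exists_sympData _ _ (by simpa using hn) (scalars_le_pairN ψ e P)
    Subgroup.le_normalizer (fun h hh x hx => ((Subgroup.mem_normalizer_iff.1 hh) x).1 hx)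
    (pairN_minimal ψ e P hψ hr d a₀ hd) (pairN_commutator ψ e P) (pairN_absIrred ψ e P hψ hr)

end Cfsg.Agent.Unitary.Asch.Heis
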