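import Cfsg.Agent.Unitary.AschSubfield
import Cfsg.Agent.Aschbacher.SympClass

/-!
# The symplectic-type case for the unitary groups
-/

set_option autoImplicit false
set_option linter.unusedSectionVars false
set_option linter.style.haveILetI false

namespace Cfsg.Agent.Unitary.Asch

open Matrix
open scoped MatrixGroups
open Cfsg.Geo

variable {F : Type*} [Field F] [Fintype F] {q n : ℕ}

/-- The data of a member of the sixth class. -/
structure Class6 (n q : ℕ) (r k : ℕ) (R : Subgroup (GL (Fin n) F)) : Prop where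
  sympType : IsSymplecticTypeGroup r R
  absIrred : ActsAbsolutelyIrreducibly (matrixSet R)
  le : R ≤ similarityGroup (hermForm n F q)
  pos : 1 ≤ k
  card_eq : n = r ^ k
  data : ∃ p e : ℕ, r ≠ p ∧ IsMinimalFieldFor (Nat.card (Subgroup.center R)) p e F ∧
    ((Odd r ∧ Nat.card (Subgroup.center R) = r ∧ 1 ≤ k ∧ Nat.card R = r ^ (1 + 2 * k)) ∨
      (r = 2 ∧ e = 2 ∧ Nat.card (Subgroup.center R) = 4 ∧ Nat.card R = 2 ^ (2 + 2 * k)))

lemma smul_one_pow (x : GL (Fin n) F) {μ : F} (hF : Fintype.card F = q ^ 2)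
    (h : hst q (x : Matrix (Fin n) (Fin n) F) * (x : Matrix (Fin n) (Fin n) F) = μ • 1) (k : ℕ) :
    hst q ((x ^ k : GL (Fin n) F) : Matrix (Fin n) (Fin n) F) *
      ((x ^ k : GL (Fin n) F) : Matrix (Fin n) (Fin n) F) = μ ^ k • 1 := by
  induction k with
  | zero => simp [hst_one hF]
  | succ k ih =>
    rw [pow_succ, Units.val_mul, hst_mul hF, mul_assoc, ← mul_assoc (hst q ((x ^ k : GL (Fin n) F) : Matrix (Fin n) (Fin n) F)),
      ih, Matrix.smul_mul, one_mul, Matrix.mul_smul, h, smul_smul, pow_succ]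

/-- The symplectic-type data inside the similarities give a member of the sixth class or of the
fifth. -/
theorem sympData_cases (hF : Fintype.card F = q ^ 2) (hn : 2 ≤ n)
    {H H' N R : Subgroup (GL (Fin n) F)} {r m z : ℕ}
    (d : Aschbacher.SympData H' N r m z R) (hN : N ≤ similarityGroup (hermForm n F q))
    (hH : H ≤ H') :
    (Class6 n q r m R ∧ H ≤ subgroupNormalizer R) ∨ InClass5 q H := by
  classical
  haveI : NeZero n := ⟨by omega⟩
  haveI : Nonempty (Fin n) := ⟨⟨0, by omega⟩⟩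
  obtain ⟨p, a, hp, ha, hc, hq⟩ := exists_char_pow hF
  haveI : Fact p.Prime := ⟨hp⟩
  have hcardF : Fintype.card F = p ^ (2 * a) := by rw [hF, hq, ← pow_mul, mul_comm]
  have hrp : r ≠ p := fun h => d.char_ne (by rw [h]; exact CharP.cast_eq_zero F p)
  have hz : (Odd r ∧ z = r) ∨ (r = 2 ∧ z = 4) := by
    rcases d.zcase with h | ⟨h1, h2, -⟩ | ⟨h1, h2, hno⟩
    · exact Or.inl h
    · exact Or.inr ⟨h1, h2⟩
    · exfalso
      apply hno
      have hq2 : q % 2 = 1 := by
        have hp2 : p ≠ 2 := fun h => hrp (by rw [h1, h])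
        rw [hq, Nat.pow_mod, (Nat.Prime.mod_two_eq_one_iff_ne_two hp).mpr hp2, one_pow, Nat.one_mod]
      obtain ⟨i, hi⟩ : IsSquare (-1 : F) := by
        rw [FiniteField.isSquare_neg_one_iff, hF]
        obtain ⟨j, rfl⟩ : ∃ j, q = 2 * j + 1 := ⟨q / 2, by omega⟩
        have : (2 * j + 1) ^ 2 = 4 * (j * j + j) + 1 := by ring
        omega
      exact ⟨i, by rw [sq]; exact hi.symm⟩
  have hexp : r * Nat.gcd 2 r = z := by
    rcases hz with ⟨h1, h2⟩ | ⟨h1, h2⟩
    · rw [h2, Nat.coprime_iff_gcd_eq_one.mp ((Nat.coprime_two_left).mpr h1), mul_one]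
    · subst h1 h2; rfl
  have hsim : R ≤ similarityGroup (hermForm n F q) := d.le.trans hN
  have hμ : ∀ x ∈ R, ∃ μ : F, μ ^ q = μ ∧ μ ^ z = 1 ∧
      hst q (x : Matrix (Fin n) (Fin n) F) * (x : Matrix (Fin n) (Fin n) F) = μ • 1 := by
    intro x hx
    obtain ⟨μ, -, hμq, hxμ⟩ := isSim_of_mem_similarity hF (hsim hx)
    refine ⟨μ, hμq, ?_, hxμ⟩
    have h1 : x ^ z = 1 := by
      have h2 := Monoid.pow_exponent_eq_one (⟨x, hx⟩ : R)
      rw [d.sympType.exponent_eq, hexp] at h2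
      exact congrArg Subtype.val h2
    have h3 := smul_one_pow x hF hxμ z
    rw [h1, Units.val_one, hst_one hF, one_mul] at h3
    refine (smul_left_injective F (one_ne_zero (α := Matrix (Fin n) (Fin n) F)) ?_).symm
    simpa using h3
  have hzf : z ∣ p ^ (2 * a) - 1 := by
    have := d.z_dvd; rwa [Nat.card_eq_fintype_card, hcardF] at this
  have hex : ∃ e, 0 < e ∧ z ∣ p ^ e - 1 := ⟨2 * a, by omega, hzf⟩
  set e := Nat.find hex with he
  obtain ⟨he0, hez⟩ := Nat.find_spec hex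
  rw [← he] at he0 hez
  have hef : e ∣ 2 * a := by
    have h1 : z ∣ p ^ Nat.gcd e (2 * a) - 1 := by
      rw [← Nat.pow_sub_one_gcd_pow_sub_one]; exact Nat.dvd_gcd hez hzf
    have h2 := Nat.find_le (h := hex)
      (show 0 < Nat.gcd e (2 * a) ∧ _ from ⟨Nat.gcd_pos_of_pos_left _ he0, h1⟩)
    rw [← he] at h2
    have h3 : Nat.gcd e (2 * a) ≤ e := Nat.le_of_dvd he0 (Nat.gcd_dvd_left _ _)
    have h4 : e = Nat.gcd e (2 * a) := le_antisymm h2 h3
    rw [h4]; exact Nat.gcd_dvd_right _ _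
  have hRn : ∀ h ∈ H, ∀ x ∈ R, h * x * h⁻¹ ∈ R := fun h hh => d.normal h (hH hh)
  by_cases hlt : e ≠ 2 * a
  · right
    let F₀ : Subfield F := Aschbacher.frobFixed p e
    have hne : F₀ ≠ ⊤ := by
      intro h
      have : Nat.card F₀ = Fintype.card F := by
        rw [h, ← Nat.card_eq_fintype_card]
        exact Nat.card_congr Subfield.topEquiv.toEquiv
      rw [Aschbacher.card_frobFixed hcardF hef he0, hcardF] at this
      exact hlt (Nat.pow_right_injective hp.two_le this)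
    have hroot : ∀ c : F, c ^ z = 1 → c ∈ F₀ := fun c hc => by
      show c ^ p ^ e = c
      obtain ⟨t, ht⟩ := hez
      have h1 : p ^ e = (p ^ e - 1) + 1 := by
        have := Nat.one_le_pow e p hp.pos; omega
      rw [h1, pow_succ, ht, pow_mul, hc, one_pow, one_mul]
    refine class5_of_realisable hF hn d.absIrred hRn F₀ hne (d.realisable F₀ fun c hc => hroot _ (by
      rw [← Units.val_pow_eq_pow_val, hc, Units.val_one])) fun x hx => ?_
    obtain ⟨μ, h1, h2, h3⟩ := hμ x hx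
    exact ⟨μ, hroot μ h2, h1, h3⟩
  push Not at hlt
  left
  have hfield : IsMinimalFieldFor z p e F := ⟨hp, hc, by rw [hlt]; exact hcardF, hez,
    fun d' hd' hde hdvd => by
      have := Nat.find_le (h := hex) (show 0 < d' ∧ _ from ⟨hd', hdvd⟩)
      omega⟩
  refine ⟨⟨d.sympType, d.absIrred, hsim, d.pos, by simpa using d.card_eq, p, e, hrp,
    by rw [d.card_center]; exact hfield, ?_⟩, fun h hh => d.normalizer_le (hH hh)⟩
  rcases hz with ⟨hr, hz⟩ | ⟨hr, hz⟩
  · exact Or.inl ⟨hr, by rw [d.card_center, hz], d.pos, by rw [d.card_R, hz, pow_add, pow_one]⟩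
  · refine Or.inr ⟨hr, ?_, by rw [d.card_center, hz], by rw [d.card_R, hz, hr, pow_add]; norm_num⟩
    by_contra hne
    have hp2 : p % 2 = 1 :=
      (Nat.Prime.mod_two_eq_one_iff_ne_two hp).mpr fun h2 => hrp (by rw [hr, h2])
    have h4 : z ∣ p ^ 2 - 1 := by
      rw [hz]
      obtain ⟨j, rfl⟩ : ∃ j, p = 2 * j + 1 := ⟨p / 2, by omega⟩
      exact ⟨j * j + j, by
        have : (2 * j + 1) ^ 2 = 4 * (j * j + j) + 1 := by ring
        omega⟩
    have h5 := Nat.find_le (h := hex) (show 0 < 2 ∧ _ from ⟨two_pos, h4⟩)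
    omega

end Cfsg.Agent.Unitary.Asch
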