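/-
The unitary group of dimension three over the field with four elements normalises a Heisenberg
group, so the tensor square of that space gives the normaliser of a group of symplectic type.
-/
import Cfsg.Agent.Unitary.AschHeisPair
import Cfsg.Agent.Unitary.AschSymp
import Cfsg.Agent.Aschbacher.Proper

set_option autoImplicit false
set_option maxHeartbeats 1000000
set_option linter.unusedSectionVars false
set_option linter.style.haveILetI false

namespace Cfsg.Agent.Unitary.Asch.Heis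

open scoped MatrixGroups Matrix Kronecker
open Cfsg Cfsg.Geo Cfsg.Agent.Unitary Cfsg.Agent.Unitary.Asch Matrix

variable {F : Type*} [Field F] [Fintype F]

lemma pow_three_of_ne (hF : Fintype.card F = 2 ^ 2) {x : F} (hx : x ≠ 0) : x ^ 3 = 1 := by
  have h := FiniteField.pow_card_sub_one_eq_one x hx
  rwa [hF] at h

lemma two_zero (hF : Fintype.card F = 2 ^ 2) : (2 : F) = 0 := by
  have h := FiniteField.cast_card_eq_zero F
  rw [hF, Nat.cast_pow] at h
  exact_mod_cast eq_zero_of_pow_eq_zero h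

lemma sum3 {M : Type*} [AddCommMonoid M] (f : ZMod 3 → M) : ∑ i, f i = f 0 + f 1 + f 2 := by
  rw [show (Finset.univ : Finset (ZMod 3)) = {0, 1, 2} by decide]
  rw [Finset.sum_insert (by decide), Finset.sum_insert (by decide), Finset.sum_singleton, add_assoc]

lemma sq_eq_of_ne (hF : Fintype.card F = 2 ^ 2) {x : F} (hx : x ≠ 0) : x ^ 2 * x = 1 := by
  rw [← pow_succ]; exact pow_three_of_ne hF hx

lemma norm_mono_or_full (hF : Fintype.card F = 2 ^ 2) (v : ZMod 3 → F)
    (h : ∑ i, v i ^ 2 * v i = 1) :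
    (∃ i, ∀ i', i' ≠ i → v i' = 0) ∨ ∀ i, v i ≠ 0 := by
  rw [sum3] at h
  have h2 : (1 : F) + 1 = 0 := by rw [one_add_one_eq_two]; exact two_zero hF
  by_cases h0 : v 0 = 0 <;> by_cases h1 : v 1 = 0 <;> by_cases h2' : v 2 = 0
  all_goals first
    | (refine Or.inl ⟨0, fun i' hi => ?_⟩
       rcases (by revert hi; revert i'; decide : i' = 1 ∨ i' = 2) with rfl | rfl <;> assumption)
    | (refine Or.inl ⟨1, fun i' hi => ?_⟩
       rcases (by revert hi; revert i'; decide : i' = 0 ∨ i' = 2) with rfl | rfl <;> assumption)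
    | (refine Or.inl ⟨2, fun i' hi => ?_⟩
       rcases (by revert hi; revert i'; decide : i' = 0 ∨ i' = 1) with rfl | rfl <;> assumption)
    | (refine Or.inr fun i => ?_
       rcases (by revert i; decide : ∀ i : ZMod 3, i = 0 ∨ i = 1 ∨ i = 2) i with rfl | rfl | rfl <;>
         assumption)
    | (exfalso
       simp_all [sq_eq_of_ne hF])

variable (ψ : AddChar (ZMod 3) F)

lemma exists_char_eq (hF : Fintype.card F = 2 ^ 2) (hψ : Function.Injective ψ) {x : F} (hx : x ≠ 0) :
    ∃ b, ψ b = x := by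
  classical
  let f : ZMod 3 → {y : F // y ≠ 0} := fun b => ⟨ψ b, (AddChar.val_isUnit ψ b).ne_zero⟩
  have hf : Function.Bijective f := by
    refine (Fintype.bijective_iff_injective_and_card f).2
      ⟨fun a b h => hψ (congrArg Subtype.val h), ?_⟩
    rw [ZMod.card, Fintype.card_subtype_compl, Fintype.card_subtype_eq, hF]
    norm_num
  obtain ⟨b, hb⟩ := hf.2 ⟨x, hx⟩
  exact ⟨b, congrArg Subtype.val hb⟩

lemma diag_mem_normalizer (hF : Fintype.card F = 2 ^ 2) (hψ : Function.Injective ψ)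
    (d : ZMod 3 → Fˣ) : diagGL d ∈ subgroupNormalizer (heis ψ) := by
  obtain ⟨b, hb⟩ := exists_char_eq ψ hF hψ
    (x := (d 2 : F) * d 0 / ((d 1 : F) * d 1)) (by simp)
  refine mem_normalizer_heis ψ ⟨1, b, d 1 / d 0, Units.ext (diag_conj ?_)⟩
    ⟨0, 1, 1, Units.ext (diag_conj ?_)⟩
  · show Matrix.diagonal (fun s => (d s : F)) * mon ψ 1 0 ((1 : Fˣ) : F) =
      mon ψ 1 b ((d 1 / d 0 : Fˣ) : F) * Matrix.diagonal (fun s => (d s : F))
    ext s' s
    simp only [Matrix.diagonal_mul, Matrix.mul_diagonal, mon, Matrix.of_apply]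
    split_ifs with h
    swap
    · simp
    subst h
    simp only [Units.val_one, one_mul, zero_mul, AddChar.map_zero_eq_one, mul_one,
      Units.val_div_eq_div_val]
    have hd := fun i => (d i).ne_zero
    rcases (by revert s; decide : ∀ s : ZMod 3, s = 0 ∨ s = 1 ∨ s = 2) s with rfl | rfl | rfl
    · rw [zero_add, mul_zero, AddChar.map_zero_eq_one]; field_simp
    · rw [mul_one, hb, show (1 + 1 : ZMod 3) = 2 by decide]; field_simp
    · rw [show (2 + 1 : ZMod 3) = 0 by decide, show b * (2 : ZMod 3) = b + b by ring,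
        AddChar.map_add_eq_mul, hb]
      have h1 := pow_three_of_ne hF (hd 1)
      have h2 := pow_three_of_ne hF (hd 2)
      field_simp
      linear_combination h1 - h2
  · show Matrix.diagonal (fun s => (d s : F)) * mon ψ 0 1 ((1 : Fˣ) : F) =
      mon ψ 0 1 ((1 : Fˣ) : F) * Matrix.diagonal (fun s => (d s : F))
    ext s' s
    simp only [Matrix.diagonal_mul, Matrix.mul_diagonal, mon, Matrix.of_apply, add_zero]
    split_ifs with h
    · subst h; ring
    · simp

/-- A permutation matrix. -/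
def permGL (π : Equiv.Perm (ZMod 3)) : GL (ZMod 3) F where
  val := Matrix.of fun s' s => if s' = π s then 1 else 0
  inv := Matrix.of fun s' s => if s' = π.symm s then 1 else 0
  val_inv := by ext i j; simp [Matrix.mul_apply, Matrix.one_apply]
  inv_val := by ext i j; simp [Matrix.mul_apply, Matrix.one_apply]

lemma perm_mem_normalizer (π : Equiv.Perm (ZMod 3)) :
    permGL π ∈ subgroupNormalizer (heis ψ) := by
  have hadd : ∀ π : Equiv.Perm (ZMod 3), ∃ a, ∀ s, π (s + 1) = π s + a := by decide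
  have haff : ∀ π : Equiv.Perm (ZMod 3), ∃ a b, ∀ s, π.symm s = a * s + b := by decide
  obtain ⟨a, ha⟩ := hadd π
  obtain ⟨a', b', hb⟩ := haff π
  have hu : ψ b' ≠ 0 := (AddChar.val_isUnit ψ _).ne_zero
  refine mem_normalizer_heis ψ ⟨a, 0, 1, Units.ext (diag_conj ?_)⟩
    ⟨0, a', Units.mk0 _ hu, Units.ext (diag_conj ?_)⟩
  · ext s' s
    simp [permGL, monGL_val, mon, Matrix.mul_apply, ha]
  · ext s' s
    simp only [permGL, monGL_val, mon, Matrix.mul_apply, Matrix.of_apply, Units.val_one, one_mul,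
      add_zero, Units.val_mk0, ite_mul, mul_ite, mul_one, mul_zero, zero_mul]
    rw [Finset.sum_ite_eq' Finset.univ s, Finset.sum_ite_eq' Finset.univ (π s)]
    simp only [Finset.mem_univ, if_true]
    split_ifs with h
    · rw [mul_comm, ← AddChar.map_add_eq_mul, ← hb, Equiv.symm_apply_apply]
    · rfl

lemma fourier_mem_normalizer {g : GL (ZMod 3) F}
    (hg : (g : Matrix (ZMod 3) (ZMod 3) F) = fourier ψ) :
    g ∈ subgroupNormalizer (heis ψ) := by
  have key : ∀ a b, ∃ a' b' c', g * monGL ψ a b 1 * g⁻¹ = monGL ψ a' b' c' := by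
    intro a b
    have hu : ψ (-(a * b)) ≠ 0 := (AddChar.val_isUnit ψ _).ne_zero
    refine ⟨-b, a, Units.mk0 _ hu, Units.ext (diag_conj ?_)⟩
    rw [hg, monGL_val, fourier_mul_mon, pow_one, Units.val_one, one_mul]
    rfl
  exact mem_normalizer_heis ψ (key 1 0) (key 0 1)

lemma hst_mul_entry {q : ℕ} (A B : Matrix (ZMod 3) (ZMod 3) F) (i j : ZMod 3) :
    (hst q A * B) i j = ∑ k, A k i ^ q * B k j := by
  simp [Matrix.mul_apply, hst_apply]

lemma mono_mem_normalizer (hF : Fintype.card F = 2 ^ 2) (hψ : Function.Injective ψ)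
    {A : GL (ZMod 3) F}
    (hA : hst 2 (A : Matrix (ZMod 3) (ZMod 3) F) * (A : Matrix (ZMod 3) (ZMod 3) F) = 1)
    {j₀ i₀ : ZMod 3} (h0 : ∀ i', i' ≠ i₀ → (A : Matrix (ZMod 3) (ZMod 3) F) i' j₀ = 0) :
    A ∈ subgroupNormalizer (heis ψ) := by
  classical
  have hnorm : ∀ j, ∑ k, (A : Matrix (ZMod 3) (ZMod 3) F) k j ^ 2 *
      (A : Matrix (ZMod 3) (ZMod 3) F) k j = 1 := fun j => by
    have := congrFun (congrFun hA j) j
    rwa [hst_mul_entry, Matrix.one_apply_eq] at this
  have horth : ∀ j j', j ≠ j' → ∑ k, (A : Matrix (ZMod 3) (ZMod 3) F) k j ^ 2 *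
      (A : Matrix (ZMod 3) (ZMod 3) F) k j' = 0 := fun j j' h => by
    have := congrFun (congrFun hA j) j'
    rwa [hst_mul_entry, Matrix.one_apply_ne h] at this
  have hmono : ∀ j, ∃ i, ∀ i', i' ≠ i → (A : Matrix (ZMod 3) (ZMod 3) F) i' j = 0 := by
    intro j
    by_cases hj : j = j₀
    · exact hj ▸ ⟨i₀, h0⟩
    refine (norm_mono_or_full hF _ (hnorm j)).resolve_right fun hfull => ?_
    have hne : (A : Matrix (ZMod 3) (ZMod 3) F) i₀ j₀ ≠ 0 := by
      intro hz
      have := hnorm j₀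
      rw [Finset.sum_eq_single i₀ (fun k _ hk => by rw [h0 k hk, mul_zero]) (by simp), hz,
        mul_zero] at this
      exact zero_ne_one this
    have := horth j₀ j (Ne.symm hj)
    rw [Finset.sum_eq_single i₀ (fun k _ hk => by
      rw [h0 k hk, zero_pow two_ne_zero, zero_mul]) (by simp)] at this
    exact (mul_ne_zero (pow_ne_zero _ hne) (hfull i₀)) this
  choose p hp using hmono
  have hne : ∀ j, (A : Matrix (ZMod 3) (ZMod 3) F) (p j) j ≠ 0 := by
    intro j hz
    have := hnorm j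
    rw [Finset.sum_eq_single (p j) (fun k _ hk => by rw [hp j k hk, mul_zero]) (by simp), hz,
      mul_zero] at this
    exact zero_ne_one this
  have hinj : Function.Injective p := by
    intro j j' h
    by_contra hjj
    have := horth j j' hjj
    rw [Finset.sum_eq_single (p j) (fun k _ hk => by
      rw [hp j k hk, zero_pow two_ne_zero, zero_mul]) (by simp)] at this
    exact mul_ne_zero (pow_ne_zero _ (hne j)) (h ▸ hne j') this
  let π : Equiv.Perm (ZMod 3) := Equiv.ofBijective p hinj.bijective_of_finite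
  have e : A = permGL π * diagGL (fun j => Units.mk0 _ (hne j)) := by
    refine Units.ext ?_
    ext i j
    rw [Units.val_mul]
    show _ = (((permGL π : GL (ZMod 3) F) : Matrix (ZMod 3) (ZMod 3) F) *
      Matrix.diagonal fun s => (A : Matrix (ZMod 3) (ZMod 3) F) (p s) s) i j
    rw [Matrix.mul_diagonal]
    by_cases h : i = p j
    · subst h; simp [permGL, π]
    · rw [hp j i h]; simp [permGL, π, h]
  rw [e]
  exact Subgroup.mul_mem _ (perm_mem_normalizer ψ π) (diag_mem_normalizer ψ hF hψ _)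

/-- The unitary group normalises the Heisenberg group. -/
theorem unitary_mem_normalizer (hF : Fintype.card F = 2 ^ 2) (hψ : Function.Injective ψ)
    (hsum : ∀ s, ∑ b, ψ (b * s) = if s = 0 then 1 else 0) {A : GL (ZMod 3) F}
    (hA : hst 2 (A : Matrix (ZMod 3) (ZMod 3) F) * (A : Matrix (ZMod 3) (ZMod 3) F) = 1) :
    A ∈ subgroupNormalizer (heis ψ) := by
  classical
  have hn := congrFun (congrFun hA 0) 0
  rw [hst_mul_entry, Matrix.one_apply_eq] at hn
  rcases norm_mono_or_full hF _ hn with ⟨i₀, h0⟩ | hfull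
  · exact mono_mem_normalizer ψ hF hψ hA h0
  let D : GL (ZMod 3) F := diagGL fun i => Units.mk0 _ (hfull i)
  have hFF : hst 2 (fourier ψ) * fourier ψ = 1 := by
    ext i j
    rw [hst_mul_entry, Matrix.one_apply]
    have : ∀ k : ZMod 3, fourier ψ k i ^ 2 * fourier ψ k j = ψ (k * (j - i)) := by
      intro k
      show ψ (k * i) ^ 2 * ψ (k * j) = _
      rw [← AddChar.map_nsmul_eq_pow, ← AddChar.map_add_eq_mul]
      congr 1
      rw [nsmul_eq_mul, show ((2 : ℕ) : ZMod 3) = -1 by decide]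
      ring
    simp only [this, hsum, sub_eq_zero, eq_comm (a := j) (b := i)]
  let Fo : GL (ZMod 3) F := (IsUnit.of_mul_eq_one_right _ hFF).unit
  have hFo : (Fo : Matrix (ZMod 3) (ZMod 3) F) = fourier ψ :=
    (IsUnit.of_mul_eq_one_right _ hFF).unit_spec
  have hDF : hst 2 ((D * Fo : GL (ZMod 3) F) : Matrix (ZMod 3) (ZMod 3) F) *
      ((D * Fo : GL (ZMod 3) F) : Matrix (ZMod 3) (ZMod 3) F) = 1 := by
    have hD : hst 2 (D : Matrix (ZMod 3) (ZMod 3) F) * (D : Matrix (ZMod 3) (ZMod 3) F) = 1 := by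
      show hst 2 (Matrix.diagonal _) * Matrix.diagonal _ = 1
      rw [show hst 2 (Matrix.diagonal fun s => ((Units.mk0 _ (hfull s) : Fˣ) : F)) =
        Matrix.diagonal fun s => ((Units.mk0 _ (hfull s) : Fˣ) : F) ^ 2 from by
        ext a b; simp only [hst_apply, Matrix.diagonal_apply]
        split_ifs with h1 h2 h2
        · subst h1; rfl
        · exact absurd h1.symm h2
        · exact absurd h2.symm h1
        · simp, Matrix.diagonal_mul_diagonal, ← Matrix.diagonal_one]
      congr 1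
      funext s
      exact sq_eq_of_ne hF (hfull s)
    rw [Units.val_mul, hst_mul hF, mul_assoc, ← mul_assoc (hst 2 (D : Matrix (ZMod 3) (ZMod 3) F)),
      hD, one_mul, hFo, hFF]
  set B := (D * Fo)⁻¹ * A with hB
  have hBU : hst 2 (B : Matrix (ZMod 3) (ZMod 3) F) * (B : Matrix (ZMod 3) (ZMod 3) F) = 1 := by
    have h1 : hst 2 ((D * Fo : GL (ZMod 3) F) : Matrix (ZMod 3) (ZMod 3) F) =
        (((D * Fo)⁻¹ : GL (ZMod 3) F) : Matrix (ZMod 3) (ZMod 3) F) := by
      rw [← mul_one (hst 2 _), ← Units.val_one, ← mul_inv_cancel (D * Fo), Units.val_mul _ (D * Fo)⁻¹,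
        ← mul_assoc, hDF, one_mul]
    rw [hB, Units.val_mul, hst_mul hF, ← h1, hst_hst hF, mul_assoc,
      ← mul_assoc ((D * Fo : GL (ZMod 3) F) : Matrix (ZMod 3) (ZMod 3) F), h1, ← Units.val_mul,
      mul_inv_cancel, Units.val_one, one_mul, hA]
  have hcol : ∀ k, (A : Matrix (ZMod 3) (ZMod 3) F) k 0 =
      ((D * Fo : GL (ZMod 3) F) : Matrix (ZMod 3) (ZMod 3) F) k 0 := by
    intro k
    rw [Units.val_mul, hFo]
    show _ = ((Matrix.diagonal fun s => (A : Matrix (ZMod 3) (ZMod 3) F) s 0) * fourier ψ) k 0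
    rw [Matrix.diagonal_mul]
    simp [fourier]
  have hB0 : ∀ i', i' ≠ 0 → (B : Matrix (ZMod 3) (ZMod 3) F) i' 0 = 0 := by
    intro i' hi'
    rw [hB, Units.val_mul, Matrix.mul_apply]
    simp only [hcol]
    rw [← Matrix.mul_apply, ← Units.val_mul, inv_mul_cancel, Units.val_one, Matrix.one_apply_ne hi']
  have hBn := mono_mem_normalizer ψ hF hψ hBU hB0
  have : A = D * Fo * B := by rw [hB, mul_inv_cancel_left]
  rw [this]
  exact Subgroup.mul_mem _ (Subgroup.mul_mem _ (diag_mem_normalizer ψ hF hψ _)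
    (fourier_mem_normalizer ψ hFo)) hBn

lemma three_cases : ∀ s : ZMod 3, s = 0 ∨ s = 1 ∨ s = 2 := by decide

lemma sub_cases : ∀ a b : ZMod 3, a ≠ b → a - b = 1 ∨ a - b = 2 := by decide

lemma three_facts : (1 : ZMod 3) + 1 = 2 ∧ (2 : ZMod 3) + 1 = 0 ∧ ¬((1 : ZMod 3) = 2) ∧
    ¬((0 : ZMod 3) = 2) := by decide

lemma perm_two_cases : ∀ σ : Equiv.Perm (Fin 2), σ = 1 ∨ σ = Equiv.swap 0 1 := by decide

lemma exists_primitive_char (hF : Fintype.card F = 2 ^ 2) :
    ∃ ψ : AddChar (ZMod 3) F, Function.Injective ψ ∧ ψ.IsPrimitive ∧ ψ 0 + ψ 1 + ψ 2 = 0 := by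
  classical
  obtain ⟨ω, hω0, hω1⟩ : ∃ ω : F, ω ≠ 0 ∧ ω ≠ 1 := by
    by_contra hall
    push Not at hall
    have hle : Fintype.card F ≤ ({0, 1} : Finset F).card := by
      rw [← Finset.card_univ]
      refine Finset.card_le_card fun x _ => ?_
      by_cases hx : x = 0
      · simp [hx]
      · simp [hall x hx]
    rw [hF] at hle
    have := Finset.card_le_two (a := (0 : F)) (b := 1)
    omega
  have h3 := pow_three_of_ne hF hω0
  let ψ : AddChar (ZMod 3) F := AddChar.zmodChar 3 h3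
  have h1 : ψ 1 = ω := by
    rw [AddChar.zmodChar_apply, show (1 : ZMod 3).val = 1 from rfl, pow_one]
  have h2 : ψ 2 = ω ^ 2 := by rw [AddChar.zmodChar_apply, show (2 : ZMod 3).val = 2 from rfl]
  have hω2 : ω ^ 2 ≠ 1 := fun h => hω1 (by rw [← h3, pow_succ, h, one_mul])
  refine ⟨ψ, fun a b h => ?_, AddChar.IsPrimitive.of_ne_one fun h => hω1 ?_, ?_⟩
  · by_contra hab
    have hk : ψ (a - b) = 1 := by
      rw [AddChar.map_sub_eq_div, h, div_self (AddChar.val_isUnit ψ b).ne_zero]
    rcases sub_cases a b hab with e | e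
    · rw [e, h1] at hk; exact hω1 hk
    · rw [e, h2] at hk; exact hω2 hk
  · rw [← h1, h, AddChar.one_apply]
  · rw [AddChar.map_zero_eq_one, h1, h2]
    have hne : ω - 1 ≠ 0 := sub_ne_zero.mpr hω1
    have : (ω - 1) * (1 + ω + ω ^ 2) = 0 := by linear_combination h3
    exact (mul_eq_zero.mp this).resolve_left hne

lemma sum_char_three (hF : Fintype.card F = 2 ^ 2) (hsum : ψ 0 + ψ 1 + ψ 2 = 0) (s : ZMod 3) :
    ∑ b, ψ (b * s) = if s = 0 then 1 else 0 := by
  rw [sum3]
  rcases (by revert s; decide : ∀ s : ZMod 3, s = 0 ∨ s = 1 ∨ s = 2) s with rfl | rfl | rfl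
  · simp only [mul_zero, AddChar.map_zero_eq_one, if_true]
    linear_combination two_zero hF
  · rw [if_neg (by decide)]; simpa using hsum
  · rw [if_neg (by decide), show (0 : ZMod 3) * 2 = 0 by decide, show (1 : ZMod 3) * 2 = 2 by decide,
      show (2 : ZMod 3) * 2 = 1 by decide]
    linear_combination hsum

end Cfsg.Agent.Unitary.Asch.Heis

namespace Cfsg.Agent.Unitary.Asch

open scoped MatrixGroups Matrix Kronecker
open Cfsg Cfsg.Geo Cfsg.Agent.Unitary Cfsg.Agent.Unitary.Asch.Heis Matrix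

variable {F : Type*} [Field F] [Fintype F]

/-- The tensor square of the three-dimensional unitary space over the field with four elements
belongs to the sixth class. -/
theorem nine_two (hF : Fintype.card F = 2 ^ 2) {n : ℕ} {H : Subgroup (GL (Fin n) F)}
    (hH : H ≤ GU n F 2) (e : Fin n ≃ (Fin 2 → Fin 3)) {P : GL (Fin n) F} (hP : P ∈ GU n F 2)
    (hle : H ≤ tensorWreathSubgroup 3 2 e P) :
    (∃ r k R, Class6 n 2 r k R ∧ H ≤ subgroupNormalizer R) ∨ InClass5 2 H := by
  classical
  haveI : Fact (Nat.Prime 3) := ⟨Nat.prime_three⟩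
  haveI : Finite (GL (Fin n) F) := inferInstance
  have hn9 : n = 9 := by
    have := Fintype.card_congr e
    simpa using this
  haveI : NeZero n := ⟨by omega⟩
  haveI : Nonempty (Fin n) := ⟨⟨0, by omega⟩⟩
  obtain ⟨ψ, hinj, hprim, hs⟩ := exists_primitive_char hF
  have hr : ((3 : ℕ) : F) ≠ 0 := by
    have h2 := two_zero hF
    intro h
    push_cast at h
    exact one_ne_zero (α := F) (by linear_combination h - h2)
  let e' : Fin n ≃ ZMod 3 × ZMod 3 := e.trans (finTwoArrowEquiv (Fin 3))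
  have hunit : ∀ x, ψ x * ψ x ^ 2 = 1 := fun x => by
    rw [← pow_succ']; exact pow_three_of_ne hF (AddChar.val_isUnit ψ x).ne_zero
  let d : ZMod 3 → Fˣ := fun s =>
    if s = 2 then Units.mk0 _ (AddChar.val_isUnit ψ 1).ne_zero else 1
  have hd : ∀ s, (d (s + 1) : F) = ((1 : Fˣ) : F) * ψ s * d s := by
    intro s
    rw [Units.val_one, one_mul]
    obtain ⟨h11, h21, h12, h02⟩ := three_facts
    rcases three_cases s with rfl | rfl | rfl
    · simp [d, h12, h02]
    · simp [d, h11, h12]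
    · simp [d, h21, h02, ← AddChar.map_add_eq_mul]
  obtain ⟨r', m, z, R, hdata⟩ := pair_sympData ψ e' P (by omega) hprim hr d 1 hd
  suffices hHN : H ≤ subgroupNormalizer (pairN ψ e' P) by
    rcases sympData_cases hF (by omega) hdata (pairN_similarity ψ e' P hF hunit hP) hHN with h | h
    · exact Or.inl ⟨r', m, R, h⟩
    · exact Or.inr h
  intro g hg
  obtain ⟨_, ⟨k, hk, rfl⟩, rfl⟩ := hle hg
  obtain ⟨X, σ, hX⟩ := Aschbacher.exists_pure_perm hk
  -- k is unitary
  have hkU : hst 2 (k : Matrix (Fin 2 → Fin 3) (Fin 2 → Fin 3) F) *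
      (k : Matrix (Fin 2 → Fin 3) (Fin 2 → Fin 3) F) = 1 := by
    have h1 : P * glReindex e.symm k * P⁻¹ ∈ GU n F 2 := hH hg
    have h2 : glReindex e.symm k ∈ GU n F 2 := by
      have := (GU n F 2).mul_mem ((GU n F 2).mul_mem ((GU n F 2).inv_mem hP) h1) hP
      simpa [mul_assoc] using this
    have h3 := (mem_GU_iff_hst hF).mp h2
    change hst 2 (Matrix.reindex e.symm e.symm (k : Matrix (Fin 2 → Fin 3) (Fin 2 → Fin 3) F)) *
      Matrix.reindex e.symm e.symm (k : Matrix (Fin 2 → Fin 3) (Fin 2 → Fin 3) F) = 1 at h3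
    rw [hst_reindex] at h3
    apply (Matrix.reindexAlgEquiv F F e.symm).injective
    rw [map_mul, map_one]
    exact h3
  have hsig : Aschbacher.factorPerm σ * hst 2 (Aschbacher.factorPerm σ :
      Matrix (Fin 2 → Fin 3) (Fin 2 → Fin 3) F) = 1 := by
    ext x y
    simp [Matrix.mul_apply, hst_apply, Aschbacher.factorPerm, Matrix.one_apply]
    refine if_congr ⟨fun h => funext fun i => ?_, fun h => by rw [h]⟩ rfl rfl
    simpa using (congrFun h (σ.symm i)).symm
  have hpure : Aschbacher.pureMat X * hst 2 (Aschbacher.pureMat X) = 1 := by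
    have h := mul_eq_one_comm.mp hkU
    rw [hX, hst_mul hF, mul_assoc, ← mul_assoc (Aschbacher.factorPerm σ), hsig, one_mul] at h
    exact h
  have hY : ∀ a b c d' : Fin 3, (hst 2 (X 0) * X 0) a b * (hst 2 (X 1) * X 1) c d' =
      (1 : Matrix (Fin 3) (Fin 3) F) a b * (1 : Matrix (Fin 3) (Fin 3) F) c d' := by
    intro a b c d'
    have h := congrFun (congrFun (mul_eq_one_comm.mp hpure : hst 2 (Aschbacher.pureMat X) *
      Aschbacher.pureMat X = 1) ![a, c]) ![b, d']
    rw [hst_pureMat hF, Aschbacher.pureMat_mul] at h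
    simp only [Aschbacher.pureMat, Matrix.of_apply, Fin.prod_univ_two, Matrix.cons_val_zero,
      Matrix.cons_val_one] at h
    rw [h]
    simp [Matrix.one_apply]
    split_ifs with h1 h2 h3 <;> simp_all
  have hc1 : ∀ j j' : Fin 2, (j, j') = (0, 1) ∨ (j, j') = (1, 0) → hst 2 (X j) * X j = 1 := by
    intro j j' hjj
    have hsym : ∀ a b c d' : Fin 3, (hst 2 (X j) * X j) a b * (hst 2 (X j') * X j') c d' =
        (1 : Matrix (Fin 3) (Fin 3) F) a b * (1 : Matrix (Fin 3) (Fin 3) F) c d' := by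
      intro a b c d'
      rcases hjj with h | h <;> cases h
      · exact hY a b c d'
      · rw [mul_comm, hY c d' a b, mul_comm]
    have h00 := hsym 0 0 0 0
    simp only [Matrix.one_apply_eq, mul_one] at h00
    set c := (hst 2 (X j) * X j) 0 0 with hc
    have hc0 : c ≠ 0 := left_ne_zero_of_mul (h00.trans_ne one_ne_zero)
    have hcq : c ^ 2 = c := by
      have := congrFun (congrFun (show hst 2 (hst 2 (X j) * X j) = hst 2 (X j) * X j by
        rw [hst_mul hF, hst_hst hF]) 0) 0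
      rwa [hst_apply] at this
    have hc1 : c = 1 := mul_left_cancel₀ hc0 (by rw [mul_one, ← sq, hcq])
    rw [hc1, one_mul] at h00
    ext a b
    have := hsym a b 0 0
    rwa [h00, Matrix.one_apply_eq, mul_one, mul_one] at this
  let A : GL (ZMod 3) F := (IsUnit.of_mul_eq_one_right _ (hc1 0 1 (Or.inl rfl))).unit
  let B : GL (ZMod 3) F := (IsUnit.of_mul_eq_one_right _ (hc1 1 0 (Or.inr rfl))).unit
  have hsum := sum_char_three ψ hF hs
  have hA : A ∈ subgroupNormalizer (heis ψ) :=
    unitary_mem_normalizer ψ hF hinj hsum (hc1 0 1 (Or.inl rfl))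
  have hB : B ∈ subgroupNormalizer (heis ψ) :=
    unitary_mem_normalizer ψ hF hinj hsum (hc1 1 0 (Or.inr rfl))
  have hswap : P * glReindex e'.symm (swapGL 3 F) * P⁻¹ ∈ subgroupNormalizer (pairN ψ e' P) := by
    refine mem_normalizer_of_conj ?_
    rintro _ ⟨x, hx, rfl⟩
    exact ⟨(x.2, x.1), ⟨hx.2, hx.1⟩, (swap_conj e' P x).symm⟩
  obtain ⟨w, hw, hwval⟩ : ∃ w ∈ subgroupNormalizer (pairN ψ e' P),
      (w : Matrix (Fin n) (Fin n) F) = Aschbacher.cj P
        (Matrix.reindexAlgEquiv F F e.symm (Aschbacher.factorPerm σ)) := by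
    rcases perm_two_cases σ with rfl | rfl
    · exact ⟨1, one_mem _, by rw [Aschbacher.factorPerm_one, map_one, map_one, Units.val_one]⟩
    · refine ⟨_, hswap, ?_⟩
      rw [Units.val_mul, Units.val_mul]
      show _ = Aschbacher.cj P _
      rw [Aschbacher.cj_apply]
      congr 2
      ext i j
      show (swapGL 3 F : Matrix (ZMod 3 × ZMod 3) (ZMod 3 × ZMod 3) F) (e' i) (e' j) =
        Aschbacher.factorPerm (Equiv.swap (0 : Fin 2) 1) (e i) (e j)
      simp only [swapGL, Matrix.submatrix_apply, Matrix.one_apply, Aschbacher.factorPerm,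
        Matrix.of_apply, id_eq, e', Equiv.trans_apply]
      refine if_congr ?_ rfl rfl
      rw [Prod.ext_iff]
      show (e i 0 = e j 1 ∧ e i 1 = e j 0) ↔ _
      simp only [funext_iff, Fin.forall_fin_two, Function.comp_apply, Equiv.swap_apply_left,
        Equiv.swap_apply_right]
      exact ⟨fun h => ⟨h.2.symm, h.1.symm⟩, fun h => ⟨h.2.symm, h.1.symm⟩⟩
  show P * glReindex e.symm k * P⁻¹ ∈ _
  have hgw : P * glReindex e.symm k * P⁻¹ = pairHom e' P (A, B) * w := by
    refine Units.ext ?_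
    rw [Units.val_mul _ w, pairHom_val, hwval, ← map_mul, Units.val_mul, Units.val_mul,
      Aschbacher.cj_apply]
    congr 2
    show Matrix.reindexAlgEquiv F F e.symm (k : Matrix (Fin 2 → Fin 3) (Fin 2 → Fin 3) F) = _
    rw [hX, map_mul]
    congr 1
    ext i j
    show Aschbacher.pureMat X (e i) (e j) = (A : Matrix (ZMod 3) (ZMod 3) F) (e' i).1 (e' j).1 *
      (B : Matrix (ZMod 3) (ZMod 3) F) (e' i).2 (e' j).2
    simp only [Aschbacher.pureMat, Matrix.of_apply, Fin.prod_univ_two]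
    rfl
  rw [hgw]
  exact Subgroup.mul_mem _ (pairHom_mem_normalizer ψ e' P hA hB) hw

end Cfsg.Agent.Unitary.Asch
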