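/-
The tensor-induced situation over the field with four elements and three-dimensional factors does
not occur: there is no perfect group of three-dimensional unitary matrices over that field.
-/
import Cfsg.Agent.Unitary.AschTensor
import Cfsg.Agent.Unitary.Center
import Cfsg.Agent.Unitary.Order72
import Cfsg.Agent.Aschbacher.Structure

set_option autoImplicit false
set_option maxHeartbeats 1000000
set_option linter.unusedSectionVars false

namespace Cfsg.Agent.Unitary.Asch

open scoped MatrixGroups Matrix
open Cfsg Cfsg.Geo Cfsg.Agent.Unitary Cfsg.Agent.Aschbacher Matrix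

variable {F : Type*} [Field F] [Fintype F]

theorem isSolvable_SU_three_two (hF : Fintype.card F = 2 ^ 2) : Group.IsSolvable (SU 3 F 2) := by
  have hc : Nat.card (PSU 3 F 2) = 72 := by
    have h1 := card_PSU hF (n := 3) (by norm_num)
    have h2 := card_GU_eq_mul_card_SU hF (n := 3) (by norm_num)
    rw [card_GU hF] at h2
    simp [Finset.prod_range_succ, guFactor, Nat.even_iff] at h2
    have hg : Nat.gcd 3 (2 + 1) = 3 := by norm_num
    rw [hg] at h1
    omega
  refine isSolvable_of_normal (Subgroup.center (SU 3 F 2)) ?_ (isSolvable_of_card_dvd_72 hc dvd_rfl)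
  exact Group.isSolvable_of_comm fun a b => Subtype.ext (Subgroup.mem_center_iff.1 b.2 a.1)

theorem isSolvable_GU_three_two (hF : Fintype.card F = 2 ^ 2) : Group.IsSolvable (GU 3 F 2) := by
  have h1 : Group.IsSolvable (detGU 3 F 2).ker := by
    let f : (detGU 3 F 2).ker →* SU 3 F 2 :=
      { toFun := fun g => toSU (M := ((g.1 : GL (Fin 3) F) : Matrix (Fin 3) (Fin 3) F))
          (fun x y => g.1.2 x y) (by
            have := congrArg Units.val g.2
            rwa [detGU_val, Units.val_one] at this)
        map_one' := by apply Subtype.ext; apply Subtype.ext; simp [toSU]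
        map_mul' := fun a b => by apply Subtype.ext; apply Subtype.ext; rfl }
    have := isSolvable_SU_three_two hF
    refine Group.isSolvable_of_isSolvable_injective (f := f) ?_
    intro a b h
    apply Subtype.ext; apply Subtype.ext; apply Units.ext
    exact congrArg (fun x : SU 3 F 2 =>
      ((x : Matrix.SpecialLinearGroup (Fin 3) F) : Matrix (Fin 3) (Fin 3) F)) h
  have := h1
  exact Group.isSolvable_of_ker_le_range (detGU 3 F 2).ker.subtype (detGU 3 F 2)
    (by rw [Subgroup.range_subtype])

variable {n q : ℕ}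

/-- An adjoint-closed full matrix algebra has an isomorphism compatible with the adjoints. -/
theorem exists_star_iso (hF : Fintype.card F = q ^ 2) [NeZero n] {m : ℕ} (hm : 0 < m)
    (A : Subalgebra F (Matrix (Fin n) (Fin n) F)) (f : Matrix (Fin m) (Fin m) F ≃ₐ[F] A)
    (hA : StarClosed q A) :
    ∃ g : Matrix (Fin m) (Fin m) F ≃ₐ[F] A, ∀ X,
      hst q (g X : Matrix (Fin n) (Fin n) F) = (g (hst q X) : Matrix (Fin n) (Fin n) F) := by
  haveI : Nonempty (Fin n) := ⟨⟨0, NeZero.pos n⟩⟩
  let τ : Matrix (Fin m) (Fin m) F → Matrix (Fin m) (Fin m) F := fun X =>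
    f.symm ⟨hst q (f X : Matrix (Fin n) (Fin n) F), hA _ (f X).2⟩
  have hval : ∀ X, (f (τ X) : Matrix (Fin n) (Fin n) F) = hst q (f X : Matrix (Fin n) (Fin n) F) :=
    fun X => by simp [τ]
  have hinj : ∀ X Y, (f X : Matrix (Fin n) (Fin n) F) = f Y → X = Y := fun X Y h =>
    f.injective (Subtype.ext h)
  obtain ⟨u, hu⟩ := exists_star_cj hF hm τ
    (fun X Y => hinj _ _ (by simp only [hval, map_mul, Subalgebra.coe_mul, hst_mul hF]))
    (fun X Y => hinj _ _ (by simp only [hval, map_add, Subalgebra.coe_add, hst_add hF]))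
    (fun c X => hinj _ _ (by simp only [hval, map_smul, Subalgebra.coe_smul, hst_smul]))
    (fun X => hinj _ _ (by simp only [hval, hst_hst hF]))
  exact ⟨(Aschbacher.cj u).trans f, fun X => by
    show hst q (f (Aschbacher.cj u X) : Matrix (Fin n) (Fin n) F) = _
    rw [← hval, hu]; rfl⟩

/-- Tensor induction over the field with four elements has no three-dimensional factors. -/
theorem tensorPower_two_three (hF : Fintype.card F = 2 ^ 2) [NeZero n]
    {H' : Subgroup (GL (Fin n) F)} (hsim : H' ≤ similarityGroup (hermForm n F 2))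
    {t : ℕ} {A : Fin t → Subalgebra F (Matrix (Fin n) (Fin n) F)}
    (hA : Aschbacher.TensorPowerData H' t 3 A) : False := by
  classical
  haveI : Nonempty (Fin n) := ⟨⟨0, NeZero.pos n⟩⟩
  have ht : 0 < t := by have := hA.two_le; omega
  let i : Fin t := ⟨0, ht⟩
  obtain ⟨S, hS, hAS⟩ := hA.env i
  obtain ⟨D, hDH, hDp, hDne, hDA⟩ := hA.perfect i
  have hstarA : StarClosed 2 (A i) := hAS ▸ env_starClosed hF (hS.trans hsim)
  obtain ⟨g, hg⟩ := exists_star_iso hF (by norm_num) (A i) (hA.iso i).some hstarA
  have hmem : ∀ x : D, ((x : GL (Fin n) F) : Matrix (Fin n) (Fin n) F) ∈ A i := fun x =>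
    hDA (val_mem_env x.2)
  let ρ₀ : D →* Matrix (Fin 3) (Fin 3) F :=
    { toFun := fun x => g.symm ⟨((x : GL (Fin n) F) : Matrix (Fin n) (Fin n) F), hmem x⟩
      map_one' := by
        rw [← map_one g.symm]
        congr 1
      map_mul' := fun x y => by
        rw [← map_mul]
        congr 1 }
  let ρ : D →* GL (Fin 3) F := ρ₀.toHomUnits
  have hρ : ∀ x : D, (g (ρ x : Matrix (Fin 3) (Fin 3) F) : Matrix (Fin n) (Fin n) F) =
      ((x : GL (Fin n) F) : Matrix (Fin n) (Fin n) F) := fun x => by
    show (g (g.symm _) : Matrix (Fin n) (Fin n) F) = _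
    rw [AlgEquiv.apply_symm_apply]
  have hGU : ∀ x : D, ρ x ∈ GU 3 F 2 := by
    intro x
    rw [mem_GU_iff_hst hF]
    obtain ⟨c, hc0, hcq, hc⟩ := isSim_of_mem_similarity hF (hsim (hDH x.2))
    have hc1 : c = 1 := by
      have h : c * c = c * 1 := by rw [mul_one, ← sq]; exact hcq
      exact mul_left_cancel₀ hc0 h
    rw [hc1, one_smul] at hc
    apply g.injective
    apply Subtype.ext
    rw [map_mul, map_one, Subalgebra.coe_mul, Subalgebra.coe_one, ← hg, hρ]
    exact hc
  let ρ' : D →* GU 3 F 2 := ρ.codRestrict _ hGU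
  have hinj : Function.Injective ρ' := fun x y h => by
    apply Subtype.ext; apply Units.ext
    rw [← hρ, ← hρ, show ρ x = ρ y from congrArg Subtype.val h]
  have hsolvG := isSolvable_GU_three_two hF
  have hsolv : Group.IsSolvable D := Group.isSolvable_of_isSolvable_injective (f := ρ') hinj
  haveI : Nontrivial D := by
    obtain ⟨x, hx, hxs⟩ := SetLike.not_le_iff_exists.mp hDne
    exact ⟨⟨⟨x, hx⟩, 1, fun h => hxs (by
      rw [show x = 1 from congrArg Subtype.val h]; exact one_mem _)⟩⟩
  have hlt := Group.IsSolvable.commutator_lt_top_of_nontrivial D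
  refine hlt.ne ?_
  apply Subgroup.map_injective (Subgroup.subtype_injective D)
  rw [← MonoidHom.range_eq_map, Subgroup.range_subtype, commutator_def, Subgroup.map_commutator,
    ← MonoidHom.range_eq_map, Subgroup.range_subtype, hDp]

end Cfsg.Agent.Unitary.Asch
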