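/-
Aschbacher's theorem for subgroups of the unitary groups, with numerical side conditions.
-/
import Cfsg.Agent.Aschbacher.Linear
import Cfsg.Agent.Unitary.AschDecomp
import Cfsg.Agent.Unitary.AschField
import Cfsg.Agent.Unitary.AschForms
import Cfsg.Agent.Unitary.AschSymp
import Cfsg.Agent.Unitary.AschSmallPower
import Cfsg.Agent.Unitary.AschNineTwo

set_option autoImplicit false
set_option maxHeartbeats 1000000
set_option linter.unusedSectionVars false
set_option linter.style.haveILetI false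

namespace Cfsg.Agent.Unitary.Asch

open scoped MatrixGroups Matrix Kronecker
open Cfsg Cfsg.Geo Cfsg.Agent.Unitary Matrix

variable {F : Type*} [Field F] [Fintype F] {n q : ℕ}

/-- The alternatives of Aschbacher's theorem for a subgroup of GU. -/
inductive UnitaryOutcome (q : ℕ) (H : Subgroup (GL (Fin n) F)) : Prop
  | ts (W : Submodule F (Fin n → F)) (h1 : W ≠ ⊥)
      (h2 : IsTotallySingularFor (hermForm n F q) W) (h : H ≤ subspaceStabilizer W)
  | nondeg (W : Submodule F (Fin n → F)) (h1 : W ≠ ⊥)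
      (h2 : IsNondegenerateOn (hermForm n F q) W) (h3 : 2 * Module.finrank F W < n)
      (h : H ≤ subspaceStabilizer W)
  | decomp (t k : ℕ) (D : Fin t → Submodule F (Fin n → F))
      (hD : IsNondegenerateMDecomposition (hermForm n F q) k D) (hcard : t * k = n)
      (h : H ≤ decompositionStabilizer D)
  | tsPair (k : ℕ) (D : Fin 2 → Submodule F (Fin n → F)) (hcard : 2 * k = n)
      (hD : IsMDecomposition k D) (hts : ∀ i, IsTotallySingularFor (hermForm n F q) (D i))
      (h : H ≤ decompositionStabilizer D)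
  | field (r : ℕ) (K : Subalgebra F (Matrix (Fin n) (Fin n) F)) (hr : r.Prime) (hodd : Odd r)
      (hdvd : r ∣ n) (hK : IsFieldSubalgebra r K) (hs : IsAdjointClosedFor (hermForm n F q) K)
      (h : H ≤ subalgebraNormalizer K)
  | tensor (n₁ n₂ : ℕ) (e : Fin n ≃ Fin n₁ × Fin n₂) (P : GL (Fin n) F) (h1 : 2 ≤ n₁)
      (h2 : n₁ < n₂) (hcard : n₁ * n₂ = n) (hP : P ∈ GU n F q)
      (h : H ≤ tensorProductSubgroup n₁ n₂ e P)
  | class5 (h : InClass5 q H)
  | class6 (r k : ℕ) (R : Subgroup (GL (Fin n) F)) (hR : Class6 n q r k R)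
      (h : H ≤ subgroupNormalizer R)
  | wreath (k t : ℕ) (e : Fin n ≃ (Fin t → Fin k)) (P : GL (Fin n) F) (h1 : 3 ≤ k) (h2 : 2 ≤ t)
      (hex : ¬ (q = 2 ∧ k = 3)) (hcard : n = k ^ t) (hP : P ∈ GU n F q)
      (h : H ≤ tensorWreathSubgroup k t e P)
  | residual (h : InUnitaryResidualClass H)

/-- A group normalising an absolutely irreducible group that fixes a non-degenerate symmetric
(in odd characteristic) or alternating bilinear form lies in a subfield member. -/
theorem class5_of_bilinear (hF : Fintype.card F = q ^ 2) (hn : 0 < n)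
    {H P : Subgroup (GL (Fin n) F)} (hH : H ≤ GU n F q) (hPH : P ≤ H)
    (hP : ActsAbsolutelyIrreducibly (matrixSet P)) (hnorm : ∀ h ∈ H, ∀ x ∈ P, h * x * h⁻¹ ∈ P)
    {f : (Fin n → F) → (Fin n → F) → F} (hb : IsBilinearForm f) (hnd : IsNondegenerateForm f)
    (hfix : FixesForm (matrixSet P) f)
    (hcase : (Odd q ∧ ∀ u v, f u v = f v u) ∨ ∀ u, f u u = 0) : InClass5 q H := by
  classical
  haveI : Nonempty (Fin n) := ⟨⟨0, hn⟩⟩
  have hs := Aschbacher.isSesq_of_bilinear hb
  set J := gramMatrix f with hJdef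
  have hJ : IsUnit J := Aschbacher.isUnit_gram hs hnd
  have hsym : (Odd q ∧ ∀ i j, J i j = J j i) ∨ ((∀ i j, J i j = - J j i) ∧ ∀ i, J i i = 0) := by
    rcases hcase with ⟨h1, h2⟩ | h
    · exact Or.inl ⟨h1, fun i j => h2 _ _⟩
    · refine Or.inr ⟨fun i j => ?_, fun i => h _⟩
      have h1 := h (Pi.single i 1 + Pi.single j 1)
      rw [hb.add_left, hb.add_right, hb.add_right, h, h, zero_add, add_zero] at h1
      exact eq_neg_of_add_eq_zero_left h1
  have hmap : ∀ M : Matrix (Fin n) (Fin n) F, M.map (RingEquiv.refl F) = M := fun M => by ext; simp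
  -- elements of the similarity group of `f` commute with the semilinear map up to scalars
  have key : ∀ g ∈ H, ∀ κ : F, (g : Matrix (Fin n) (Fin n) F)ᵀ * J * (g : Matrix (Fin n) (Fin n) F) =
      κ • J → J * (g : Matrix (Fin n) (Fin n) F) =
        κ • ((g : Matrix (Fin n) (Fin n) F).map (fun x => x ^ q) * J) := by
    intro g hg κ he
    have h1 := (mem_GU_iff_hst hF).mp (hH hg)
    have h2 : (g : Matrix (Fin n) (Fin n) F).map (fun x => x ^ q) *
        (g : Matrix (Fin n) (Fin n) F)ᵀ = 1 := by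
      have h1' : (hst q (g : Matrix (Fin n) (Fin n) F) * (g : Matrix (Fin n) (Fin n) F))ᵀ = 1 := by
        rw [h1, Matrix.transpose_one]
      rw [Matrix.transpose_mul, hst, Matrix.transpose_transpose] at h1'
      exact mul_eq_one_comm.mp h1'
    calc J * (g : Matrix (Fin n) (Fin n) F) =
        (g : Matrix (Fin n) (Fin n) F).map (fun x => x ^ q) *
          ((g : Matrix (Fin n) (Fin n) F)ᵀ * J * (g : Matrix (Fin n) (Fin n) F)) := by
          rw [← mul_assoc, ← mul_assoc, h2, one_mul]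
      _ = _ := by rw [he, Matrix.mul_smul]
  have hsim : H ≤ similarityGroup f :=
    Aschbacher.le_similarityGroup hP hnorm hs hnd hfix
  have hPfix : ∀ x ∈ P, (x : Matrix (Fin n) (Fin n) F).map (fun y => y ^ q) * J =
      J * (x : Matrix (Fin n) (Fin n) F) := by
    intro x hx
    have he := (Aschbacher.fixes_iff_gtr hs (x : Matrix (Fin n) (Fin n) F)).mp
      (fun u v => hfix _ (Aschbacher.mem_matrixSet hx) u v)
    rw [Aschbacher.gtr, hmap] at he
    rw [key x (hPH hx) 1 (by rw [one_smul]; exact he), one_smul]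
  let σm : Matrix (Fin n) (Fin n) F →+* Matrix (Fin n) (Fin n) F := (frob hF).toRingHom.mapMatrix
  have hσσ : ∀ M, σm (σm M) = M := fun M => by ext i j; exact pow_q_q hF (M i j)
  obtain ⟨a, ha⟩ := hP.2 (σm J * J) (by
    rintro _ ⟨x, hx, rfl⟩
    have h1 : σm (x : Matrix (Fin n) (Fin n) F) * J = J * (x : Matrix (Fin n) (Fin n) F) := hPfix x hx
    have h2 := congrArg σm h1
    rw [map_mul, map_mul, hσσ] at h2
    show σm J * J * (x : Matrix (Fin n) (Fin n) F) = (x : Matrix (Fin n) (Fin n) F) * (σm J * J)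
    rw [mul_assoc, ← h1, ← mul_assoc, ← h2, mul_assoc])
  refine class5_of_semilinear hF hn hJ.unit a (by rw [hJ.unit_spec]; exact ha)
    (by rw [hJ.unit_spec]; exact hsym) fun g hg => ?_
  obtain ⟨c, hc⟩ := hsim hg
  have he : (g : Matrix (Fin n) (Fin n) F)ᵀ * J * (g : Matrix (Fin n) (Fin n) F) = (c : F) • J := by
    ext i j
    have h1 : gramMatrix (fun u v => f ((g : Matrix (Fin n) (Fin n) F) *ᵥ u)
        ((g : Matrix (Fin n) (Fin n) F) *ᵥ v)) i j = (c : F) * J i j := hc _ _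
    simp only [gramMatrix] at h1
    rw [hs.eq_formOfGram, Aschbacher.formOfGram_mulVec] at h1
    have h2 := congrFun (congrFun (Aschbacher.gram_formOfGram (RingEquiv.refl F)
      (Aschbacher.gtr (RingEquiv.refl F) J (g : Matrix (Fin n) (Fin n) F))) i) j
    simp only [gramMatrix] at h2
    rw [h2, Aschbacher.gtr, hmap] at h1
    rw [h1, Matrix.smul_apply, smul_eq_mul]
  have hk := key g hg c he
  refine ⟨(c : F)⁻¹, ?_⟩
  rw [Aschbacher.cj_apply]
  simp only [hJ.unit_spec]
  have hone : J * ((hJ.unit⁻¹ : GL (Fin n) F) : Matrix (Fin n) (Fin n) F) = 1 := hJ.mul_val_inv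
  rw [hk, Matrix.smul_mul, smul_smul, inv_mul_cancel₀ c.ne_zero, one_smul, mul_assoc, hone, mul_one]

/-- The almost simple case. -/
theorem outcome_core (hF : Fintype.card F = q ^ 2) (hn : 3 ≤ n) {H P : Subgroup (GL (Fin n) F)}
    (hH : H ≤ GU n F q) (hle : P ≤ H) (h : Aschbacher.PreCore (H ⊔ scalars (Fin n) F) P) :
    UnitaryOutcome q H := by
  classical
  haveI : Nonempty (Fin n) := ⟨⟨0, by omega⟩⟩
  have hnorm : ∀ g ∈ H, ∀ x ∈ P, g * x * g⁻¹ ∈ P := fun g hg =>
    h.normal g (Subgroup.mem_sup_left hg)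
  by_cases hsub : ∃ F₀ : Subfield F, F₀ ≠ ⊤ ∧ RealisableOver F₀ (matrixSet P)
  · obtain ⟨F₀, hne, hr⟩ := hsub
    exact .class5 (class5_of_realisable hF (by omega) h.absIrred hnorm F₀ hne hr fun x hx =>
      ⟨1, one_mem _, one_pow _, by rw [(mem_GU_iff_hst hF).mp (hH (hle hx)), one_smul]⟩)
  by_cases hs : ∃ f : (Fin n → F) → (Fin n → F) → F, IsSymplecticForm f ∧ FixesForm (matrixSet P) f
  · obtain ⟨f, hf, hfix⟩ := hs
    exact .class5 (class5_of_bilinear hF (by omega) hH hle h.absIrred hnorm hf.bilinear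
      hf.nondegenerate hfix (Or.inr hf.alternating))
  by_cases hQ : ∃ Q : (Fin n → F) → F, IsNondegenerateQuadraticForm Q ∧
      FixesQuadForm (matrixSet P) Q
  · obtain ⟨Q, hQ, hfix⟩ := hQ
    by_cases h2 : (2 : F) = 0
    · exact absurd ⟨_, Aschbacher.isSymplecticForm_polar hQ h2, Aschbacher.fixesForm_polar hfix⟩ hs
    · have hq : Odd q := by
        have := Aschbacher.odd_card_of_two_ne_zero h2
        rw [hF] at this
        exact (Nat.odd_pow_iff two_ne_zero).mp this
      exact .class5 (class5_of_bilinear hF (by omega) hH hle h.absIrred hnorm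
        hQ.polar_bilinear hQ.nondegenerate
        (Aschbacher.fixesForm_polar hfix)
        (Or.inl ⟨hq, fun u v => QuadraticMap.polar_comm Q u v⟩))
  push Not at hsub
  exact .residual ⟨P, ⟨hle, hnorm, h.perfect, h.simple, h.nonabelian,
    fun g hg => h.centralizer_scalar g (Subgroup.mem_sup_left hg), h.absIrred, hsub⟩, hQ, hs⟩

/-- A tensor square or power of unitary spaces. -/
theorem outcome_wreath (hF : Fintype.card F = q ^ 2) {H : Subgroup (GL (Fin n) F)}
    (hH : H ≤ GU n F q) {m t : ℕ} (hm : 2 ≤ m) (ht : 2 ≤ t) (hcard : n = m ^ t)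
    (e : Fin n ≃ (Fin t → Fin m)) {P : GL (Fin n) F} (hP : P ∈ GU n F q)
    (h : H ≤ tensorWreathSubgroup m t e P) (hex : q = 2 ∧ m = 3 → t = 2) :
    UnitaryOutcome q H := by
  by_cases hm3 : 3 ≤ m
  swap
  · obtain rfl : m = 2 := by omega
    exact .class5 (class5_of_wreath_two hF (by omega) hH e hP h)
  by_cases hq : q = 2 ∧ m = 3
  · obtain rfl := hex hq
    obtain ⟨rfl, rfl⟩ := hq
    rcases nine_two hF hH e hP h with ⟨r, k, R, hR, hle⟩ | h5
    · exact .class6 r k R hR hle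
    · exact .class5 h5
  exact .wreath m t e P hm3 ht hq hcard hP h

/-- Aschbacher's theorem for the unitary groups. -/
theorem unitary_aschbacher (hF : Fintype.card F = q ^ 2) (hn : 3 ≤ n)
    (H : Subgroup (GL (Fin n) F)) (hH : H ≤ GU n F q) : UnitaryOutcome q H := by
  classical
  haveI : NeZero n := ⟨by omega⟩
  haveI : Nonempty (Fin n) := ⟨⟨0, by omega⟩⟩
  by_cases hirr : ActsIrreducibly (matrixSet H)
  swap
  · simp only [ActsIrreducibly, not_forall, not_or] at hirr
    obtain ⟨W, hW, h1, h2⟩ := hirr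
    have hWH : H ≤ subspaceStabilizer W := le_stab_of_maps fun g hg v hv => by
      simpa using hW _ (Aschbacher.mem_matrixSet hg) (Submodule.mem_map_of_mem hv)
    rcases reducible_cases hF hH h1 h2 hWH with ⟨U, a, b, c⟩ | ⟨U, a, b, c, d⟩ | ⟨k, D, a, b, c⟩
    · exact .ts U a b c
    · exact .nondeg U a b c d
    · exact .decomp 2 k D b a c
  set H' := H ⊔ scalars (Fin n) F with hH'
  have hHle : H ≤ H' := le_sup_left
  have hsim : H' ≤ similarityGroup (hermForm n F q) := sup_scalars_le_similarity hH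
  obtain ⟨N, hZN, hNH, hNn, -, hcases⟩ := Aschbacher.structure_theorem H'
    (Aschbacher.actsIrreducibly_mono hHle hirr) le_sup_right (by simp; omega)
  have hNA : H' ≤ subalgebraNormalizer (Aschbacher.env N) :=
    Aschbacher.le_subalgebraNormalizer fun g hg X hX =>
      Aschbacher.cj_mem_env (fun x hx => hNn g hg x hx) hX
  have hstar : StarClosed q (Aschbacher.env N) := env_starClosed hF (hNH.trans hsim)
  rcases hcases with ⟨t, e, he⟩ | ⟨d, hd, hK⟩ | ⟨a, ha1, ha2, ⟨f⟩⟩ | ⟨hNabs, hrest⟩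
  · rcases idemSystem_cases hF hsim hstar he with ⟨s, k, D, a, b, c⟩ | ⟨k, D, a, b, c, d⟩
    · exact .decomp s k D b a (hHle.trans c)
    · exact .tsPair k D a b c (hHle.trans d)
  · obtain ⟨r, L, hr, hodd, hdvd, hL, hLs, hle⟩ := field_cases hF hK hd (hstar.centre hF)
    exact .field r L hr hodd hdvd hL (isAdjointClosedFor_of_starClosed hF hLs)
      (hHle.trans ((Aschbacher.normalizer_centre_le hNA).trans hle))
  · rw [Fintype.card_fin] at ha2
    obtain ⟨b, e, P, hb, hP, hle⟩ := exists_unitary_tensor hF (by omega) (Aschbacher.env N) f hstar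
    have hab : a * b = n := by
      have := Fintype.card_congr e; simpa using this.symm
    have hb2 : 2 ≤ b := by
      by_contra h
      obtain rfl : b = 1 := by omega
      omega
    have hHT : H ≤ tensorProductSubgroup a b e P := hHle.trans (hNA.trans hle)
    rcases lt_trichotomy a b with h | rfl | h
    · exact .tensor a b e P ha1 h hab hP hHT
    · exact outcome_wreath hF hH ha1 le_rfl (by rw [sq]; exact hab.symm) _ hP
        (hHT.trans (Aschbacher.kronecker_le_wreath e P)) fun _ => rfl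
    · exact .tensor b a (e.trans (Equiv.prodComm _ _)) P hb2 h (by rw [mul_comm]; exact hab) hP
        (hHT.trans (Aschbacher.tensorProductSubgroup_swap e P))
  rcases hrest with ⟨r, m, z, R, hd⟩ | ⟨t, m, A, hA⟩ | hcore
  · rcases sympData_cases hF (by omega) hd (hNH.trans hsim) hHle with ⟨h6, hle⟩ | h5
    · exact .class6 r m R h6 hle
    · exact .class5 h5
  · have hstarA : ∀ i, StarClosed q (A i) := fun i => by
      obtain ⟨S, hS, hAS⟩ := hA.env i
      exact hAS ▸ env_starClosed hF (hS.trans hsim)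
    have hm2 := hA.two_le_m
    have ht2 := hA.two_le
    obtain ⟨hcard, e, P, hP, -, hperm⟩ := exists_unitary_power hF (by omega) (by omega) A
      hA.iso hA.comm hA.gen hstarA
    refine outcome_wreath hF hH hm2 ht2 hcard e hP (fun g hg => ?_) ?_
    · obtain ⟨σ, hσ⟩ := hA.perm g (hHle hg)
      exact hperm g σ hσ
    · rintro ⟨rfl, rfl⟩
      exact (tensorPower_two_three hF hsim hA).elim
  · refine outcome_core hF hn hH (P := ⁅N, N⁆) ?_ hcore
    have h1 : ⁅N, N⁆ ≤ ⁅H', H'⁆ := Subgroup.commutator_mono hNH hNH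
    rw [hH', Aschbacher.commutator_sup_scalars] at h1
    refine h1.trans (Subgroup.commutator_le.mpr fun x hx y hy => ?_)
    rw [commutatorElement_def]
    exact H.mul_mem (H.mul_mem (H.mul_mem hx hy) (H.inv_mem hx)) (H.inv_mem hy)

/-- The outcome as containment in a member of a geometric class. -/
theorem UnitaryOutcome.exists_class (hF : Fintype.card F = q ^ 2) {H : Subgroup (GL (Fin n) F)}
    (hH : H ≤ GU n F q) (h : UnitaryOutcome q H) :
    (∃ M : Subgroup (GL (Fin n) F), InUnitaryClass n F q M ∧ H ≤ M) ∨ InUnitaryResidualClass H := by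
  cases h with
  | ts W h1 h2 h =>
    exact Or.inl ⟨_, Or.inl (Or.inl ⟨W, h1, h2, rfl⟩), le_inf h hH⟩
  | nondeg W h1 h2 h3 h =>
    exact Or.inl ⟨_, Or.inl (Or.inr (Or.inl ⟨W, h1, h2, h3, rfl⟩)), le_inf h hH⟩
  | decomp t k D hD hcard h =>
    exact Or.inl ⟨_, Or.inl (Or.inr (Or.inr (Or.inl ⟨t, k, D, hD, rfl⟩))), le_inf h hH⟩
  | tsPair k D hcard hD hts h =>
    exact Or.inl ⟨_, Or.inl (Or.inr (Or.inr (Or.inr (Or.inl ⟨k, D, hcard, hD, hts, rfl⟩)))),
      le_inf h hH⟩
  | field r K hr hodd hdvd hK hs h =>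
    exact Or.inl ⟨_, Or.inr (Or.inl ⟨r, K, hr, hodd, hK, hs, rfl⟩), le_inf h hH⟩
  | tensor n₁ n₂ e P h1 h2 hcard hP h =>
    exact Or.inl ⟨_, Or.inr (Or.inr (Or.inl ⟨n₁, n₂, e, P, _, _, h1, h2,
      isUnitaryFormPow_hermForm hF n₁, isUnitaryFormPow_hermForm hF n₂,
      isTensorFormStructure_of_mem hF e hP, rfl⟩)), le_inf h hH⟩
  | class5 h =>
    rcases h with ⟨F₀, r, P, h1, h2, h3, h4, h5⟩ | ⟨F₀, P, h1, h2, h3, h4⟩ |
      ⟨F₀, P, ζ, h1, h2, h3, h4, h5, h6, h7⟩
    · exact Or.inl ⟨_, Or.inl (Or.inr <| Or.inr <| Or.inr <| Or.inr <| Or.inl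
        ⟨F₀, r, P, h1, h2, h3, h4, rfl⟩), le_inf h5 hH⟩
    · exact Or.inl ⟨_, Or.inl (Or.inr <| Or.inr <| Or.inr <| Or.inr <| Or.inr <| Or.inl
        ⟨F₀, P, h1, h2, h3, rfl⟩), le_inf h4 hH⟩
    · exact Or.inl ⟨_, Or.inl (Or.inr <| Or.inr <| Or.inr <| Or.inr <| Or.inr <| Or.inr <| Or.inl
        ⟨F₀, P, ζ, h1, h2, h3, h4, h5, h6, rfl⟩), le_inf h7 hH⟩
  | class6 r k R hR h =>
    obtain ⟨p, e, hne, hmin, hdata⟩ := hR.data
    exact Or.inl ⟨_, Or.inl (Or.inr <| Or.inr <| Or.inr <| Or.inr <| Or.inr <| Or.inr <| Or.inr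
      ⟨r, R, p, e, k, hR.sympType, hR.absIrred, hR.le, hne, hmin, hdata, rfl⟩), le_inf h hH⟩
  | wreath k t e P h1 h2 hex hcard hP h =>
    exact Or.inl ⟨_, Or.inr (Or.inr (Or.inr ⟨k, t, e, P, _, h1, h2, hex,
      isUnitaryFormPow_hermForm hF k, isTensorPowerFormStructure_of_mem hF e hP, rfl⟩)),
      le_inf h hH⟩
  | residual h => exact Or.inr h

end Cfsg.Agent.Unitary.Asch
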