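/-
The special unitary group is contained in no member of the geometric classes.
-/
import Cfsg.Agent.Unitary.AschProperBasic
import Cfsg.Agent.Unitary.AschTheorem

set_option autoImplicit false
set_option maxHeartbeats 1000000
set_option linter.unusedSectionVars false
set_option linter.style.haveILetI false

namespace Cfsg.Agent.Unitary.Asch

open scoped MatrixGroups Matrix Kronecker
open Cfsg Cfsg.Geo Cfsg.Agent.Unitary Matrix

variable {F : Type*} [Field F] [Fintype F] {n q : ℕ}

theorem subspace_proper (hF : Fintype.card F = q ^ 2) (hn : 3 ≤ n) {W : Submodule F (Fin n → F)}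
    (h1 : W ≠ ⊥) (h2 : W ≠ ⊤) : ¬ SUg n F q ≤ subspaceStabilizer W := by
  intro hc
  obtain ⟨δ, hδ0, hδ⟩ := exists_skew_trace hF
  refine no_tv_invariant hF hn h1 h2 fun u hu => or_iff_not_imp_right.2 fun h => ?_
  push Not at h
  obtain ⟨w, hw, hwu⟩ := h
  have h3 := (mem_stab_mulVec (hc (tvG_mem hF hu hδ)) w).1 hw
  rw [tvG_mulVec] at h3
  have h4 := W.sub_mem h3 hw
  rw [add_sub_cancel_left] at h4
  exact (W.smul_mem_iff (mul_ne_zero hδ0 hwu)).1 h4

lemma exists_two_skew (hF : Fintype.card F = q ^ 2) (hq : 3 ≤ q) :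
    ∃ δ δ' : F, δ ≠ 0 ∧ δ' ≠ 0 ∧ δ ≠ δ' ∧ δ + δ ^ q = 0 ∧ δ' + δ' ^ q = 0 := by
  classical
  obtain ⟨δ, hδ0, hδ⟩ := exists_skew_trace hF
  obtain ⟨a, ha0, ha1, haq⟩ : ∃ a : F, a ≠ 0 ∧ a ≠ 1 ∧ a ^ q = a := by
    by_contra hall
    push Not at hall
    have hsub : (Finset.univ.filter fun a : F => a ^ q = a) ⊆ {0, 1} := by
      intro a ha
      simp only [Finset.mem_filter, Finset.mem_univ, true_and] at ha
      by_cases h0 : a = 0
      · simp [h0]
      · by_cases h1 : a = 1
        · simp [h1]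
        · exact absurd ha (hall a h0 h1)
    have h1 := (Finset.card_le_card hsub).trans Finset.card_le_two
    rw [← Fintype.card_subtype, ← Nat.card_eq_fintype_card, card_fixed hF] at h1
    omega
  refine ⟨δ, a * δ, hδ0, mul_ne_zero ha0 hδ0, fun h => ha1 ?_, hδ, ?_⟩
  · exact (mul_eq_right₀ hδ0).1 h.symm
  · rw [mul_pow, haq, ← mul_add, hδ, mul_zero]

section decomposition

variable {t k : ℕ} {D : Fin t → Submodule F (Fin n → F)}

lemma decomp_ne (hD : IsMDecomposition k D) (i : Fin t) : D i ≠ ⊥ ∧ D i ≠ ⊤ := by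
  have hbot : ∀ j, D j ≠ ⊥ := fun j h => by
    have := hD.finrank_eq j
    rw [h, finrank_bot] at this
    exact hD.pos.ne' this.symm
  refine ⟨hbot i, fun h => ?_⟩
  obtain ⟨j, hj⟩ := @exists_ne (Fin t) (Fin.nontrivial_iff_two_le.2 hD.two_le) i
  have := hD.indep.pairwiseDisjoint hj
  rw [Function.onFun, h, disjoint_top] at this
  exact hbot j this

lemma eq_of_mem (hD : IsMDecomposition k D) {i j : Fin t} {x : Fin n → F} (hi : x ∈ D i)
    (hj : x ∈ D j) (hx : x ≠ 0) : i = j := by
  by_contra h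
  exact hx (Submodule.disjoint_def.mp (hD.indep.pairwiseDisjoint h) x hi hj)

theorem decomp_proper_of_big (hF : Fintype.card F = q ^ 2) (hn : 3 ≤ n)
    (hD : IsMDecomposition k D) (h : 2 ≤ k ∨ 3 ≤ q) : ¬ SUg n F q ≤ decompositionStabilizer D := by
  intro hc
  obtain ⟨δ, hδ0, hδ⟩ := exists_skew_trace hF
  let i : Fin t := ⟨0, by have := hD.two_le; omega⟩
  refine no_tv_invariant hF hn (decomp_ne hD i).1 (decomp_ne hD i).2 fun u hu => ?_
  rw [or_iff_not_imp_left]
  intro huW w hw
  by_contra hwu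
  have hw0 : w ≠ 0 := fun h0 => hwu (by rw [h0, herm_zero_left])
  -- the image of `w` lies in another summand
  have move : ∀ c : F, c ≠ 0 → ∀ hc0 : c + c ^ q = 0, ∃ j, j ≠ i ∧
      (D i).map (Matrix.toLin' (tvG hF hu hc0 : Matrix (Fin n) (Fin n) F)) = D j ∧
      w + (c * hermForm n F q w u) • u ∈ D j := by
    intro c hc1 hc0
    obtain ⟨σ, hσ⟩ := hc (tvG_mem hF hu hc0)
    have hmem : w + (c * hermForm n F q w u) • u ∈ D (σ i) := by
      rw [← hσ i]
      exact ⟨w, hw, by rw [Matrix.toLin'_apply, tvG_mulVec]⟩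
    refine ⟨σ i, fun he => huW ?_, hσ i, hmem⟩
    rw [he] at hmem
    have := (D i).sub_mem hmem hw
    rw [add_sub_cancel_left] at this
    exact ((D i).smul_mem_iff (mul_ne_zero hc1 hwu)).1 this
  obtain ⟨j, hji, hmap, hmem⟩ := move δ hδ0 hδ
  -- the summands are lines
  have hk1 : k = 1 := by
    have hker : ∀ x ∈ D i, hermForm n F q x u = 0 → x = 0 := by
      intro x hx hxu
      by_contra hx0
      refine hji (eq_of_mem hD ?_ hx hx0).symm.symm
      rw [← hmap]
      exact ⟨x, hx, by rw [Matrix.toLin'_apply, tvG_mulVec, hxu, mul_zero, zero_smul, add_zero]⟩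
    have hinj : Function.Injective ((hermL n q u).comp (D i).subtype) := by
      rw [← LinearMap.ker_eq_bot, LinearMap.ker_eq_bot']
      exact fun x hx => Subtype.ext (hker x x.2 hx)
    have := LinearMap.finrank_le_finrank_of_injective hinj
    rw [Module.finrank_self, hD.finrank_eq] at this
    have := hD.pos
    omega
  rcases h with h | h
  · omega
  obtain ⟨d, d', hd0, hd0', hdd, hd, hd'⟩ := exists_two_skew hF h
  obtain ⟨j₁, hj₁, -, h₁⟩ := move d hd0 hd
  obtain ⟨j₂, hj₂, -, h₂⟩ := move d' hd0' hd'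
  by_cases hjj : j₁ = j₂
  · subst hjj
    have := (D j₁).sub_mem h₁ h₂
    rw [add_sub_add_left_eq_sub, ← sub_smul, ← sub_mul] at this
    have hu1 := ((D j₁).smul_mem_iff (mul_ne_zero (sub_ne_zero.2 hdd) hwu)).1 this
    have := (D j₁).sub_mem h₁ ((D j₁).smul_mem (d * hermForm n F q w u) hu1)
    rw [add_sub_cancel_right] at this
    exact hj₁ (eq_of_mem hD this hw hw0)
  · -- a combination of two summands would be a vector of a third
    set a := d * hermForm n F q w u with ha
    set b := d' * hermForm n F q w u with hb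
    have hsum : a • (w + b • u) - b • (w + a • u) = (a - b) • w := by module
    have hsup : (a - b) • w ∈ ⨆ (l) (_ : l ≠ i), D l := by
      rw [← hsum]
      exact Submodule.sub_mem _
        (Submodule.smul_mem _ _ (Submodule.mem_iSup_of_mem j₂ (Submodule.mem_iSup_of_mem hj₂ h₂)))
        (Submodule.smul_mem _ _ (Submodule.mem_iSup_of_mem j₁ (Submodule.mem_iSup_of_mem hj₁ h₁)))
    have h0 := Submodule.disjoint_def.mp (hD.indep i) _ ((D i).smul_mem _ hw) hsup
    refine hw0 ((smul_eq_zero.1 h0).resolve_left ?_)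
    rw [ha, hb, ← sub_mul]
    exact mul_ne_zero (sub_ne_zero.2 hdd) hwu

theorem frame_proper_two (hF : Fintype.card F = q ^ 2) (hn : 4 ≤ n)
    (hD : IsNondegenerateMDecomposition (hermForm n F q) 1 D) (htn : t = n) (hq : q = 2) :
    ¬ SUg n F q ≤ decompositionStabilizer D := by
  intro hc
  obtain ⟨δ, hδ0, hδ⟩ := exists_skew_trace hF
  choose e he he0 using fun i => Submodule.exists_mem_ne_zero_of_ne_bot (decomp_ne hD.decomp i).1
  have horth : ∀ {i j : Fin t} {x y : Fin n → F}, i ≠ j → x ∈ D i → y ∈ D j →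
      hermForm n F q x y = 0 := fun hij hx hy => hD.orthogonal _ _ hij _ hx _ hy
  have hself : ∀ i, hermForm n F q (e i) (e i) = 1 := by
    intro i
    have hne : hermForm n F q (e i) (e i) ≠ 0 := by
      intro h0
      refine he0 i ((nondegOn_iff hF).1 (hD.nondegenerate i) (e i) (he i) fun v hv => ?_)
      obtain ⟨c, hcv⟩ := (finrank_eq_one_iff_of_nonzero' ⟨e i, he i⟩
        (fun h => he0 i (congrArg Subtype.val h))).1 (hD.decomp.finrank_eq i) ⟨v, hv⟩
      have hcv' : c • e i = v := congrArg Subtype.val hcv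
      rw [← hcv', herm_smul_right, h0, mul_zero]
    have hfix := herm_self_fixed hF (e i)
    refine mul_left_cancel₀ hne ?_
    rw [mul_one, ← sq, ← hq]
    exact hfix
  have h4 : ∀ a : Fin 4, (a : ℕ) < t := fun a => by have := a.isLt; omega
  let s : Fin 4 → Fin t := fun a => ⟨a, h4 a⟩
  have hs : Function.Injective s := fun a b h => Fin.ext (by simpa [s] using h)
  let u := ∑ a, e (s a)
  have hou : ∀ a, hermForm n F q (e (s a)) u = 1 := by
    intro a
    simp only [u]
    rw [← herm_swap hF, herm_sum_left, Finset.sum_eq_single a (fun b _ hb =>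
      horth (hs.ne hb) (he _) (he _)) (by simp), hself, one_pow]
  have hu : hermForm n F q u u = 0 := by
    show hermForm n F q (∑ a, e (s a)) u = 0
    rw [herm_sum_left]
    simp only [hou, Fin.sum_univ_four]
    have h2 : (2 : F) = 0 := by subst hq; exact Heis.two_zero hF
    linear_combination 2 * h2
  obtain ⟨σ, hσ⟩ := hc (tvG_mem hF hu hδ)
  have hx : e (s 0) + δ • u ∈ D (σ (s 0)) := by
    rw [← hσ (s 0)]
    exact ⟨e (s 0), he _, by rw [Matrix.toLin'_apply, tvG_mulVec, hou, mul_one]⟩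
  have hloc : ∀ a : Fin 4, a ≠ 0 → σ (s 0) = s a := by
    intro a ha
    by_contra hne
    have h1 := horth hne hx (he (s a))
    rw [herm_add_left, horth (hs.ne ha.symm) (he _) (he _), zero_add, herm_smul_left] at h1
    have h2 : hermForm n F q u (e (s a)) = 1 := by rw [← herm_swap hF, hou, one_pow]
    rw [h2, mul_one] at h1
    exact hδ0 h1
  exact absurd (hs ((hloc 1 (by decide)).symm.trans (hloc 2 (by decide)))) (by decide)

end decomposition

theorem field_proper (hF : Fintype.card F = q ^ 2) (hn : 3 ≤ n) {r : ℕ}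
    {K : Subalgebra F (Matrix (Fin n) (Fin n) F)} (hK : IsFieldSubalgebra r K) (hr : 2 ≤ r) :
    ¬ SUg n F q ≤ subalgebraNormalizer K := by
  intro hc
  haveI : Nonempty (Fin n) := ⟨⟨0, by omega⟩⟩
  have hall : ∀ k ∈ K, ∃ c : F, k = c • (1 : Matrix (Fin n) (Fin n) F) := by
    intro k hk
    refine scalar_of_commute_tvG hF hn fun u c hu hc0 => ?_
    set T := tvG hF hu hc0 with hT
    have hTK : Aschbacher.cj T k ∈ K :=
      Aschbacher.cj_mem_of_mem_normalizer (hc (tvG_mem hF hu hc0)) hk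
    rw [← Aschbacher.cj_eq_self_iff, ← sub_eq_zero]
    by_contra hne
    obtain ⟨Y, -, hY⟩ := hK.inv _ (K.sub_mem hTK hk) hne
    obtain ⟨w, hw⟩ := Aschbacher.exists_notMem_span_range ![u, k *ᵥ u] (by simp; omega)
    have hrange : ∀ x, (Aschbacher.cj T k - k) *ᵥ ((T : Matrix (Fin n) (Fin n) F) *ᵥ x) ∈
        Submodule.span F (Set.range ![u, k *ᵥ u]) := by
      intro x
      rw [Matrix.sub_mulVec, Matrix.mulVec_mulVec _ (Aschbacher.cj T k), ← Aschbacher.mul_eq_cj_mul,
        ← Matrix.mulVec_mulVec, hT, tvG_mulVec, tvG_mulVec, Matrix.mulVec_add, Matrix.mulVec_smul,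
        add_sub_add_left_eq_sub]
      exact Submodule.sub_mem _ (Submodule.smul_mem _ _ (Submodule.subset_span ⟨0, rfl⟩))
        (Submodule.smul_mem _ _ (Submodule.subset_span ⟨1, rfl⟩))
    have := hrange (((T⁻¹ : GL (Fin n) F) : Matrix (Fin n) (Fin n) F) *ᵥ (Y *ᵥ w))
    rw [Matrix.mulVec_mulVec _ (T : Matrix (Fin n) (Fin n) F), ← Units.val_mul, mul_inv_cancel,
      Units.val_one, Matrix.one_mulVec, Matrix.mulVec_mulVec, hY, Matrix.one_mulVec] at this
    exact hw this
  have hle : Subalgebra.toSubmodule K ≤ F ∙ (1 : Matrix (Fin n) (Fin n) F) := fun X hX => by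
    obtain ⟨c, rfl⟩ := hall X hX
    exact Submodule.smul_mem _ _ (Submodule.mem_span_singleton_self _)
  have h1 := Submodule.finrank_mono hle
  rw [finrank_span_singleton (one_ne_zero (α := Matrix (Fin n) (Fin n) F)),
    Subalgebra.finrank_toSubmodule, hK.finrank_eq] at h1
  omega

lemma SUg_conj {P x : GL (Fin n) F} (hP : P ∈ GU n F q) (hx : x ∈ SUg n F q) :
    P * x * P⁻¹ ∈ SUg n F q :=
  ⟨(GU n F q).mul_mem ((GU n F q).mul_mem hP hx.1) ((GU n F q).inv_mem hP),
    MonoidHom.normal_ker (Matrix.GeneralLinearGroup.det : GL (Fin n) F →* Fˣ) |>.conj_mem x hx.2 P⟩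

lemma exists_tensor_vector (hF : Fintype.card F = q ^ 2) {a b : Fin n} (hab : a ≠ b) :
    ∃ μ : F, μ ≠ 0 ∧ hermForm n F q (Pi.single a 1 + μ • Pi.single b 1)
      (Pi.single a 1 + μ • Pi.single b 1) = 0 := by
  obtain ⟨μ, hμ⟩ := exists_norm_eq_neg_one hF
  refine ⟨μ, fun h => ?_, ?_⟩
  · rw [h, zero_mul] at hμ
    exact one_ne_zero (neg_eq_zero.1 hμ.symm)
  · rw [herm_self_add hF, herm_self_smul, herm_smul_right, herm_single_single hF,
      herm_single_single hF, herm_single_single hF, if_pos rfl, if_pos rfl, if_neg hab, hμ]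
    simp [q_ne_zero hF]

theorem tensor_proper (hF : Fintype.card F = q ^ 2) {a b : ℕ} (ha : 2 ≤ a) (hb : 2 ≤ b)
    (e : Fin n ≃ Fin a × Fin b) {P : GL (Fin n) F} (hP : P ∈ GU n F q) :
    ¬ SUg n F q ≤ tensorProductSubgroup a b e P := by
  intro hc
  let z : Fin a := ⟨0, by omega⟩
  let o : Fin a := ⟨1, by omega⟩
  let z' : Fin b := ⟨0, by omega⟩
  let o' : Fin b := ⟨1, by omega⟩
  have hzo : z ≠ o := by simp [z, o]
  have hzo' : z' ≠ o' := by simp [z', o']
  have hab : e.symm (z, z') ≠ e.symm (o, o') := fun h =>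
    hzo (congrArg Prod.fst (e.symm.injective h))
  obtain ⟨μ, hμ0, hu⟩ := exists_tensor_vector hF hab
  obtain ⟨δ, hδ0, hδ⟩ := exists_skew_trace hF
  obtain ⟨_, ⟨g, ⟨A, B, hg⟩, rfl⟩, hgT⟩ := hc (SUg_conj hP (tvG_mem hF hu hδ))
  have hge : glReindex e.symm g = tvG hF hu hδ := (MulAut.conj P).injective hgT
  have key : ∀ x y : Fin a × Fin b, (tvG hF hu hδ : Matrix (Fin n) (Fin n) F) (e.symm x) (e.symm y)
      = (A : Matrix (Fin a) (Fin a) F) x.1 y.1 * (B : Matrix (Fin b) (Fin b) F) x.2 y.2 := by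
    intro x y
    rw [← hge]
    show (g : Matrix (Fin a × Fin b) (Fin a × Fin b) F) (e (e.symm x)) (e (e.symm y)) = _
    rw [e.apply_symm_apply, e.apply_symm_apply, hg]
    rfl
  have h1 := key (z, o') (z, o')
  have h2 := key (o, o') (z, z')
  have h3 := key (o, o') (z, o')
  simp only [tvG_val, Matrix.add_apply, Matrix.smul_apply, Matrix.vecMulVec_apply, Pi.add_apply,
    Pi.smul_apply, Pi.single_apply, Matrix.one_apply, e.symm.injective.eq_iff, Prod.mk.injEq,
    hzo, hzo', hzo.symm, hzo'.symm, and_false, false_and, and_true, true_and, if_true, if_false,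
    smul_eq_mul, mul_zero, mul_one, zero_add, add_zero, zero_pow (q_ne_zero hF), one_pow] at h1 h2 h3
  have hA : (A : Matrix (Fin a) (Fin a) F) o z ≠ 0 := fun h => by
    rw [h, zero_mul] at h2
    exact mul_ne_zero hδ0 hμ0 h2
  have hB := (mul_eq_zero.1 h3.symm).resolve_left hA
  rw [hB, mul_zero] at h1
  exact one_ne_zero h1

theorem wreath_proper (hF : Fintype.card F = q ^ 2) {m t : ℕ} (hm : 3 ≤ m) (ht : 2 ≤ t)
    (e : Fin n ≃ (Fin t → Fin m)) {P : GL (Fin n) F} (hP : P ∈ GU n F q) :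
    ¬ SUg n F q ≤ tensorWreathSubgroup m t e P := by
  classical
  intro hc
  let z : Fin m := ⟨0, by omega⟩
  let o : Fin m := ⟨1, by omega⟩
  let w : Fin m := ⟨2, by omega⟩
  let i₀ : Fin t := ⟨0, by omega⟩
  have hzo : z ≠ o := by simp [z, o]
  have hzw : z ≠ w := by simp [z, w]
  have how : o ≠ w := by simp [o, w]
  set a : Fin t → Fin m := fun _ => z with had
  set b : Fin t → Fin m := fun _ => o with hbd
  have hab : e.symm a ≠ e.symm b := fun h => hzo (congrFun (e.symm.injective h) i₀)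
  obtain ⟨μ, hμ0, hu⟩ := exists_tensor_vector hF hab
  obtain ⟨δ, hδ0, hδ⟩ := exists_skew_trace hF
  obtain ⟨_, ⟨g, hg, rfl⟩, hgT⟩ := hc (SUg_conj hP (tvG_mem hF hu hδ))
  have hge : glReindex e.symm g = tvG hF hu hδ := (MulAut.conj P).injective hgT
  obtain ⟨X, σ, hX⟩ := Aschbacher.exists_pure_perm hg
  have key : ∀ x y : Fin t → Fin m, (tvG hF hu hδ : Matrix (Fin n) (Fin n) F) (e.symm x) (e.symm y)
      = ∏ i, X i (x i) (y (σ.symm i)) := by
    intro x y
    rw [← hge]
    show (g : Matrix (Fin t → Fin m) (Fin t → Fin m) F) (e (e.symm x)) (e (e.symm y)) = _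
    rw [e.apply_symm_apply, e.apply_symm_apply, hX]
    have hkey : ∀ k : Fin t → Fin m, (y = k ∘ σ) ↔ (k = y ∘ σ.symm) := by
      intro k; constructor
      · rintro rfl; simp [Function.comp_assoc]
      · rintro rfl; simp [Function.comp_assoc]
    simp [Matrix.mul_apply, Aschbacher.factorPerm, hkey, Aschbacher.pureMat]
  let c : Fin t → Fin m := fun _ => w
  have hT : ∀ x y, x ≠ a → x ≠ b →
      (tvG hF hu hδ : Matrix (Fin n) (Fin n) F) (e.symm x) (e.symm y) = if x = y then 1 else 0 := by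
    intro x y hxa hxb
    simp [tvG_val, Matrix.vecMulVec_apply, Matrix.one_apply, e.symm.injective.eq_iff, hxa, hxb]
  have hca : c ≠ a := fun h => hzw (congrFun h i₀).symm
  have hcb : c ≠ b := fun h => how (congrFun h i₀).symm
  have h1 : ∏ i, X i w w = 1 := by
    rw [← key c c, hT c c hca hcb, if_pos rfl]
  have h2 : ∏ i, X i o z ≠ 0 := by
    rw [← key b a]
    simp [tvG_val, Matrix.vecMulVec_apply, Matrix.one_apply, e.symm.injective.eq_iff,
      Ne.symm (e.symm.injective.ne_iff.1 hab), e.symm.injective.ne_iff.1 hab, hδ0, hμ0]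
  rw [Finset.prod_ne_zero_iff] at h2
  have hw : ∀ i, X i w w ≠ 0 := fun i => by
    have := h1.trans_ne (one_ne_zero (α := F))
    rw [Finset.prod_ne_zero_iff] at this
    exact this i (Finset.mem_univ i)
  -- a mixed entry
  let x : Fin t → Fin m := Function.update c i₀ o
  let y : Fin t → Fin m := fun i => if σ i = i₀ then z else w
  let i₁ : Fin t := ⟨1, by omega⟩
  have hi : i₁ ≠ i₀ := by simp [i₀, i₁]
  have h3 : ∏ i, X i (x i) (y (σ.symm i)) = 0 := by
    rw [← key x y, hT x y ?_ ?_, if_neg]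
    · intro h
      have := congrFun h i₀
      simp only [x, y, Function.update_self] at this
      split_ifs at this
      · exact hzo this.symm
      · exact how this
    · intro h
      have := congrFun h i₀
      simp only [x, had, Function.update_self] at this
      exact hzo this.symm
    · intro h
      have := congrFun h i₁
      simp only [x, hbd, Function.update_of_ne hi, c] at this
      exact how this.symm
  obtain ⟨i, -, hi0⟩ := Finset.prod_eq_zero_iff.1 h3
  by_cases hii : i = i₀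
  · subst hii
    simp only [x, y, Function.update_self, Equiv.apply_symm_apply, if_true] at hi0
    exact h2 _ (Finset.mem_univ _) hi0
  · simp only [x, y, c, Function.update_of_ne hii, Equiv.apply_symm_apply, if_neg hii] at hi0
    exact hw i hi0

theorem symp_proper (hF : Fintype.card F = q ^ 2) (hbig : 4 ≤ n ∨ (n = 3 ∧ 3 ≤ q)) {r : ℕ}
    {R : Subgroup (GL (Fin n) F)} (hR : IsPGroup r R) (hr : (r : F) ≠ 0)
    (hsim : R ≤ similarityGroup (hermForm n F q)) (hns : ¬ R ≤ scalars (Fin n) F) :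
    ¬ SUg n F q ≤ subgroupNormalizer R := by
  intro hc
  have hn : 3 ≤ n := by omega
  haveI : NeZero n := ⟨by omega⟩
  have hconj : ∀ g ∈ SUg n F q, ∀ x ∈ R, g * x * g⁻¹ ∈ R := fun g hg x hx =>
    (Subgroup.mem_normalizer_iff.mp (hc hg) x).mp hx
  have hconj' : ∀ g ∈ SUg n F q, ∀ x ∈ R ⊓ SUg n F q, g * x * g⁻¹ ∈ R ⊓ SUg n F q :=
    fun g hg x hx => ⟨hconj g hg x hx.1,
      (SUg n F q).mul_mem ((SUg n F q).mul_mem hg hx.2) ((SUg n F q).inv_mem hg)⟩
  rcases normal_le_scalars_or_eq hF hbig inf_le_right hconj' with hsc | hall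
  · -- R centralises SU
    refine hns fun x hx => ?_
    have hcomm : ∀ g ∈ SUg n F q, x * g * x⁻¹ * g⁻¹ ∈ scalars (Fin n) F := by
      intro g hg
      refine hsc ⟨?_, ?_, ?_⟩
      · have := R.mul_mem hx (hconj g hg _ (R.inv_mem hx))
        rw [← mul_assoc, ← mul_assoc] at this
        exact this
      · have hx' := isSim_of_mem_similarity hF (hsim hx)
        obtain ⟨c, hc0, hcq, hcx⟩ := hx'
        have hgU : x * g * x⁻¹ ∈ GU n F q := by
          rw [mem_GU_iff_hst hF]
          have h1 : ((x * g * x⁻¹ : GL (Fin n) F) : Matrix (Fin n) (Fin n) F) =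
              Aschbacher.cj x (g : Matrix (Fin n) (Fin n) F) := (Aschbacher.cj_val x g).symm
          rw [h1, hst_cj hF ⟨c, hc0, hcq, hcx⟩, ← map_mul, (mem_GU_iff_hst hF).1 hg.1, map_one]
        exact (GU n F q).mul_mem hgU ((GU n F q).inv_mem hg.1)
      · show Matrix.GeneralLinearGroup.det (x * g * x⁻¹ * g⁻¹) = 1
        simp [mul_comm]
    have hxc := Aschbacher.commute_of_perfect (SUg_perfect hF hbig) hcomm
    obtain ⟨l, hl⟩ := scalar_of_commute_tvG hF hn (M := (x : Matrix (Fin n) (Fin n) F))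
      fun u c hu hc0 => by
        rw [← Units.val_mul, ← Units.val_mul, hxc _ (tvG_mem hF hu hc0)]
    have hl0 : l ≠ 0 := fun h0 => x.ne_zero (by rw [hl, h0, zero_smul])
    exact (mem_scalars_iff x).mpr ⟨Units.mk0 l hl0, hl⟩
  · -- a transvection would lie in R
    obtain ⟨u, hu0, hu⟩ := exists_isotropic_top (n := n) hF (by omega)
    obtain ⟨δ, hδ0, hδ⟩ := exists_skew_trace hF
    obtain ⟨v, -, -, hvu⟩ := exists_partner hF (nondeg_top hF) Submodule.mem_top hu0 hu
    have hT : tvG hF hu hδ ∈ R := (hall.ge (tvG_mem hF hu hδ)).1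
    obtain ⟨k, hk⟩ := hR ⟨_, hT⟩
    have hk' : tvG hF hu hδ ^ r ^ k = 1 := by simpa using congrArg Subtype.val hk
    have hpow : ∀ j : ℕ, ((tvG hF hu hδ ^ j : GL (Fin n) F) : Matrix (Fin n) (Fin n) F) *ᵥ v =
        v + ((j : F) * δ) • u := by
      intro j
      induction j with
      | zero => simp
      | succ j ih =>
        rw [pow_succ', Units.val_mul, ← Matrix.mulVec_mulVec, ih, tvG_mulVec, herm_add_left, hvu,
          herm_smul_left, hu, mul_zero, add_zero, mul_one, add_assoc, ← add_smul, Nat.cast_succ,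
          add_mul, one_mul]
    have h := hpow (r ^ k)
    rw [hk', Units.val_one, Matrix.one_mulVec, Nat.cast_pow] at h
    exact smul_ne_zero (mul_ne_zero (pow_ne_zero _ hr) hδ0) hu0 (left_eq_add.1 h)

end Cfsg.Agent.Unitary.Asch
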