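import Mathlib
import Cfsg.Agent.H55.HermAlg

/-!
# Numerical bounds for element orders in unitary groups
-/

set_option autoImplicit false

namespace Cfsg.Agent.Unitary

open Cfsg.Agent.H55

/-- `q^(E-1) + (-1)^E`. -/
def bd (q E : ℕ) : ℕ := if Even E then q ^ (E - 1) + 1 else q ^ (E - 1) - 1

theorem uH_mul_le {q k : ℕ} (hq : 1 ≤ q) : uH q k * (q + 1) ≤ q ^ k + 1 := by
  rcases Nat.even_or_odd k with h | h
  · rw [uH_mul_even hq h]; omega
  · rw [uH_mul_odd hq h]

theorem uH_pair_le {q a b : ℕ} (hq : 2 ≤ q) (ha : 1 ≤ a) (hb : 1 ≤ b) :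
    (q + 1) * (uH q a * uH q b) ≤ bd q (a + b) := by
  refine Nat.le_of_mul_le_mul_left ?_ (show 0 < q + 1 by omega)
  obtain ⟨a, rfl⟩ := Nat.exists_eq_add_of_le ha
  obtain ⟨b, rfl⟩ := Nat.exists_eq_add_of_le hb
  have e : (q + 1) * ((q + 1) * (uH q (1 + a) * uH q (1 + b))) =
      (uH q (1 + a) * (q + 1)) * (uH q (1 + b) * (q + 1)) := by ring
  rw [e, bd, show 1 + a + (1 + b) - 1 = 1 + a + b by omega]
  have hx : 1 ≤ q ^ a := Nat.one_le_pow _ _ (by omega)
  have hy : 1 ≤ q ^ b := Nat.one_le_pow _ _ (by omega)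
  rcases Nat.even_or_odd (1 + a) with h1 | h1 <;> rcases Nat.even_or_odd (1 + b) with h2 | h2
  · rw [uH_mul_even (by omega) h1, uH_mul_even (by omega) h2, if_pos (h1.add h2)]
    refine (Nat.mul_le_mul (Nat.sub_le _ 1) (Nat.sub_le _ 1)).trans ?_
    simp only [pow_add, pow_one]
    nlinarith [Nat.zero_le (q * q ^ a * q ^ b)]
  · rw [uH_mul_even (by omega) h1, uH_mul_odd (by omega) h2,
      if_neg (Nat.not_even_iff_odd.2 (h1.add_odd h2))]
    have h3 : 1 ≤ q ^ (1 + a) := Nat.one_le_pow _ _ (by omega)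
    have h4 : 1 ≤ q ^ (1 + a + b) := Nat.one_le_pow _ _ (by omega)
    zify [h3, h4]
    simp only [pow_add, pow_one]
    have hx' : (1 : ℤ) ≤ (q : ℤ) ^ a := by exact_mod_cast hx
    have hy' : (1 : ℤ) ≤ (q : ℤ) ^ b := by exact_mod_cast hy
    nlinarith [mul_nonneg (mul_nonneg (show (0:ℤ) ≤ q by positivity) (sub_nonneg.2 hy')) (show (0:ℤ) ≤ (q:ℤ) ^ a + 1 by positivity)]
  · rw [uH_mul_odd (by omega) h1, uH_mul_even (by omega) h2,
      if_neg (Nat.not_even_iff_odd.2 (h1.add_even h2))]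
    have h3 : 1 ≤ q ^ (1 + b) := Nat.one_le_pow _ _ (by omega)
    have h4 : 1 ≤ q ^ (1 + a + b) := Nat.one_le_pow _ _ (by omega)
    zify [h3, h4]
    simp only [pow_add, pow_one]
    have hx' : (1 : ℤ) ≤ (q : ℤ) ^ a := by exact_mod_cast hx
    nlinarith [mul_nonneg (mul_nonneg (show (0:ℤ) ≤ q by positivity) (sub_nonneg.2 hx')) (show (0:ℤ) ≤ (q:ℤ) ^ b + 1 by positivity)]
  · rw [uH_mul_odd (by omega) h1, uH_mul_odd (by omega) h2, if_pos (h1.add_odd h2)]
    simp only [pow_add, pow_one]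
    have hx' : (1 : ℤ) ≤ (q : ℤ) ^ a := by exact_mod_cast hx
    have hy' : (1 : ℤ) ≤ (q : ℤ) ^ b := by exact_mod_cast hy
    zify
    nlinarith [mul_nonneg (mul_nonneg (show (0:ℤ) ≤ q by positivity) (sub_nonneg.2 hx')) (sub_nonneg.2 hy')]

theorem bd_le (q E : ℕ) : bd q E ≤ q ^ (E - 1) + 1 := by
  rw [bd]; split_ifs <;> omega

theorem uH_step {q E c : ℕ} (hq : 2 ≤ q) (hE : 2 ≤ E) (hc : 1 ≤ c) :
    bd q E * uH q c ≤ bd q (E + c) := by
  refine le_trans (Nat.le_of_mul_le_mul_left ?_ (show 0 < q + 1 by omega))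
    (show q ^ (E + c - 1) - 1 ≤ bd q (E + c) by rw [bd]; split_ifs <;> omega)
  calc (q + 1) * (bd q E * uH q c) = bd q E * (uH q c * (q + 1)) := by ring
    _ ≤ (q ^ (E - 1) + 1) * (q ^ c + 1) :=
        Nat.mul_le_mul (bd_le q E) (uH_mul_le (by omega))
    _ ≤ (q + 1) * (q ^ (E + c - 1) - 1) := by
      obtain ⟨i, rfl⟩ := Nat.exists_eq_add_of_le hE
      obtain ⟨j, rfl⟩ := Nat.exists_eq_add_of_le hc
      rw [show 2 + i - 1 = 1 + i by omega, show 2 + i + (1 + j) - 1 = 2 + i + j by omega,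
        Nat.mul_sub_one]
      refine Nat.le_sub_of_add_le ?_
      simp only [pow_add, pow_one]
      have hx : 1 ≤ q ^ i := Nat.one_le_pow _ _ (by omega)
      have hy : 1 ≤ q ^ j := Nat.one_le_pow _ _ (by omega)
      have hxy : q ^ i ≤ q ^ i * q ^ j := Nat.le_mul_of_pos_right _ (by omega)
      have hxy' : q ^ j ≤ q ^ i * q ^ j := Nat.le_mul_of_pos_left _ (by omega)
      nlinarith [Nat.mul_le_mul_left (q * q) hq, Nat.mul_le_mul (Nat.mul_le_mul_left q hq) (le_refl (q ^ i * q ^ j))]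

theorem uH_le_bd {q e : ℕ} (hq : 2 ≤ q) (he : 2 ≤ e) : uH q e ≤ bd q e := by
  obtain ⟨i, rfl⟩ := Nat.exists_eq_add_of_le he
  rcases Nat.eq_zero_or_pos i with rfl | hi
  · refine Nat.le_of_mul_le_mul_right ?_ (show 0 < q + 1 by omega)
    rw [show 2 + 0 = 2 from rfl, uH_mul_even (q := q) (by omega) even_two, bd, if_pos even_two]
    exact (Nat.sub_le _ _).trans (by norm_num; nlinarith)
  refine le_trans ?_ (show q ^ (2 + i - 1) - 1 ≤ bd q (2 + i) by rw [bd]; split_ifs <;> omega)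
  refine Nat.le_of_mul_le_mul_right ((uH_mul_le (by omega)).trans ?_) (show 0 < q + 1 by omega)
  rw [show 2 + i - 1 = 1 + i by omega, Nat.sub_mul, one_mul]
  refine Nat.le_sub_of_add_le ?_
  simp only [pow_add, pow_one]
  have hx : q ≤ q ^ i := Nat.le_self_pow (by omega) q
  nlinarith [Nat.mul_le_mul_left q hx, Nat.mul_le_mul_left q hq]

theorem bd_mono {q E E' : ℕ} (hq : 2 ≤ q) (hE : 2 ≤ E) (h : E ≤ E') : bd q E ≤ bd q E' := by
  rcases h.eq_or_lt with rfl | h
  · rfl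
  refine (bd_le q E).trans (le_trans ?_ (show q ^ (E' - 1) - 1 ≤ bd q E' by rw [bd]; split_ifs <;> omega))
  obtain ⟨i, rfl⟩ := Nat.exists_eq_add_of_le (show E + 1 ≤ E' by omega)
  obtain ⟨j, rfl⟩ := Nat.exists_eq_add_of_le hE
  rw [show 2 + j - 1 = 1 + j by omega, show 2 + j + 1 + i - 1 = 1 + j + 1 + i by omega]
  have h1 : q * q ^ (1 + j) ≤ q ^ (1 + j + 1 + i) := by
    rw [← pow_succ']; exact Nat.pow_le_pow_right (by omega) (by omega)
  have h2 : 2 ≤ q ^ (1 + j) := hq.trans (Nat.le_self_pow (by omega) q)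
  have h3 : 2 * q ^ (1 + j) ≤ q * q ^ (1 + j) := Nat.mul_le_mul_right _ hq
  omega

theorem pow_clog_le {p n : ℕ} (hp : 2 ≤ p) (hn : 2 ≤ n) : p ^ Nat.clog p n ≤ p * (n - 1) := by
  obtain ⟨s, hs⟩ := Nat.exists_eq_succ_of_ne_zero (Nat.clog_pos (show 1 < p by omega) (show 1 < n by omega)).ne'
  have h := Nat.pow_pred_clog_lt_self (b := p) (x := n) (by omega) (by omega)
  rw [hs, Nat.pred_succ] at h
  rw [hs, pow_succ']
  exact Nat.mul_le_mul_left p (Nat.le_sub_one_of_lt h)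

theorem two_mul_le_three_pow {X : ℕ} (h : 3 ≤ X) : 2 * X ≤ 3 ^ (X - 1) := by
  induction X, h using Nat.le_induction with
  | base => decide
  | succ k hk ih =>
    rw [show k + 1 - 1 = k - 1 + 1 by omega, pow_succ]
    omega

theorem three_mul_le_two_pow {X : ℕ} (h : 4 ≤ X) : 3 * X ≤ 2 ^ X := by
  induction X, h using Nat.le_induction with
  | base => decide
  | succ k hk ih => rw [pow_succ]; omega

/-- The values of the maximal orders dominate all the candidates. -/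
theorem cand_le {p q d E X : ℕ} (hp : 2 ≤ p) (hpq : p ≤ q) (hd : 3 ≤ d) (hE : 2 ≤ E) (hEX : E + X ≤ d) :
    (Odd d → p * p ≤ q → p ^ Nat.clog p (X + 1) * bd q E ≤ q ^ (d - 1) - 1) ∧
    (Odd d → q = p → p ^ Nat.clog p (X + 1) * bd q E ≤ (p ^ (d - 2) + 1) * p) ∧
    (Even d → 2 < q → p ^ Nat.clog p (X + 1) * bd q E ≤ q ^ (d - 1) + 1) ∧
    (Even d → q = 2 → p ^ Nat.clog p (X + 1) * bd q E ≤ 4 * (2 ^ (d - 3) + 1)) := by
  have hq : 2 ≤ q := hp.trans hpq
  have hq1 : 1 ≤ q ^ (d - 1) := Nat.one_le_pow _ _ (by omega)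
  have hmono : bd q E ≤ bd q (d - X) := bd_mono hq hE (by omega)
  suffices h : (Odd d → p * p ≤ q → p ^ Nat.clog p (X + 1) * bd q (d - X) ≤ q ^ (d - 1) - 1) ∧
    (Odd d → q = p → p ^ Nat.clog p (X + 1) * bd q (d - X) ≤ (p ^ (d - 2) + 1) * p) ∧
    (Even d → 2 < q → p ^ Nat.clog p (X + 1) * bd q (d - X) ≤ q ^ (d - 1) + 1) ∧
    (Even d → q = 2 → p ^ Nat.clog p (X + 1) * bd q (d - X) ≤ 4 * (2 ^ (d - 3) + 1)) by
    have hm := Nat.mul_le_mul_left (p ^ Nat.clog p (X + 1)) hmono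
    exact ⟨fun a b => hm.trans (h.1 a b), fun a b => hm.trans (h.2.1 a b),
      fun a b => hm.trans (h.2.2.1 a b), fun a b => hm.trans (h.2.2.2 a b)⟩
  have hT2 : ∀ (h : q = p), q ^ (d - 1) + p = (p ^ (d - 2) + 1) * p := by
    intro h
    rw [h, add_mul, one_mul, ← pow_succ, show d - 2 + 1 = d - 1 by omega]
  have hT4 : q = 2 → 4 * (2 ^ (d - 3) + 1) = q ^ (d - 1) + 4 := by
    rintro rfl
    rw [show d - 1 = 2 + (d - 3) by omega, pow_add]
    ring
  rcases Nat.lt_or_ge X 2 with hX | hX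
  · rcases (show X = 0 ∨ X = 1 by omega) with rfl | rfl
    · rw [Nat.clog_one_right, pow_zero, one_mul, Nat.sub_zero]
      refine ⟨fun ho _ => ?_, fun ho hqp => ?_, fun he _ => ?_, fun he hq2 => ?_⟩
      · rw [bd, if_neg (Nat.not_even_iff_odd.2 ho)]
      · rw [bd, if_neg (Nat.not_even_iff_odd.2 ho), ← hT2 hqp]; omega
      · rw [bd, if_pos he]
      · rw [bd, if_pos he, hT4 hq2]; omega
    · have hc : p ^ Nat.clog p (1 + 1) ≤ p := by simpa using pow_clog_le hp (show 2 ≤ 1 + 1 by rfl)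
      have hd2 : q * q ^ (d - 1 - 1) = q ^ (d - 1) := by
        rw [← pow_succ', show d - 1 - 1 + 1 = d - 1 by omega]
      have hpp : p * q ^ (d - 1 - 1) ≤ q ^ (d - 1) := hd2 ▸ Nat.mul_le_mul_right _ hpq
      refine ⟨fun ho hp2 => ?_, fun ho hqp => ?_, fun he _ => ?_, fun he hq2 => ?_⟩
      · refine (Nat.mul_le_mul hc (bd_le _ _)).trans ?_
        have h1 : 2 * (p * q ^ (d - 1 - 1)) ≤ q ^ (d - 1) := by
          rw [← hd2, ← mul_assoc]
          exact Nat.mul_le_mul_right _ ((Nat.mul_le_mul_right p hp).trans hp2)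
        have h2 : p * 2 ≤ p * q ^ (d - 1 - 1) :=
          Nat.mul_le_mul_left _ (hq.trans (Nat.le_self_pow (by omega) q))
        rw [mul_add, mul_one]
        omega
      · refine (Nat.mul_le_mul hc (bd_le _ _)).trans ?_
        rw [← hT2 hqp, mul_add, mul_one]
        omega
      · rw [bd, if_neg (by rw [Nat.even_sub (by omega)]; simp [he])]
        refine (Nat.mul_le_mul_right _ hc).trans ?_
        rw [Nat.mul_sub_one]
        omega
      · rw [bd, if_neg (by rw [Nat.even_sub (by omega)]; simp [he])]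
        refine (Nat.mul_le_mul_right _ hc).trans ?_
        rw [Nat.mul_sub_one, hT4 hq2]
        omega
  have hc : p ^ Nat.clog p (X + 1) ≤ p * X := by simpa using pow_clog_le hp (show 2 ≤ X + 1 by omega)
  obtain ⟨m, hm⟩ := Nat.exists_eq_add_of_le (show X + 2 ≤ d by omega)
  have hdX : d - X - 1 = m + 1 := by omega
  have hd1 : d - 1 = m + 1 + X := by omega
  rcases Nat.lt_or_ge q 3 with h3 | h3
  · obtain rfl : q = 2 := by omega
    obtain rfl : p = 2 := by omega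
    refine ⟨fun _ h => by omega, fun ho _ => ?_, fun _ h => by omega, fun he _ => ?_⟩
    · refine (Nat.mul_le_mul_right _ hc).trans ?_
      rw [← hT2 rfl, hd1]
      rcases Nat.lt_or_ge X 4 with hX4 | hX4
      · rcases (show X = 2 ∨ X = 3 by omega) with rfl | rfl
        · rw [bd, hdX, if_neg (by rw [Nat.even_sub (by omega)]; simp [Nat.not_even_iff_odd.2 ho]),
            Nat.mul_sub_one, pow_add 2 (m + 1) 2]
          omega
        · refine (Nat.mul_le_mul_left _ (bd_le _ _)).trans ?_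
          rw [hdX, pow_add 2 (m + 1) 3]
          have : 2 ≤ 2 ^ (m + 1) := Nat.le_self_pow (by omega) 2
          omega
      · refine (Nat.mul_le_mul_left _ (bd_le _ _)).trans ?_
        rw [hdX, pow_add 2 (m + 1) X]
        have h1 := Nat.mul_le_mul_left (2 ^ (m + 1)) (three_mul_le_two_pow hX4)
        have h2 := Nat.mul_le_mul_left X (show 2 ≤ 2 ^ (m + 1) from Nat.le_self_pow (by omega) 2)
        nlinarith
    · refine (Nat.mul_le_mul_right _ hc).trans ?_
      rw [hT4 rfl, hd1]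
      rcases Nat.lt_or_ge X 4 with hX4 | hX4
      · rcases (show X = 2 ∨ X = 3 by omega) with rfl | rfl
        · rw [bd, hdX, if_pos (by rw [Nat.even_sub (by omega)]; simp [he]), pow_add 2 (m + 1) 2]
          omega
        · refine (Nat.mul_le_mul_left _ (bd_le _ _)).trans ?_
          rw [hdX, pow_add 2 (m + 1) 3]
          have : 2 ≤ 2 ^ (m + 1) := Nat.le_self_pow (by omega) 2
          omega
      · refine (Nat.mul_le_mul_left _ (bd_le _ _)).trans ?_
        rw [hdX, pow_add 2 (m + 1) X]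
        have h1 := Nat.mul_le_mul_left (2 ^ (m + 1)) (three_mul_le_two_pow hX4)
        have h2 := Nat.mul_le_mul_left X (show 2 ≤ 2 ^ (m + 1) from Nat.le_self_pow (by omega) 2)
        nlinarith
  have key : q * X * (q ^ (m + 1) + 1) + 1 ≤ q ^ (m + 1 + X) := by
    have hA : q ≤ q ^ (m + 1) := Nat.le_self_pow (by omega) q
    obtain ⟨Y, rfl⟩ := Nat.exists_eq_add_of_le hX
    have hB : (2 + Y) + 1 ≤ q ^ (1 + Y) := by
      rcases Nat.eq_zero_or_pos Y with rfl | hY
      · simpa using h3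
      · have h1 := two_mul_le_three_pow (show 3 ≤ 2 + Y by omega)
        have h2 := Nat.pow_le_pow_left h3 (1 + Y)
        rw [show 2 + Y - 1 = 1 + Y by omega] at h1
        omega
    have hB' : (2 + Y) * q + 1 ≤ q * q * (q ^ (1 + Y) - (2 + Y)) := by
      rcases Nat.eq_zero_or_pos Y with rfl | hY
      · calc (2 + 0) * q + 1 ≤ 3 * q * 1 := by omega
          _ ≤ q * q * (q ^ (1 + 0) - (2 + 0)) :=
            Nat.mul_le_mul (Nat.mul_le_mul_right q h3) (by simp; omega)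
      · have h1 := two_mul_le_three_pow (show 3 ≤ 2 + Y by omega)
        have h2 := Nat.pow_le_pow_left h3 (1 + Y)
        rw [show 2 + Y - 1 = 1 + Y by omega] at h1
        calc (2 + Y) * q + 1 ≤ q * q * (2 + Y) := by nlinarith [Nat.mul_le_mul_right (q * (2 + Y)) h3]
          _ ≤ q * q * (q ^ (1 + Y) - (2 + Y)) := Nat.mul_le_mul_left _ (by omega)
    obtain ⟨t, ht⟩ := Nat.exists_eq_add_of_le (show 2 + Y ≤ q ^ (1 + Y) by omega)
    rw [ht, Nat.add_sub_cancel_left] at hB'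
    have h4 : q * q * t ≤ q * q ^ (m + 1) * t := Nat.mul_le_mul_right _ (Nat.mul_le_mul_left _ hA)
    rw [show q ^ (m + 1 + (2 + Y)) = q * q ^ (m + 1) * q ^ (1 + Y) by
      rw [← pow_succ', ← pow_add]; congr 1; omega, ht]
    nlinarith
  have hall : p ^ Nat.clog p (X + 1) * bd q (d - X) ≤ q ^ (d - 1) - 1 := by
    refine (Nat.mul_le_mul (hc.trans (Nat.mul_le_mul_right X hpq)) (bd_le _ _)).trans ?_
    rw [hdX, hd1]
    omega
  refine ⟨fun _ _ => hall, fun _ h => hall.trans ?_, fun _ _ => hall.trans ?_, fun _ h => by omega⟩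
  · rw [← hT2 h]; omega
  · omega

/-- The unipotent candidates are small. -/
theorem cand_unip_le {p q d i : ℕ} (hp : 2 ≤ p) (hpq : p ≤ q) (hd : 3 ≤ d) (hi : i ≤ d) :
    p ^ Nat.clog p i ≤ q ^ (d - 1) - 1 ∨ (q = 2 ∧ p ^ Nat.clog p i ≤ 2 ^ (d - 1)) := by
  have hq : 2 ≤ q := hp.trans hpq
  have h1 : p ^ Nat.clog p i ≤ p * (d - 1) :=
    (Nat.pow_le_pow_right (by omega) (Nat.clog_mono_right p hi)).trans (pow_clog_le hp (by omega))
  have h2 : p * (d - 1) ≤ q * (d - 1) := Nat.mul_le_mul_right _ hpq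
  obtain ⟨k, rfl⟩ := Nat.exists_eq_add_of_le hd
  rw [show 3 + k - 1 = k + 2 by omega] at *
  rcases Nat.lt_or_ge q 3 with h3 | h3
  · refine Or.inr ⟨by omega, h1.trans ?_⟩
    have : k + 2 ≤ 2 ^ (k + 1) := by
      have := @Nat.lt_two_pow_self (k + 1); omega
    rw [pow_succ]
    calc p * (k + 2) ≤ 2 * (k + 2) := Nat.mul_le_mul_right _ (by omega)
      _ ≤ _ := by omega
  · refine Or.inl ((h1.trans h2).trans ?_)
    have h4 : k + 2 + 1 ≤ q ^ (k + 1) := by
      have := two_mul_le_three_pow (show 3 ≤ k + 3 by omega)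
      rcases Nat.eq_zero_or_pos k with rfl | hk
      · simpa using h3
      · have h5 := two_mul_le_three_pow (show 3 ≤ k + 2 by omega)
        have h6 := Nat.pow_le_pow_left h3 (k + 1)
        rw [show k + 2 - 1 = k + 1 by omega] at h5
        omega
    rw [pow_succ' q (k + 1)]
    have := Nat.mul_le_mul_left q h4
    rw [mul_add, mul_one] at this
    omega

end Cfsg.Agent.Unitary
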