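import Mathlib
import Cfsg.Agent.H55.HermAlg

/-!
# Full cyclic tori as algebras with involution

The full torus of order `q^e - (-1)^e`; the argument is that of `H55.exists_torus_alg`.
-/

set_option autoImplicit false
set_option linter.unusedSectionVars false

namespace Cfsg.Agent.Unitary

open Cfsg.Agent.H55 Polynomial
open scoped Matrix

variable {F : Type*} [Field F] [Fintype F] {q : ℕ} (p : ℕ) [Fact p.Prime] [CharP F p]

include p in
/-- The cyclic torus of order `q ^ e - (-1) ^ e`, in `GU_e` (after `H55.exists_torus_alg`). -/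
theorem exists_torus_full (hF : Fintype.card F = q ^ 2) {e : ℕ} (he : 1 ≤ e) :
    ∃ (R : Type) (_ : CommRing R) (_ : Algebra F R) (_ : FiniteDimensional F R) (_ : Nontrivial R)
      (P : HermAlg F R q) (T : R), Module.finrank F R = e ∧ P.σ T * T = 1 ∧
        orderOf T = uH q e * (q + 1) := by
  have hq2 := two_le_q hF
  have hcard : Nat.card F = q ^ 2 := by rw [Nat.card_eq_fintype_card, hF]
  have hodd : ∀ (a : F) {j : ℕ}, Odd j → a ^ q ^ j = a ^ q := by
    rintro a j ⟨t, rfl⟩
    rw [pow_succ, pow_mul q, pow_mul, ← hF, FiniteField.pow_card_pow]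
  rcases Nat.even_or_odd e with he2 | he2
  · obtain ⟨d, rfl⟩ := he2
    have : NeZero d := ⟨by omega⟩
    set K := FiniteField.Extension F p d
    have hK : Nat.card K = q ^ (2 * d) := by
      rw [FiniteField.natCard_extension, hcard, ← pow_mul]
    obtain ⟨τ, hτ⟩ := exists_frobPow hF K 1
    obtain ⟨τ', hτ'⟩ := exists_frobPow hF K (2 * d - 1)
    have : Fintype K := Fintype.ofFinite K
    have hK' : ∀ x : K, x ^ q ^ (2 * d) = x := fun x => by
      rw [← hK, Nat.card_eq_fintype_card, FiniteField.pow_card]
    have h1 : ∀ x, τ (τ' x) = x := fun x => by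
      rw [hτ', hτ, ← pow_mul, ← pow_add, Nat.sub_add_cancel (by omega), hK']
    have h2 : ∀ x, τ' (τ x) = x := fun x => by
      rw [hτ, hτ', ← pow_mul, ← pow_add, Nat.add_sub_cancel' (by omega), hK']
    have hto : Odd (2 * d - 1) := ⟨d - 1, by omega⟩
    let P : HermAlg F (K × K) q :=
      { σ := (τ'.comp (RingHom.snd K K)).prod (τ.comp (RingHom.fst K K))
        φ := (Algebra.trace F K).comp (LinearMap.fst F K K) + (Algebra.trace F K).comp (LinearMap.snd F K K)
        semi := fun a => Prod.ext
          (by show τ' (algebraMap F K a) = _; rw [hτ', ← map_pow, hodd a hto]; rfl)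
          (by show τ (algebraMap F K a) = _; rw [hτ, ← map_pow, hodd a odd_one]; rfl)
        inv := fun a => Prod.ext (h2 a.1) (h1 a.2)
        conj := fun a => by
          show Algebra.trace F K (τ' a.2) + Algebra.trace F K (τ a.1) =
            (Algebra.trace F K a.1 + Algebra.trace F K a.2) ^ q
          rw [hτ', hτ, trace_pow_odd p hF hto, trace_pow_odd p hF odd_one, add_pow_q hF, add_comm]
        nondeg := by
          rintro ⟨a, b⟩ h
          have key : ∀ x : K, (∀ c, Algebra.trace F K (x * c) = 0) → x = 0 := fun x hx =>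
            (traceForm_nondegenerate F K).1 x (fun c => by rw [Algebra.traceForm_apply]; exact hx c)
          exact Prod.ext (key a fun c => by simpa using h (c, 0))
            (key b fun c => by simpa using h (0, c)) }
    obtain ⟨g, hg⟩ := IsCyclic.exists_ofOrder_eq_natCard (α := Kˣ)
    rw [Nat.card_units, hK] at hg
    have hord : orderOf (((g : K), (τ (g : K))⁻¹) : K × K) = uH q (d + d) * (q + 1) := by
      rw [uH_mul_even (by omega) (⟨d, rfl⟩ : Even (d + d)), Prod.orderOf_mk, orderOf_units, ← map_inv₀,
        show orderOf (τ ((g : K)⁻¹)) = orderOf ((g : K)⁻¹) from orderOf_injective τ.toMonoidHom τ.injective _,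
        ← Units.val_inv_eq_inv_val, orderOf_units,
        orderOf_inv, Nat.lcm_self, hg, two_mul]
    have hw : P.σ ((g : K), (τ (g : K))⁻¹) * ((g : K), (τ (g : K))⁻¹) = 1 := by
      refine Prod.ext ?_ ?_
      · show τ' (τ (g : K))⁻¹ * (g : K) = 1
        rw [map_inv₀, h2, inv_mul_cancel₀ g.ne_zero]
      · show τ (g : K) * (τ (g : K))⁻¹ = 1
        rw [mul_inv_cancel₀]
        simp
    exact ⟨K × K, inferInstance, inferInstance, inferInstance, inferInstance, P, _,
      by rw [Module.finrank_prod, FiniteField.finrank_extension], hw, hord⟩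
  · have : NeZero e := ⟨by omega⟩
    set K := FiniteField.Extension F p e
    have hK : Nat.card K = q ^ (2 * e) := by
      rw [FiniteField.natCard_extension, hcard, ← pow_mul]
    obtain ⟨τ, hτ⟩ := exists_frobPow hF K e
    have : Fintype K := Fintype.ofFinite K
    let P : HermAlg F K q :=
      { σ := τ
        φ := Algebra.trace F K
        semi := fun a => by rw [hτ, ← map_pow, hodd a he2]
        inv := fun a => by
          rw [hτ, hτ, ← pow_mul, ← pow_add, ← two_mul, ← hK, Nat.card_eq_fintype_card,
            FiniteField.pow_card]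
        conj := fun a => by rw [hτ, trace_pow_odd p hF he2]
        nondeg := fun a ha =>
          (traceForm_nondegenerate F K).1 a (fun c => by rw [Algebra.traceForm_apply]; exact ha c) }
    obtain ⟨g, hg⟩ := IsCyclic.exists_ofOrder_eq_natCard (α := Kˣ)
    rw [Nat.card_units, hK] at hg
    have hqe : 1 < q ^ e := Nat.one_lt_pow (by omega) (by omega)
    have hNq : (q ^ e - 1) * (q ^ e + 1) = q ^ (2 * e) - 1 := by
      rw [mul_comm, pow_mul']
      simpa using (Nat.sq_sub_sq (q ^ e) 1).symm
    have hord : orderOf ((g : K) ^ (q ^ e - 1)) = uH q e * (q + 1) := by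
      rw [orderOf_pow_of_dvd (by omega) (by rw [orderOf_units, hg, ← hNq]; exact dvd_mul_right _ _),
        orderOf_units, hg, ← hNq, Nat.mul_div_cancel_left _ (by omega), uH_mul_odd (by omega) he2]
    have hw : P.σ ((g : K) ^ (q ^ e - 1)) * (g : K) ^ (q ^ e - 1) = 1 := by
      show τ _ * _ = 1
      rw [hτ, ← pow_succ, ← uH_mul_odd (by omega) he2, ← hord, pow_orderOf_eq_one]
    exact ⟨K, inferInstance, inferInstance, inferInstance, inferInstance, P, _,
      FiniteField.finrank_extension F p e, hw, hord⟩

end Cfsg.Agent.Unitary
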