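import Mathlib
import Cfsg.Agent.H55.UnitaryOrders
import Cfsg.Agent.Unitary.GUCenter
import Cfsg.Agent.Unitary.MaxOrderNum
import Cfsg.Agent.Unitary.MaxOrderTorus

/-!
# Element orders in `PGU_d(q)`
-/

set_option autoImplicit false
set_option linter.unusedSectionVars false

namespace Cfsg.Agent.Unitary

open Cfsg.Agent.H55 Polynomial
open scoped Matrix

variable {F : Type*} [Field F] [Fintype F] {n q : ℕ}

/-- A self-dual nonconstant polynomial dividing `X^H - c` forces `c` to have norm one. -/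
theorem norm_one_of_dvd (hF : Fintype.card F = q ^ 2) {g : F[X]} (hg : 0 < g.natDegree)
    (hs : Associated (ustar hF g) g) {H : ℕ} (hH : 0 < H) {c : F} (h : g ∣ X ^ H - C c) :
    c ^ q * c = 1 := by
  have h2 := hs.symm.dvd.trans (ustar_dvd hF h)
  have e : ustar hF (X ^ H - C c) = 1 - C (c ^ q) * X ^ H := by
    have hm : (X ^ H - C c : F[X]).map (frob hF).toRingHom = X ^ H - C (c ^ q) := by
      simp [Polynomial.map_sub, frob_apply]
    rw [ustar, hm, reverse, natDegree_X_pow_sub_C, sub_eq_add_neg, ← map_neg, reflect_add,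
      reflect_monomial, reflect_C, revAt_le le_rfl, Nat.sub_self, pow_zero, map_neg]
    ring
  rw [e] at h2
  have h3 : g ∣ C (1 - c ^ q * c) := by
    have := dvd_add h2 (h.mul_left (C (c ^ q)))
    convert this using 1
    simp [map_sub, map_mul]
    ring
  by_contra hne
  have h4 := natDegree_le_of_dvd h3 (C_ne_zero.2 (sub_ne_zero.2 (Ne.symm hne)))
  rw [natDegree_C] at h4
  omega

theorem uH_pos {k : ℕ} (hq : 2 ≤ q) (hk : 1 ≤ k) : 0 < uH q k := by
  rcases Nat.eq_zero_or_pos (uH q k) with h | h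
  · rcases Nat.even_or_odd k with he | ho
    · have := uH_mul_even (q := q) (by omega) he
      rw [h, zero_mul] at this
      have : 1 < q ^ k := Nat.one_lt_pow (by omega) (by omega)
      omega
    · have := uH_mul_odd (q := q) (by omega) ho
      rw [h, zero_mul] at this
      omega
  · exact h

/-- The shape of a self-dual polynomial. -/
theorem selfdual_cases (hF : Fintype.card F = q ^ 2) : ∀ (D : ℕ) (μ : F[X]), μ.natDegree = D → 0 < D →
    μ.Monic → μ.coeff 0 ≠ 0 → Associated (ustar hF μ) μ →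
    (∃ e i c, 1 ≤ e ∧ 1 ≤ i ∧ e * i ≤ D ∧ c ^ q * c = 1 ∧ μ ∣ (X ^ uH q e - C c) ^ i) ∨
    (∃ N E W, 2 ≤ E ∧ E + W ≤ D ∧ 0 < N ∧ N ≤ bd q E ∧ q + 1 ∣ N ∧ μ ∣ (X ^ N - 1) ^ (W + 1)) := by
  intro D
  induction D using Nat.strong_induction_on with
  | _ D ih =>
  intro μ hD hD0 hmon h0 hsμ
  have hq := two_le_q hF
  obtain ⟨f, hfm, hf, hfμ⟩ := Polynomial.exists_monic_irreducible_factor μ (fun hu => by
    rw [natDegree_eq_zero_of_isUnit hu] at hD; omega)
  have hf0 : f.coeff 0 ≠ 0 := by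
    obtain ⟨w, hw⟩ := hfμ
    rw [hw, mul_coeff_zero] at h0
    exact left_ne_zero_of_mul h0
  have hsf := irreducible_ustar hF hf hf0
  set f' : F[X] := ustar hF f * C (ustar hF f).leadingCoeff⁻¹ with hf'def
  have hf'm : f'.Monic := monic_mul_leadingCoeff_inv hsf.ne_zero
  have hass : Associated (ustar hF f) f' :=
    (associated_mul_unit_left _ _
      (isUnit_C.2 (isUnit_iff_ne_zero.2 (inv_ne_zero (leadingCoeff_ne_zero.2 hsf.ne_zero))))).symm
  have hf' : Irreducible f' := hass.irreducible hsf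
  have hassoc : ∀ {a b : F[X]}, Associated a b → Associated (ustar hF a) (ustar hF b) := by
    rintro a b ⟨v, rfl⟩
    rw [ustar_mul]
    refine (associated_mul_unit_right _ _ ?_)
    exact isUnit_of_dvd_one (by
      have := ustar_dvd hF (v.isUnit.dvd (a := (1 : F[X])))
      rwa [show ustar hF (1 : F[X]) = 1 by simpa using ustar_pow hF (X : F[X]) 0] at this)
  have hsf' : Associated (ustar hF f') f := by
    have := hassoc hass
    rw [ustar_ustar hF hf0] at this
    exact this.symm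
  obtain ⟨i, r1, hr1, hμ1⟩ := WfDvdMonoid.max_power_factor hmon.ne_zero hf
  have hi : 1 ≤ i := by
    rcases Nat.eq_zero_or_pos i with rfl | h
    · rw [pow_zero, one_mul] at hμ1
      exact absurd (hμ1 ▸ hfμ) hr1
    · exact h
  have hpow' : f' ^ i ∣ μ := by
    have h1 : ustar hF (f ^ i) ∣ ustar hF μ := ustar_dvd hF (Dvd.intro r1 hμ1.symm)
    rw [ustar_pow] at h1
    exact ((hass.pow_pow (n := i)).symm.dvd.trans h1).trans hsμ.dvd
  have hmax' : ¬ f' ^ (i + 1) ∣ μ := by
    intro h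
    have h1 := ustar_dvd hF h
    rw [ustar_pow] at h1
    have h2 : f ^ (i + 1) ∣ μ :=
      ((hsf'.pow_pow (n := i + 1)).symm.dvd.trans h1).trans hsμ.dvd
    rw [hμ1, pow_succ] at h2
    exact hr1 ((mul_dvd_mul_iff_left (pow_ne_zero i hf.ne_zero)).1 h2)
  obtain ⟨g, rest, hgm, hgr, hstarg, hco, hcases⟩ : ∃ g rest : F[X], g.Monic ∧
      μ = g ^ i * rest ∧ Associated (ustar hF g) g ∧ IsCoprime (g ^ i) rest ∧
      ((g = f ∧ Associated (ustar hF f) f) ∨
        ∃ f'' : F[X], f''.Monic ∧ Irreducible f'' ∧ f'' ≠ f ∧ Associated (ustar hF f) f'' ∧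
          g = f * f'') := by
    by_cases hff : f' = f
    · exact ⟨f, r1, hfm, hμ1, hff ▸ hass, (hf.coprime_iff_not_dvd.2 hr1).pow_left,
        Or.inl ⟨rfl, hff ▸ hass⟩⟩
    · have hco : IsCoprime f f' := hf.coprime_iff_not_dvd.2 fun hd =>
        hff (eq_of_monic_of_associated hfm hf'm (hf.associated_of_dvd hf' hd)).symm
      obtain ⟨r2, hμ2⟩ := ((hco.symm.pow (m := i) (n := i)).dvd_of_dvd_mul_left (hμ1 ▸ hpow'))
      refine ⟨f * f', r2, hfm.mul hf'm, by rw [hμ1, hμ2]; ring, ?_, ?_,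
        Or.inr ⟨f', hf'm, hf', hff, hass, rfl⟩⟩
      · rw [ustar_mul]
        exact (hass.mul_mul hsf').trans (Associated.of_eq (mul_comm f' f))
      · rw [mul_pow]
        refine IsCoprime.mul_left (hf.coprime_iff_not_dvd.2 fun hd => hr1 ?_).pow_left
          (hf'.coprime_iff_not_dvd.2 fun hd => hmax' ?_).pow_left
        · rw [hμ2]; exact hd.mul_left _
        · rw [hμ1, hμ2, pow_succ]
          exact (mul_dvd_mul_left _ hd).mul_left _
  set e := g.natDegree with he
  have he1 : 1 ≤ e := by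
    rcases hcases with ⟨rfl, -⟩ | ⟨f'', -, hf'', -, -, rfl⟩
    · exact hf.natDegree_pos
    · rw [he, natDegree_mul hf.ne_zero hf''.ne_zero]
      have := hf.natDegree_pos
      omega
  have hH := uH_pos (k := e) hq he1
  obtain ⟨c, hc⟩ := (primary_bound hF hfm hf hf0 hcases).1
  rw [← he] at hc
  have hc1 : c ^ q * c = 1 := norm_one_of_dvd hF (by omega) hstarg hH hc
  have hrm : rest.Monic := Monic.of_mul_monic_left (hgm.pow i) (hgr ▸ hmon)
  have hdeg : D = e * i + rest.natDegree := by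
    rw [← hD, hgr, (hgm.pow i).natDegree_mul hrm, hgm.natDegree_pow, mul_comm]
  rcases Nat.eq_zero_or_pos rest.natDegree with hr0 | hrpos
  · left
    refine ⟨e, i, c, he1, hi, by omega, hc1, ?_⟩
    rw [hgr, hrm.natDegree_eq_zero.1 hr0, mul_one]
    exact pow_dvd_pow_of_dvd hc i
  right
  have hrest0 : rest.coeff 0 ≠ 0 := by
    rw [hgr, mul_coeff_zero] at h0
    exact right_ne_zero_of_mul h0
  have hrs : Associated (ustar hF rest) rest := by
    have h1 : Associated (ustar hF (g ^ i) * ustar hF rest) (g ^ i * rest) := by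
      rw [← ustar_mul, ← hgr]; exact hsμ
    refine Associated.of_mul_left h1 (by rw [ustar_pow]; exact hstarg.pow_pow) ?_
    rw [ustar_pow]
    exact pow_ne_zero _ fun h => hgm.ne_zero (hstarg.eq_zero_iff.1 h)
  have hlift : ∀ {H N : ℕ} {a : F}, a ^ q * a = 1 → H * (q + 1) ∣ N →
      (X ^ H - C a) ∣ (X ^ N - 1 : F[X]) := by
    rintro H N a ha ⟨t, rfl⟩
    have h1 := sub_dvd_pow_sub_pow ((X : F[X]) ^ H) (C a) ((q + 1) * t)
    rwa [← pow_mul, ← C_pow, pow_mul a, pow_succ, ha, one_pow, C_1, ← mul_assoc] at h1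
  have hei : e + (i - 1) ≤ e * i := by
    obtain ⟨j, rfl⟩ := Nat.exists_eq_add_of_le hi
    have : j ≤ e * j := Nat.le_mul_of_pos_left _ he1
    rw [mul_add]
    omega
  have hlt : rest.natDegree < D := by omega
  rcases ih _ hlt rest rfl hrpos hrm hrest0 hrs with
    ⟨e', i', c', he', hi', hle', hc', hd'⟩ | ⟨N, E, W, hE, hEW, hN, hNb, hqN, hd'⟩
  · have hei' : e' + (i' - 1) ≤ e' * i' := by
      obtain ⟨j, rfl⟩ := Nat.exists_eq_add_of_le hi'
      have : j ≤ e' * j := Nat.le_mul_of_pos_left _ he'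
      rw [mul_add]
      omega
    refine ⟨(q + 1) * (uH q e * uH q e'), e + e', (i - 1) + (i' - 1), by omega, by omega,
      Nat.mul_pos (by omega) (Nat.mul_pos hH (uH_pos hq he')), uH_pair_le hq he1 he', dvd_mul_right _ _, ?_⟩
    rw [hgr]
    refine hco.mul_dvd ?_ ?_
    · exact (pow_dvd_pow_of_dvd (hc.trans (hlift hc1 ⟨uH q e', by ring⟩)) i).trans (pow_dvd_pow _ (by omega))
    · exact (hd'.trans (pow_dvd_pow_of_dvd (hlift hc' ⟨uH q e, by ring⟩) i')).trans (pow_dvd_pow _ (by omega))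
  · refine ⟨N * uH q e, E + e, (i - 1) + W, by omega, by omega, Nat.mul_pos hN hH,
      (Nat.mul_le_mul_right _ hNb).trans (uH_step hq hE he1), hqN.mul_right _, ?_⟩
    rw [hgr]
    refine hco.mul_dvd ?_ ?_
    · refine (pow_dvd_pow_of_dvd (hc.trans (hlift hc1 ?_)) i).trans (pow_dvd_pow _ (by omega))
      rw [mul_comm]
      exact Nat.mul_dvd_mul hqN dvd_rfl
    · refine (hd'.trans (pow_dvd_pow_of_dvd ?_ (W + 1))).trans (pow_dvd_pow _ (by omega))
      simpa [pow_mul] using sub_dvd_pow_sub_pow ((X : F[X]) ^ N) 1 (uH q e)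

/-- The minimal polynomial of a unitary matrix is self-dual. -/
theorem ustar_minpoly_gmat (hF : Fintype.card F = q ^ 2) (g : GU n F q) :
    (minpoly F (gmat g)).coeff 0 ≠ 0 ∧ Associated (ustar hF (minpoly F (gmat g))) (minpoly F (gmat g)) := by
  set M := gmat g with hM
  set μ := minpoly F M with hμ
  have hpres : Preserves q M := g.2
  have hAA : hstar q M * M = 1 := (preserves_iff_hstar hF).1 hpres
  have hμm : μ.Monic := minpoly.monic (Matrix.isIntegral _)
  have h0 : μ.coeff 0 ≠ 0 := by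
    intro h
    obtain ⟨w, hw⟩ := Matrix.minpoly_dvd_charpoly M
    have h1 : M.charpoly.coeff 0 = 0 := by rw [hw, mul_coeff_zero, ← hμ, h, zero_mul]
    have h2 := Matrix.det_eq_sign_charpoly_coeff M
    rw [h1, mul_zero] at h2
    exact ((Matrix.isUnit_iff_isUnit_det M).1 (hpres.isUnit hF)).ne_zero h2
  refine ⟨h0, ?_⟩
  have hd : μ ∣ ustar hF μ := by
    refine minpoly.dvd F _ ?_
    rw [ustar, reverse, natDegree_map_eq_of_injective (frob hF).toRingHom.injective,
      aeval_reflect (mul_eq_one_comm.1 hAA) hAA _ _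
        (natDegree_map_eq_of_injective (frob hF).toRingHom.injective μ).le,
      ← hstar_aeval hF, hμ, minpoly.aeval,
      show hstar q (0 : Matrix (Fin n) (Fin n) F) = 0 by ext a b; simp [hstar, q_ne_zero hF], mul_zero]
  have hu := ustar_dvd hF hd
  rw [ustar_ustar hF h0] at hu
  exact associated_of_dvd_dvd hu hd

/-- `PGU`. -/
abbrev toPGU (g : GU n F q) : GU n F q ⧸ Subgroup.center (GU n F q) :=
  QuotientGroup.mk' (Subgroup.center (GU n F q)) g

theorem gmat_pow (g : GU n F q) (k : ℕ) : gmat (g ^ k) = gmat g ^ k := by simp [gmat]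

theorem toPGU_pow_eq_one_iff (hF : Fintype.card F = q ^ 2) [NeZero n] (g : GU n F q) (k : ℕ) :
    toPGU g ^ k = 1 ↔ ∃ c : F, gmat g ^ k = algebraMap F (Matrix (Fin n) (Fin n) F) c := by
  unfold toPGU
  rw [← map_pow, QuotientGroup.mk'_apply, QuotientGroup.eq_one_iff, ← gmat_pow]
  constructor
  · intro hc
    obtain ⟨l, hl, -⟩ := eq_smul_of_mem_center_GU hF hc
    exact ⟨l, by rw [Algebra.algebraMap_eq_smul_one]; exact hl⟩
  · rintro ⟨c, hc⟩
    rw [Subgroup.mem_center_iff]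
    intro y
    apply Subtype.ext
    apply Units.ext
    show gmat y * gmat (g ^ k) = gmat (g ^ k) * gmat y
    rw [hc, Algebra.commutes]

/-- Element orders in `PGU`. -/
theorem pgu_order_le (hF : Fintype.card F = q ^ 2) (p : ℕ) [Fact p.Prime] [CharP F p] [NeZero n]
    (x : GU n F q ⧸ Subgroup.center (GU n F q)) :
    (∃ i, i ≤ n ∧ orderOf x ≤ p ^ Nat.clog p i) ∨
    ∃ E W, 2 ≤ E ∧ E + W ≤ n ∧ orderOf x ≤ p ^ Nat.clog p (W + 1) * bd q E := by
  obtain ⟨g, rfl⟩ := QuotientGroup.mk'_surjective _ x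
  change (∃ i, i ≤ n ∧ orderOf (toPGU g) ≤ _) ∨ ∃ E W, 2 ≤ E ∧ E + W ≤ n ∧ orderOf (toPGU g) ≤ _
  have hp1 : 1 < p := (Fact.out : p.Prime).one_lt
  have hq := two_le_q hF
  set M := gmat g with hM
  have hμd : (minpoly F M).natDegree ≤ n := minpoly_natDegree_le _
  obtain ⟨h0, hs⟩ := ustar_minpoly_gmat hF g
  have key : ∀ {H i : ℕ} {c : F}, 0 < H → minpoly F M ∣ (X ^ H - C c) ^ i →
      orderOf (toPGU g) ≤ p ^ Nat.clog p i * H := by
    intro H i c hH hd
    refine Nat.le_of_dvd (Nat.mul_pos (pow_pos (by omega) _) hH) ?_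
    apply orderOf_dvd_of_pow_eq_one
    rw [toPGU_pow_eq_one_iff hF]
    obtain ⟨v, hv⟩ := hd.trans (pow_dvd_pow _ (Nat.le_pow_clog hp1 i))
    have h := congrArg (aeval M) hv
    rw [map_mul, minpoly.aeval, zero_mul, sub_pow_char_pow, ← pow_mul, ← C_pow, map_sub, map_pow,
      aeval_X, aeval_C, sub_eq_zero] at h
    exact ⟨c ^ p ^ Nat.clog p i, by rw [mul_comm]; exact h⟩
  have : Nonempty (Fin n) := ⟨0⟩
  rcases selfdual_cases hF _ _ rfl (minpoly.natDegree_pos (Matrix.isIntegral M))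
      (minpoly.monic (Matrix.isIntegral M)) h0 hs with
    ⟨e, i, c, he, hi, hle, -, hd⟩ | ⟨N, E, W, hE, hEW, hN, hNb, -, hd⟩
  · rcases he.eq_or_lt with h1 | h2
    · left
      subst h1
      refine ⟨i, by omega, ?_⟩
      have := key (uH_pos hq le_rfl) hd
      rwa [uH_one, mul_one] at this
    · right
      have hei : e + (i - 1) ≤ e * i := by
        obtain ⟨j, rfl⟩ := Nat.exists_eq_add_of_le hi
        have : j ≤ e * j := Nat.le_mul_of_pos_left _ (by omega)
        rw [mul_add]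
        omega
      refine ⟨e, i - 1, h2, by omega, ?_⟩
      rw [Nat.sub_add_cancel hi]
      exact (key (uH_pos hq he) hd).trans (Nat.mul_le_mul_left _ (uH_le_bd hq h2))
  · exact Or.inr ⟨E, W, hE, hEW.trans hμd,
      (key hN (c := 1) (by rwa [C_1])).trans (Nat.mul_le_mul_left _ hNb)⟩

/-- Torus times a regular unipotent block. -/
theorem exists_pgu_order (hF : Fintype.card F = q ^ 2) (p : ℕ) [Fact p.Prime] [CharP F p] (hpq : p ∣ q)
    [NeZero n] {e k : ℕ} (he : 1 ≤ e) (hk : 1 ≤ k) (hn : e + k = n) :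
    ∃ x : GU n F q ⧸ Subgroup.center (GU n F q), uH q e * (q + 1) * p ^ Nat.clog p k ∣ orderOf x := by
  obtain ⟨R, _, _, _, _, PT, T, hR, hT1, hT3⟩ := exists_torus_full p hF he
  obtain ⟨PU, u, hu1, -, hu3⟩ := exists_unipotent_herm p hF hk
  let pb := AdjoinRoot.powerBasis' (monic_X_pow k : ((X : F[X]) ^ k).Monic)
  have : FiniteDimensional F (AdjoinRoot ((X : F[X]) ^ k)) := pb.finite
  have hS : Module.finrank F (AdjoinRoot ((X : F[X]) ^ k)) = k := by
    rw [pb.finrank]; simp [pb]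
  have hfin : Module.finrank F (R × AdjoinRoot ((X : F[X]) ^ k)) = n := by
    rw [Module.finrank_prod, hR, hS]; omega
  obtain ⟨Ψ, hΨ, hstarΨ, -⟩ := exists_rep hF (PT.prod hF PU) hfin
  have hw : Preserves q (Ψ (T, u)) := by
    rw [preserves_iff_hstar hF, hstarΨ, ← map_mul,
      show (PT.prod hF PU).σ (T, u) * (T, u) = 1 from Prod.ext hT1 hu1, map_one]
  refine ⟨toPGU (toGU hF hw), ?_⟩
  have hpow : ∀ j, gmat (toGU hF hw) ^ j = Ψ ((T, u) ^ j) := by
    intro j; rw [gmat, coe_toGU, map_pow]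
  obtain ⟨c, hc⟩ := (toPGU_pow_eq_one_iff hF _ _).1 (pow_orderOf_eq_one (toPGU (toGU hF hw)))
  set h := orderOf (toPGU (toGU hF hw))
  rw [hpow, ← AlgHom.commutes Ψ c] at hc
  have hc2 := hΨ hc
  obtain ⟨hc1, hp⟩ := hu3 h c (congrArg Prod.snd hc2)
  have hcT : T ^ h = algebraMap F R c := congrArg Prod.fst hc2
  rw [hc1, map_one] at hcT
  refine Nat.Coprime.mul_dvd_of_dvd_of_dvd ?_ ?_ hp
  · refine Nat.Coprime.pow_right _ ((uH_coprime (by have := two_le_q hF; omega) Fact.out hpq he).mul_left ?_)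
    rw [Nat.coprime_comm, (Fact.out : p.Prime).coprime_iff_not_dvd]
    intro hd
    exact (Fact.out : p.Prime).not_dvd_one ((Nat.dvd_add_right hpq).1 hd)
  · exact hT3 ▸ orderOf_dvd_of_pow_eq_one hcT

end Cfsg.Agent.Unitary
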