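import Mathlib

/-!
# Counting tuples of self-dual polynomials: the numerical part

`wt q d = (q + 1) q^(d-1)` bounds the number of self-dual monic polynomials of degree `d`; a pattern
records the degrees `d i` attached to the parts `i + 1`, with `∑ (i + 1) d i = n`.
-/

set_option autoImplicit false

namespace Cfsg.Agent.Unitary.SUClass

/-- The number of self-dual monic polynomials of degree `d`. -/
def wt (q d : ℕ) : ℕ := if d = 0 then 1 else (q + 1) * q ^ (d - 1)

/-- The degree patterns. -/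
def patterns (n : ℕ) : Finset (Fin n → ℕ) :=
  (Fintype.piFinset fun _ : Fin n => Finset.range (n + 1)).filter fun d => ∑ i : Fin n, ((i : ℕ) + 1) * d i = n

/-- The weight of a pattern. -/
def pwt {n : ℕ} (q : ℕ) (d : Fin n → ℕ) : ℕ := ∏ i, wt q (d i)

/-- The total weight. -/
def tot (q n : ℕ) : ℕ := ∑ d ∈ patterns n, pwt q d

/-- The parts that occur. -/
def supp {n : ℕ} (d : Fin n → ℕ) : Finset ℕ :=
  (Finset.univ.filter fun i => d i ≠ 0).image fun i : Fin n => (i : ℕ) + 1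

/-- The index of a pattern. -/
def eidx {n : ℕ} (q : ℕ) (d : Fin n → ℕ) : ℕ := Nat.gcd (q + 1) ((supp d).gcd id)

/-- The excess caused by patterns supported on multiples of a divisor of `q + 1`. -/
def exc (q n : ℕ) : ℕ :=
  ∑ δ ∈ (Finset.Icc 2 n).filter (fun δ => δ ∣ n ∧ δ ∣ q + 1), δ ^ 2 * tot q (n / δ)

theorem mem_patterns {n : ℕ} {d : Fin n → ℕ} :
    d ∈ patterns n ↔ ∑ i : Fin n, ((i : ℕ) + 1) * d i = n := by
  refine ⟨fun h => (Finset.mem_filter.1 h).2, fun h => Finset.mem_filter.2 ⟨?_, h⟩⟩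
  refine Fintype.mem_piFinset.2 fun i => Finset.mem_range.2 (Nat.lt_succ_of_le ?_)
  have h1 : ((i : ℕ) + 1) * d i ≤ n :=
    (Finset.single_le_sum (f := fun j : Fin n => ((j : ℕ) + 1) * d j) (fun j _ => Nat.zero_le _)
      (Finset.mem_univ i)).trans h.le
  have h2 : 1 * d i ≤ ((i : ℕ) + 1) * d i := Nat.mul_le_mul_right _ (by omega)
  omega

theorem eidx_spec {n q : ℕ} (hn : 1 ≤ n) {d : Fin n → ℕ} (hd : d ∈ patterns n) :
    0 < eidx q d ∧ eidx q d ∣ n ∧ eidx q d ∣ q + 1 ∧ eidx q d ≤ n ∧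
      ∀ i, d i ≠ 0 → eidx q d ∣ (i : ℕ) + 1 := by
  have hdvd : ∀ i, d i ≠ 0 → eidx q d ∣ (i : ℕ) + 1 := fun i hi =>
    (Nat.gcd_dvd_right _ _).trans (Finset.gcd_dvd (f := id)
      (Finset.mem_image.2 ⟨i, Finset.mem_filter.2 ⟨Finset.mem_univ i, hi⟩, rfl⟩))
  have hn' : eidx q d ∣ n := by
    conv_rhs => rw [← mem_patterns.1 hd]
    refine Finset.dvd_sum fun i _ => ?_
    by_cases hi : d i = 0
    · simp [hi]
    · exact (hdvd i hi).mul_right _
  exact ⟨Nat.gcd_pos_of_pos_left _ (by omega), hn', Nat.gcd_dvd_left _ _,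
    Nat.le_of_dvd (by omega) hn', hdvd⟩

/-- Patterns of index `δ` come from patterns of `n / δ`. -/
theorem sum_index_le {n q δ : ℕ} (hn : 1 ≤ n) (hδ : 0 < δ) (hδn : δ ∣ n) :
    ∑ d ∈ (patterns n).filter (fun d => eidx q d = δ), pwt q d ≤ tot q (n / δ) := by
  classical
  obtain ⟨m, rfl⟩ := hδn
  rw [Nat.mul_div_cancel_left _ hδ]
  let emb : Fin m → Fin (δ * m) := fun j => ⟨δ * ((j : ℕ) + 1) - 1, by
    have h1 : δ * ((j : ℕ) + 1) ≤ δ * m := Nat.mul_le_mul_left _ j.2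
    have h2 : 0 < δ * ((j : ℕ) + 1) := Nat.mul_pos hδ (by omega)
    omega⟩
  have hemb : ∀ j : Fin m, ((emb j : ℕ)) + 1 = δ * ((j : ℕ) + 1) := fun j => by
    have h2 : 0 < δ * ((j : ℕ) + 1) := Nat.mul_pos hδ (by omega)
    simp only [emb]
    omega
  have hinj : Function.Injective emb := by
    intro a b h
    have h1 := hemb a
    rw [h, hemb] at h1
    have := Nat.eq_of_mul_eq_mul_left hδ h1
    exact Fin.ext (by omega)
  let Φ : (Fin (δ * m) → ℕ) → Fin m → ℕ := fun d j => d (emb j)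
  have hout : ∀ d ∈ (patterns (δ * m)).filter (fun d => eidx q d = δ),
      ∀ i ∉ Set.range emb, d i = 0 := by
    intro d hd i hi
    rw [Finset.mem_filter] at hd
    by_contra h
    obtain ⟨c, hc⟩ := hd.2 ▸ (eidx_spec hn hd.1).2.2.2.2 i h
    have hc1 : 1 ≤ c := by
      rcases Nat.eq_zero_or_pos c with rfl | h0
      · rw [mul_zero] at hc; omega
      · exact h0
    have hcm : c ≤ m := Nat.le_of_mul_le_mul_left (by have := i.2; omega) hδ
    refine hi ⟨⟨c - 1, by omega⟩, Fin.ext ?_⟩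
    have := hemb ⟨c - 1, by omega⟩
    rw [show ((⟨c - 1, by omega⟩ : Fin m) : ℕ) + 1 = c by simp; omega, ← hc] at this
    omega
  have hΦinj : Set.InjOn Φ ↑((patterns (δ * m)).filter (fun d => eidx q d = δ)) := by
    intro d hd d' hd' h
    funext i
    by_cases hi : i ∈ Set.range emb
    · obtain ⟨j, rfl⟩ := hi
      exact congrFun h j
    · rw [hout d hd i hi, hout d' hd' i hi]
  calc ∑ d ∈ (patterns (δ * m)).filter (fun d => eidx q d = δ), pwt q d
      = ∑ d ∈ (patterns (δ * m)).filter (fun d => eidx q d = δ), pwt q (Φ d) := by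
        refine Finset.sum_congr rfl fun d hd => (Fintype.prod_of_injective emb hinj _ _ ?_ fun j => rfl).symm
        intro i hi
        rw [hout d hd i hi]; rfl
    _ = ∑ d ∈ ((patterns (δ * m)).filter (fun d => eidx q d = δ)).image Φ, pwt q d :=
        (Finset.sum_image hΦinj).symm
    _ ≤ tot q m := by
        refine Finset.sum_le_sum_of_subset fun d hd => ?_
        obtain ⟨d, hd', rfl⟩ := Finset.mem_image.1 hd
        refine mem_patterns.2 (Nat.eq_of_mul_eq_mul_left hδ ?_)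
        rw [Finset.mul_sum]
        conv_rhs => rw [← mem_patterns.1 (Finset.mem_filter.1 hd').1]
        refine Fintype.sum_of_injective emb hinj _ _ (fun i hi => by rw [hout d hd' i hi, mul_zero]) fun j => ?_
        rw [hemb, mul_assoc]

/-- The square of the index costs little. -/
theorem sum_sq_le (q n : ℕ) (hn : 1 ≤ n) :
    ∑ d ∈ patterns n, eidx q d ^ 2 * pwt q d ≤ tot q n + exc q n := by
  classical
  set D := (Finset.Icc 2 n).filter (fun δ => δ ∣ n ∧ δ ∣ q + 1)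
  have h1 : ∀ d ∈ patterns n, eidx q d ^ 2 * pwt q d ≤
      pwt q d + ∑ δ ∈ D, if eidx q d = δ then δ ^ 2 * pwt q d else 0 := by
    intro d hd
    obtain ⟨hpos, hdn, hdq, hle, -⟩ := eidx_spec (q := q) hn hd
    rw [Finset.sum_ite_eq]
    by_cases h : eidx q d ∈ D
    · rw [if_pos h]; exact Nat.le_add_left _ _
    · have : eidx q d = 1 := by
        by_contra h'
        exact h (Finset.mem_filter.2 ⟨Finset.mem_Icc.2 ⟨by omega, hle⟩, hdn, hdq⟩)
      rw [if_neg h, this]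
      simp
  refine (Finset.sum_le_sum h1).trans ?_
  rw [Finset.sum_add_distrib, tot, exc, Finset.sum_comm]
  refine Nat.add_le_add_left (Finset.sum_le_sum fun δ hδ => ?_) _
  rw [← Finset.sum_filter, ← Finset.mul_sum]
  exact Nat.mul_le_mul_left _ (sum_index_le hn
    (by have := (Finset.mem_Icc.1 (Finset.mem_filter.1 hδ).1).1; omega) (Finset.mem_filter.1 hδ).2.1)

/-! ### The product bound -/

/-- `∏_{j=1}^{m} (1 + r^(j+1)) / (1 - r^j)`. -/
def pr (r : ℚ) (m : ℕ) : ℚ := ∏ j ∈ Finset.range m, (1 + r ^ (j + 2)) / (1 - r ^ (j + 1))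

theorem geom_le (x c : ℚ) (hx : 0 ≤ x) (hx1 : x < 1) (hc : 0 ≤ c) (N : ℕ) :
    1 + c * ∑ d ∈ Finset.range N, x ^ (d + 1) ≤ (1 - x + c * x) / (1 - x) := by
  rw [le_div_iff₀ (by linarith)]
  have h : ∀ N, (∑ d ∈ Finset.range N, x ^ (d + 1)) * (1 - x) = x - x ^ (N + 1) := by
    intro N
    induction N with
    | zero => simp
    | succ N ih => rw [Finset.sum_range_succ, add_mul, ih]; ring
  have hp : 0 ≤ c * x ^ (N + 1) := mul_nonneg hc (pow_nonneg hx _)
  have e : (1 + c * ∑ d ∈ Finset.range N, x ^ (d + 1)) * (1 - x) = 1 - x + c * (x - x ^ (N + 1)) := by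
    rw [← h N]; ring
  rw [e, mul_sub]
  linarith

/-- The product bound for the total weight. -/
theorem tot_le {q : ℕ} (hq : 2 ≤ q) (m : ℕ) :
    (tot q (m + 1) : ℚ) ≤ (q : ℚ) ^ (m + 1) * ((1 + (q : ℚ)⁻¹) * pr (q : ℚ)⁻¹ m) := by
  classical
  set r : ℚ := (q : ℚ)⁻¹ with hr
  have hq0 : (q : ℚ) ≠ 0 := by positivity
  have hr0 : 0 < r := by positivity
  have hr1 : r ≤ 1 / 2 := by
    rw [hr, inv_le_comm₀ (by positivity) (by norm_num)]
    norm_num
    exact_mod_cast hq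
  have hqr : (q : ℚ) * r = 1 := mul_inv_cancel₀ hq0
  -- the scaled weights
  let u : ℕ → ℕ → ℚ := fun k d => (wt q d : ℚ) * r ^ (k * d)
  have hu0 : ∀ k d, 0 ≤ u k d := fun k d => mul_nonneg (Nat.cast_nonneg _) (pow_nonneg hr0.le _)
  have hu : ∀ k d, u (k + 1) (d + 1) = (1 + r) * (r ^ k) ^ (d + 1) := by
    intro k d
    simp only [u, wt, Nat.succ_ne_zero, if_false, Nat.add_sub_cancel]
    push_cast
    rw [← pow_mul, show (k + 1) * (d + 1) = k * (d + 1) + (d + 1) by ring, pow_add,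
      pow_succ r d]
    have h1 : (q : ℚ) ^ d * r ^ d = 1 := by rw [← mul_pow, hqr, one_pow]
    calc ((q : ℚ) + 1) * (q : ℚ) ^ d * (r ^ (k * (d + 1)) * (r ^ d * r))
        = ((q : ℚ) * r + r) * ((q : ℚ) ^ d * r ^ d) * r ^ (k * (d + 1)) := by ring
      _ = _ := by rw [h1, hqr]; ring
  have hu1 : ∀ d, u 1 d ≤ 1 + r := by
    intro d
    cases d with
    | zero => simp [u, wt, hr0.le]
    | succ d => rw [hu 0 d]; simp
  have hsum : ∀ d ∈ patterns (m + 1),
      (pwt q d : ℚ) = (q : ℚ) ^ (m + 1) * ∏ i : Fin (m + 1), u ((i : ℕ) + 1) (d i) := by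
    intro d hd
    simp only [u, Finset.prod_mul_distrib]
    rw [Finset.prod_pow_eq_pow_sum, mem_patterns.1 hd, pwt, Nat.cast_prod, ← mul_assoc,
      mul_comm ((q : ℚ) ^ (m + 1)), mul_assoc, ← mul_pow, hqr, one_pow, mul_one]
  rw [tot, Nat.cast_sum, Finset.sum_congr rfl hsum, ← Finset.mul_sum]
  refine mul_le_mul_of_nonneg_left ?_ (by positivity)
  calc ∑ d ∈ patterns (m + 1), ∏ i : Fin (m + 1), u ((i : ℕ) + 1) (d i)
      ≤ ∑ d ∈ patterns (m + 1), (1 + r) * ∏ i : Fin m, u ((i : ℕ) + 2) (Fin.tail d i) := by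
        refine Finset.sum_le_sum fun d _ => ?_
        rw [Fin.prod_univ_succ]
        exact mul_le_mul (hu1 _) (le_of_eq rfl) (Finset.prod_nonneg fun i _ => hu0 _ _) (by positivity)
    _ = (1 + r) * ∑ d ∈ patterns (m + 1), ∏ i : Fin m, u ((i : ℕ) + 2) (Fin.tail d i) := by
        rw [Finset.mul_sum]
    _ ≤ (1 + r) * ∑ x ∈ Fintype.piFinset (fun _ : Fin m => Finset.range (m + 2)),
          ∏ i : Fin m, u ((i : ℕ) + 2) (x i) := by
        refine mul_le_mul_of_nonneg_left ?_ (by positivity)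
        have hinj : Set.InjOn (Fin.tail : (Fin (m + 1) → ℕ) → Fin m → ℕ) ↑(patterns (m + 1)) := by
          intro d hd d' hd' h
          have h1 := mem_patterns.1 hd
          have h2 := mem_patterns.1 hd'
          rw [Fin.sum_univ_succ] at h1 h2
          have ht : ∀ i : Fin m, d i.succ = d' i.succ := fun i => congrFun h i
          simp only [ht, Fin.val_zero, zero_add, one_mul] at h1 h2
          funext i
          refine Fin.cases ?_ ht i
          omega
        rw [← Finset.sum_image (f := fun x : Fin m → ℕ => ∏ i : Fin m, u ((i : ℕ) + 2) (x i)) hinj]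
        refine Finset.sum_le_sum_of_subset_of_nonneg (fun x hx => ?_)
          fun x _ _ => Finset.prod_nonneg fun i _ => hu0 _ _
        obtain ⟨d, hd, rfl⟩ := Finset.mem_image.1 hx
        refine Fintype.mem_piFinset.2 fun i => ?_
        exact Fintype.mem_piFinset.1 (Finset.mem_filter.1 hd).1 i.succ
    _ ≤ (1 + r) * pr r m := by
        refine mul_le_mul_of_nonneg_left ?_ (by positivity)
        rw [← Finset.prod_univ_sum, pr,
          ← Fin.prod_univ_eq_prod_range (fun j => (1 + r ^ (j + 2)) / (1 - r ^ (j + 1))) m]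
        refine Finset.prod_le_prod (fun i _ => Finset.sum_nonneg fun d _ => hu0 _ _) fun i _ => ?_
        have hx1 : r ^ ((i : ℕ) + 1) < 1 := pow_lt_one₀ hr0.le (by linarith) (by omega)
        rw [Finset.sum_range_succ']
        simp only [hu]
        rw [show u ((i : ℕ) + 2) 0 = 1 by simp [u, wt], add_comm, ← Finset.mul_sum]
        refine (geom_le _ _ (pow_nonneg hr0.le _) hx1 (by positivity) _).trans (le_of_eq ?_)
        rw [show 1 - r ^ ((i : ℕ) + 1) + (1 + r) * r ^ ((i : ℕ) + 1) = 1 + r ^ ((i : ℕ) + 2) by ring]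

theorem pr_mono {r s : ℚ} (hr : 0 < r) (hrs : r ≤ s) (hs : s < 1) (m : ℕ) : pr r m ≤ pr s m := by
  refine Finset.prod_le_prod (fun j _ => ?_) fun j _ => ?_
  · have := pow_lt_one₀ hr.le (hrs.trans_lt hs) (show j + 1 ≠ 0 by omega)
    exact div_nonneg (by positivity) (by linarith)
  · have h1 : r ^ (j + 1) ≤ s ^ (j + 1) := pow_le_pow_left₀ hr.le hrs _
    have h2 : r ^ (j + 2) ≤ s ^ (j + 2) := pow_le_pow_left₀ hr.le hrs _
    have := pow_lt_one₀ (hr.le.trans hrs) hs (show j + 1 ≠ 0 by omega)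
    have h3 : 0 ≤ s ^ (j + 2) := pow_nonneg (hr.le.trans hrs) _
    exact div_le_div₀ (by linarith) (by linarith) (by linarith) (by linarith)

theorem pr_pos {r : ℚ} (hr : 0 < r) (hr1 : r < 1) (m : ℕ) : 0 < pr r m :=
  Finset.prod_pos fun j _ => by
    have := pow_lt_one₀ hr.le hr1 (show j + 1 ≠ 0 by omega)
    exact div_pos (by positivity) (by linarith)

theorem pr_le_succ {r : ℚ} (hr : 0 < r) (hr1 : r < 1) (m : ℕ) : pr r m ≤ pr r (m + 1) := by
  rw [pr, pr, Finset.prod_range_succ]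
  refine le_mul_of_one_le_right (pr_pos hr hr1 m).le ?_
  have := pow_lt_one₀ hr.le hr1 (show m + 1 ≠ 0 by omega)
  have h2 : 0 ≤ r ^ (m + 2) := by positivity
  have h3 : 0 ≤ r ^ (m + 1) := by positivity
  rw [le_div_iff₀ (by linarith)]
  linarith

theorem pr_mono_right {r : ℚ} (hr : 0 < r) (hr1 : r < 1) : Monotone (pr r) :=
  monotone_nat_of_le_succ (pr_le_succ hr hr1)

/-- A tail estimate: `pr r m * (1 + c r^m)` decreases. -/
theorem pr_tail {r c : ℚ} (hr : 0 < r) (hr1 : r ≤ 1 / 2) (hc : 0 ≤ c) {J : ℕ}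
    (h : ∀ m, J ≤ m → (1 + r * r ^ (m + 1)) * (1 + c * r ^ (m + 1)) ≤ (1 - r ^ (m + 1)) * (1 + c * r ^ m))
    {m : ℕ} (hm : J ≤ m) : pr r m * (1 + c * r ^ m) ≤ pr r J * (1 + c * r ^ J) := by
  induction m, hm using Nat.le_induction with
  | base => exact le_rfl
  | succ m hm ih =>
    refine le_trans ?_ ih
    rw [pr, Finset.prod_range_succ, ← pr, mul_assoc]
    refine mul_le_mul_of_nonneg_left ?_ (pr_pos hr (by linarith) m).le
    have := pow_lt_one₀ hr.le (show r < 1 by linarith) (show m + 1 ≠ 0 by omega)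
    rw [div_mul_eq_mul_div, div_le_iff₀ (by linarith), mul_comm (1 + c * r ^ m)]
    have h' := h m hm
    rwa [show r * r ^ (m + 1) = r ^ (m + 2) by ring] at h'

set_option maxRecDepth 10000 in
theorem pr_two (m : ℕ) : (1 + (2 : ℚ)⁻¹) * pr (2 : ℚ)⁻¹ m ≤ 826 / 100 := by
  have hb : (1 + (2 : ℚ)⁻¹) * (pr (2 : ℚ)⁻¹ 15 * (1 + 2 * (2 : ℚ)⁻¹ ^ 15)) ≤ 826 / 100 := by
    simp only [pr, Finset.prod_range_succ, Finset.prod_range_zero]
    norm_num
  have key : ∀ k, 15 ≤ k → (1 + (2 : ℚ)⁻¹) * pr (2 : ℚ)⁻¹ k ≤ 826 / 100 := by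
    intro k hk
    refine le_trans ?_ hb
    refine mul_le_mul_of_nonneg_left (le_trans ?_ (pr_tail (c := 2) (by norm_num) (by norm_num) (by norm_num) ?_ hk)) (by norm_num)
    · exact le_mul_of_one_le_right (pr_pos (by norm_num) (by norm_num) k).le (le_add_of_nonneg_right (by positivity))
    · intro j hj
      have h1 : (2 : ℚ)⁻¹ ^ (j + 1) ≤ (2 : ℚ)⁻¹ ^ 4 := pow_le_pow_of_le_one (by norm_num) (by norm_num) (by omega)
      have h2 : (0 : ℚ) ≤ (2 : ℚ)⁻¹ ^ (j + 1) := by positivity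
      rw [show (2 : ℚ)⁻¹ ^ j = 2 * (2 : ℚ)⁻¹ ^ (j + 1) by rw [pow_succ]; ring]
      norm_num at h1
      nlinarith
  refine le_trans (mul_le_mul_of_nonneg_left (pr_mono_right (by norm_num) (by norm_num) (Nat.le_max_left m 15)) (by norm_num)) ?_
  exact key _ (Nat.le_max_right m 15)

set_option maxRecDepth 10000 in
theorem pr_three (m : ℕ) : (1 + (3 : ℚ)⁻¹) * pr (3 : ℚ)⁻¹ m ≤ 280 / 100 := by
  have hb : (1 + (3 : ℚ)⁻¹) * (pr (3 : ℚ)⁻¹ 9 * (1 + 1 * (3 : ℚ)⁻¹ ^ 9)) ≤ 280 / 100 := by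
    simp only [pr, Finset.prod_range_succ, Finset.prod_range_zero]
    norm_num
  have key : ∀ k, 9 ≤ k → (1 + (3 : ℚ)⁻¹) * pr (3 : ℚ)⁻¹ k ≤ 280 / 100 := by
    intro k hk
    refine le_trans ?_ hb
    refine mul_le_mul_of_nonneg_left (le_trans ?_ (pr_tail (c := 1) (by norm_num) (by norm_num) (by norm_num) ?_ hk)) (by norm_num)
    · exact le_mul_of_one_le_right (pr_pos (by norm_num) (by norm_num) k).le (le_add_of_nonneg_right (by positivity))
    · intro j hj
      have h1 : (3 : ℚ)⁻¹ ^ (j + 1) ≤ (3 : ℚ)⁻¹ ^ 4 := pow_le_pow_of_le_one (by norm_num) (by norm_num) (by omega)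
      have h2 : (0 : ℚ) ≤ (3 : ℚ)⁻¹ ^ (j + 1) := by positivity
      rw [show (3 : ℚ)⁻¹ ^ j = 3 * (3 : ℚ)⁻¹ ^ (j + 1) by rw [pow_succ]; ring]
      norm_num at h1
      nlinarith
  refine le_trans (mul_le_mul_of_nonneg_left (pr_mono_right (by norm_num) (by norm_num) (Nat.le_max_left m 9)) (by norm_num)) ?_
  exact key _ (Nat.le_max_right m 9)

theorem tot_le_of {q k n : ℕ} (hq : 2 ≤ k) (hkq : k ≤ q) {C : ℕ}
    (h : ∀ m, (1 + (k : ℚ)⁻¹) * pr (k : ℚ)⁻¹ m ≤ C / 100) (hn : 1 ≤ n) :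
    100 * tot q n ≤ C * q ^ n := by
  obtain ⟨m, rfl⟩ := Nat.exists_eq_add_of_le' hn
  have hk2 : (2 : ℚ) ≤ k := by exact_mod_cast hq
  have hkq' : (k : ℚ) ≤ q := by exact_mod_cast hkq
  have hr : (q : ℚ)⁻¹ ≤ (k : ℚ)⁻¹ := inv_anti₀ (by linarith) hkq'
  have hs : (k : ℚ)⁻¹ < 1 := inv_lt_one_of_one_lt₀ (by linarith)
  have hr0 : (0 : ℚ) < (q : ℚ)⁻¹ := inv_pos.2 (by linarith)
  have h1 := tot_le (hq.trans hkq) m
  have h2 : (1 + (q : ℚ)⁻¹) * pr (q : ℚ)⁻¹ m ≤ C / 100 :=
    (mul_le_mul (by linarith) (pr_mono hr0 hr hs m) (pr_pos hr0 (hr.trans_lt hs) m).le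
      (by linarith)).trans (h m)
  have h3 : (100 * tot q (m + 1) : ℚ) ≤ C * (q : ℚ) ^ (m + 1) := by
    have := mul_le_mul_of_nonneg_left h2 (pow_nonneg (show (0:ℚ) ≤ q by positivity) (m + 1))
    linarith
  exact_mod_cast h3

/-- `∑ δ^2 3^(n/δ)`. -/
def sdiv (q n : ℕ) : ℕ := ∑ δ ∈ Finset.Icc 2 n, δ ^ 2 * q ^ (n / δ)

theorem sdiv_three {n : ℕ} (hn : 5 ≤ n) : 20 * (sdiv 3 n + 2 * (n + 3) ^ 2) ≤ 39 * 3 ^ n := by
  induction n, hn using Nat.le_induction with
  | base => decide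
  | succ n hn ih =>
    have h1 : sdiv 3 (n + 1) ≤ 3 * sdiv 3 n + (n + 1) ^ 2 * 3 := by
      rw [sdiv, Finset.sum_Icc_succ_top (by omega), Nat.div_self (by omega), pow_one]
      refine Nat.add_le_add_right ?_ _
      rw [sdiv, Finset.mul_sum]
      refine Finset.sum_le_sum fun δ hδ => ?_
      rw [← mul_assoc, mul_comm 3 (δ ^ 2), mul_assoc, ← pow_succ']
      refine Nat.mul_le_mul_left _ (Nat.pow_le_pow_right (by norm_num) ?_)
      rw [Nat.succ_div]
      split_ifs <;> omega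
    rw [show (3 : ℕ) ^ (n + 1) = 3 ^ n * 3 from pow_succ 3 n]
    nlinarith

theorem sdiv_le {q n : ℕ} (hq : 3 ≤ q) (hn : 2 ≤ n) : 20 * sdiv q n ≤ 39 * q ^ n := by
  have h3 : 20 * sdiv 3 n ≤ 39 * 3 ^ n := by
    rcases Nat.lt_or_ge n 5 with h | h
    · interval_cases n <;> decide
    · have := sdiv_three h
      omega
  refine Nat.le_of_mul_le_mul_right ?_ (show 0 < 3 ^ n by positivity)
  calc 20 * sdiv q n * 3 ^ n ≤ 20 * sdiv 3 n * q ^ n := by
        rw [mul_assoc, mul_assoc]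
        refine Nat.mul_le_mul_left _ ?_
        rw [sdiv, sdiv, Finset.sum_mul, Finset.sum_mul]
        refine Finset.sum_le_sum fun δ _ => ?_
        have hle : n / δ ≤ n := Nat.div_le_self _ _
        obtain ⟨j, hj⟩ := Nat.exists_eq_add_of_le hle
        generalize n / δ = i at hj ⊢
        subst hj
        rw [pow_add, pow_add]
        have : 3 ^ j ≤ q ^ j := Nat.pow_le_pow_left hq j
        nlinarith [Nat.mul_le_mul_left (δ ^ 2 * q ^ i * 3 ^ i) this]
    _ ≤ 39 * 3 ^ n * q ^ n := Nat.mul_le_mul_right _ h3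
    _ = 39 * q ^ n * 3 ^ n := by ring

/-- The final numerical bound. -/
theorem numeric {q n : ℕ} (hq : 2 ≤ q) (hn : 2 ≤ n) :
    100 * (tot q n + exc q n) ≤ (q + 1) * (826 * q ^ (n - 1)) := by
  have hpow : q * q ^ (n - 1) = q ^ n := by rw [← pow_succ', Nat.sub_add_cancel (by omega)]
  rcases Nat.lt_or_ge q 3 with h | h
  · obtain rfl : q = 2 := by omega
    have hT : ∀ k, 1 ≤ k → 100 * tot 2 k ≤ 826 * 2 ^ k := fun k hk =>
      tot_le_of (k := 2) le_rfl le_rfl (C := 826) pr_two hk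
    have hsub : (Finset.Icc 2 n).filter (fun δ => δ ∣ n ∧ δ ∣ 2 + 1) ⊆ {3} := by
      intro δ hδ
      rw [Finset.mem_filter, Finset.mem_Icc] at hδ
      rcases (Nat.dvd_prime Nat.prime_three).1 hδ.2.2 with h1 | h1
      · omega
      · simp [h1]
    have hA := hT n (by omega)
    by_cases h3 : 3 ∣ n
    · have hexc : exc 2 n ≤ 3 ^ 2 * tot 2 (n / 3) :=
        (Finset.sum_le_sum_of_subset hsub).trans (by rw [Finset.sum_singleton])
      obtain ⟨m, rfl⟩ := h3
      rw [Nat.mul_div_cancel_left _ (by norm_num)] at hexc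
      rcases Nat.lt_or_ge m 3 with hm | hm
      · have hS : tot 2 1 ≤ 3 ∧ tot 2 2 ≤ 15 := by
          refine ⟨?_, ?_⟩ <;> (rw [tot]; decide)
        interval_cases m
        all_goals norm_num at hA hexc ⊢
        all_goals omega
      · have hB := hT m (by omega)
        obtain ⟨j, rfl⟩ := Nat.exists_eq_add_of_le hm
        rw [show 3 * (3 + j) = 9 + 3 * j by ring] at *
        rw [show 9 + 3 * j - 1 = 8 + 3 * j by omega]
        simp only [pow_add, pow_mul] at *
        norm_num at *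
        have : 2 ^ j ≤ 8 ^ j := Nat.pow_le_pow_left (by norm_num) j
        omega
    · have hexc : exc 2 n = 0 := by
        refine Finset.sum_eq_zero fun δ hδ => ?_
        have := hsub hδ
        rw [Finset.mem_singleton] at this
        exact absurd (this ▸ (Finset.mem_filter.1 hδ).2.1) h3
      rw [hexc, add_zero]
      have : 826 * 2 ^ n = 2 * (826 * 2 ^ (n - 1)) := by rw [← hpow]; ring
      omega
  · have hT : ∀ k, 1 ≤ k → 100 * tot q k ≤ 280 * q ^ k := fun k hk =>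
      tot_le_of (k := 3) (by norm_num) h (C := 280) pr_three hk
    have hexc : 100 * exc q n ≤ 280 * sdiv q n := by
      rw [exc, sdiv, Finset.mul_sum, Finset.mul_sum]
      refine le_trans (Finset.sum_le_sum fun δ hδ => ?_)
        (Finset.sum_le_sum_of_subset (Finset.filter_subset _ _))
      obtain ⟨hδ1, hδn, -⟩ := Finset.mem_filter.1 hδ
      have h1 : 1 ≤ n / δ := (Nat.one_le_div_iff (by have := (Finset.mem_Icc.1 hδ1).1; omega)).2
        (Finset.mem_Icc.1 hδ1).2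
      have := Nat.mul_le_mul_left (δ ^ 2) (hT _ h1)
      linarith
    have h1 := hT n (by omega)
    have h2 := sdiv_le h hn
    have h3 : (q + 1) * (826 * q ^ (n - 1)) = 826 * q ^ n + 826 * q ^ (n - 1) := by
      rw [← hpow]; ring
    omega

end Cfsg.Agent.Unitary.SUClass
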