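import Mathlib
import Cfsg.Agent.H55.UnitaryOrders
import Cfsg.Agent.H55.SLCentralizerDet
import Cfsg.Agent.H55.SLScaleInvariant
import Cfsg.Agent.Unitary.Order
import Cfsg.Agent.Unitary.SUClassCount

/-!
# Conjugacy classes of `SU_n(q)` and tuples of self-dual polynomials

The elementary divisors of an element of `GU` are permuted by the twisted reciprocal, and the
determinants of its unitary centralizer contain the `(1 - q)`-th powers of those of its centralizer.
-/

set_option autoImplicit false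
set_option linter.unusedSectionVars false

namespace Cfsg.Agent.Unitary.SUClass

open Polynomial Cfsg.Agent.H55 Cfsg.Agent.Unitary
open Cfsg.Agent.H55.GLClassNumber Cfsg.Agent.H55.SLClassNumber
open scoped Matrix

variable {F : Type*} [Field F] [Fintype F] {n q : ℕ}

/-! ### The monic twisted reciprocal -/

variable (hF : Fintype.card F = q ^ 2)
include hF

theorem assoc_ustar {a b : F[X]} (h : Associated a b) : Associated (ustar hF a) (ustar hF b) := by
  obtain ⟨v, rfl⟩ := h
  rw [ustar_mul]
  refine associated_mul_unit_right _ _ (isUnit_of_dvd_one ?_)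
  have := ustar_dvd hF (v.isUnit.dvd (a := (1 : F[X])))
  rwa [show ustar hF (1 : F[X]) = 1 by simpa using ustar_pow hF (X : F[X]) 0] at this

/-- The monic twisted reciprocal. -/
noncomputable def mstar (p : F[X]) : F[X] := ustar hF p * C (ustar hF p).leadingCoeff⁻¹

theorem ustar_ne_zero {p : F[X]} (hp : p ≠ 0) : ustar hF p ≠ 0 := fun h => by
  have := coeff_zero_ustar hF p
  rw [h, coeff_zero] at this
  exact leadingCoeff_ne_zero.2 hp ((pow_q_eq_zero_iff hF).1 this.symm)

theorem mstar_assoc {p : F[X]} (hp : p ≠ 0) : Associated (ustar hF p) (mstar hF p) :=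
  (associated_mul_unit_left _ _ (isUnit_C.2 (isUnit_iff_ne_zero.2
    (inv_ne_zero (leadingCoeff_ne_zero.2 (ustar_ne_zero hF hp)))))).symm

theorem mstar_spec {p : F[X]} (hp : p.Monic) (h0 : p.coeff 0 ≠ 0) :
    (mstar hF p).Monic ∧ (mstar hF p).natDegree = p.natDegree ∧ (mstar hF p).coeff 0 ≠ 0 ∧
      mstar hF (mstar hF p) = p := by
  have hne : ustar hF p ≠ 0 := ustar_ne_zero hF hp.ne_zero
  have hm : (mstar hF p).Monic := monic_mul_leadingCoeff_inv hne
  have h0' : (mstar hF p).coeff 0 ≠ 0 := by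
    rw [mstar, coeff_mul_C, coeff_zero_ustar, hp.leadingCoeff, one_pow, one_mul]
    exact inv_ne_zero (leadingCoeff_ne_zero.2 hne)
  refine ⟨hm, ?_, h0', ?_⟩
  · rw [mstar, natDegree_mul_C (inv_ne_zero (leadingCoeff_ne_zero.2 hne)), natDegree_ustar hF h0]
  · refine eq_of_monic_of_associated (monic_mul_leadingCoeff_inv (ustar_ne_zero hF hm.ne_zero)) hp ?_
    refine (mstar_assoc hF hm.ne_zero).symm.trans ?_
    have := assoc_ustar hF (mstar_assoc hF hp.ne_zero)
    rw [ustar_ustar hF h0] at this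
    exact this.symm

theorem irreducible_mstar {p : F[X]} (hp : p.Monic) (hi : Irreducible p) (h0 : p.coeff 0 ≠ 0) :
    Irreducible (mstar hF p) :=
  (mstar_assoc hF hp.ne_zero).irreducible (irreducible_ustar hF hi h0)

theorem mstar_mul {p r : F[X]} (hp : p ≠ 0) (hr : r ≠ 0) :
    mstar hF (p * r) = mstar hF p * mstar hF r := by
  simp only [mstar, ustar_mul, leadingCoeff_mul, mul_inv, C_mul]
  ring

theorem mstar_one : mstar hF (1 : F[X]) = 1 := by
  rw [mstar, show ustar hF (1 : F[X]) = 1 by simpa using ustar_pow hF (X : F[X]) 0]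
  simp

theorem mstar_multisetProd (s : Multiset F[X]) (hs : ∀ p ∈ s, p.Monic) :
    mstar hF s.prod = (s.map (mstar hF)).prod := by
  induction s using Multiset.induction_on with
  | empty => simp [mstar_one hF]
  | cons a s ih =>
    rw [Multiset.map_cons, Multiset.prod_cons, Multiset.prod_cons,
      mstar_mul hF (hs a (Multiset.mem_cons_self a s)).ne_zero
        (by simpa using (Polynomial.monic_multiset_prod_of_monic s id
          (fun p hp => hs p (Multiset.mem_cons_of_mem hp))).ne_zero),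
      ih fun p hp => hs p (Multiset.mem_cons_of_mem hp)]

/-! ### Kernels -/

omit hF [Fintype F] in
theorem card_ker_transpose [Finite F] (N : Matrix (Fin n) (Fin n) F) :
    Nat.card {v : Fin n → F // Nᵀ *ᵥ v = 0} = Nat.card {v : Fin n → F // N *ᵥ v = 0} := by
  have key : ∀ N : Matrix (Fin n) (Fin n) F,
      Nat.card {v : Fin n → F // N *ᵥ v = 0} = Nat.card F ^ (n - N.rank) := by
    intro N
    have h1 : Nat.card {v : Fin n → F // N *ᵥ v = 0} = Nat.card (LinearMap.ker N.mulVecLin) :=
      Nat.card_congr (Equiv.subtypeEquivRight fun v => by simp)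
    rw [h1, Module.natCard_eq_pow_finrank (K := F)]
    congr 1
    have h2 := LinearMap.finrank_range_add_finrank_ker N.mulVecLin
    rw [Module.finrank_fin_fun] at h2
    rw [Matrix.rank]
    omega
  rw [key, key, Matrix.rank_transpose]

theorem card_ker_hstar (N : Matrix (Fin n) (Fin n) F) :
    Nat.card {v : Fin n → F // hstar q N *ᵥ v = 0} = Nat.card {v : Fin n → F // N *ᵥ v = 0} := by
  rw [← card_ker_transpose N]
  let e : (Fin n → F) ≃ (Fin n → F) := ⟨cj q, cj q, cj_cj hF, cj_cj hF⟩
  refine Nat.card_congr (e.subtypeEquiv fun v => ?_)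
  show hstar q N *ᵥ v = 0 ↔ Nᵀ *ᵥ cj q v = 0
  have h1 : hstar q N *ᵥ v = cj q (Nᵀ *ᵥ cj q v) := by
    funext i
    simp only [cj_apply, Matrix.mulVec, dotProduct, hstar, Matrix.transpose_apply, Matrix.map_apply]
    rw [sum_pow_q hF]
    refine Finset.sum_congr rfl fun j _ => ?_
    rw [mul_pow, pow_q_q hF]
  rw [h1, cj_eq_zero hF]

omit hF [Fintype F] in
theorem card_ker_mdl_eq (A : GL (Fin n) F) (P : F[X]) :
    Nat.card {v : Mdl A // P • v = 0} =
      Nat.card {v : Fin n → F // aeval (A : Matrix (Fin n) (Fin n) F) P *ᵥ v = 0} := by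
  let T := Matrix.toLin' (A : Matrix (Fin n) (Fin n) F)
  refine (Nat.card_congr ((Module.AEval'.of T).toEquiv.subtypeEquiv fun v => ?_)).symm
  show _ ↔ P • Module.AEval'.of T v = 0
  rw [← Module.AEval.of_aeval_smul, LinearEquiv.map_eq_zero_iff]
  have : aeval T P = Matrix.toLinAlgEquiv' (aeval (A : Matrix (Fin n) (Fin n) F) P) := by
    rw [show T = Matrix.toLinAlgEquiv' (A : Matrix (Fin n) (Fin n) F) from rfl]
    exact (Polynomial.aeval_algHom_apply (Matrix.toLinAlgEquiv' : Matrix (Fin n) (Fin n) F ≃ₐ[F] _).toAlgHom _ P)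
  show _ ↔ aeval T P v = 0
  rw [this, Matrix.toLinAlgEquiv'_apply]

theorem card_ker_mstar (A : GU n F q) {p : F[X]} (hp : p.Monic) (j : ℕ) :
    Nat.card {v : Mdl (A : GL (Fin n) F) // mstar hF p ^ j • v = 0} =
      Nat.card {v : Mdl (A : GL (Fin n) F) // p ^ j • v = 0} := by
  rw [card_ker_mdl_eq, card_ker_mdl_eq, ← card_ker_hstar hF (aeval _ (p ^ j))]
  have hc : (ustar hF p).leadingCoeff⁻¹ ^ j ≠ 0 :=
    pow_ne_zero _ (inv_ne_zero (leadingCoeff_ne_zero.2 (ustar_ne_zero hF hp.ne_zero)))
  have hAA : hstar q (gmat A) * gmat A = 1 := (preserves_iff_hstar hF).1 A.2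
  have haev : ∀ P : F[X], aeval (gmat A) (ustar hF P) =
      gmat A ^ P.natDegree * hstar q (aeval (gmat A) P) := by
    intro P
    rw [hstar_aeval hF, ustar, reverse, natDegree_map_eq_of_injective (frob hF).toRingHom.injective]
    exact aeval_reflect (mul_eq_one_comm.1 hAA) hAA _ _
      (natDegree_map_eq_of_injective (frob hF).toRingHom.injective P).le
  have e : aeval (gmat A) (mstar hF p ^ j) =
      (ustar hF p).leadingCoeff⁻¹ ^ j •
        (gmat A ^ (p ^ j).natDegree * hstar q (aeval (gmat A) (p ^ j))) := by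
    rw [mstar, mul_pow, ← C_pow, map_mul, aeval_C, ← Algebra.commutes, ← Algebra.smul_def,
      ← ustar_pow, haev]
  refine Nat.card_congr (Equiv.subtypeEquivRight fun v => ?_)
  show aeval (gmat A) (mstar hF p ^ j) *ᵥ v = 0 ↔ hstar q (aeval (gmat A) (p ^ j)) *ᵥ v = 0
  rw [e, Matrix.smul_mulVec, smul_eq_zero_iff_right hc, ← Matrix.mulVec_mulVec]
  have hu : IsUnit (gmat A ^ (p ^ j).natDegree) := ((A : GL (Fin n) F).isUnit).pow _
  exact ⟨fun h => (Matrix.mulVec_injective_iff_isUnit.2 hu) (h.trans (Matrix.mulVec_zero _).symm),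
    fun h => by rw [h, Matrix.mulVec_zero]⟩

/-- The elementary divisors of an element of `GU` are self-dual. -/
theorem mstar_gOf (A : GU n F q) {m : ℕ} {f : Fin m → F[X] × ℕ}
    (hf : ∀ i, (f i).1.Monic ∧ Irreducible (f i).1 ∧ (f i).2 ≠ 0 ∧ (f i).1.coeff 0 ≠ 0)
    (φ : Mdl (A : GL (Fin n) F) ≃ₗ[F[X]] ∀ i, Piece (f i)) {k : ℕ} (hk : 0 < k) :
    mstar hF (gOf f k) = gOf f k := by
  classical
  have hN : ∀ (p : F[X]), p.Monic → Irreducible p → p.coeff 0 ≠ 0 → ∀ j,
      nullity f (mstar hF p) j = nullity f p j := by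
    intro p hp hpi h0 j
    have hf' : ∀ i, (f i).1.Monic ∧ Irreducible (f i).1 := fun i => ⟨(hf i).1, (hf i).2.1⟩
    obtain ⟨hm, hd, -, -⟩ := mstar_spec hF hp h0
    have h1 := card_ker_mdl hf' φ hp hpi j
    have h2 := card_ker_mdl hf' φ hm (irreducible_mstar hF hp hpi h0) j
    rw [card_ker_mstar hF A hp, h1, hd] at h2
    exact (Nat.eq_of_mul_eq_mul_left hpi.natDegree_pos
      (Nat.pow_right_injective Finite.one_lt_card h2)).symm
  let M : Multiset F[X] := (Finset.univ.filter (fun i => (f i).2 = k)).val.map (fun i => (f i).1)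
  have hM : ∀ x ∈ M, x.Monic ∧ Irreducible x ∧ x.coeff 0 ≠ 0 := fun x hx => by
    obtain ⟨i, -, rfl⟩ := Multiset.mem_map.1 hx
    exact ⟨(hf i).1, (hf i).2.1, (hf i).2.2.2⟩
  have hcount : ∀ x, M.count x = (Finset.univ.filter (fun i => (f i).1 = x ∧ (f i).2 = k)).card := fun x => by
    rw [Multiset.count_map, Finset.card_def, ← Finset.filter_val, Finset.filter_filter]
    congr 2
    ext i
    simp [eq_comm, and_comm]
  have hinj : Set.InjOn (mstar hF) {x | x ∈ M} := by
    intro x hx y hy h
    rw [← (mstar_spec hF (hM x hx).1 (hM x hx).2.2).2.2.2, h, (mstar_spec hF (hM y hy).1 (hM y hy).2.2).2.2.2]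
  have hinv : M.map (mstar hF) = M := by
    refine Multiset.eq_of_le_of_card_le (Multiset.le_iff_count.2 fun y => ?_) (Multiset.card_map _ M).ge
    by_cases hy : y ∈ M.map (mstar hF)
    · obtain ⟨x, hx, rfl⟩ := Multiset.mem_map.1 hy
      rw [Multiset.count_map_eq_count _ _ hinj _ hx, hcount, hcount]
      have h1 := fibre_formula f x hk
      have h2 := fibre_formula f (mstar hF x) hk
      simp only [hN x (hM x hx).1 (hM x hx).2.1 (hM x hx).2.2] at h2
      omega
    · rw [Multiset.count_eq_zero_of_notMem hy]; exact Nat.zero_le _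
  rw [gOf, Finset.prod_eq_multiset_prod]
  show mstar hF M.prod = M.prod
  rw [mstar_multisetProd hF M (fun x hx => (hM x hx).1), hinv]

/-! ### Determinants of unitary centralizers -/

/-- `δ^(q-1)` is a determinant of the unitary centralizer if `δ` is one of the centralizer. -/
theorem pow_mem_detGU (A : GU n F q) {δ : Fˣ} (hδ : δ ∈ detCentralizer (A : GL (Fin n) F)) :
    δ ^ (q - 1) ∈ (Subgroup.centralizer ({A} : Set (GU n F q))).map (detGU n F q) := by
  obtain ⟨y, hy, rfl⟩ := Subgroup.mem_map.1 hδ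
  rw [Subgroup.mem_centralizer_singleton_iff] at hy
  set Y := (y : Matrix (Fin n) (Fin n) F) with hYdef
  set M := gmat A with hMdef
  have hYM : Commute Y M := by
    have := congrArg (fun g : GL (Fin n) F => (g : Matrix (Fin n) (Fin n) F)) hy
    simpa [Commute, SemiconjBy, hYdef, hMdef] using this
  have hAA : hstar q M * M = 1 := (preserves_iff_hstar hF).1 A.2
  have hstarM : ∀ B : Matrix (Fin n) (Fin n) F, Commute B M → Commute (hstar q B) M := by
    intro B hB
    show hstar q B * M = M * hstar q B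
    have h1 : hstar q M * hstar q B = hstar q B * hstar q M := by
      rw [← hstar_mul hF, ← hstar_mul hF, hB.eq]
    have hA' : M * hstar q M = 1 := mul_eq_one_comm.1 hAA
    calc hstar q B * M = M * hstar q M * (hstar q B * M) := by rw [hA', one_mul]
      _ = M * (hstar q M * hstar q B) * M := by simp only [mul_assoc]
      _ = M * hstar q B := by rw [h1, mul_assoc, mul_assoc, hAA, mul_one]
  set H := hstar q Y * Y with hH
  have hHu : IsUnit H := (hstar_isUnit hF y.isUnit).mul y.isUnit
  have hHs : hstar q H = H := by rw [hH, hstar_mul hF, hstar_hstar hF]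
  have hHM : Commute H M := (hstarM Y hYM).mul_left hYM
  obtain ⟨W, hWu, hW, hWc⟩ := exists_hstar_mul_self hF hHu hHs
  have hWM : Commute W M := hWc M hHM
  have hHW : Commute H (hstar q W) := by
    have h1 : Commute W H := hWc H (Commute.refl H)
    show H * hstar q W = hstar q W * H
    have := congrArg (hstar q) h1.eq
    rwa [hstar_mul hF W H, hstar_mul hF H W, hHs] at this
  have hWW : Commute W (hstar q W) := hWc _ hHW
  obtain ⟨w, rfl⟩ := hWu
  set W := (w : Matrix (Fin n) (Fin n) F) with hWdef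
  obtain ⟨w', hw'⟩ := hstar_isUnit hF w.isUnit
  have hP1 : Preserves q (Y * (↑w⁻¹ : Matrix (Fin n) (Fin n) F)) := by
    rw [preserves_iff_hstar hF, hstar_mul hF, mul_assoc, ← mul_assoc (hstar q Y), ← hH, ← hW,
      mul_assoc (hstar q W), Units.mul_inv, mul_one, ← hstar_mul hF, Units.mul_inv, hstar_one hF]
  have hP2 : Preserves q (W * (↑w'⁻¹ : Matrix (Fin n) (Fin n) F)) := by
    rw [preserves_iff_hstar hF, hstar_mul hF]
    have h2 : hstar q (↑w'⁻¹ : Matrix (Fin n) (Fin n) F) = (↑w⁻¹ : Matrix (Fin n) (Fin n) F) := by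
      have h := congrArg (hstar q) w'.inv_mul
      rw [hstar_mul hF, hstar_one hF, hw', hstar_hstar hF] at h
      exact (Units.inv_eq_of_mul_eq_one_right (u := w) h).symm
    rw [h2, mul_assoc, ← mul_assoc (hstar q W), ← hWW.eq, mul_assoc W, ← hw', Units.mul_inv, mul_one,
      Units.inv_mul]
  let g1 := toGU hF hP1
  let g2 := toGU hF hP2
  have hc : ∀ (g : GU n F q), Commute (gmat g) M → g ∈ Subgroup.centralizer ({A} : Set (GU n F q)) := by
    intro g h
    rw [Subgroup.mem_centralizer_singleton_iff]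
    exact Subtype.ext (Units.ext h.eq)
  have h1 : g1 ∈ Subgroup.centralizer ({A} : Set (GU n F q)) := by
    refine hc g1 ?_
    rw [gmat, coe_toGU]
    exact hYM.mul_left hWM.units_inv_left
  have h2 : g2 ∈ Subgroup.centralizer ({A} : Set (GU n F q)) := by
    refine hc g2 ?_
    rw [gmat, coe_toGU]
    exact hWM.mul_left (Commute.units_inv_left (hw'.symm ▸ hstarM W hWM))
  refine ⟨(g1 * g1 * g2)⁻¹, Subgroup.inv_mem _ (Subgroup.mul_mem _ (Subgroup.mul_mem _ h1 h1) h2), ?_⟩
  have hdet1 : detGU n F q g1 = Matrix.GeneralLinearGroup.det y *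
      (Matrix.GeneralLinearGroup.det (w : GL (Fin n) F))⁻¹ := by
    refine Units.ext ?_
    rw [detGU_val, coe_toGU, ← map_inv, Units.val_mul, Matrix.GeneralLinearGroup.val_det_apply,
      Matrix.GeneralLinearGroup.val_det_apply, Matrix.det_mul]
  have hdet2 : detGU n F q g2 = Matrix.GeneralLinearGroup.det (w : GL (Fin n) F) *
      ((Matrix.GeneralLinearGroup.det (w : GL (Fin n) F)) ^ q)⁻¹ := by
    have hw'det : Matrix.GeneralLinearGroup.det (w' : GL (Fin n) F) =
        Matrix.GeneralLinearGroup.det (w : GL (Fin n) F) ^ q := by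
      refine Units.ext ?_
      rw [Units.val_pow_eq_pow_val, Matrix.GeneralLinearGroup.val_det_apply,
        Matrix.GeneralLinearGroup.val_det_apply, hw', hstar, Matrix.det_transpose]
      exact ((frob hF).map_det W).symm
    refine Units.ext ?_
    rw [detGU_val, coe_toGU, ← hw'det, ← map_inv, Units.val_mul, Matrix.GeneralLinearGroup.val_det_apply,
      Matrix.GeneralLinearGroup.val_det_apply, Matrix.det_mul]
  have hn1 : detGU n F q g1 ^ (q + 1) = 1 := by
    refine Units.ext ?_
    rw [Units.val_pow_eq_pow_val, detGU_val, Units.val_one, coe_toGU, pow_succ']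
    exact hP1.det_norm hF
  set d1 := detGU n F q g1 with hd1
  set ω := Matrix.GeneralLinearGroup.det (w : GL (Fin n) F)
  rw [map_inv, map_mul, map_mul, ← hd1, hdet2]
  have e : Matrix.GeneralLinearGroup.det y = d1 * ω := by rw [hdet1, inv_mul_cancel_right]
  have hq := two_le_q hF
  rw [e, inv_eq_iff_mul_eq_one]
  have hq1 : ω ^ (q - 1) * ω = ω ^ q := pow_sub_one_mul (by omega) ω
  calc d1 * d1 * (ω * (ω ^ q)⁻¹) * (d1 * ω) ^ (q - 1)
      = (d1 ^ (q - 1) * d1 * d1) * ((ω ^ (q - 1) * ω) * (ω ^ q)⁻¹) := by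
        rw [mul_pow]; simp only [mul_comm, mul_assoc, mul_left_comm]
    _ = 1 := by rw [pow_sub_one_mul (by omega) d1, ← pow_succ, hn1, hq1, mul_inv_cancel, one_mul]

/-! ### Self-dual polynomials of given degree and constant -/

/-- Self-dual monic polynomials with given degree and constant term. -/
def SD (d : ℕ) (a : F) : Type _ :=
  {g : F[X] // g.Monic ∧ g.natDegree = d ∧ g.coeff 0 = a ∧ a ≠ 0 ∧ mstar hF g = g}

theorem coeff_rel {g : F[X]} (hg : g.Monic) (h0 : g.coeff 0 ≠ 0) (hs : mstar hF g = g) {i : ℕ}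
    (hi : i ≤ g.natDegree) : g.coeff (g.natDegree - i) ^ q = g.coeff i * g.coeff 0 ^ q := by
  have hne : (ustar hF g).leadingCoeff ≠ 0 := leadingCoeff_ne_zero.2 (ustar_ne_zero hF hg.ne_zero)
  have h := congrArg (fun p : F[X] => p.coeff i * (ustar hF g).leadingCoeff) hs
  simp only [mstar, coeff_mul_C, inv_mul_cancel₀ hne, mul_assoc, mul_one] at h
  rw [leadingCoeff_ustar hF h0] at h
  rw [← h, ustar, coeff_reverse, natDegree_map_eq_of_injective (frob hF).toRingHom.injective,
    revAt_le hi, coeff_map]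
  rfl

theorem finite_SD (d : ℕ) (a : F) : Finite (SD hF d a) := by
  let Φ : SD hF d a → (Fin (d + 1) → F) := fun g i => g.1.coeff i
  refine Finite.of_injective Φ fun g g' h => Subtype.ext (Polynomial.ext fun i => ?_)
  rcases Nat.lt_or_ge i (d + 1) with hi | hi
  · exact congrFun h ⟨i, hi⟩
  · rw [coeff_eq_zero_of_natDegree_lt (by rw [g.2.2.1]; omega),
      coeff_eq_zero_of_natDegree_lt (by rw [g'.2.2.1]; omega)]

theorem card_SD_le (d : ℕ) (a : F) : Nat.card (SD hF d a) ≤ q ^ (d - 1) := by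
  classical
  have hq := two_le_q hF
  have := finite_SD hF d a
  have hcard : Nat.card F = q ^ 2 := by rw [Nat.card_eq_fintype_card, hF]
  have hdet : ∀ (g g' : SD hF d a), (∀ i, 1 ≤ i → 2 * i ≤ d → g.1.coeff i = g'.1.coeff i) → g = g' := by
    intro G G' hcoef
    refine Subtype.ext (Polynomial.ext fun i => ?_)
    obtain ⟨hg, hd, hga, ha, hs⟩ := G.2
    obtain ⟨hg', hd', hga', -, hs'⟩ := G'.2
    generalize hGg : G.1 = g at hg hd hga hs hcoef ⊢
    generalize hGg' : G'.1 = g' at hg' hd' hga' hs' hcoef ⊢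
    rcases lt_trichotomy i d with hi | rfl | hi
    · rcases Nat.eq_zero_or_pos i with rfl | hi0
      · rw [hga, hga']
      rcases Nat.lt_or_ge d (2 * i) with h2 | h2
      · have e1 := coeff_rel hF hg (hga.symm ▸ ha) hs (i := i) (hd ▸ hi.le)
        have e2 := coeff_rel hF hg' (hga'.symm ▸ ha) hs' (i := i) (hd' ▸ hi.le)
        rw [hd, hga, show g.coeff (d - i) = g'.coeff (d - i) from hcoef (d - i) (by omega) (by omega)] at e1
        rw [hd', hga'] at e2
        exact mul_right_cancel₀ (pow_ne_zero _ ha) (e1.symm.trans e2)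
      · exact hcoef i hi0 h2
    · rw [← hd, hg.coeff_natDegree, hd, ← hd', hg'.coeff_natDegree]
    · rw [coeff_eq_zero_of_natDegree_lt (hd ▸ hi), coeff_eq_zero_of_natDegree_lt (hd' ▸ hi)]
  rcases Nat.even_or_odd d with ⟨h, rfl⟩ | ⟨h, rfl⟩
  · rcases Nat.eq_zero_or_pos h with rfl | hh
    · simp only [add_zero, Nat.zero_sub, pow_zero]
      rw [Finite.card_le_one_iff_subsingleton]
      exact ⟨fun g g' => hdet g g' fun i h1 h2 => by omega⟩
    let Mid := {x : F // x ^ q = x * a ^ q}
    have hMid : Nat.card Mid ≤ q := by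
      by_cases h0 : ∀ x : Mid, (x : F) = 0
      · refine (Finite.card_le_one_iff_subsingleton.2 ⟨fun x y => Subtype.ext ?_⟩).trans (by omega)
        rw [h0, h0]
      · push Not at h0
        obtain ⟨x0, hx0⟩ := h0
        rw [← card_fixed hF]
        refine Nat.card_le_card_of_injective
          (fun x : Mid => (⟨(x : F) / x0, ?_⟩ : {y : F // y ^ q = y})) fun x y h => Subtype.ext ?_
        · rw [div_pow, x.2, x0.2]
          by_cases ha : a = 0
          · exfalso
            have := x0.2
            have h2 : ((x0 : F)) ^ q = 0 := by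
              rw [this]; simp [ha, q_ne_zero hF]
            exact hx0 ((pow_q_eq_zero_iff hF).1 h2)
          · field_simp
        · exact (div_left_inj' hx0).1 (congrArg Subtype.val h)
    let Φ : SD hF (h + h) a → (Fin (h - 1) → F) × Mid := fun g =>
      (fun i => g.1.coeff ((i : ℕ) + 1), ⟨g.1.coeff h, by
        have e := coeff_rel hF g.2.1 (g.2.2.2.1.symm ▸ g.2.2.2.2.1) g.2.2.2.2.2 (i := h) (by rw [g.2.2.1]; omega)
        rwa [g.2.2.1, g.2.2.2.1, Nat.add_sub_cancel] at e⟩)
    have hinj : Function.Injective Φ := by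
      intro g g' hgg
      refine hdet g g' fun i h1 h2 => ?_
      rcases Nat.lt_or_ge i h with hi | hi
      · have := congrFun (congrArg Prod.fst hgg) ⟨i - 1, by omega⟩
        simpa [Φ, Nat.sub_add_cancel h1] using this
      · obtain rfl : i = h := by omega
        exact congrArg Subtype.val (congrArg Prod.snd hgg)
    refine (Nat.card_le_card_of_injective Φ hinj).trans ?_
    rw [Nat.card_prod, Nat.card_fun, Nat.card_fin, hcard]
    calc (q ^ 2) ^ (h - 1) * Nat.card Mid ≤ (q ^ 2) ^ (h - 1) * q := Nat.mul_le_mul_left _ hMid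
      _ = q ^ (h + h - 1) := by rw [← pow_mul, ← pow_succ]; congr 1; omega
  · let Φ : SD hF (2 * h + 1) a → (Fin h → F) := fun g i => g.1.coeff ((i : ℕ) + 1)
    have hinj : Function.Injective Φ := by
      intro g g' hgg
      refine hdet g g' fun i h1 h2 => ?_
      have := congrFun hgg ⟨i - 1, by omega⟩
      simpa [Φ, Nat.sub_add_cancel h1] using this
    refine (Nat.card_le_card_of_injective Φ hinj).trans ?_
    rw [Nat.card_fun, Nat.card_fin, hcard, ← pow_mul, Nat.add_sub_cancel]

end Cfsg.Agent.Unitary.SUClass
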