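import Mathlib
import Cfsg.Agent.H54.RegularClasses
import Cfsg.Agent.H55.SLTupleSum
import Cfsg.Agent.Unitary.SUClassTuple

/-!
# The class number of `SU_n(q)`
-/

set_option autoImplicit false
set_option linter.unusedSectionVars false

namespace Cfsg.Agent.Unitary.SUClass

open Polynomial Cfsg.Agent.H55 Cfsg.Agent.Unitary
open Cfsg.Agent.H55.GLClassNumber Cfsg.Agent.H55.SLClassNumber
open scoped Matrix

variable {F : Type*} [Field F] [Fintype F] {n q : ℕ}

set_option maxHeartbeats 1000000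

/-- The norm-one subgroup. -/
abbrev mu (F : Type*) [Field F] (q : ℕ) : Subgroup Fˣ := (powMonoidHom (q + 1) : Fˣ →* Fˣ).ker

theorem mu_pow (x : mu F q) : x ^ (q + 1) = 1 :=
  Subtype.ext x.2

theorem index_le_of_powers (hF : Fintype.card F = q ^ 2) (D : Subgroup (mu F q)) {e : ℕ}
    (he : e ∣ q + 1) (h : ∀ x : mu F q, x ^ e ∈ D) : D.index ≤ e := by
  have hle : (powMonoidHom e : mu F q →* mu F q).range ≤ D := by
    rintro _ ⟨x, rfl⟩; exact h x
  refine (Nat.le_of_dvd (Nat.pos_of_ne_zero Subgroup.index_ne_zero_of_finite)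
    (Subgroup.index_dvd_of_le hle)).trans_eq ?_
  rw [IsCyclic.index_powMonoidHom_range, card_ker_pow hF]
  exact Nat.gcd_eq_right he

/-- The data of a class: a tuple of self-dual polynomials. -/
theorem exists_tuple (hF : Fintype.card F = q ^ 2) (hn : 1 ≤ n) :
    ∃ G : ConjClasses (Cfsg.SU n F q) → (Fin n → F[X]),
      (∀ c, (∀ i, (G c i).Monic ∧ (G c i).coeff 0 ≠ 0 ∧ mstar hF (G c i) = G c i) ∧
        (fun i => (G c i).natDegree) ∈ patterns n ∧
        ∏ i : Fin n, (G c i).coeff 0 ^ ((i : ℕ) + 1) = (-1 : F) ^ n) ∧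
      ∀ g, Nat.card {c // G c = g} ≤ eidx q (fun i => (g i).natDegree) := by
  classical
  have hq := two_le_q hF
  choose rep hrep using (ConjClasses.exists_rep : ∀ c : ConjClasses (Cfsg.SU n F q), _)
  let A : ConjClasses (Cfsg.SU n F q) → GU n F q := fun c => toGU hF (rep c).2
  have hmatA : ∀ c, gmat (A c) = mat (rep c) := fun c => coe_toGU hF _
  choose m f hf hsum hequiv using fun c => exists_decomp (n := n) ((A c : GU n F q) : GL (Fin n) F)
  let G : ConjClasses (Cfsg.SU n F q) → (Fin n → F[X]) := fun c i => gOf (f c) ((i : ℕ) + 1)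
  have hdeg : ∀ c, ∑ i : Fin n, ((i : ℕ) + 1) * (G c i).natDegree = n := by
    intro c
    rw [Fin.sum_univ_eq_sum_range (fun i => (i + 1) * (gOf (f c) (i + 1)).natDegree) n]
    exact ((gOf_spec (hf c)).2 (hsum c)).1
  refine ⟨G, fun c => ⟨fun i => ⟨((gOf_spec (n := n) (hf c)).1 _).1, ((gOf_spec (n := n) (hf c)).1 _).2, ?_⟩,
    mem_patterns.2 (hdeg c), ?_⟩, fun g => ?_⟩
  · obtain ⟨φ⟩ := hequiv c
    exact mstar_gOf hF (A c) (hf c) φ (Nat.succ_pos _)
  · -- the determinant
    obtain ⟨φ⟩ := hequiv c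
    have hdet := det_eq_prod (fun i => (hf c i).1) (hsum c) φ
    have h1 : ((A c : GL (Fin n) F) : Matrix (Fin n) (Fin n) F).det = 1 := by
      show (gmat (A c)).det = 1
      rw [hmatA]; exact (rep c).1.2
    rw [h1] at hdet
    have h2 : ∏ i : Fin n, (G c i).coeff 0 ^ ((i : ℕ) + 1) = ∏ i, (f c i).1.coeff 0 ^ (f c i).2 := by
      rw [Fin.prod_univ_eq_prod_range (fun i => (gOf (f c) (i + 1)).coeff 0 ^ (i + 1)) n,
        ← Finset.prod_fiberwise_of_maps_to (t := Finset.range n) (g := fun i => (f c i).2 - 1)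
          (fun i _ => Finset.mem_range.2 (by
            have := ((gOf_spec (hf c)).2 (hsum c)).2 i; have := (hf c i).2.2.1; omega))
          (fun i => (f c i).1.coeff 0 ^ (f c i).2)]
      refine Finset.prod_congr rfl fun k _ => ?_
      rw [gOf, Polynomial.coeff_zero_eq_eval_zero, Polynomial.eval_prod, ← Finset.prod_pow]
      refine Finset.prod_congr (Finset.filter_congr fun i _ => ?_) fun i hi => ?_
      · have := (hf c i).2.2.1
        omega
      · have := (hf c i).2.2.1
        rw [← Polynomial.coeff_zero_eq_eval_zero]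
        rw [Finset.mem_filter] at hi
        rw [show (f c i).2 = k + 1 by omega]
    rw [h2]
    have h4 : ((-1 : F) ^ n) * (-1) ^ n = 1 := by rw [← mul_pow]; simp
    calc ∏ i, (f c i).1.coeff 0 ^ (f c i).2
        = ((-1 : F) ^ n * (-1) ^ n) * ∏ i, (f c i).1.coeff 0 ^ (f c i).2 := by rw [h4, one_mul]
      _ = (-1) ^ n := by rw [mul_assoc, ← hdet, mul_one]
  · -- the fibre
    rcases isEmpty_or_nonempty {c // G c = g} with he | ⟨⟨c0, hc0⟩⟩
    · rw [Nat.card_of_isEmpty]; exact Nat.zero_le _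
    have hconj : ∀ c, G c = g → ∃ P : GU n F q, P * A c0 * P⁻¹ = A c := by
      intro c hc
      obtain ⟨φ⟩ := hequiv c0
      obtain ⟨φ'⟩ := hequiv c
      refine isConj_iff.1 ((isConj_GU_iff hF _ _).2
        (isConj_of_gOf (hf c0) (hsum c0) φ (hf c) (hsum c) φ' fun k hk => ?_))
      rw [Finset.mem_Icc] at hk
      have h := congrFun (hc0.trans hc.symm) ⟨k - 1, by omega⟩
      simpa [G, Nat.sub_add_cancel hk.1] using h
    choose P hP using hconj
    have hPmu : ∀ x : GU n F q, detGU n F q x ∈ mu F q := by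
      intro x
      rw [MonoidHom.mem_ker, powMonoidHom_apply]
      refine Units.ext ?_
      rw [Units.val_pow_eq_pow_val, detGU_val, Units.val_one, pow_succ']
      exact Preserves.det_norm hF x.2
    let D := ((Subgroup.centralizer ({A c0} : Set (GU n F q))).map (detGU n F q)).subgroupOf (mu F q)
    let Ξ : {c // G c = g} → mu F q ⧸ D := fun c =>
      QuotientGroup.mk ⟨detGU n F q (P c.1 c.2), hPmu _⟩
    have hinj : Function.Injective Ξ := by
      rintro ⟨c, hc⟩ ⟨d, hd⟩ h
      obtain ⟨C, hC, hCdet⟩ := Subgroup.mem_map.1 (Subgroup.mem_subgroupOf.1 (QuotientGroup.eq.1 h))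
      rw [Subgroup.mem_centralizer_singleton_iff] at hC
      let X0 : GU n F q := P d hd * C⁻¹ * (P c hc)⁻¹
      have hX : detGU n F q X0 = 1 := by
        simp only [X0, map_mul, map_inv, hCdet, Subgroup.coe_mul, Subgroup.coe_inv, mul_inv_rev, inv_inv]
        simp
      have hXd : (gmat X0).det = 1 := by
        have := congrArg (fun u : Fˣ => (u : F)) hX
        simpa [detGU_val] using this
      let S0 : Cfsg.SU n F q := toSU (M := gmat X0) X0.2 hXd
      have hconjX : X0 * A c * X0⁻¹ = A d := by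
        have hC' : C⁻¹ * A c0 * C = A c0 := by rw [mul_assoc, ← hC, inv_mul_cancel_left]
        rw [← hP c hc, ← hP d hd]
        simp only [X0, mul_inv_rev, inv_inv]
        calc _ = P d hd * (C⁻¹ * A c0 * C) * (P d hd)⁻¹ := by group
          _ = _ := by rw [hC']
      refine Subtype.ext ?_
      show c = d
      rw [← hrep c, ← hrep d, ConjClasses.mk_eq_mk_iff_isConj, isConj_iff]
      refine ⟨S0, mul_inv_eq_iff_eq_mul.2 ?_⟩
      rw [mul_inv_eq_iff_eq_mul] at hconjX
      apply Subtype.ext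
      apply Subtype.ext
      show mat S0 * mat (rep c) = mat (rep d) * mat S0
      rw [← hmatA, ← hmatA]
      exact congrArg (fun x : GU n F q => gmat x) hconjX
    refine (Nat.card_le_card_of_injective Ξ hinj).trans ?_
    rw [← Subgroup.index_eq_card]
    refine index_le_of_powers hF D (Nat.gcd_dvd_left _ _) fun x => ?_
    refine pow_gcd_mem D mu_pow (fun k hk a => ?_) x
    obtain ⟨i, hi, rfl⟩ := Finset.mem_image.1 hk
    have hdeg' : (gOf (f c0) ((i : ℕ) + 1)).natDegree ≠ 0 := by
      have := (Finset.mem_filter.1 hi).2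
      rw [← hc0] at this
      exact this
    obtain ⟨l, hl⟩ : ∃ l, (f c0 l).2 = (i : ℕ) + 1 := by
      by_contra hh
      push Not at hh
      refine hdeg' ?_
      rw [gOf, Finset.filter_false_of_mem (fun l _ => hh l)]
      simp
    obtain ⟨φ⟩ := hequiv c0
    have ha : (a : Fˣ) ∈ (powMonoidHom (q - 1) : Fˣ →* Fˣ).range := by
      rw [range_pow_sub_eq_ker hF]; exact a.2
    obtain ⟨y, hy⟩ := ha
    rw [powMonoidHom_apply] at hy
    rw [Subgroup.mem_subgroupOf, SubgroupClass.coe_pow, ← hy, ← pow_mul, mul_comm, pow_mul]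
    exact pow_mem_detGU hF (A c0) (hl ▸ pow_mem_detCentralizer (fun j => ⟨(hf c0 j).1, (hf c0 j).2.1⟩) φ l y)

/-- Tuples of constants with a given product of powers. -/
theorem card_sol_le (hF : Fintype.card F = q ^ 2) {d : Fin n → ℕ} (t : mu F q) :
    (q + 1) * Nat.card {a : {i // d i ≠ 0} → mu F q // ∏ i, a i ^ ((i : ℕ) + 1) = t} ≤
      eidx q d * (q + 1) ^ Fintype.card {i // d i ≠ 0} := by
  classical
  let Ψ : ({i // d i ≠ 0} → mu F q) →* mu F q :=
    MonoidHom.mk' (fun a => ∏ i, a i ^ ((i : ℕ) + 1)) fun a b => by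
      simp [mul_pow, Finset.prod_mul_distrib]
  have hle : Nat.card {a : {i // d i ≠ 0} → mu F q // ∏ i, a i ^ ((i : ℕ) + 1) = t} ≤ Nat.card Ψ.ker := by
    rcases isEmpty_or_nonempty {a : {i // d i ≠ 0} → mu F q // ∏ i, a i ^ ((i : ℕ) + 1) = t} with h | ⟨⟨a0⟩⟩
    · rw [Nat.card_of_isEmpty]; exact Nat.zero_le _
    · refine Nat.card_le_card_of_injective (fun a => (⟨a0.1⁻¹ * a.1, ?_⟩ : Ψ.ker)) fun a b h => Subtype.ext ?_
      · rw [MonoidHom.mem_ker, map_mul, map_inv, show Ψ a0.1 = t from a0.2, show Ψ a.1 = t from a.2,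
          inv_mul_cancel]
      · exact mul_left_cancel (congrArg Subtype.val h)
  have hidx : Ψ.range.index ≤ eidx q d := by
    refine index_le_of_powers hF _ (Nat.gcd_dvd_left _ _) fun x => pow_gcd_mem _ mu_pow (fun k hk a => ?_) x
    obtain ⟨i, hi, rfl⟩ := Finset.mem_image.1 hk
    refine ⟨Pi.mulSingle ⟨i, (Finset.mem_filter.1 hi).2⟩ a, ?_⟩
    rw [show Ψ (Pi.mulSingle ⟨i, (Finset.mem_filter.1 hi).2⟩ a) =
      ∏ j : {i // d i ≠ 0}, (Pi.mulSingle (M := fun _ => mu F q) ⟨i, (Finset.mem_filter.1 hi).2⟩ a j) ^ ((j : ℕ) + 1) from rfl,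
      Finset.prod_eq_single ⟨i, (Finset.mem_filter.1 hi).2⟩ (fun j _ hj => by
      rw [Pi.mulSingle_eq_of_ne hj, one_pow]) (fun h => absurd (Finset.mem_univ _) h), Pi.mulSingle_eq_same]
  have h1 := Subgroup.card_mul_index Ψ.ker
  rw [Subgroup.index_ker, Nat.card_fun, card_ker_pow hF, Nat.card_eq_fintype_card (α := {i // d i ≠ 0})] at h1
  have h2 := Subgroup.index_mul_card Ψ.range
  rw [card_ker_pow hF] at h2
  calc (q + 1) * _ ≤ (q + 1) * Nat.card Ψ.ker := Nat.mul_le_mul_left _ hle
    _ = Ψ.range.index * Nat.card Ψ.range * Nat.card Ψ.ker := by rw [h2]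
    _ ≤ eidx q d * Nat.card Ψ.range * Nat.card Ψ.ker :=
        Nat.mul_le_mul_right _ (Nat.mul_le_mul_right _ hidx)
    _ = _ := by rw [mul_assoc, mul_comm (Nat.card Ψ.range), h1]

/-- The class number is bounded by the weights. -/
theorem classNumber_le (hF : Fintype.card F = q ^ 2) (hn : 1 ≤ n) :
    (q + 1) * Nat.card (ConjClasses (Cfsg.SU n F q)) ≤ tot q n + exc q n := by
  classical
  refine le_trans ?_ (sum_sq_le q n hn)
  obtain ⟨G, hG, hfib⟩ := exists_tuple (n := n) hF hn
  haveI : Finite (ConjClasses (Cfsg.SU n F q)) := inferInstance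
  haveI := Fintype.ofFinite (ConjClasses (Cfsg.SU n F q))
  set T := Finset.univ.image G
  have hcount : Nat.card (ConjClasses (Cfsg.SU n F q)) ≤ ∑ g ∈ T, eidx q (fun i => (g i).natDegree) := by
    rw [Nat.card_eq_fintype_card, ← Finset.card_univ,
      Finset.card_eq_sum_card_fiberwise (f := G) (t := T) (fun c _ => Finset.mem_image_of_mem G (Finset.mem_univ c))]
    refine Finset.sum_le_sum fun g _ => le_of_eq_of_le ?_ (hfib g)
    rw [Nat.card_eq_fintype_card, Fintype.card_subtype]
  have hmaps : ∀ g ∈ T, (fun i => (g i).natDegree) ∈ patterns n := by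
    intro g hg
    obtain ⟨c, -, rfl⟩ := Finset.mem_image.1 hg
    exact (hG c).2.1
  refine (Nat.mul_le_mul_left _ hcount).trans ?_
  rw [← Finset.sum_fiberwise_of_maps_to hmaps, Finset.mul_sum]
  refine Finset.sum_le_sum fun d _ => ?_
  rw [Finset.sum_congr rfl (g := fun _ => eidx q d) (fun g hg => by rw [(Finset.mem_filter.1 hg).2]),
    Finset.sum_const, smul_eq_mul, ← mul_assoc, pow_two, mul_comm _ (eidx q d), mul_assoc (eidx q d) (eidx q d)]
  refine Nat.mul_le_mul_left _ ?_
  let t : mu F q := ⟨(-1) ^ n, by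
    rw [MonoidHom.mem_ker, powMonoidHom_apply, ← pow_mul, mul_comm, pow_mul]
    have h1 : (-1 : Fˣ) ^ (q + 1) = 1 := by
      refine Units.ext ?_
      rw [Units.val_pow_eq_pow_val, Units.val_neg, Units.val_one, pow_succ', neg_pow_q hF, one_pow]
      simp
    rw [h1, one_pow]⟩
  let Sol := {a : {i // d i ≠ 0} → mu F q // ∏ i, a i ^ ((i : ℕ) + 1) = t}
  haveI : ∀ (i : {i // d i ≠ 0}) (a : mu F q), Finite (SD hF (d i) ((a : Fˣ) : F)) := fun i a => finite_SD hF _ _
  let Tgt := Σ a : Sol, ∀ i : {i // d i ≠ 0}, SD hF (d i) ((a.1 i : Fˣ) : F)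
  -- encode a tuple
  have henc : ∀ g ∈ T.filter (fun g => (fun i => (g i).natDegree) = d),
      ∃ w : Tgt, ∀ i : {i // d i ≠ 0}, (w.2 i).1 = g i := by
    intro g hg
    obtain ⟨hgT, hgd⟩ := Finset.mem_filter.1 hg
    obtain ⟨c, -, rfl⟩ := Finset.mem_image.1 hgT
    obtain ⟨hg1, -, hg3⟩ := hG c
    have hd : ∀ i, (G c i).natDegree = d i := fun i => congrFun hgd i
    have hmu : ∀ i, Units.mk0 _ (hg1 i).2.1 ∈ mu F q := by
      intro i
      have e := coeff_rel hF (hg1 i).1 (hg1 i).2.1 (hg1 i).2.2 (Nat.zero_le _)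
      rw [Nat.sub_zero, (hg1 i).1.coeff_natDegree, one_pow] at e
      rw [MonoidHom.mem_ker, powMonoidHom_apply]
      refine Units.ext ?_
      rw [Units.val_pow_eq_pow_val, Units.val_mk0, Units.val_one, pow_succ']
      exact e.symm
    have hsol : ∏ i : {i // d i ≠ 0}, (⟨_, hmu i.1⟩ : mu F q) ^ ((i : ℕ) + 1) = t := by
      apply Subtype.ext
      apply Units.ext
      simp only [SubmonoidClass.coe_finsetProd, SubgroupClass.coe_pow, Units.coe_prod,
        Units.val_pow_eq_pow_val, Units.val_mk0, t, Units.val_neg, Units.val_one]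
      rw [← hg3]
      refine Fintype.prod_of_injective _ Subtype.val_injective _ _ (fun i hi => ?_) (fun i => rfl)
      have h0 : d i = 0 := by
        by_contra h
        exact hi ⟨⟨i, h⟩, rfl⟩
      rw [H55.SLClassNumber.coeff_zero_eq_one (hg1 i).1 (by rw [hd, h0]), one_pow]
    exact ⟨⟨⟨_, hsol⟩, fun i => ⟨G c i, (hg1 i).1, hd i, rfl, (hg1 i).2.1, (hg1 i).2.2⟩⟩, fun i => rfl⟩
  choose enc henc using henc
  have hinj : Function.Injective
      (fun g : {g // g ∈ T.filter (fun g => (fun i => (g i).natDegree) = d)} => enc g.1 g.2) := by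
    intro g g' h
    refine Subtype.ext (funext fun i => ?_)
    by_cases hi : d i = 0
    · have hT : ∀ g : {g // g ∈ T.filter (fun g => (fun i => (g i).natDegree) = d)}, g.1 i = 1 := by
        intro g
        obtain ⟨hgT, hgd⟩ := Finset.mem_filter.1 g.2
        obtain ⟨c, -, hc⟩ := Finset.mem_image.1 hgT
        refine Polynomial.eq_one_of_monic_natDegree_zero (hc ▸ ((hG c).1 i).1) ?_
        rw [show (g.1 i).natDegree = d i from congrFun hgd i, hi]
      rw [hT, hT]
    · have h2 := congrArg (fun w : Tgt => (w.2 ⟨i, hi⟩).1) h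
      simpa only [henc] using h2
  have hcard : (T.filter (fun g => (fun i => (g i).natDegree) = d)).card ≤
      Nat.card Sol * ∏ i : {i // d i ≠ 0}, q ^ (d i - 1) := by
    have h1 := Nat.card_le_card_of_injective _ hinj
    rw [Nat.card_eq_fintype_card, Fintype.card_coe] at h1
    refine h1.trans ?_
    haveI : Fintype Sol := Fintype.ofFinite _
    rw [Nat.card_sigma, Nat.card_eq_fintype_card (α := Sol), ← Finset.card_univ, ← smul_eq_mul,
      ← Finset.sum_const]
    refine Finset.sum_le_sum fun a _ => ?_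
    rw [Nat.card_pi]
    exact Finset.prod_le_prod' fun i _ => card_SD_le hF _ _
  have hpwt : pwt q d = (q + 1) ^ Fintype.card {i // d i ≠ 0} * ∏ i : {i // d i ≠ 0}, q ^ (d i - 1) := by
    rw [← Finset.card_univ, ← Finset.prod_const, ← Finset.prod_mul_distrib, pwt]
    refine (Fintype.prod_of_injective _ Subtype.val_injective _ _ (fun i hi => ?_) (fun i => ?_)).symm
    · have h0 : d i = 0 := by
        by_contra h
        exact hi ⟨⟨i, h⟩, rfl⟩
      rw [h0]; rfl
    · rw [wt, if_neg i.2]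
  calc (q + 1) * (T.filter (fun g => (fun i => (g i).natDegree) = d)).card
      ≤ (q + 1) * (Nat.card Sol * ∏ i : {i // d i ≠ 0}, q ^ (d i - 1)) := Nat.mul_le_mul_left _ hcard
    _ ≤ eidx q d * (q + 1) ^ Fintype.card {i // d i ≠ 0} * ∏ i : {i // d i ≠ 0}, q ^ (d i - 1) := by
        rw [← mul_assoc]
        exact Nat.mul_le_mul_right _ (card_sol_le hF t)
    _ = eidx q d * pwt q d := by rw [hpwt, mul_assoc]

/-- Every self-dual polynomial with constant `(-1)^n` is a characteristic polynomial in `SU_n`. -/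
theorem exists_SU_charpoly (hF : Fintype.card F = q ^ 2) {f : F[X]} (hf : f.Monic)
    (hd : f.natDegree = n) (h0 : f.coeff 0 = (-1) ^ n) (hs : mstar hF f = f) :
    ∃ B : Cfsg.SU n F q, (mat B).charpoly = f := by
  obtain ⟨p, hpF⟩ := CharP.exists F
  have : Fact p.Prime := ⟨CharP.char_is_prime F p⟩
  have h00 : f.coeff 0 ≠ 0 := by rw [h0]; exact pow_ne_zero _ (neg_ne_zero.2 one_ne_zero)
  obtain ⟨s, hs1, hs2⟩ := H54.exists_regular_charpoly p hf hd h00
  let τ : GL (Fin n) F →* GL (Fin n) F :=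
    MonoidHom.mk' (fun x => ((hstar_isUnit hF x.isUnit).unit)⁻¹) fun x y => by
      rw [← mul_inv_rev]
      congr 1
      apply Units.ext
      simp [hstar_mul hF]
  have hs3 : (orderOf (τ s)).Coprime p := Nat.Coprime.coprime_dvd_left (orderOf_map_dvd τ s) hs1
  have hτ : ((τ s : GL (Fin n) F) : Matrix (Fin n) (Fin n) F) = (hstar q (s : Matrix (Fin n) (Fin n) F))⁻¹ := by
    show ((((hstar_isUnit hF s.isUnit).unit)⁻¹ : GL (Fin n) F) : Matrix (Fin n) (Fin n) F) = _
    rw [Matrix.coe_units_inv, IsUnit.unit_spec]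
  have hchar : (s : Matrix (Fin n) (Fin n) F).charpoly = ((τ s : GL (Fin n) F) : Matrix (Fin n) (Fin n) F).charpoly := by
    set N := hstar q (s : Matrix (Fin n) (Fin n) F) with hN
    have hNu : IsUnit N := hstar_isUnit hF s.isUnit
    rw [hτ, hs2]
    refine (eq_of_monic_of_associated (Matrix.charpoly_monic _) hf ?_).symm
    rw [Matrix.charpoly_inv N hNu, ← Matrix.reverse_charpoly]
    have e : N.charpoly = f.map (frob hF).toRingHom := by
      rw [hN, hstar, Matrix.charpoly_transpose, ← hs2, ← Matrix.charpoly_map]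
      rfl
    rw [e]
    refine (associated_unit_mul_left _ _ ?_).trans ((mstar_assoc hF hf.ne_zero).trans (Associated.of_eq hs))
    refine IsUnit.mul ((isUnit_one.neg).pow _) (isUnit_C.2 ?_)
    rw [Ring.inverse_eq_inv', isUnit_iff_ne_zero]
    exact inv_ne_zero ((Matrix.isUnit_iff_isUnit_det _).1 hNu).ne_zero
  have hconj := H54.isConj_GL p hs1 hs3 hchar
  have hsim : IsConj (s : Matrix (Fin n) (Fin n) F) (hstar q (s : Matrix (Fin n) (Fin n) F))⁻¹ := by
    rw [← hτ]
    obtain ⟨c, hc⟩ := hconj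
    exact ⟨c, hc.map (Units.coeHom _)⟩
  obtain ⟨B, hB⟩ := (exists_similar_GU_iff hF s).2 hsim
  have hBc : (gmat B).charpoly = f := (H54.charpoly_eq_of_isConj hB).symm.trans hs2
  have hBd : (gmat B).det = 1 := by
    rw [Matrix.det_eq_sign_charpoly_coeff, hBc, h0, Fintype.card_fin, ← mul_pow]
    simp
  exact ⟨toSU B.2 hBd, hBc⟩

/-- The lower bound. -/
theorem le_classNumber (hF : Fintype.card F = q ^ 2) (hn : 1 ≤ n) :
    q ^ (n - 1) ≤ Nat.card (ConjClasses (Cfsg.SU n F q)) := by
  classical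
  have hq := two_le_q hF
  haveI : Finite (ConjClasses (Cfsg.SU n F q)) := inferInstance
  let a : F := (-1) ^ n
  have ha : a * a = 1 := by rw [← mul_pow]; simp
  have haq : a ^ q = a := by
    rw [← pow_mul, mul_comm, pow_mul, neg_pow_q hF, one_pow]
  have ha0 : a ≠ 0 := pow_ne_zero _ (neg_ne_zero.2 one_ne_zero)
  -- the middle values
  let Mid := {x : F // x ^ q = x ∧ (Odd n → x = 0)}
  have hmid : (if Even n then q else 1) ≤ Nat.card Mid := by
    split_ifs with h
    · rw [← card_fixed hF]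
      exact Nat.card_le_card_of_injective (fun x => (⟨x.1, x.2, fun ho => absurd h (Nat.not_even_iff_odd.2 ho)⟩ : Mid))
        fun x y e => Subtype.ext (congrArg (fun z : Mid => z.1) e)
    · exact Nat.card_pos_iff.2 ⟨⟨⟨0, zero_pow (by omega), fun _ => rfl⟩⟩, inferInstance⟩
  let h := (n - 1) / 2
  -- the coefficients
  let cf : (Fin h → F) × Mid → ℕ → F := fun w i =>
    if i = 0 then a else if i = n then 1 else
    if hi : i - 1 < h then w.1 ⟨i - 1, hi⟩ else if 2 * i = n then w.2.1 else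
    if hi : n - i - 1 < h then a * w.1 ⟨n - i - 1, hi⟩ ^ q else 0
  let pol : (Fin h → F) × Mid → F[X] := fun w => ∑ i ∈ Finset.range (n + 1), C (cf w i) * X ^ i
  have hco : ∀ w i, (pol w).coeff i = if i ≤ n then cf w i else 0 := by
    intro w i
    simp [pol, finsetSum_coeff, coeff_C_mul_X_pow]
  have hrel : ∀ w i, i ≤ n → cf w (n - i) ^ q = cf w i * a := by
    intro w i hi
    simp only [cf]
    have h2h : 2 * h ≤ n - 1 ∧ n - 1 ≤ 2 * h + 1 := by simp only [h]; omega
    rcases Nat.eq_zero_or_pos i with rfl | hi0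
    · rw [Nat.sub_zero, if_neg (by omega), if_pos rfl, if_pos rfl, one_pow, ha]
    rcases hi.eq_or_lt with rfl | hin
    · rw [Nat.sub_self, if_pos rfl, if_neg (by omega), if_pos rfl, haq, one_mul]
    rw [if_neg (show n - i ≠ 0 by omega), if_neg (show n - i ≠ n by omega), if_neg (show i ≠ 0 by omega),
      if_neg (show i ≠ n by omega)]
    rcases lt_trichotomy (2 * i) n with hlt | heq | hgt
    · rw [dif_neg (show ¬ n - i - 1 < h by omega), if_neg (show ¬ 2 * (n - i) = n by omega),
        dif_pos (show i - 1 < h by omega), dif_pos (show n - (n - i) - 1 < h by omega), mul_pow, haq,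
        pow_q_q hF, mul_comm]
      congr 2
      exact congrArg _ (Fin.ext (by simp; omega))
    · rw [dif_neg (show ¬ n - i - 1 < h by omega), if_pos (show 2 * (n - i) = n by omega),
        dif_neg (show ¬ i - 1 < h by omega), if_pos heq, w.2.2.1,
        show a = 1 by simp only [a]; rw [← heq, pow_mul, neg_one_sq, one_pow], mul_one]
    · rw [dif_pos (show n - i - 1 < h by omega), dif_neg (show ¬ i - 1 < h by omega),
        if_neg (show ¬ 2 * i = n by omega), dif_pos (show n - i - 1 < h by omega), mul_right_comm, ha, one_mul]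
  have hspec : ∀ w, (pol w).Monic ∧ (pol w).natDegree = n ∧ (pol w).coeff 0 = a ∧
      mstar hF (pol w) = pol w := by
    intro w
    have hn0 : n ≠ 0 := by omega
    have hdeg : (pol w).natDegree = n := by
      refine le_antisymm (natDegree_le_iff_coeff_eq_zero.2 fun i hi => by rw [hco, if_neg (by omega)]) ?_
      refine le_natDegree_of_ne_zero ?_
      rw [hco, if_pos le_rfl]
      simp [cf, hn0]
    have hm : (pol w).Monic := by
      rw [Monic, leadingCoeff, hdeg, hco, if_pos le_rfl]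
      simp [cf, hn0]
    have hc0 : (pol w).coeff 0 = a := by rw [hco, if_pos (Nat.zero_le _)]; simp [cf]
    refine ⟨hm, hdeg, hc0, ?_⟩
    have hl : (ustar hF (pol w)).leadingCoeff = a := by
      rw [leadingCoeff_ustar hF (by rw [hc0]; exact ha0), hc0, haq]
    ext i
    rw [mstar, coeff_mul_C, hl]
    rcases le_or_gt i n with hi | hi
    · rw [ustar, coeff_reverse, natDegree_map_eq_of_injective (frob hF).toRingHom.injective, hdeg,
        revAt_le hi, coeff_map, hco, hco, if_pos hi, if_pos (by omega)]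
      show (cf w (n - i)) ^ q * a⁻¹ = _
      rw [hrel w i hi, mul_assoc, mul_inv_cancel₀ ha0, mul_one]
    · rw [coeff_eq_zero_of_natDegree_lt (by rw [natDegree_ustar hF (by rw [hc0]; exact ha0), hdeg]; omega),
        zero_mul, hco, if_neg (by omega)]
  choose B hB using fun w => exists_SU_charpoly hF (hspec w).1 (hspec w).2.1 (hspec w).2.2.1 (hspec w).2.2.2
  have hinj : Function.Injective (fun w => ConjClasses.mk (B w)) := by
    intro w w' e
    obtain ⟨x, hx⟩ := isConj_iff.1 (ConjClasses.mk_eq_mk_iff_isConj.1 e)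
    have hcp : (mat (B w)).charpoly = (mat (B w')).charpoly := by
      refine H54.charpoly_eq_of_isConj (g := Matrix.SpecialLinearGroup.toGL (B w).1)
        (h := Matrix.SpecialLinearGroup.toGL (B w').1)
        (isConj_iff.2 ⟨Matrix.SpecialLinearGroup.toGL x.1, ?_⟩)
      rw [← map_inv, ← map_mul, ← map_mul, ← hx]
      rfl
    rw [hB, hB] at hcp
    have hcf : ∀ i, i ≤ n → cf w i = cf w' i := fun i hi => by
      have := congrArg (fun P : F[X] => P.coeff i) hcp
      simpa [hco, hi] using this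
    have h2h : 2 * h ≤ n - 1 ∧ n - 1 ≤ 2 * h + 1 := by simp only [h]; omega
    refine Prod.ext (funext fun j => ?_) (Subtype.ext ?_)
    · have := hcf ((j : ℕ) + 1) (by omega)
      simpa [cf, show (j : ℕ) + 1 ≠ n by omega, j.2] using this
    · rcases Nat.even_or_odd n with ⟨i, hi⟩ | ho
      · have := hcf i (by omega)
        simpa [cf, show i ≠ 0 by omega, show i ≠ n by omega, show ¬ i - 1 < h by omega,
          show 2 * i = n by omega] using this
      · rw [w.2.2.2 ho, w'.2.2.2 ho]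
  refine le_trans ?_ (Nat.card_le_card_of_injective _ hinj)
  rw [Nat.card_prod, Nat.card_fun, Nat.card_fin, Nat.card_eq_fintype_card (α := F), hF, ← pow_mul]
  refine le_trans ?_ (Nat.mul_le_mul_left _ hmid)
  split_ifs with he
  · rw [← pow_succ]
    obtain ⟨i, hi⟩ := he
    exact Nat.pow_le_pow_right (by omega) (by simp only [h]; omega)
  · rw [mul_one]
    obtain ⟨i, hi⟩ := Nat.not_even_iff_odd.1 he
    exact Nat.pow_le_pow_right (by omega) (by simp only [h]; omega)

/-- The bound of the statement. -/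
theorem classNumber_bounds (hF : Fintype.card F = q ^ 2) (hn : 2 ≤ n) :
    q ^ (n - 1) ≤ Nat.card (ConjClasses (Cfsg.SU n F q)) ∧
      100 * Nat.card (ConjClasses (Cfsg.SU n F q)) ≤ 826 * q ^ (n - 1) := by
  refine ⟨le_classNumber hF (by omega), Nat.le_of_mul_le_mul_left ?_ (show 0 < q + 1 by omega)⟩
  calc (q + 1) * (100 * Nat.card (ConjClasses (Cfsg.SU n F q)))
      = 100 * ((q + 1) * Nat.card (ConjClasses (Cfsg.SU n F q))) := by ring
    _ ≤ 100 * (tot q n + exc q n) := Nat.mul_le_mul_left _ (classNumber_le hF (by omega))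
    _ ≤ _ := numeric (two_le_q hF) hn

end Cfsg.Agent.Unitary.SUClass
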