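import Mathlib
import Cfsg.Agent.H55.UnitaryOrders
import Cfsg.Agent.Arith.LargePrimDiv

/-!
# The half torus of `SU_{2m}(q)`

An element of `PSU_{2m}(q)` of order divisible by a primitive prime divisor of `q^m + (-1)^m` has
an irreducible factor of degree `m` or `2m` in its minimal polynomial, hence lies in the torus of
order `(q^{2m} - 1) / (q + 1)`.
-/

set_option autoImplicit false
set_option linter.unusedSectionVars false

namespace Cfsg.Agent.Unitary

open Cfsg.Agent.H55 Polynomial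
open scoped Matrix

theorem dvd_uH_iff {q m t : ℕ} (hq : 1 ≤ q) (ht : 0 < t) :
    Nat.gcd t (q + 1) ∣ uH q m ↔ Nat.gcd t (q + 1) ∣ m := by
  have e := uH_gcd (q := q) hq m
  have hd : Nat.gcd t (q + 1) ∣ q + 1 := Nat.gcd_dvd_right _ _
  constructor <;> intro h
  · exact ((Nat.dvd_gcd h hd).trans e.dvd).trans (Nat.gcd_dvd_left _ _)
  · exact ((Nat.dvd_gcd h hd).trans e.symm.dvd).trans (Nat.gcd_dvd_left _ _)

theorem dvd_half_iff {a m : ℕ} (ha : 0 < a) (hm : 0 < m) :
    Nat.gcd (m + m) a ∣ m ↔ padicValNat 2 a < padicValNat 2 (m + m) := by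
  have : Fact (Nat.Prime 2) := ⟨Nat.prime_two⟩
  constructor
  · intro h
    by_contra hc
    push Not at hc
    have h2 : 2 ^ padicValNat 2 (m + m) ∣ Nat.gcd (m + m) a :=
      Nat.dvd_gcd pow_padicValNat_dvd ((pow_dvd_pow 2 hc).trans pow_padicValNat_dvd)
    have h3 := (padicValNat_dvd_iff_le (by omega)).1 (h2.trans h)
    rw [← two_mul, padicValNat.mul (by norm_num) (by omega), padicValNat.self (by norm_num)] at h3
    omega
  · intro h
    obtain ⟨t, ht⟩ := Nat.gcd_dvd_left (m + m) a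
    generalize hd : Nat.gcd (m + m) a = d at ht ⊢
    rcases Nat.even_or_odd t with ⟨u, hu⟩ | hu
    · exact ⟨u, by rw [hu, mul_add] at ht; omega⟩
    · exfalso
      have h2 : 2 ^ padicValNat 2 (m + m) ∣ d :=
        (Nat.Coprime.pow_left _ (Nat.coprime_two_left.2 hu)).dvd_of_dvd_mul_right
          (ht ▸ pow_padicValNat_dvd)
      have := (padicValNat_dvd_iff_le (by omega)).1 (h2.trans (hd ▸ Nat.gcd_dvd_right _ _))
      omega

variable {F : Type*} [Field F] [Fintype F] {m q : ℕ}

/-- A primitive prime of the half torus. -/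
theorem exists_half_prime (hodd : Odd q) (hq : 2 ≤ q) (hm : 2 ≤ m) :
    ∃ r : ℕ, r.Prime ∧ r ∣ (if Even m then q ^ m + 1 else q ^ m - 1) ∧ ¬ r ∣ q ∧
      orderOf ((q ^ 2 : ℕ) : ZMod r) = m ∧ ¬ r ∣ uH q m * (q ^ 2 - 1) := by
  set e := if Even m then m + m else m with he
  have he3 : 3 ≤ e := by
    rw [he]; split_ifs with h
    · omega
    · rcases Nat.lt_or_ge m 3 with h3 | h3
      · exfalso; exact h (by rw [show m = 2 by omega]; exact even_two)
      · exact h3
  obtain ⟨r, hppd⟩ := Cfsg.Agent.Arith.exists_isPPD (a := q) (n := e) hq (by omega)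
    (fun h => by rw [h.1] at hodd; exact absurd hodd (by decide)) (fun h => by omega)
  obtain ⟨hr, hord⟩ := (Cfsg.Agent.Arith.isPPD_iff (by omega) (by omega)).1 hppd
  have hnb : ¬ r ∣ q := hppd.not_dvd_base (by omega) (by omega)
  have hr2 : r ≠ 2 := by
    rintro rfl
    have := hppd.2.2 1 one_pos (by omega)
    rw [pow_one] at this
    obtain ⟨k, hk⟩ := hodd
    exact this ⟨k, by omega⟩
  have hnd : ∀ j, 0 < j → j < e → ¬ r ∣ q ^ j - 1 := hppd.2.2
  have hfac : q ^ (m + m) - 1 = (q ^ m + 1) * (q ^ m - 1) := by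
    rw [pow_add]; simpa [pow_two] using Nat.sq_sub_sq (q ^ m) 1
  have hboth : r ∣ q ^ m + 1 → ¬ r ∣ q ^ m - 1 := fun h1 h2 => by
    have h3 := Nat.dvd_sub h1 h2
    have : 1 ≤ q ^ m := Nat.one_le_pow _ _ (by omega)
    rw [show q ^ m + 1 - (q ^ m - 1) = 2 by omega] at h3
    exact hr2 ((Nat.prime_dvd_prime_iff_eq hr Nat.prime_two).1 h3)
  rcases Nat.even_or_odd m with hev | hod
  · have hee : e = m + m := if_pos hev
    rw [hee] at hord hnd
    have h2 : r ∣ q ^ m + 1 := (hr.dvd_mul.1 (hfac ▸ hee ▸ hppd.2.1)).resolve_right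
      (hnd m (by omega) (by omega))
    refine ⟨r, hr, by rw [if_pos hev]; exact h2, hnb, ?_, ?_⟩
    · rw [Nat.cast_pow, orderOf_pow' _ two_ne_zero, hord, ← two_mul,
        Nat.gcd_eq_right (dvd_mul_right 2 m)]
      omega
    · intro h
      rcases hr.dvd_mul.1 h with h | h
      · exact hboth h2 (uH_mul_even (q := q) (show 1 ≤ q by omega) hev ▸ h.mul_right (q + 1))
      · exact hnd 2 two_pos (by omega) h
  · have hee : e = m := if_neg (Nat.not_even_iff_odd.2 hod)
    rw [hee] at hord hnd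
    have h2 : r ∣ q ^ m - 1 := hee ▸ hppd.2.1
    refine ⟨r, hr, by rw [if_neg (Nat.not_even_iff_odd.2 hod)]; exact h2, hnb, ?_, ?_⟩
    · rw [Nat.cast_pow, orderOf_pow' _ two_ne_zero, hord]
      rw [(Nat.coprime_two_right.2 hod).gcd_eq_one, Nat.div_one]
    · intro h
      rcases hr.dvd_mul.1 h with h | h
      · exact hboth (uH_mul_odd (q := q) (show 1 ≤ q by omega) hod ▸ h.mul_right (q + 1)) h2
      · exact hnd 2 two_pos (by omega) h

/-- The minimal polynomial of an element of `SU` is self-dual. -/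
theorem ustar_minpoly_dvd (hF : Fintype.card F = q ^ 2) (A : Cfsg.SU m F q) :
    ustar hF (minpoly F (mat A)) ∣ minpoly F (mat A) := by
  set μ := minpoly F (mat A) with hμ
  have h0 : μ.coeff 0 ≠ 0 := by
    intro h
    obtain ⟨w, hw⟩ := Matrix.minpoly_dvd_charpoly (mat A)
    have h1 : (mat A).charpoly.coeff 0 = 0 := by rw [hw, mul_coeff_zero, ← hμ, h, zero_mul]
    have h2 := Matrix.det_eq_sign_charpoly_coeff (mat A)
    rw [h1, mul_zero] at h2
    exact one_ne_zero (A.1.2.symm.trans h2)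
  have hd : μ ∣ ustar hF μ := by
    refine minpoly.dvd F _ ?_
    rw [aeval_ustar hF, hμ, minpoly.aeval,
      show hstar q (0 : Matrix (Fin m) (Fin m) F) = 0 by ext a b; simp [hstar, q_ne_zero hF], mul_zero]
  have h2 := ustar_dvd hF hd
  rwa [ustar_ustar hF h0] at h2

/-- An element whose order is `q^m + (-1)^m` is in the torus of order `(q^{2m} - 1)/(q + 1)`. -/
theorem exists_pow_eq_scalar (hF : Fintype.card F = q ^ 2) (hodd : Odd q) (p : ℕ) [Fact p.Prime]
    [CharP F p] (A : Cfsg.SU (m + m) F q) (hm : 2 ≤ m)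
    (hg : orderOf (toPSU A) = if Even m then q ^ m + 1 else q ^ m - 1) :
    ∃ c : F, mat A ^ (uH q (m + m) / Nat.gcd (m + m) (q + 1)) =
      algebraMap F (Matrix (Fin (m + m)) (Fin (m + m)) F) c := by
  have hq := two_le_q hF
  have : Nonempty (Fin (m + m)) := ⟨⟨0, by omega⟩⟩
  have hcard : Nat.card F = q ^ 2 := by rw [Nat.card_eq_fintype_card, hF]
  have hsq : q ^ 2 - 1 = (q + 1) * (q - 1) := by simpa using Nat.sq_sub_sq q 1
  obtain ⟨r, hr, hrN, hrq, hord, hrH⟩ := exists_half_prime hodd hq hm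
  generalize (if Even m then q ^ m + 1 else q ^ m - 1) = N at hg hrN
  obtain ⟨N', hN'⟩ := hrN
  have hrp : r ≠ p := by
    rintro rfl
    obtain ⟨k, -, hk⟩ := FiniteField.card F r
    refine hrq (hr.dvd_of_dvd_pow (n := 2) ?_)
    rw [← hF, hk]
    exact dvd_pow_self r k.ne_zero
  have hrq2 : ¬ r ∣ q ^ 2 - 1 := fun h => hrH (h.mul_left _)
  obtain ⟨c, hc⟩ := (toPSU_pow_eq_one_iff hF (by omega) A N).1 (by rw [← hg]; exact pow_orderOf_eq_one _)
  have hdetA : (mat A).det = 1 := A.1.2
  have hc0 : c ≠ 0 := by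
    rintro rfl
    have h1 := congrArg Matrix.det hc
    rw [Matrix.det_pow, hdetA, one_pow, map_zero, Matrix.det_zero] at h1
    exact one_ne_zero h1
  have hpow : mat A ^ (r * (N' * (q ^ 2 - 1))) = 1 := by
    rw [← mul_assoc, ← hN', pow_mul, hc, ← map_pow, ← hF, FiniteField.pow_card_sub_one_eq_one c hc0,
      map_one]
  obtain ⟨f, hfm, hf, hfμ, hfs, hnf⟩ := exists_factor p hr hrp (mat A) hpow (fun h => by
    have h1 : N ∣ N' * (q ^ 2 - 1) := hg ▸ orderOf_dvd_of_pow_eq_one
      ((toPSU_pow_eq_one_iff hF (by omega) A _).2 ⟨1, by rw [h, map_one]⟩)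
    rw [hN', mul_comm r] at h1
    refine hrq2 (Nat.dvd_of_mul_dvd_mul_left ?_ h1)
    exact Nat.pos_of_ne_zero fun h0 => by
      rw [h0, mul_zero] at hN'
      exact (orderOf_pos (toPSU A)).ne' (hg.trans hN'))
  rw [hcard, hord] at hnf
  set μ := minpoly F (mat A) with hμ
  have hμm : μ.Monic := minpoly.monic (Matrix.isIntegral _)
  have hμd : μ.natDegree ≤ m + m := minpoly_natDegree_le _
  have hfd : f.natDegree ≤ m + m := natDegree_le_of_dvd_minpoly hfμ
  have : Fact (Irreducible f) := ⟨hf⟩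
  have hfrs : f ∣ X ^ (r * (N' * (q ^ 2 - 1))) - 1 := hfμ.trans (minpoly.dvd F _ (by simp [hpow]))
  have hf0 : f.coeff 0 ≠ 0 := by
    intro h
    have h1 := (X_dvd_iff.2 h).trans hfrs
    have hpos : 0 < r * (N' * (q ^ 2 - 1)) := Nat.pos_of_ne_zero fun h0 => by
      rw [h0, pow_zero] at hfrs
      simp only [mul_eq_zero, hr.ne_zero, false_or] at h0
      rcases h0 with h0 | h0
      · rw [h0, mul_zero] at hN'; exact (orderOf_pos (toPSU A)).ne' (hg.trans hN')
      · exact hrq2 (by rw [h0]; exact dvd_zero r)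
    rw [X_dvd_iff, coeff_sub, coeff_X_pow, if_neg hpos.ne, coeff_one_zero, zero_sub, neg_eq_zero] at h1
    exact one_ne_zero h1
  have hfin : ∀ g : F[X], g.Monic → g ∣ μ → g.natDegree = m + m →
      ((g = f ∧ Associated (ustar hF f) f) ∨
        ∃ f' : F[X], f'.Monic ∧ Irreducible f' ∧ f' ≠ f ∧ Associated (ustar hF f) f' ∧ g = f * f') →
      ∃ c : F, mat A ^ (uH q (m + m) / Nat.gcd (m + m) (q + 1)) =
        algebraMap F (Matrix (Fin (m + m)) (Fin (m + m)) F) c := by
    intro g hgm hgμ hgd hcases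
    have hμg : μ = g := eq_of_monic_of_dvd_of_natDegree_le hgm hμm hgμ (hgd ▸ hμd)
    have hgchar : g ∣ (mat A).charpoly := hμg ▸ Matrix.minpoly_dvd_charpoly (mat A)
    have hchd : (mat A).charpoly.natDegree ≤ g.natDegree := by
      rw [Matrix.charpoly_natDegree_eq_dim, hgd, Fintype.card_fin]
    have hcp : (mat A).charpoly = g :=
      eq_of_monic_of_dvd_of_natDegree_le hgm (mat A).charpoly_monic hgchar hchd
    obtain ⟨c, hc⟩ := (primary_bound hF hfm hf hf0 hcases).2 (by
      have h2 := Matrix.det_eq_sign_charpoly_coeff (mat A)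
      rw [hdetA, Fintype.card_fin, hcp] at h2
      rw [hgd, ← h2])
    rw [hgd] at hc
    obtain ⟨v, hv⟩ := hc
    refine ⟨c, ?_⟩
    have h := congrArg (aeval (mat A)) hv
    rw [map_mul, ← hμg, hμ, minpoly.aeval, zero_mul, map_sub, map_pow, aeval_X, aeval_C, sub_eq_zero] at h
    exact h
  obtain ⟨k, hk⟩ := hnf
  by_cases hass : Associated (ustar hF f) f
  · have hk1 : f.natDegree = m + m := by
      have hkpos : 0 < k := Nat.pos_of_ne_zero fun h => by
        rw [h, mul_zero] at hk; exact hf.natDegree_pos.ne' hk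
      have hk2 : k ≤ 2 := Nat.le_of_mul_le_mul_left (by omega) (show 0 < m by omega)
      rcases (show k = 1 ∨ k = 2 by omega) with rfl | rfl
      · exfalso
        rw [mul_one] at hk
        obtain ⟨c, hc⟩ := (primary_bound hF hfm hf hf0 (Or.inl ⟨rfl, hass⟩)).1
        rw [hk] at hc
        set α := AdjoinRoot.root f with hα
        have e1 : α ^ uH q m = algebraMap F _ c := by
          have := AdjoinRoot.mk_eq_zero.2 hc
          rwa [map_sub, map_pow, AdjoinRoot.mk_X, AdjoinRoot.mk_C, sub_eq_zero] at this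
        have e2 : α ^ (r * (N' * (q ^ 2 - 1))) = 1 := by
          have := AdjoinRoot.mk_eq_zero.2 hfrs
          rwa [map_sub, map_pow, AdjoinRoot.mk_X, map_one, sub_eq_zero] at this
        have hc0 : c ≠ 0 := by
          rintro rfl
          rw [map_zero, pow_eq_zero_iff'] at e1
          rw [e1.1, zero_pow ?_] at e2
          · exact zero_ne_one e2
          · refine Nat.mul_ne_zero hr.ne_zero (Nat.mul_ne_zero ?_ ?_)
            · rintro rfl
              rw [mul_zero] at hN'
              exact (orderOf_pos (toPSU A)).ne' (hg.trans hN')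
            · intro h0; exact hrq2 (by rw [h0]; exact dvd_zero r)
        have e3 : α ^ (uH q m * (q ^ 2 - 1)) = 1 := by
          rw [pow_mul, e1, ← map_pow, ← hF, FiniteField.pow_card_sub_one_eq_one c hc0, map_one]
        have hcop : Nat.Coprime (orderOf α) r := by
          rw [Nat.coprime_comm, hr.coprime_iff_not_dvd]
          exact fun h => hrH (h.trans (orderOf_dvd_of_pow_eq_one e3))
        have e4 : α ^ (N' * (q ^ 2 - 1)) = 1 :=
          orderOf_dvd_iff_pow_eq_one.1 (hcop.dvd_of_dvd_mul_left (orderOf_dvd_of_pow_eq_one e2))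
        exact hfs (AdjoinRoot.mk_eq_zero.1 (by
          rw [map_sub, map_pow, AdjoinRoot.mk_X, map_one, ← hα, e4, sub_self]))
      · omega
    exact hfin f hfm hfμ hk1 (Or.inl ⟨rfl, hass⟩)
  · have hsf := irreducible_ustar hF hf hf0
    set f' : F[X] := ustar hF f * C (ustar hF f).leadingCoeff⁻¹ with hf'def
    have hf'm : f'.Monic := monic_mul_leadingCoeff_inv hsf.ne_zero
    have hass' : Associated (ustar hF f) f' :=
      (associated_mul_unit_left _ _
        (isUnit_C.2 (isUnit_iff_ne_zero.2 (inv_ne_zero (leadingCoeff_ne_zero.2 hsf.ne_zero))))).symm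
    have hf' : Irreducible f' := hass'.irreducible hsf
    have hne : f' ≠ f := fun h => hass (h ▸ hass')
    have hco : IsCoprime f f' := hf.coprime_iff_not_dvd.2 fun hd =>
      hne (eq_of_monic_of_associated hfm hf'm (hf.associated_of_dvd hf' hd)).symm
    have hdvd : f * f' ∣ μ :=
      hco.mul_dvd hfμ ((hass'.symm.dvd.trans (ustar_dvd hF hfμ)).trans (ustar_minpoly_dvd hF A))
    have hdeg : f'.natDegree = f.natDegree := by
      rw [← natDegree_eq_of_degree_eq (degree_eq_degree_of_associated hass'), natDegree_ustar hF hf0]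
    have hle := natDegree_le_of_dvd hdvd hμm.ne_zero
    rw [natDegree_mul hf.ne_zero hf'.ne_zero, hdeg] at hle
    have hmf : m ≤ f.natDegree := Nat.le_of_dvd hf.natDegree_pos ⟨k, hk⟩
    refine hfin (f * f') (hfm.mul hf'm) hdvd ?_ (Or.inr ⟨f', hf'm, hf', hne, hass', rfl⟩)
    rw [natDegree_mul hf.ne_zero hf'.ne_zero, hdeg]
    omega

end Cfsg.Agent.Unitary
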