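import Mathlib
import Cfsg.Agent.Unitary.Rank2
import Cfsg.Agent.Unitary.Stab

/-!
# `GU_m(q)` inside `Sp_{2m}(q)`
-/

set_option autoImplicit false
set_option linter.unusedSectionVars false

namespace Cfsg.Agent.Unitary

open Cfsg Matrix

variable {K F : Type*} [Field K] [Fintype K] [Field F] [Fintype F] {q : ℕ}

theorem exists_coords (hK : Fintype.card K = q ^ 2) (hF : Fintype.card F = q) :
    ∃ (ι : F →+* K) (ω : K) (e : F × F ≃ K), (∀ x, ι x ^ q = ι x) ∧ ω ^ q - ω ≠ 0 ∧
      ∀ a b, e (a, b) = ι a + ι b * ω := by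
  obtain ⟨ι, hι⟩ := exists_embedding hK hF
  obtain ⟨ω, hω⟩ : ∃ ω : K, ω ^ q - ω ≠ 0 := by
    by_contra h
    push Not at h
    have h1 : Nat.card {x : K // x ^ q = x} = Nat.card K :=
      Nat.card_congr (Equiv.subtypeUnivEquiv fun x => sub_eq_zero.1 (h x))
    rw [card_fixed hK, Nat.card_eq_fintype_card, hK] at h1
    have := two_le_q hK
    nlinarith
  have hinj : Function.Injective fun p : F × F => ι p.1 + ι p.2 * ω := by
    rintro ⟨a, b⟩ ⟨a', b'⟩ h
    simp only at h
    have h' := congrArg (fun x : K => x ^ q) h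
    simp only [add_pow_q hK, mul_pow, hι] at h'
    have hb : ι b = ι b' := mul_right_cancel₀ hω (by linear_combination h' - h)
    refine Prod.ext (ι.injective ?_) (ι.injective hb)
    rw [hb] at h
    exact add_right_cancel h
  have hcard : Nat.card (F × F) = Nat.card K := by
    rw [Nat.card_prod, Nat.card_eq_fintype_card, Nat.card_eq_fintype_card, hF, hK, pow_two]
  exact ⟨ι, ω, Equiv.ofBijective _ ((Nat.bijective_iff_injective_and_card _).2 ⟨hinj, hcard⟩), hι, hω,
    fun a b => rfl⟩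

theorem exists_gu_to_sp (hK : Fintype.card K = q ^ 2) (hF : Fintype.card F = q) (m : ℕ) :
    ∃ φ : GU m K q →* Matrix.symplecticGroup (Fin m) F, Function.Injective φ := by
  classical
  obtain ⟨ι, ω, e, hι, hω, he⟩ := exists_coords hK hF
  let Φ : (Fin m ⊕ Fin m → F) → (Fin m → K) := fun v i => ι (v (Sum.inl i)) + ι (v (Sum.inr i)) * ω
  have hΦadd : ∀ v w, Φ (v + w) = Φ v + Φ w := fun v w => funext fun i => by
    simp [Φ, add_mul]; ring
  have hΦsmul : ∀ (a : F) v, Φ (a • v) = ι a • Φ v := fun a v => funext fun i => by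
    simp [Φ]; ring
  let Ψ : (Fin m → K) → (Fin m ⊕ Fin m → F) := fun x =>
    Sum.elim (fun i => (e.symm (x i)).1) (fun i => (e.symm (x i)).2)
  have hΦΨ : ∀ x, Φ (Ψ x) = x := fun x => funext fun i => by
    show ι (e.symm (x i)).1 + ι (e.symm (x i)).2 * ω = x i
    rw [← he]; exact e.apply_symm_apply _
  have hΦinj : Function.Injective Φ := by
    intro v w h
    funext i
    have h1 : ∀ i, (v (Sum.inl i), v (Sum.inr i)) = (w (Sum.inl i), w (Sum.inr i)) :=
      fun i => e.injective (by rw [he, he]; exact congrFun h i)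
    rcases i with i | i
    · exact congrArg Prod.fst (h1 i)
    · exact congrArg Prod.snd (h1 i)
  let L : GU m K q → (Fin m ⊕ Fin m → F) →ₗ[F] (Fin m ⊕ Fin m → F) := fun g =>
    { toFun := fun v => Ψ (gap g (Φ v))
      map_add' := fun v w => hΦinj (by simp only [hΦadd, hΦΨ, gap_add])
      map_smul' := fun a v => hΦinj (by simp only [hΦsmul, hΦΨ, gap_smul, RingHom.id_apply]) }
  have hLap : ∀ g v, Φ (L g v) = gap g (Φ v) := fun g v => hΦΨ _
  have hLmul : ∀ g g', L (g * g') = L g * L g' := fun g g' => LinearMap.ext fun v => hΦinj (by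
    rw [hLap, gap_mul, Module.End.mul_apply, hLap, hLap])
  -- the alternating form
  have hform : ∀ v w : Fin m ⊕ Fin m → F,
      hermForm m K q (Φ v) (Φ w) - hermForm m K q (Φ w) (Φ v)
        = -((ω ^ q - ω) * ι (v ⬝ᵥ (Matrix.J (Fin m) F *ᵥ w))) := by
    intro v w
    simp [hermForm, Φ, Matrix.J, Matrix.fromBlocks_mulVec, dotProduct, Fintype.sum_sum_type,
      Matrix.neg_mulVec, map_sum, add_pow_q hK, mul_pow, hι, ← Finset.sum_sub_distrib,
      Finset.mul_sum, mul_add, ← Finset.sum_neg_distrib, ← Finset.sum_add_distrib]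
    refine Finset.sum_congr rfl fun i _ => ?_
    ring
  have hmem : ∀ g, LinearMap.toMatrix' (L g) ∈ Matrix.symplecticGroup (Fin m) F := by
    intro g
    rw [SymplecticGroup.mem_iff']
    refine Matrix.ext fun i j => ι.injective (mul_left_cancel₀ hω ?_)
    have key : ∀ v w, (ω ^ q - ω) * ι ((L g v) ⬝ᵥ (Matrix.J (Fin m) F *ᵥ (L g w)))
        = (ω ^ q - ω) * ι (v ⬝ᵥ (Matrix.J (Fin m) F *ᵥ w)) := by
      intro v w
      rw [← neg_inj, ← hform, ← hform, hLap, hLap, herm_gap, herm_gap]
    have h2 : ∀ (M N : Matrix (Fin m ⊕ Fin m) (Fin m ⊕ Fin m) F),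
        (Mᵀ * N * M) i j = (M *ᵥ Pi.single i 1) ⬝ᵥ (N *ᵥ (M *ᵥ Pi.single j 1)) := by
      intro M N
      rw [Matrix.mul_assoc, Matrix.mulVec_mulVec, Matrix.mulVec_single_one, Matrix.mulVec_single_one]
      rfl
    have h3 := key (Pi.single i 1) (Pi.single j 1)
    rw [← LinearMap.toMatrix'_mulVec, ← LinearMap.toMatrix'_mulVec, ← h2] at h3
    rw [h3]
    congr 2
    rw [Matrix.mulVec_single_one, single_dotProduct, one_mul]
    rfl
  let f : GU m K q →* Matrix.symplecticGroup (Fin m) F :=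
    { toFun := fun g => ⟨LinearMap.toMatrix' (L g), hmem g⟩
      map_one' := Subtype.ext (by
        show LinearMap.toMatrix' (L 1) = 1
        rw [show L 1 = 1 from LinearMap.ext fun v => hΦinj (by rw [hLap, gap_one, Module.End.one_apply]),
          LinearMap.toMatrix'_one])
      map_mul' := fun g g' => Subtype.ext (by
        show LinearMap.toMatrix' (L (g * g')) = LinearMap.toMatrix' (L g) * LinearMap.toMatrix' (L g')
        rw [hLmul, LinearMap.toMatrix'_mul]) }
  refine ⟨f, fun g g' h => gap_ext fun x => ?_⟩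
  have h1 : L g = L g' := LinearMap.toMatrix'.injective (congrArg Subtype.val h)
  rw [← hΦΨ x, ← hLap, ← hLap, h1]

end Cfsg.Agent.Unitary
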