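import Mathlib
import Cfsg.Agent.Unitary.GUCenter
import Cfsg.Agent.Unitary.Stab

/-!
# Elements of `GU` that a field automorphism multiplies by a scalar
-/

set_option autoImplicit false
set_option linter.unusedSectionVars false

namespace Cfsg.Agent.Unitary

open Cfsg Matrix

variable {K : Type*} [Field K] [Fintype K]

theorem card_semiinvariant {q₀ q r n : ℕ} (hr : r.Prime) (hodd : Odd r) (hn : 1 ≤ n)
    (hq : q = q₀ ^ r) (hK : Fintype.card K = q ^ 2) (σ : K ≃+* K) (hσ : orderOf σ = r) :
    ((q₀ + 1) * Nat.card {g : GU n K q // ∃ c : K, c ≠ 0 ∧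
        (gmat g).map σ = c • gmat g})
      = (q + 1) * (q₀ ^ (n * (n - 1) / 2) * ∏ i ∈ Finset.range n, guFactor q₀ i) := by
  classical
  have : Finite (K ≃+* K) := Finite.of_injective _ DFunLike.coe_injective
  have : Fintype (Subgroup.zpowers σ) := Fintype.ofFinite _
  let F₀ := FixedPoints.subfield (Subgroup.zpowers σ) K
  have hmem : ∀ x : K, x ∈ F₀ ↔ σ x = x := by
    intro x
    constructor
    · intro h
      exact h ⟨σ, Subgroup.mem_zpowers σ⟩
    · rintro h ⟨τ, hτ⟩
      obtain ⟨i, rfl⟩ := Subgroup.mem_zpowers_iff.1 hτ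
      show (σ ^ i) • x = x
      exact (MulAction.mem_stabilizer_iff.1
        (Subgroup.zpow_mem _ (MulAction.mem_stabilizer_iff.2 (show σ • x = x from h)) i))
  have hcard0 : Fintype.card F₀ = q₀ ^ 2 := by
    have h1 : Fintype.card K = Fintype.card F₀ ^ Module.finrank F₀ K := Module.card_eq_pow_finrank
    rw [FixedPoints.finrank_eq_card (Subgroup.zpowers σ) K, ← Nat.card_eq_fintype_card (α := Subgroup.zpowers σ),
      Nat.card_zpowers, hσ, hK, hq, ← pow_mul, mul_comm r, pow_mul] at h1
    exact (Nat.pow_left_injective hr.ne_zero h1).symm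
  -- on the fixed field the two conjugations agree
  have hpow : ∀ x : F₀, (x : K) ^ q = ((x ^ q₀ : F₀) : K) := by
    intro x
    have h : ∀ k, x ^ (q₀ ^ (2 * k + 1)) = x ^ q₀ := by
      intro k
      induction k with
      | zero => simp
      | succ k ih =>
        rw [show 2 * (k + 1) + 1 = (2 * k + 1) + 2 by ring, pow_add, pow_mul, ih, ← pow_mul,
          mul_comm, pow_mul, ← hcard0, FiniteField.pow_card]
    obtain ⟨k, rfl⟩ := hodd
    rw [hq, ← SubmonoidClass.coe_pow, h k]
  have hσq : ∀ x : K, σ (x ^ q) = σ x ^ q := fun x => map_pow σ x q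
  let ι : F₀ →+* K := F₀.subtype
  have hι : Function.Injective ι := Subtype.val_injective
  let U : Subgroup Kˣ := (powMonoidHom (q + 1) : Kˣ →* Kˣ).ker
  have hU : ∀ t : U, ((t : Kˣ) : K) * ((t : Kˣ) : K) ^ q = 1 := by
    intro t
    have := congrArg Units.val (MonoidHom.mem_ker.1 t.2)
    simpa [pow_succ'] using this
  have hP : ∀ (p : U × GU n F₀ q₀),
      Preserves q (((p.1 : Kˣ) : K) • (gmat p.2).map ι) := by
    intro p
    have h := (preserves_iff_transpose_mul hcard0).1 p.2.2
    rw [preserves_iff_transpose_mul hK]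
    ext i j
    have h' := congrArg ι (congrFun (congrFun h i) j)
    simp only [Matrix.mul_apply, Matrix.map_apply, Matrix.transpose_apply, map_sum, map_mul] at h'
    simp only [Matrix.mul_apply, Matrix.map_apply, Matrix.transpose_apply, Matrix.smul_apply,
      smul_eq_mul, mul_pow, mul_mul_mul_comm, hU, one_mul]
    rw [show ((1 : Matrix (Fin n) (Fin n) K) i j) = ι ((1 : Matrix (Fin n) (Fin n) F₀) i j) by
      simp [Matrix.one_apply, apply_ite ι]]
    rw [← h']
    exact Finset.sum_congr rfl fun l _ => congrArg _ (hpow _)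
  let ψ : U × GU n F₀ q₀ →* GU n K q :=
    MonoidHom.mk' (fun p => toGU hK (hP p)) fun p p' => by
      refine Subtype.ext (Units.ext ?_)
      simp only [Subgroup.coe_mul, Units.val_mul, coe_toGU, Prod.fst_mul, Prod.snd_mul,
        Matrix.map_mul, Matrix.smul_mul, Matrix.mul_smul, smul_smul, gmat]
      rw [mul_comm ((p.1 : Kˣ) : K)]
  have hψ : ∀ p, gmat (ψ p) = ((p.1 : Kˣ) : K) • (gmat p.2).map ι := fun p => coe_toGU hK (hP p)
  have hrange : ∀ g : GU n K q,
      g ∈ ψ.range ↔ ∃ c : K, c ≠ 0 ∧ (gmat g).map σ = c • gmat g := by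
    intro g
    constructor
    · rintro ⟨p, rfl⟩
      have ht0 : ((p.1 : Kˣ) : K) ≠ 0 := Units.ne_zero _
      refine ⟨σ ((p.1 : Kˣ) : K) / ((p.1 : Kˣ) : K), div_ne_zero (by simp) ht0, ?_⟩
      ext i j
      rw [hψ]
      simp only [Matrix.map_apply, Matrix.smul_apply, smul_eq_mul, map_mul]
      rw [(hmem (ι ((gmat p.2) i j))).1 (gmat p.2 i j).2]
      field_simp
    · rintro ⟨c, hc0, hc⟩
      have : NeZero n := ⟨by omega⟩
      obtain ⟨i₀, hi₀⟩ : ∃ i, gmat g i 0 ≠ 0 := by
        by_contra hcon
        push Not at hcon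
        have h1 : gap g (Pi.single 0 1) = 0 := by
          rw [gap, Matrix.mulVec_single_one]; funext i; exact hcon i
        have h2 : (Pi.single 0 1 : Fin n → K) = 0 := gap_injective g (h1.trans (gap_zero g).symm)
        simpa using congrFun h2 0
      set a := gmat g i₀ 0 with ha
      have hh : ∀ i j, gmat g i j / a ∈ F₀ := by
        intro i j
        have h1 := congrFun (congrFun hc i) j
        have h2 := congrFun (congrFun hc i₀) 0
        simp only [Matrix.map_apply, Matrix.smul_apply, smul_eq_mul] at h1 h2
        rw [hmem, map_div₀, h1, ha, h2, mul_div_mul_left _ _ hc0]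
      let h : Matrix (Fin n) (Fin n) F₀ := Matrix.of fun i j => ⟨gmat g i j / a, hh i j⟩
      -- the multiplier of `h`
      let μ : F₀ := ∑ l, h l 0 * h l 0 ^ q₀
      have hg := (preserves_iff_transpose_mul hK).1 g.2
      have hsum : ∀ i j, ι (∑ l, h l i * h l j ^ q₀)
          = (if i = j then 1 else 0) / (a * a ^ q) := by
        intro i j
        have h3 := congrFun (congrFun hg i) j
        rw [Matrix.mul_apply, Matrix.one_apply] at h3
        rw [← h3, map_sum, Finset.sum_div]
        refine Finset.sum_congr rfl fun l _ => ?_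
        rw [map_mul, show ι (h l j ^ q₀) = (ι (h l j)) ^ q from (hpow _).symm,
          show ι (h l i) = gmat g l i / a from rfl, show ι (h l j) = gmat g l j / a from rfl, div_pow,
          div_mul_div_comm]
        rfl
      have hμK : ι μ = 1 / (a * a ^ q) := by
        have h5 := hsum 0 0
        rw [if_pos rfl] at h5
        exact h5
      have hμq : μ ^ q₀ = μ := by
        refine hι ?_
        rw [show ι (μ ^ q₀) = (ι μ) ^ q from (hpow _).symm, hμK, div_pow, one_pow, norm_pow_q hK]
      obtain ⟨b, hb⟩ := exists_norm_eq hcard0 hμq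
      have haa : a * a ^ q ≠ 0 := mul_ne_zero hi₀ (pow_ne_zero _ hi₀)
      have hb0 : b ≠ 0 := by
        rintro rfl
        rw [zero_mul] at hb
        rw [← hb, map_zero] at hμK
        exact div_ne_zero one_ne_zero haa hμK.symm
      have hbq : ι b * ι b ^ q = 1 / (a * a ^ q) := by
        rw [show ι b ^ q = ι (b ^ q₀) from hpow b, ← map_mul, hb, hμK]
      have hιb : ι b ≠ 0 := fun h0 => hb0 (hι (h0.trans (map_zero ι).symm))
      have hh' : Preserves q₀ (b⁻¹ • h) := by
        rw [preserves_iff_transpose_mul hcard0]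
        refine Matrix.ext fun i j => hι ?_
        rw [Matrix.mul_apply, map_sum, Matrix.one_apply, apply_ite ι, map_one, map_zero]
        have h4 : ∀ l, ι ((b⁻¹ • h)ᵀ i l * (b⁻¹ • h).map (fun x => x ^ q₀) l j)
            = (a * a ^ q) * ι (h l i * h l j ^ q₀) := by
          intro l
          have he : (a * a ^ q) = 1 / (ι b * ι b ^ q) := by rw [hbq, one_div_one_div]
          rw [he, show ι b ^ q = ι (b ^ q₀) from hpow b, one_div, ← map_mul, ← map_inv₀, ← map_mul]
          congr 1
          simp only [Matrix.transpose_apply, Matrix.map_apply, Matrix.smul_apply, smul_eq_mul,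
            mul_inv, mul_pow, inv_pow]
          ring
        rw [Finset.sum_congr rfl fun l _ => h4 l, ← Finset.mul_sum, ← map_sum, hsum,
          mul_div_cancel₀ _ haa]
      have ht : (a * ι b) * (a * ι b) ^ q = 1 := by
        rw [mul_pow, mul_mul_mul_comm, hbq, mul_one_div_cancel haa]
      refine ⟨(⟨Units.mk0 (a * ι b) (mul_ne_zero hi₀ hιb), ?_⟩, toGU hcard0 hh'), ?_⟩
      · rw [MonoidHom.mem_ker, powMonoidHom_apply]
        ext
        simpa [pow_succ'] using ht
      · refine Subtype.ext (Units.ext ?_)
        show gmat _ = gmat g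
        rw [hψ, show gmat (toGU hcard0 hh') = b⁻¹ • h from coe_toGU hcard0 hh']
        ext i j
        simp only [Matrix.smul_apply, Matrix.map_apply, smul_eq_mul, map_mul, map_inv₀, Units.val_mk0,
          show ι (h i j) = gmat g i j / a from rfl]
        field_simp
  have hker : Nat.card ψ.ker = q₀ + 1 := by
    rw [← card_norm_eq_one (F := F₀) hcard0]
    have : NeZero n := ⟨by omega⟩
    refine Nat.card_congr
      { toFun := fun p => ⟨(gmat p.1.2 0 0), by
          have hscal : ∀ i j, ((p.1.1 : Kˣ) : K) * ι (gmat p.1.2 i j)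
              = (1 : Matrix (Fin n) (Fin n) K) i j := fun i j =>
            congrFun (congrFun ((hψ p.1).symm.trans (congrArg gmat (MonoidHom.mem_ker.1 p.2))) i) j
          refine hι ?_
          have h00 := hscal 0 0
          rw [Matrix.one_apply_eq] at h00
          rw [map_mul, map_one, show ι (gmat p.1.2 0 0 ^ q₀) = (ι (gmat p.1.2 0 0)) ^ q from (hpow _).symm]
          have ht := hU p.1.1
          have hx : ι (gmat p.1.2 0 0) = (((p.1.1 : Kˣ) : K))⁻¹ :=
            eq_inv_of_mul_eq_one_right h00
          rw [hx, inv_pow, ← mul_inv, ht, inv_one]⟩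
        invFun := fun x => ⟨(⟨Units.mk0 (ι x.1)⁻¹ (inv_ne_zero (fun h0 => by
              have h1 : x.1 = 0 := hι (h0.trans (map_zero ι).symm)
              simpa [h1] using x.2)), by
              rw [MonoidHom.mem_ker, powMonoidHom_apply]
              refine Units.ext ?_
              rw [Units.val_pow_eq_pow_val, Units.val_one, Units.val_mk0, inv_pow, pow_succ',
                show ι x.1 ^ q = ι (x.1 ^ q₀) from hpow x.1, ← map_mul, x.2, map_one, inv_one]⟩,
            toGU hcard0 (preserves_smul_one x.2)), by
              refine Subtype.ext (Units.ext ?_)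
              show gmat _ = 1
              rw [hψ, show gmat (toGU hcard0 (preserves_smul_one x.2)) = _ from coe_toGU hcard0 _]
              have hx0 : ι x.1 ≠ 0 := fun h0 => by
                have h1 : x.1 = 0 := hι (h0.trans (map_zero ι).symm)
                simpa [h1] using x.2
              ext i j
              rcases eq_or_ne i j with rfl | hij
              · simp [hx0]
              · simp [hij]⟩
        left_inv := fun p => by
          have hscal : ∀ i j, ((p.1.1 : Kˣ) : K) * ι (gmat p.1.2 i j)
              = (1 : Matrix (Fin n) (Fin n) K) i j := fun i j =>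
            congrFun (congrFun ((hψ p.1).symm.trans (congrArg gmat (MonoidHom.mem_ker.1 p.2))) i) j
          have h00 := hscal 0 0
          rw [Matrix.one_apply_eq] at h00
          refine Subtype.ext (Prod.ext (Subtype.ext (Units.ext ?_)) (Subtype.ext (Units.ext ?_)))
          · show (ι (gmat p.1.2 0 0))⁻¹ = _
            rw [eq_inv_of_mul_eq_one_right h00, inv_inv]
          · show gmat _ = _
            rw [gmat, coe_toGU]
            refine Matrix.ext fun i j => hι ?_
            apply mul_left_cancel₀ (Units.ne_zero (p.1.1 : Kˣ))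
            rw [hscal i j]
            rcases eq_or_ne i j with rfl | hij
            · simpa using h00
            · simp [hij]
        right_inv := fun x => by
          refine Subtype.ext ?_
          show gmat (toGU hcard0 (preserves_smul_one x.2)) 0 0 = x.1
          rw [gmat, coe_toGU]
          simp }
  have h1 := Subgroup.card_mul_index ψ.ker
  rw [Subgroup.index_ker, hker, Nat.card_prod, card_ker_pow hK, card_GU hcard0] at h1
  rw [← h1]
  congr 1
  exact Nat.card_congr ((Equiv.subtypeEquivRight hrange)).symm

end Cfsg.Agent.Unitary
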