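import Cfsg.Agent.Unitary.AschTensor
import Cfsg.Agent.Aschbacher.Subfield
import Cfsg.Agent.Aschbacher.Forms
import Cfsg.Agent.Aschbacher.SympType

/-!
# Subfield structures compatible with the hermitian form
-/

set_option autoImplicit false
set_option linter.unusedSectionVars false
set_option linter.style.haveILetI false

namespace Cfsg.Agent.Unitary.Asch

open Matrix
open scoped MatrixGroups
open Cfsg.Geo

variable {F : Type*} [Field F] [Fintype F] {q n : ℕ}

/-- `H` lies in one of the three kinds of subfield members of the unitary class. -/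
def InClass5 (q : ℕ) (H : Subgroup (GL (Fin n) F)) : Prop :=
  (∃ (F₀ : Subfield F) (r : ℕ) (P : GL (Fin n) F), r.Prime ∧ Odd r ∧
    Fintype.card F = Nat.card F₀ ^ r ∧ IsFormRationalStructure (hermForm n F q) F₀ 1 P ∧
    H ≤ subfieldSubgroup F₀ P) ∨
  (∃ (F₀ : Subfield F) (P : GL (Fin n) F), Odd q ∧ Fintype.card F = Nat.card F₀ ^ 2 ∧
    IsFormRationalStructure (hermForm n F q) F₀ 1 P ∧ H ≤ subfieldSubgroup F₀ P) ∨
  (∃ (F₀ : Subfield F) (P : GL (Fin n) F) (ζ : F), Even n ∧ Fintype.card F = Nat.card F₀ ^ 2 ∧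
    ζ ≠ 0 ∧ ζ + ζ ^ q = 0 ∧ IsFormRationalStructure (hermForm n F q) F₀ ζ P ∧
    (∀ u : Fin n → F, (∀ i, u i ∈ F₀) → hermForm n F q
      ((P : Matrix (Fin n) (Fin n) F) *ᵥ u) ((P : Matrix (Fin n) (Fin n) F) *ᵥ u) = 0) ∧
    H ≤ subfieldSubgroup F₀ P)

lemma InClass5.mono {H K : Subgroup (GL (Fin n) F)} (h : InClass5 q K) (hle : H ≤ K) :
    InClass5 q H := by
  rcases h with ⟨F₀, r, P, h1, h2, h3, h4, h5⟩ | ⟨F₀, P, h1, h2, h3, h4⟩ |
    ⟨F₀, P, ζ, h1, h2, h3, h4, h5, h6, h7⟩
  · exact Or.inl ⟨F₀, r, P, h1, h2, h3, h4, hle.trans h5⟩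
  · exact Or.inr (Or.inl ⟨F₀, P, h1, h2, h3, hle.trans h4⟩)
  · exact Or.inr (Or.inr ⟨F₀, P, ζ, h1, h2, h3, h4, h5, h6, hle.trans h7⟩)

/-- The Gram matrix of the form in the basis of the columns of `P`. -/
def gramP (q : ℕ) (P : Matrix (Fin n) (Fin n) F) : Matrix (Fin n) (Fin n) F :=
  Pᵀ * P.map fun x => x ^ q

lemma herm_mulVec_gramP (hF : Fintype.card F = q ^ 2) (P : Matrix (Fin n) (Fin n) F)
    (u v : Fin n → F) :
    hermForm n F q (P *ᵥ u) (P *ᵥ v) = u ⬝ᵥ (gramP q P *ᵥ fun i => v i ^ q) := by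
  have e : (fun i => (P *ᵥ v) i ^ q) = (P.map fun x => x ^ q) *ᵥ fun i => v i ^ q := by
    funext i
    exact (frob hF).toRingHom.map_mulVec P v i
  show (P *ᵥ u) ⬝ᵥ (fun i => (P *ᵥ v) i ^ q) = _
  rw [e, gramP, ← Matrix.mulVec_mulVec, Matrix.dotProduct_mulVec u Pᵀ, Matrix.vecMul_transpose]

lemma hst_gramP (hF : Fintype.card F = q ^ 2) (P : Matrix (Fin n) (Fin n) F) :
    hst q (gramP q P) = gramP q P := by
  ext i j
  simp only [hst_apply, gramP, Matrix.mul_apply, Matrix.transpose_apply, Matrix.map_apply,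
    sum_pow_q hF, mul_pow, pow_q_q hF]
  exact Finset.sum_congr rfl fun l _ => mul_comm _ _

lemma isUnit_gramP (hF : Fintype.card F = q ^ 2) (P : GL (Fin n) F) :
    IsUnit (gramP q (P : Matrix (Fin n) (Fin n) F)) :=
  ((Matrix.isUnit_transpose _).mpr P.isUnit).mul
    (P.isUnit.map (frob hF).toRingHom.mapMatrix)

lemma mem_subfield_iff (hF : Fintype.card F = q ^ 2) (F₁ : Subfield F)
    (h2 : Fintype.card F = Nat.card F₁ ^ 2) (x : F) : x ∈ F₁ ↔ x ^ q = x := by
  classical
  haveI : Fintype F₁ := Fintype.ofFinite _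
  have hc : Fintype.card F₁ = q := by
    rw [← Nat.card_eq_fintype_card]
    exact Nat.pow_left_injective two_ne_zero (h2.symm.trans hF)
  have hsub : (F₁ : Set F) ⊆ {x : F | x ^ q = x} := fun y hy => by
    have := FiniteField.pow_card (⟨y, hy⟩ : F₁)
    rw [hc] at this
    exact congrArg Subtype.val this
  have heq : (F₁ : Set F) = {x : F | x ^ q = x} := by
    refine Set.eq_of_subset_of_ncard_le hsub ?_
    rw [← Nat.card_coe_set_eq, ← Nat.card_coe_set_eq]
    show Nat.card {x : F // x ^ q = x} ≤ Nat.card F₁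
    rw [card_fixed hF, Nat.card_eq_fintype_card, hc]
  exact Set.ext_iff.1 heq x

/-- Rational structure of index two from a symmetric or alternating Gram matrix. -/
theorem class5_two (hF : Fintype.card F = q ^ 2) {H : Subgroup (GL (Fin n) F)} (F₁ : Subfield F)
    (h2 : Fintype.card F = Nat.card F₁ ^ 2) (P : GL (Fin n) F) (hH : H ≤ subfieldSubgroup F₁ P)
    (ζ₀ : F) (G₀ : Matrix (Fin n) (Fin n) F) (hent : ∀ i j, G₀ i j ∈ F₁)
    (hG : gramP q (P : Matrix (Fin n) (Fin n) F) = ζ₀ • G₀) (hn : 0 < n)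
    (hcase : (Odd q ∧ ∀ i j, G₀ i j = G₀ j i) ∨
      ((∀ i j, G₀ i j = - G₀ j i) ∧ ∀ i, G₀ i i = 0)) : InClass5 q H := by
  have hu := isUnit_gramP hF P
  rw [hG] at hu
  haveI : Nonempty (Fin n) := ⟨⟨0, hn⟩⟩
  have hζ : ζ₀ ≠ 0 := fun h => by rw [h, zero_smul] at hu; exact not_isUnit_zero hu
  have hG0 : G₀ ≠ 0 := fun h => by rw [h, smul_zero] at hu; exact not_isUnit_zero hu
  have hfix : ∀ x ∈ F₁, x ^ q = x := fun x hx => (mem_subfield_iff hF F₁ h2 x).1 hx
  have hherm : ∀ i j, ζ₀ ^ q * G₀ j i = ζ₀ * G₀ i j := fun i j => by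
    have := congrFun (congrFun (hst_gramP hF (P : Matrix (Fin n) (Fin n) F)) i) j
    rw [hG] at this
    simpa [hst_apply, mul_pow, hfix _ (hent j i)] using this
  obtain ⟨a, b, hab⟩ : ∃ a b, G₀ a b ≠ 0 := by
    by_contra h
    push Not at h
    exact hG0 (Matrix.ext h)
  have hform : ∀ u v : Fin n → F, (∀ i, v i ∈ F₁) →
      hermForm n F q ((P : Matrix (Fin n) (Fin n) F) *ᵥ u) ((P : Matrix (Fin n) (Fin n) F) *ᵥ v)
        = ζ₀ * (u ⬝ᵥ (G₀ *ᵥ v)) := fun u v hv => by
    rw [herm_mulVec_gramP hF, hG, Matrix.smul_mulVec, dotProduct_smul, smul_eq_mul,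
      show (fun i => v i ^ q) = v from funext fun i => hfix _ (hv i)]
  have hmem : ∀ u v : Fin n → F, (∀ i, u i ∈ F₁) → (∀ i, v i ∈ F₁) → u ⬝ᵥ (G₀ *ᵥ v) ∈ F₁ :=
    fun u v hu hv => F₁.sum_mem fun i _ => F₁.mul_mem (hu i)
      (show ∑ j, G₀ i j * v j ∈ F₁ from F₁.sum_mem fun j _ => F₁.mul_mem (hent i j) (hv j))
  rcases hcase with ⟨hodd, hs⟩ | ⟨hs, hd⟩
  · have hζq : ζ₀ ^ q = ζ₀ := by
      have := hherm b a
      rw [hs b a] at this
      exact mul_right_cancel₀ hab this
    exact Or.inr (Or.inl ⟨F₁, P, hodd, h2, fun u v hu hv => by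
      rw [one_mul, hform u v hv]
      exact F₁.mul_mem ((mem_subfield_iff hF F₁ h2 ζ₀).2 hζq) (hmem u v hu hv), hH⟩)
  · have hζq : ζ₀ ^ q = - ζ₀ := by
      have := hherm b a
      rw [hs b a] at this
      exact mul_right_cancel₀ hab (by rw [this]; ring)
    have hev : Even n := by
      have hu2 : IsUnit G₀ := by
        have := hu.smul (Units.mk0 ζ₀⁻¹ (inv_ne_zero hζ))
        simpa [Units.smul_def, smul_smul, inv_mul_cancel₀ hζ] using this
      simpa using Aschbacher.even_card_of_alternating hs hd hu2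
    refine Or.inr (Or.inr ⟨F₁, P, ζ₀⁻¹, hev, h2, inv_ne_zero hζ, ?_, fun u v hu hv => ?_,
      fun u hu => ?_, hH⟩)
    · rw [inv_pow, hζq, inv_neg, add_neg_cancel]
    · rw [hform u v hv, ← mul_assoc, inv_mul_cancel₀ hζ, one_mul]
      exact hmem u v hu hv
    · rw [hform u u hu]
      have halt : u ⬝ᵥ (G₀ *ᵥ u) = 0 := by
        simp only [dotProduct, Matrix.mulVec, Finset.mul_sum, ← Fintype.sum_prod_type']
        refine Finset.sum_involution (fun p _ => (p.2, p.1)) ?_ ?_ ?_ ?_
        · intro p _; rw [hs p.1 p.2]; ring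
        · intro p _ hp h
          have : p.1 = p.2 := (congrArg Prod.fst h).symm
          rw [this, hd] at hp
          simp at hp
        · simp
        · simp
      rw [halt, mul_zero]

lemma exists_frobFixed (hF : Fintype.card F = q ^ 2) :
    ∃ F₁ : Subfield F, Fintype.card F = Nat.card F₁ ^ 2 := by
  obtain ⟨p, a, hp, ha, hc, hq⟩ := exists_char_pow hF
  haveI : Fact p.Prime := ⟨hp⟩
  refine ⟨Aschbacher.frobFixed p a, ?_⟩
  rw [Aschbacher.card_frobFixed (f := a * 2) (by rw [hF, hq, ← pow_mul]) (Dvd.intro 2 rfl) ha, hF, hq]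

lemma exists_skew_alt (hF : Fintype.card F = q ^ 2) :
    ∃ δ : F, δ ≠ 0 ∧ δ ^ q = -δ := exists_skew hF

/-- Semilinear descent: a group commuting up to scalars with a semilinear involution given by a
symmetric or alternating matrix lies in a subfield member. -/
theorem class5_of_semilinear (hF : Fintype.card F = q ^ 2) (hn : 0 < n)
    {H : Subgroup (GL (Fin n) F)} (A : GL (Fin n) F) (a : F)
    (hA : (A : Matrix (Fin n) (Fin n) F).map (fun x => x ^ q) * (A : Matrix (Fin n) (Fin n) F) = a • 1)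
    (hcase : (Odd q ∧ ∀ i j, (A : Matrix (Fin n) (Fin n) F) i j = (A : Matrix (Fin n) (Fin n) F) j i) ∨
      ((∀ i j, (A : Matrix (Fin n) (Fin n) F) i j = - (A : Matrix (Fin n) (Fin n) F) j i) ∧
        ∀ i, (A : Matrix (Fin n) (Fin n) F) i i = 0))
    (hconj : ∀ h ∈ H, ∃ κ : F, (h : Matrix (Fin n) (Fin n) F).map (fun x => x ^ q) =
      κ • Aschbacher.cj A (h : Matrix (Fin n) (Fin n) F)) : InClass5 q H := by
  classical
  haveI : Nonempty (Fin n) := ⟨⟨0, hn⟩⟩
  let σm : Matrix (Fin n) (Fin n) F →+* Matrix (Fin n) (Fin n) F := (frob hF).toRingHom.mapMatrix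
  have hσm : ∀ M, σm M = M.map (fun x => x ^ q) := fun M => rfl
  have hσσ : ∀ M, σm (σm M) = M := fun M => by ext i j; exact pow_q_q hF (M i j)
  have hσsm : ∀ (c : F) M, σm (c • M) = c ^ q • σm M := fun c M => by
    ext i j; simp [hσm, mul_pow]
  set Am := (A : Matrix (Fin n) (Fin n) F) with hAm
  rw [← hσm] at hA
  have ha0 : a ≠ 0 := fun h => by
    have hu : IsUnit (σm Am * Am) := (A.isUnit.map σm).mul A.isUnit
    rw [hA, h, zero_smul] at hu
    exact not_isUnit_zero hu
  have hA2 : Am * σm Am = a • 1 := by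
    have h1 : Am * (σm Am * Am) = (a • (1 : Matrix (Fin n) (Fin n) F)) * Am := by
      rw [hA]; simp
    rw [← mul_assoc] at h1
    exact A.isUnit.mul_right_cancel h1
  have haq : a ^ q = a := by
    have h := congrArg σm hA
    rw [map_mul, hσσ, hσsm, map_one, hA2] at h
    exact (smul_left_injective F (one_ne_zero (α := Matrix (Fin n) (Fin n) F)) h).symm
  obtain ⟨d, hd⟩ := exists_norm_eq hF (a := a⁻¹) (by rw [inv_pow, haq])
  have hd0 : d ≠ 0 := fun h => by rw [h, zero_mul] at hd; exact inv_ne_zero ha0 hd.symm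
  set B := d • Am with hB
  have hBB : σm B * B = 1 := by
    rw [hB, hσsm, Matrix.smul_mul, Matrix.mul_smul, hA, smul_smul, smul_smul, mul_comm (d ^ q) d, hd,
      inv_mul_cancel₀ ha0, one_smul]
  have hBB' : B * σm B = 1 := by
    rw [hB, hσsm, Matrix.smul_mul, Matrix.mul_smul, hA2, smul_smul, smul_smul, hd,
      inv_mul_cancel₀ ha0, one_smul]
  -- the semilinear involution
  let J : (Fin n → F) → (Fin n → F) := fun v => σm B *ᵥ fun i => v i ^ q
  have hJadd : ∀ u v, J (u + v) = J u + J v := fun u v => by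
    show σm B *ᵥ _ = _
    rw [show (fun i => (u + v) i ^ q) = (fun i => u i ^ q) + fun i => v i ^ q from
      funext fun i => add_pow_q hF _ _, Matrix.mulVec_add]
  have hJsm : ∀ (c : F) v, J (c • v) = c ^ q • J v := fun c v => by
    show σm B *ᵥ _ = _
    rw [show (fun i => (c • v) i ^ q) = c ^ q • fun i => v i ^ q from
      funext fun i => mul_pow c (v i) q, Matrix.mulVec_smul]
  have hJJ : ∀ v, J (J v) = v := fun v => by
    show σm B *ᵥ (fun i => (σm B *ᵥ fun i => v i ^ q) i ^ q) = v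
    have e : (fun i => (σm B *ᵥ fun i => v i ^ q) i ^ q) = σm (σm B) *ᵥ v := by
      funext i
      refine ((frob hF).toRingHom.map_mulVec (σm B) (fun i => v i ^ q) i).trans ?_
      exact congrArg (fun w => (σm (σm B) *ᵥ w) i) (funext fun j => pow_q_q hF (v j))
    rw [e, hσσ, Matrix.mulVec_mulVec, hBB, Matrix.one_mulVec]
  obtain ⟨w, hw⟩ := exists_move hF
  have hspan : ⊤ ≤ Submodule.span F {v | J v = v} := by
    intro v _
    have h1 : v + J v ∈ Submodule.span F {v | J v = v} :=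
      Submodule.subset_span (show J _ = _ by rw [hJadd, hJJ, add_comm])
    have h2 : w • v + w ^ q • J v ∈ Submodule.span F {v | J v = v} :=
      Submodule.subset_span (show J _ = _ by rw [hJadd, hJsm, hJsm, hJJ, pow_q_q hF, add_comm])
    have h3 := Submodule.sub_mem _ h2 (Submodule.smul_mem _ (w ^ q) h1)
    rw [show w • v + w ^ q • J v - w ^ q • (v + J v) = (w - w ^ q) • v by module] at h3
    have h4 := Submodule.smul_mem _ (w - w ^ q)⁻¹ h3
    rwa [smul_smul, inv_mul_cancel₀ (sub_ne_zero.mpr fun h => hw h.symm), one_smul] at h4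
  let bb := Module.Basis.ofSpan (K := F) hspan
  let b := bb.reindex (bb.indexEquiv (Pi.basisFun F (Fin n)))
  have hbJ : ∀ i, J (b i) = b i := fun i => by
    have h : b i ∈ Set.range bb := ⟨_, (Module.Basis.reindex_apply _ _ i).symm⟩
    exact Module.Basis.ofSpan_subset hspan h
  let Cm : Matrix (Fin n) (Fin n) F := Matrix.of fun i j => b j i
  have hCu : IsUnit Cm := by
    rw [← Matrix.linearIndependent_cols_iff_isUnit]
    exact b.linearIndependent
  let C : GL (Fin n) F := hCu.unit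
  have hCv : (C : Matrix (Fin n) (Fin n) F) = Cm := hCu.unit_spec
  have hσC : σm Cm = B * Cm := by
    have h : σm B * σm Cm = Cm := Matrix.ext fun i j => congrFun (hbJ j) i
    calc σm Cm = B * σm B * σm Cm := by rw [hBB', one_mul]
      _ = B * Cm := by rw [mul_assoc, h]
  set Ci := ((C⁻¹ : GL (Fin n) F) : Matrix (Fin n) (Fin n) F) with hCi
  have hCCi : Cm * Ci = 1 := by rw [hCi, ← hCv, ← Units.val_mul, mul_inv_cancel, Units.val_one]
  have hCiC : Ci * Cm = 1 := by rw [hCi, ← hCv, ← Units.val_mul, inv_mul_cancel, Units.val_one]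
  set Ai := ((A⁻¹ : GL (Fin n) F) : Matrix (Fin n) (Fin n) F) with hAi
  have hAAi : Am * Ai = 1 := by rw [hAi, hAm, ← Units.val_mul, mul_inv_cancel, Units.val_one]
  have hAiA : Ai * Am = 1 := by rw [hAi, hAm, ← Units.val_mul, inv_mul_cancel, Units.val_one]
  have hσCi : σm Ci = d⁻¹ • (Ci * Ai) := by
    have h1 : σm Ci * σm Cm = 1 := by rw [← map_mul, hCiC, map_one]
    have h2 : σm Cm * (d⁻¹ • (Ci * Ai)) = 1 := by
      rw [hσC, hB, Matrix.mul_smul, Matrix.smul_mul, Matrix.smul_mul, smul_smul, inv_mul_cancel₀ hd0,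
        one_smul, mul_assoc, ← mul_assoc Cm, hCCi, one_mul, hAAi]
    calc σm Ci = σm Ci * (σm Cm * (d⁻¹ • (Ci * Ai))) := by rw [h2, mul_one]
      _ = _ := by rw [← mul_assoc, h1, one_mul]
  obtain ⟨F₁, hF₁⟩ := exists_frobFixed hF
  have hmem := mem_subfield_iff hF F₁ hF₁
  have hle : H ≤ subfieldSubgroup F₁ C := by
    intro h hh
    obtain ⟨κ, hκ⟩ := hconj h hh
    rw [← hσm, Aschbacher.cj_apply] at hκ
    set Y := Ci * (h : Matrix (Fin n) (Fin n) F) * Cm with hY
    have hσY : σm Y = κ • Y := by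
      rw [hY, map_mul, map_mul, hσCi, hκ, hσC, hB]
      simp only [Matrix.smul_mul, Matrix.mul_smul, smul_smul]
      rw [show d * (κ * d⁻¹) = κ by field_simp]
      congr 1
      simp only [mul_assoc]
      rw [← mul_assoc Ai Am, hAiA, one_mul, ← mul_assoc Ai Am, hAiA, one_mul]
    have hYu : IsUnit Y := by
      rw [hY]
      exact (((C⁻¹ : GL (Fin n) F).isUnit).mul h.isUnit).mul (hCv ▸ C.isUnit)
    have hκκ : κ * κ ^ q = 1 := by
      have h' := congrArg σm hσY
      rw [hσσ, hσsm, hσY, smul_smul] at h'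
      have h'' : (1 - κ ^ q * κ) • Y = 0 := by rw [sub_smul, one_smul, ← h', sub_self]
      rcases smul_eq_zero.mp h'' with h5 | h5
      · rw [mul_comm]; exact (sub_eq_zero.mp h5).symm
      · exact absurd h5 (by intro h6; rw [h6] at hYu; exact not_isUnit_zero hYu)
    obtain ⟨y, hy0, hy⟩ := exists_rescale hF hκκ
    have hent : ∀ i j, (y • Y) i j ∈ F₁ := fun i j => by
      rw [hmem]
      have h6 := congrFun (congrFun hσY i) j
      rw [hσm, Matrix.map_apply, Matrix.smul_apply, smul_eq_mul] at h6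
      simp only [Matrix.smul_apply, smul_eq_mul, mul_pow, h6, ← mul_assoc, hy]
    let X : Matrix (Fin n) (Fin n) F₁ := Matrix.of fun i j => ⟨(y • Y) i j, hent i j⟩
    have hXmap : X.map (F₁.subtype) = y • Y := by ext i j; rfl
    have hXu : IsUnit X := by
      rw [Matrix.isUnit_iff_isUnit_det, isUnit_iff_ne_zero]
      intro h0
      have h7 : (y • Y).det = 0 := by
        rw [← hXmap, ← RingHom.mapMatrix_apply, ← RingHom.map_det, h0, map_zero]
      have h8 := hYu.smul (Units.mk0 y hy0)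
      rw [Units.smul_def, Units.val_mk0, Matrix.isUnit_iff_isUnit_det, h7] at h8
      exact not_isUnit_zero h8
    let g₀ : GL (Fin n) F := Matrix.GeneralLinearGroup.map (F₁.subtype : F₁ →+* F) hXu.unit
    let s : GL (Fin n) F :=
      Units.map (Matrix.scalar (Fin n) : F →+* _).toMonoidHom (Units.mk0 y⁻¹ (inv_ne_zero hy0))
    refine ⟨g₀ * s, Subgroup.mul_mem _ (Subgroup.mem_sup_left ⟨hXu.unit, rfl⟩)
      (Subgroup.mem_sup_right ⟨Units.mk0 y⁻¹ (inv_ne_zero hy0), rfl⟩), ?_⟩
    apply Units.ext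
    have hv : ((g₀ * s : GL (Fin n) F) : Matrix (Fin n) (Fin n) F) = Y := by
      rw [Units.val_mul]
      show (hXu.unit : Matrix (Fin n) (Fin n) F₁).map F₁.subtype * Matrix.scalar (Fin n) y⁻¹ = Y
      rw [hXu.unit_spec, hXmap, Matrix.scalar_apply, ← Matrix.smul_one_eq_diagonal, Matrix.mul_smul,
        mul_one, smul_smul, inv_mul_cancel₀ hy0, one_smul]
    show ((C * (g₀ * s) * C⁻¹ : GL (Fin n) F) : Matrix (Fin n) (Fin n) F) = _
    rw [Units.val_mul, Units.val_mul, hv, hCv, ← hCi, hY]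
    simp only [← mul_assoc, hCCi, one_mul]
    rw [mul_assoc, hCCi, mul_one]
  set M := gramP q Cm with hM
  have hMeq : M = d • (Cmᵀ * Am * Cm) := by
    rw [hM, gramP, ← hσm, hσC, hB, Matrix.smul_mul, Matrix.mul_smul, ← mul_assoc]
  have hMherm := hst_gramP hF Cm
  rw [← hM] at hMherm
  rcases hcase with ⟨hodd, hs⟩ | ⟨hs, hdd⟩
  · have hMs : ∀ i j, M i j = M j i := fun i j => by
      have : Mᵀ = M := by
        rw [hMeq, Matrix.transpose_smul, Matrix.transpose_mul, Matrix.transpose_mul,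
          Matrix.transpose_transpose, show Amᵀ = Am from Matrix.ext fun i j => hs j i, mul_assoc]
      exact congrFun (congrFun this j) i
    refine class5_two hF F₁ hF₁ C hle 1 M (fun i j => ?_) (by rw [one_smul, hCv, hM]) hn
      (Or.inl ⟨hodd, hMs⟩)
    rw [hmem]
    have := congrFun (congrFun hMherm j) i
    rw [hst_apply] at this
    rw [this, hMs]
  · have hMs : ∀ i j, M i j = - M j i := fun i j => by
      have : Mᵀ = -M := by
        rw [hMeq, Matrix.transpose_smul, Matrix.transpose_mul, Matrix.transpose_mul,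
          Matrix.transpose_transpose, show Amᵀ = -Am from Matrix.ext fun i j => hs j i,
          Matrix.neg_mul, Matrix.mul_neg, smul_neg, mul_assoc]
      exact congrFun (congrFun this j) i
    have hMd : ∀ i, M i i = 0 := fun i => by
      rw [hMeq, Matrix.smul_apply, smul_eq_mul]
      refine mul_eq_zero_of_right _ ?_
      simp only [Matrix.mul_apply, Matrix.transpose_apply, Finset.sum_mul, ← Fintype.sum_prod_type']
      refine Finset.sum_involution (fun p _ => (p.2, p.1)) ?_ ?_ ?_ ?_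
      · intro p _; rw [hs p.1 p.2]; ring
      · intro p _ hp h
        have : p.1 = p.2 := (congrArg Prod.fst h).symm
        rw [this, hdd] at hp
        simp at hp
      · simp
      · simp
    obtain ⟨δ, hδ0, hδ⟩ := exists_skew hF
    refine class5_two hF F₁ hF₁ C hle δ (δ⁻¹ • M) (fun i j => ?_)
      (by rw [smul_smul, mul_inv_cancel₀ hδ0, one_smul, hCv, hM]) hn (Or.inr ⟨fun i j => ?_, fun i => ?_⟩)
    · rw [hmem]
      have := congrFun (congrFun hMherm j) i
      rw [hst_apply] at this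
      simp only [Matrix.smul_apply, smul_eq_mul, mul_pow, this, inv_pow, hδ, hMs j i, inv_neg,
        neg_mul_neg]
    · rw [Matrix.smul_apply, Matrix.smul_apply, hMs i j, smul_neg]
    · rw [Matrix.smul_apply, hMd, smul_zero]

lemma unique_mult {S : Set (Matrix (Fin n) (Fin n) F)}
    (hS : ∀ M : Matrix (Fin n) (Fin n) F, (∀ s ∈ S, M * s = s * M) → ∃ c : F, M = c • 1)
    (σ : F ≃+* F) {G G' : Matrix (Fin n) (Fin n) F} (hG : IsUnit G)
    (h : ∀ s ∈ S, ∃ μ : F, IsUnit sᵀ ∧ Aschbacher.gtr σ G s = μ • G ∧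
      Aschbacher.gtr σ G' s = μ • G') :
    ∃ c : F, G' = c • G := by
  have hd : IsUnit G.det := (Matrix.isUnit_iff_isUnit_det G).mp hG
  have key : ∀ s ∈ S, G⁻¹ * G' * s.map σ = s.map σ * (G⁻¹ * G') := by
    intro s hs
    obtain ⟨μ, hsu, h1, h2⟩ := h s hs
    simp only [Aschbacher.gtr] at h1 h2
    have hu : IsUnit sᵀ.det := (Matrix.isUnit_iff_isUnit_det _).mp hsu
    have e1 : G * s.map σ = μ • (sᵀ⁻¹ * G) := by
      calc G * s.map σ = sᵀ⁻¹ * (sᵀ * G * s.map σ) := by
            rw [← mul_assoc, ← mul_assoc, Matrix.nonsing_inv_mul _ hu, one_mul]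
        _ = _ := by rw [h1, Matrix.mul_smul]
    have e2 : G' * s.map σ = μ • (sᵀ⁻¹ * G') := by
      calc G' * s.map σ = sᵀ⁻¹ * (sᵀ * G' * s.map σ) := by
            rw [← mul_assoc, ← mul_assoc, Matrix.nonsing_inv_mul _ hu, one_mul]
        _ = _ := by rw [h2, Matrix.mul_smul]
    calc G⁻¹ * G' * s.map σ = μ • (G⁻¹ * sᵀ⁻¹ * G') := by
          rw [mul_assoc, e2, Matrix.mul_smul, ← mul_assoc]
      _ = G⁻¹ * (μ • (sᵀ⁻¹ * G)) * (G⁻¹ * G') := by
          simp only [mul_assoc, Matrix.mul_smul, Matrix.smul_mul]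
          rw [← mul_assoc G G⁻¹, Matrix.mul_nonsing_inv _ hd, one_mul]
      _ = s.map σ * (G⁻¹ * G') := by
          rw [← e1, ← mul_assoc G⁻¹ G, Matrix.nonsing_inv_mul _ hd, one_mul]
  have hid : ∀ M : Matrix (Fin n) (Fin n) F, M.map (σ.symm ∘ σ) = M := fun M => by ext i j; simp
  obtain ⟨c, hc⟩ := hS ((G⁻¹ * G').map σ.symm) fun s hs => by
    have := congrArg (fun M : Matrix (Fin n) (Fin n) F => M.map σ.symm) (key s hs)
    simp only [Matrix.map_mul, Matrix.map_map] at this
    simpa [hid, Matrix.map_mul] using this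
  refine ⟨σ c, ?_⟩
  have h3 : G⁻¹ * G' = σ c • 1 := by
    have := congrArg (fun M : Matrix (Fin n) (Fin n) F => M.map σ) hc
    simp only [Matrix.map_map] at this
    rw [show (G⁻¹ * G').map (σ ∘ σ.symm) = G⁻¹ * G' by ext i j; simp] at this
    rw [this]
    ext i j; by_cases hij : i = j
    · subst hij; simp
    · simp [hij]
  calc G' = G * (G⁻¹ * G') := by rw [← mul_assoc, Matrix.mul_nonsing_inv _ hd, one_mul]
    _ = _ := by rw [h3, Matrix.mul_smul, mul_one]

/-- A group normalising an absolutely irreducible group of similitudes realisable over a proper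
subfield lies in a subfield member compatible with the form. -/
theorem class5_of_realisable (hF : Fintype.card F = q ^ 2) (hn : 2 ≤ n)
    {H P₀ : Subgroup (GL (Fin n) F)} (hP : ActsAbsolutelyIrreducibly (matrixSet P₀))
    (hnorm : ∀ h ∈ H, ∀ x ∈ P₀, h * x * h⁻¹ ∈ P₀) (F₀ : Subfield F) (hne : F₀ ≠ ⊤)
    (hreal : RealisableOver F₀ (matrixSet P₀))
    (hmult : ∀ x ∈ P₀, ∃ μ ∈ F₀, μ ^ q = μ ∧
      hst q (x : Matrix (Fin n) (Fin n) F) * (x : Matrix (Fin n) (Fin n) F) = μ • 1) :
    InClass5 q H := by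
  classical
  haveI : Nonempty (Fin n) := ⟨⟨0, by omega⟩⟩
  obtain ⟨p, a, hp, ha, hc, hq⟩ := exists_char_pow hF
  haveI : Fact p.Prime := ⟨hp⟩
  obtain ⟨B, hB⟩ := hreal
  obtain ⟨F₁, r, hle1, hr, hF₁⟩ := Aschbacher.exists_prime_index_subfield F₀ hne
  have hHle : H ≤ subfieldSubgroup F₁ B⁻¹ :=
    Aschbacher.le_subfieldSubgroup hP hnorm F₁ B fun s hs i j => hle1 (hB s hs i j)
  haveI : Fintype F₁ := Fintype.ofFinite _
  haveI : CharP F₁ p := F₁.subtype.charP F₁.subtype.injective p
  obtain ⟨b, -, hb⟩ := FiniteField.card F₁ p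
  set Q := Fintype.card F₁ with hQ
  have hab : (b : ℕ) * r = 2 * a := by
    refine Nat.pow_right_injective hp.two_le ?_
    show p ^ ((b : ℕ) * r) = p ^ (2 * a)
    rw [pow_mul, ← hb, hQ, ← Nat.card_eq_fintype_card, ← hF₁, hF, hq, ← pow_mul, mul_comm a]
  have hmemQ : ∀ x : F, x ∈ F₁ ↔ x ^ p ^ (b : ℕ) = x := by
    intro x
    have hsub : (F₁ : Set F) ⊆ (Aschbacher.frobFixed p (b : ℕ) : Subfield F) := fun y hy => by
      show y ^ p ^ (b : ℕ) = y
      have := FiniteField.pow_card (⟨y, hy⟩ : F₁)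
      rw [← hQ, hb] at this
      exact congrArg Subtype.val this
    have heq : (F₁ : Set F) = (Aschbacher.frobFixed p (b : ℕ) : Subfield F) := by
      refine Set.eq_of_subset_of_ncard_le hsub ?_
      rw [← Nat.card_coe_set_eq, ← Nat.card_coe_set_eq]
      show Nat.card (Aschbacher.frobFixed p (b : ℕ) : Subfield F) ≤ Nat.card F₁
      rw [Aschbacher.card_frobFixed (f := 2 * a) (by rw [hF, hq, ← pow_mul, mul_comm a]) ⟨r, hab.symm⟩
        b.pos, Nat.card_eq_fintype_card, ← hQ, hb]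
    exact Set.ext_iff.1 heq x
  let τ : F ≃+* F := iterateFrobeniusEquiv F p (b : ℕ)
  have hτ : ∀ x, τ x = x ^ p ^ (b : ℕ) := iterateFrobeniusEquiv_def F p (b : ℕ)
  set Bi := ((B⁻¹ : GL (Fin n) F) : Matrix (Fin n) (Fin n) F) with hBi
  set S : Set (Matrix (Fin n) (Fin n) F) :=
    (fun s => (B : Matrix (Fin n) (Fin n) F) * s * Bi) '' matrixSet P₀ with hS
  have hBB : (B : Matrix (Fin n) (Fin n) F) * Bi = 1 := by
    rw [hBi, ← Units.val_mul, mul_inv_cancel, Units.val_one]
  have hBB' : Bi * (B : Matrix (Fin n) (Fin n) F) = 1 := by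
    rw [hBi, ← Units.val_mul, inv_mul_cancel, Units.val_one]
  have hScomm : ∀ M : Matrix (Fin n) (Fin n) F, (∀ s ∈ S, M * s = s * M) → ∃ c : F, M = c • 1 := by
    intro M hM
    obtain ⟨c, hc⟩ := hP.2 (Bi * M * (B : Matrix (Fin n) (Fin n) F)) fun s hs => by
      have h := hM _ ⟨s, hs, rfl⟩
      calc Bi * M * (B : Matrix (Fin n) (Fin n) F) * s
          = Bi * (M * ((B : Matrix (Fin n) (Fin n) F) * s * Bi)) * B := by
            simp only [mul_assoc]; rw [hBB', mul_one]
        _ = Bi * ((B : Matrix (Fin n) (Fin n) F) * s * Bi * M) * B := by rw [h]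
        _ = _ := by simp only [← mul_assoc]; rw [hBB', one_mul]
    refine ⟨c, ?_⟩
    calc M = (B : Matrix (Fin n) (Fin n) F) * (Bi * M * B) * Bi := by
          simp only [← mul_assoc, hBB, one_mul]; rw [mul_assoc, hBB, mul_one]
      _ = _ := by rw [hc, Matrix.mul_smul, Matrix.smul_mul, mul_one, hBB]
  set G := gramP q Bi with hG
  have hGu : IsUnit G := isUnit_gramP hF B⁻¹
  have hSinv : ∀ s ∈ S, ∃ μ : F, μ ∈ F₁ ∧ μ ^ q = μ ∧ IsUnit sᵀ ∧ (∀ i j, s i j ∈ F₁) ∧
      Aschbacher.gtr (frob hF) G s = μ • G := by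
    rintro _ ⟨s, hs, rfl⟩
    obtain ⟨x, hx, rfl⟩ := hs
    obtain ⟨μ, hμ, hμq, hxμ⟩ := hmult x hx
    refine ⟨μ, hle1 hμ, hμq, (Matrix.isUnit_transpose _).mpr ((B.isUnit.mul x.isUnit).mul (B⁻¹).isUnit),
      fun i j => hle1 (hB _ ⟨x, hx, rfl⟩ i j), ?_⟩
    have h1 : (x : Matrix (Fin n) (Fin n) F)ᵀ *
        (x : Matrix (Fin n) (Fin n) F).map (fun y => y ^ q) = μ • 1 := by
      have := congrArg Matrix.transpose hxμ
      rwa [hst, Matrix.transpose_mul, Matrix.transpose_transpose, Matrix.transpose_smul,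
        Matrix.transpose_one] at this
    have hmap : ∀ M N : Matrix (Fin n) (Fin n) F, (M * N).map (fun y => y ^ q) =
        M.map (fun y => y ^ q) * N.map (fun y => y ^ q) :=
      fun M N => map_mul (frob hF).toRingHom.mapMatrix M N
    show ((B : Matrix (Fin n) (Fin n) F) * (x : Matrix (Fin n) (Fin n) F) * Bi)ᵀ * G *
      ((B : Matrix (Fin n) (Fin n) F) * (x : Matrix (Fin n) (Fin n) F) * Bi).map (fun y => y ^ q) = μ • G
    rw [hG, gramP]
    have h2 : Biᵀ * ((B : Matrix (Fin n) (Fin n) F))ᵀ = 1 := by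
      rw [← Matrix.transpose_mul, hBB, Matrix.transpose_one]
    have h2' : ((B : Matrix (Fin n) (Fin n) F))ᵀ * Biᵀ = 1 := by
      rw [← Matrix.transpose_mul, hBB', Matrix.transpose_one]
    have h3 : Bi.map (fun y => y ^ q) * (B : Matrix (Fin n) (Fin n) F).map (fun y => y ^ q) = 1 := by
      rw [← hmap, hBB']; exact map_one (frob hF).toRingHom.mapMatrix
    calc _ = Biᵀ * ((x : Matrix (Fin n) (Fin n) F))ᵀ * (((B : Matrix (Fin n) (Fin n) F))ᵀ * Biᵀ) *
          (Bi.map (fun y => y ^ q) * (B : Matrix (Fin n) (Fin n) F).map (fun y => y ^ q)) *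
          (x : Matrix (Fin n) (Fin n) F).map (fun y => y ^ q) * Bi.map (fun y => y ^ q) := by
          simp only [hmap, Matrix.transpose_mul, mul_assoc]
      _ = Biᵀ * (((x : Matrix (Fin n) (Fin n) F))ᵀ *
          (x : Matrix (Fin n) (Fin n) F).map (fun y => y ^ q)) * Bi.map (fun y => y ^ q) := by
          rw [h2', h3, mul_one, mul_one]; simp only [mul_assoc]
      _ = _ := by rw [h1, Matrix.mul_smul, mul_one, Matrix.smul_mul]
  obtain ⟨i₀, j₀, h00⟩ : ∃ i j, G i j ≠ 0 := by
    by_contra h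
    push Not at h
    exact not_isUnit_zero ((show G = 0 from Matrix.ext h) ▸ hGu)
  set g := G i₀ j₀ with hg
  set G₀ := g⁻¹ • G with hG₀
  have hG₀u : IsUnit G₀ := by
    have := hGu.smul (Units.mk0 g⁻¹ (inv_ne_zero h00))
    simpa [Units.smul_def] using this
  have hG₀1 : G₀ i₀ j₀ = 1 := by
    rw [hG₀, Matrix.smul_apply, smul_eq_mul, ← hg, inv_mul_cancel₀ h00]
  have hent : ∀ i j, G₀ i j ∈ F₁ := by
    have hinv : ∀ s ∈ S, ∃ μ : F, IsUnit sᵀ ∧ Aschbacher.gtr (frob hF) G₀ s = μ • G₀ ∧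
        Aschbacher.gtr (frob hF) (G₀.map τ) s = μ • G₀.map τ := by
      intro s hs
      obtain ⟨μ, hμ, -, hsu, hse, hsG⟩ := hSinv s hs
      have hs0 : Aschbacher.gtr (frob hF) G₀ s = μ • G₀ := by
        rw [hG₀, Aschbacher.gtr_smul, hsG, smul_comm]
      refine ⟨μ, hsu, hs0, ?_⟩
      have hsτ : s.map τ = s := by ext i j; rw [Matrix.map_apply, hτ]; exact (hmemQ _).1 (hse i j)
      have hsτ' : (s.map (frob hF)).map τ = s.map (frob hF) := by
        ext i j
        simp only [Matrix.map_apply, frob_apply, hτ, ← pow_mul]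
        rw [mul_comm q, pow_mul, (hmemQ _).1 (hse i j)]
      have h := congrArg τ.toRingHom.mapMatrix hs0
      simp only [Aschbacher.gtr, map_mul, RingHom.mapMatrix_apply, RingEquiv.toRingHom_eq_coe,
        RingEquiv.coe_toRingHom, hsτ', Matrix.transpose_map, hsτ] at h
      rw [Aschbacher.gtr, h]
      ext i j
      simp only [Matrix.map_apply, Matrix.smul_apply, smul_eq_mul, map_mul]
      rw [hτ μ, (hmemQ μ).1 hμ]
    obtain ⟨c, hc⟩ := unique_mult hScomm (frob hF) hG₀u hinv
    have hc1 : c = 1 := by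
      have := congrFun (congrFun hc i₀) j₀
      rw [Matrix.map_apply, hG₀1, map_one, Matrix.smul_apply, hG₀1, smul_eq_mul, mul_one] at this
      exact this.symm
    intro i j
    rw [hmemQ, ← hτ]
    have := congrFun (congrFun hc i) j
    rwa [hc1, one_smul, Matrix.map_apply] at this
  have hGeq : G = g • G₀ := by rw [hG₀, smul_smul, mul_inv_cancel₀ h00, one_smul]
  have hherm := hst_gramP hF Bi
  rw [← hG, hGeq, hst_smul] at hherm
  set l := G₀ j₀ i₀ ^ q with hl
  clear_value l
  have hl1 : g ^ q * l = g := by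
    have := congrFun (congrFun hherm i₀) j₀
    rw [hl]
    simpa [hst_apply, hG₀1] using this
  have hhst : ∀ i j, G₀ j i ^ q = l * G₀ i j := fun i j => by
    have h := congrFun (congrFun hherm i) j
    simp only [Matrix.smul_apply, smul_eq_mul, hst_apply] at h
    refine mul_left_cancel₀ (pow_ne_zero q h00) ?_
    rw [h]
    calc g * G₀ i j = g ^ q * l * G₀ i j := by rw [hl1]
      _ = _ := by ring
  have hl0 : l ≠ 0 := fun h => by
    have h' := hl1
    rw [h, mul_zero] at h'
    exact h00 h'.symm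
  by_cases hr2 : r = 2
  · subst hr2
    have hF₁' : Fintype.card F = Nat.card F₁ ^ 2 := hF₁
    have hfix := fun x (hx : x ∈ F₁) => (mem_subfield_iff hF F₁ hF₁' x).1 hx
    have hGB : gramP q ((B⁻¹ : GL (Fin n) F) : Matrix (Fin n) (Fin n) F) = g • G₀ := hGeq
    have hT : ∀ i j, G₀ j i = l * G₀ i j := fun i j => by rw [← hhst, hfix _ (hent j i)]
    have hll : l * l = 1 := by
      have h1 := hT i₀ j₀
      have h2 := hT j₀ i₀
      rw [hG₀1, mul_one] at h1
      rw [hG₀1, h1] at h2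
      exact h2.symm
    rcases Nat.even_or_odd q with hev | hodd
    · -- characteristic two: the diagonal vanishes
      have hp2 : p = 2 := by
        rw [hq, Nat.even_pow] at hev
        exact (Nat.prime_dvd_prime_iff_eq Nat.prime_two hp).mp (even_iff_two_dvd.mp hev.1) ▸ rfl
      subst hp2
      have h2F : (2 : F) = 0 := CharTwo.two_eq_zero
      have hl1' : l = 1 := by
        have : (l - 1) * (l - 1) = 0 := by linear_combination hll + (1 - l) * h2F
        exact sub_eq_zero.mp (mul_self_eq_zero.mp this)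
      have hsym : ∀ i j, G₀ i j = G₀ j i := fun i j => by rw [hT i j, hl1', one_mul]
      refine class5_two hF F₁ hF₁' B⁻¹ hHle g G₀ hent hGB (by omega)
        (Or.inr ⟨fun i j => by rw [hsym i j, CharTwo.neg_eq], fun i => ?_⟩)
      by_contra hne'
      -- the square root of the diagonal spans an invariant line
      let rt : F → F := fun x => (frobeniusEquiv F 2).symm x
      have hrt : ∀ x, rt x * rt x = x := fun x => by
        rw [← sq]; exact frobeniusEquiv_symm_pow_p F 2 x
      let wv : Fin n → F := fun k => rt (G₀ k k)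
      have hsw : ∀ s ∈ S, ∃ c : F, wv ᵥ* s = c • wv := by
        intro s hs
        obtain ⟨μ, hμ, -, -, hse, hsG⟩ := hSinv s hs
        refine ⟨rt μ, funext fun k => ?_⟩
        have h0 : Aschbacher.gtr (frob hF) G₀ s = μ • G₀ := by
          rw [hG₀, Aschbacher.gtr_smul, hsG, smul_comm]
        have hk := congrFun (congrFun h0 k) k
        have hsfix : s.map (frob hF) = s := Matrix.ext fun i j => hfix _ (hse i j)
        rw [Aschbacher.gtr, hsfix] at hk
        simp only [Matrix.mul_apply, Matrix.transpose_apply, Finset.sum_mul, Matrix.smul_apply,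
          smul_eq_mul] at hk
        have hdiag : ∑ x, ∑ y, s y k * G₀ y x * s x k = ∑ x, s x k * G₀ x x * s x k := by
          rw [← Finset.sum_product']
          rw [← Finset.sum_filter_add_sum_filter_not _ (fun z : Fin n × Fin n => z.1 = z.2)]
          have hoff : ∑ z ∈ (Finset.univ ×ˢ Finset.univ).filter (fun z : Fin n × Fin n => ¬ z.1 = z.2),
              s z.2 k * G₀ z.2 z.1 * s z.1 k = 0 := by
            refine Finset.sum_involution (fun z _ => (z.2, z.1)) ?_ ?_ ?_ ?_
            · intro z _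
              simp only
              rw [hsym z.2 z.1]
              have : ∀ u : F, u + u = 0 := CharTwo.add_self_eq_zero
              calc _ = s z.2 k * G₀ z.1 z.2 * s z.1 k + s z.2 k * G₀ z.1 z.2 * s z.1 k := by ring
                _ = 0 := this _
            · intro z hz _ h
              simp only [Finset.mem_filter] at hz
              exact hz.2 (congrArg Prod.fst h).symm
            · intro z hz
              simp only [Finset.mem_filter, Finset.mem_product, Finset.mem_univ, and_self, true_and] at hz ⊢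
              exact fun h => hz h.symm
            · intro z _; rfl
          rw [hoff, add_zero]
          refine Finset.sum_bij (fun z _ => z.1) (fun z _ => Finset.mem_univ _) ?_ ?_ ?_
          · intro z hz z' hz' h
            simp only [Finset.mem_filter] at hz hz'
            exact Prod.ext h (by rw [← hz.2, ← hz'.2]; exact h)
          · intro x _
            exact ⟨(x, x), by simp, rfl⟩
          · intro z hz
            simp only [Finset.mem_filter] at hz
            rw [← hz.2]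
        rw [hdiag] at hk
        have hinj : ∀ u v : F, u * u = v * v → u = v := fun u v h => by
          have : (u - v) * (u - v) = 0 := by linear_combination h + (v * v - u * v) * h2F
          exact sub_eq_zero.mp (mul_self_eq_zero.mp this)
        apply hinj
        simp only [Matrix.vecMul, dotProduct, Pi.smul_apply, smul_eq_mul, wv]
        rw [CharTwo.sum_mul_self]
        calc ∑ x, rt (G₀ x x) * s x k * (rt (G₀ x x) * s x k)
            = ∑ x, s x k * (rt (G₀ x x) * rt (G₀ x x)) * s x k :=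
              Finset.sum_congr rfl fun x _ => by ring
          _ = μ * G₀ k k := by rw [← hk]; exact Finset.sum_congr rfl fun x _ => by rw [hrt]
          _ = rt μ * rt μ * (rt (G₀ k k) * rt (G₀ k k)) := by rw [hrt, hrt]
          _ = _ := by ring
      have hwv : wv i ≠ 0 := fun h => hne' (by rw [← hrt (G₀ i i)]; show wv i * wv i = 0; rw [h, mul_zero])
      let φ : (Fin n → F) →ₗ[F] F :=
        { toFun := fun v => wv ⬝ᵥ ((B : Matrix (Fin n) (Fin n) F) *ᵥ v)
          map_add' := fun u v => by rw [Matrix.mulVec_add, dotProduct_add]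
          map_smul' := fun c v => by rw [Matrix.mulVec_smul, dotProduct_smul]; rfl }
      have hφsurj : LinearMap.ker φ ≠ ⊤ := by
        intro h
        have h' : φ (Bi *ᵥ Pi.single i 1) = 0 := by
          rw [← LinearMap.mem_ker, h]; trivial
        change wv ⬝ᵥ ((B : Matrix (Fin n) (Fin n) F) *ᵥ (Bi *ᵥ Pi.single i 1)) = 0 at h'
        rw [Matrix.mulVec_mulVec, hBB, Matrix.one_mulVec, dotProduct_single, mul_one] at h'
        exact hwv h'
      rcases hP.1 (LinearMap.ker φ) (by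
        rintro _ ⟨x, hx, rfl⟩ _ ⟨v, hv, rfl⟩
        obtain ⟨c, hc⟩ := hsw _ ⟨_, ⟨x, hx, rfl⟩, rfl⟩
        rw [LinearMap.mem_ker]
        rw [Matrix.toLin'_apply]
        change wv ⬝ᵥ ((B : Matrix (Fin n) (Fin n) F) *ᵥ v) = 0 at hv
        show wv ⬝ᵥ ((B : Matrix (Fin n) (Fin n) F) *ᵥ ((x : Matrix (Fin n) (Fin n) F) *ᵥ v)) = 0
        have e : (B : Matrix (Fin n) (Fin n) F) *ᵥ ((x : Matrix (Fin n) (Fin n) F) *ᵥ v) =
            ((B : Matrix (Fin n) (Fin n) F) * (x : Matrix (Fin n) (Fin n) F) * Bi) *ᵥ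
              ((B : Matrix (Fin n) (Fin n) F) *ᵥ v) := by
          simp only [Matrix.mulVec_mulVec, mul_assoc, hBB', mul_one]
        rw [e, Matrix.dotProduct_mulVec, hc, smul_dotProduct, hv, smul_zero]) with h | h
      · have h1 := φ.finrank_range_add_finrank_ker
        rw [h, finrank_bot, Module.finrank_pi, Fintype.card_fin] at h1
        have h2 : Module.finrank F (LinearMap.range φ) ≤ 1 :=
          (Submodule.finrank_le _).trans_eq (Module.finrank_self F)
        omega
      · exact hφsurj h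
    · rcases mul_self_eq_one_iff.mp hll with h | h
      · exact class5_two hF F₁ hF₁' B⁻¹ hHle g G₀ hent hGB (by omega)
          (Or.inl ⟨hodd, fun i j => by rw [hT i j, h, one_mul]⟩)
      · have h2 : (2 : F) ≠ 0 := by
          intro h2
          have hp2 : (p : F) = 0 := CharP.cast_eq_zero F p
          have h22 : ((2 : ℕ) : F) = 0 := by exact_mod_cast h2
          rw [CharP.cast_eq_zero_iff F p] at h22
          have := (Nat.prime_dvd_prime_iff_eq hp Nat.prime_two).mp h22
          rw [hq, this, Nat.odd_iff, Nat.pow_mod] at hodd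
          simp [zero_pow ha.ne'] at hodd
        have hskew : ∀ i j, G₀ i j = - G₀ j i := fun i j => by rw [hT i j, h, neg_one_mul, neg_neg]
        exact class5_two hF F₁ hF₁' B⁻¹ hHle g G₀ hent hGB (by omega)
          (Or.inr ⟨hskew, fun i => (mul_eq_zero.mp (show (2 : F) * G₀ i i = 0 by
            linear_combination hskew i i)).resolve_left h2⟩)
  · have hodd : Odd r := hr.odd_of_ne_two hr2
    obtain ⟨z, hz, hzq⟩ : ∃ z ∈ F₁, z ^ q ≠ z := by
      by_contra hall
      push Not at hall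
      obtain ⟨u, hu⟩ := IsCyclic.exists_generator (α := F₁ˣ)
      have h1 : u ^ (q - 1) = 1 := by
        apply Units.ext
        apply Subtype.ext
        have h := hall ((u : F₁) : F) (u : F₁).2
        have hm : q = (q - 1) + 1 := by have := two_le_q hF; omega
        rw [hm, pow_succ] at h
        rw [Units.val_pow_eq_pow_val, Units.val_one]
        have hu0 : ((u : F₁) : F) ≠ 0 := fun h0 => u.ne_zero (Subtype.ext h0)
        simpa using mul_right_cancel₀ hu0 (h.trans (one_mul _).symm)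
      have hord : orderOf u = p ^ (b : ℕ) - 1 := by
        rw [orderOf_eq_card_of_forall_mem_zpowers hu, Nat.card_units, Nat.card_eq_fintype_card, ← hQ, hb]
      have h2 := orderOf_dvd_of_pow_eq_one h1
      rw [hord, hq] at h2
      have h3 : p ^ Nat.gcd b a - 1 = p ^ (b : ℕ) - 1 := by
        rw [← Nat.pow_sub_one_gcd_pow_sub_one]; exact Nat.gcd_eq_left h2
      have h4 := Nat.one_le_pow (Nat.gcd b a) p hp.pos
      have h5 := Nat.one_le_pow (b : ℕ) p hp.pos
      have h6 : p ^ Nat.gcd b a = p ^ (b : ℕ) := by omega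
      obtain ⟨k, hk⟩ := Nat.gcd_eq_left_iff_dvd.mp (Nat.pow_right_injective hp.two_le h6)
      have h7 : r = 2 * k := Nat.eq_of_mul_eq_mul_left b.pos (by rw [hab, hk]; ring)
      rw [h7, Nat.odd_iff] at hodd
      omega
    have hlF : l ∈ F₁ := hl ▸ F₁.pow_mem (hent _ _) q
    have hll : l * l ^ q = 1 := by
      have h1 := congrArg (fun x => x ^ q) hl1
      simp only [mul_pow, pow_q_q hF] at h1
      refine mul_left_cancel₀ (pow_ne_zero q h00) ?_
      calc g ^ q * (l * l ^ q) = g ^ q * l * l ^ q := by ring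
        _ = g * l ^ q := by rw [hl1]
        _ = g ^ q * 1 := by rw [h1, mul_one]
    obtain ⟨μ, hμ0, hμF, hμ⟩ : ∃ μ : F, μ ≠ 0 ∧ μ ∈ F₁ ∧ μ ^ q * l = μ := by
      by_contra hall
      push Not at hall
      have h1 : ∀ x ∈ F₁, x + l * x ^ q = 0 := fun x hx => by
        by_contra h9
        refine hall _ h9 (F₁.add_mem hx (F₁.mul_mem hlF (F₁.pow_mem hx q))) ?_
        rw [add_pow_q hF, mul_pow, pow_q_q hF]
        linear_combination x * hll
      have h2 := h1 1 F₁.one_mem
      rw [one_pow, mul_one] at h2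
      have h3 := h1 z hz
      rw [eq_neg_of_add_eq_zero_right h2, neg_one_mul, add_neg_eq_zero] at h3
      exact hzq h3.symm
    set c := g * μ⁻¹ with hc'
    have hcq : c ^ q = c := by
      rw [hc', mul_pow, inv_pow]
      have h1 : g ^ q = g * l⁻¹ := by rw [eq_mul_inv_iff_mul_eq₀ hl0, hl1]
      have h2 : μ ^ q = μ * l⁻¹ := by rw [eq_mul_inv_iff_mul_eq₀ hl0, hμ]
      rw [h1, h2]
      field_simp
    have hc0 : c ≠ 0 := mul_ne_zero h00 (inv_ne_zero hμ0)
    obtain ⟨d, hd⟩ := exists_norm_eq hF (a := c⁻¹) (by rw [inv_pow, hcq])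
    have hd0 : d ≠ 0 := fun h => by rw [h, zero_mul] at hd; exact inv_ne_zero hc0 hd.symm
    let s : GL (Fin n) F := Units.map (Matrix.scalar (Fin n) : F →+* _).toMonoidHom (Units.mk0 d hd0)
    have hs : ∀ x : GL (Fin n) F, s * x = x * s :=
      fun x => Aschbacher.scalars_comm ⟨Units.mk0 d hd0, rfl⟩ x
    have hsub : subfieldSubgroup F₁ (B⁻¹ * s) = subfieldSubgroup F₁ B⁻¹ := by
      simp only [subfieldSubgroup]
      congr 1
      refine MonoidHom.ext fun x => ?_
      show B⁻¹ * s * x * (B⁻¹ * s)⁻¹ = B⁻¹ * x * B⁻¹⁻¹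
      rw [_root_.mul_inv_rev, mul_assoc B⁻¹ s x, hs x]
      group
    refine Or.inl ⟨F₁, r, B⁻¹ * s, hr, hodd, hF₁, fun u v hu hv => ?_, hsub ▸ hHle⟩
    have hsP : ((B⁻¹ * s : GL (Fin n) F) : Matrix (Fin n) (Fin n) F) = d • Bi := by
      rw [Units.val_mul]
      show Bi * Matrix.scalar (Fin n) d = _
      rw [Matrix.scalar_apply, ← Matrix.smul_one_eq_diagonal, Matrix.mul_smul, mul_one]
    rw [one_mul, hsP, Matrix.smul_mulVec, Matrix.smul_mulVec, herm_smul_left, herm_smul_right,
      herm_mulVec_gramP hF, ← hG, hGeq, Matrix.smul_mulVec, dotProduct_smul, smul_eq_mul]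
    rw [show d * (d ^ q * (g * (u ⬝ᵥ G₀ *ᵥ fun i => v i ^ q))) =
      (d * d ^ q) * c * (μ * (u ⬝ᵥ G₀ *ᵥ fun i => v i ^ q)) by rw [hc']; field_simp]
    rw [hd, inv_mul_cancel₀ hc0, one_mul]
    exact F₁.mul_mem hμF (F₁.sum_mem fun i _ => F₁.mul_mem (hu i)
      (show ∑ j, G₀ i j * v j ^ q ∈ F₁ from F₁.sum_mem fun j _ => F₁.mul_mem (hent i j) (F₁.pow_mem (hv j) q)))

end Cfsg.Agent.Unitary.Asch
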