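/-
The special unitary group is realisable over no proper subfield.
-/
import Cfsg.Agent.Unitary.AschProperBasic
import Cfsg.Agent.Unitary.AschSubfield

set_option autoImplicit false
set_option maxHeartbeats 1000000
set_option linter.unusedSectionVars false
set_option linter.style.haveILetI false

namespace Cfsg.Agent.Unitary.Asch

open scoped MatrixGroups Matrix
open Cfsg Cfsg.Geo Cfsg.Agent.Unitary Matrix

variable {F : Type*} [Field F] [Fintype F] {n q : ℕ}

lemma mem_subfield_iff_pow (F₀ : Subfield F) (x : F) :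
    x ∈ F₀ ↔ x ^ Nat.card F₀ = x := by
  classical
  haveI : Fintype F₀ := Fintype.ofFinite _
  rw [Nat.card_eq_fintype_card]
  constructor
  · intro hx
    simpa using congrArg (F₀.subtype) (FiniteField.pow_card (⟨x, hx⟩ : F₀))
  · intro hx
    by_contra hne
    have hcard : 1 < Fintype.card F₀ := Fintype.one_lt_card
    let S : Finset F := insert x (Finset.univ.image F₀.subtype)
    let f : Polynomial F := Polynomial.X ^ Fintype.card F₀ - Polynomial.X
    have hf : f ≠ 0 := FiniteField.X_pow_card_sub_X_ne_zero F hcard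
    have hsub : S.val ⊆ f.roots := by
      intro y hy
      rw [Polynomial.mem_roots hf, Polynomial.IsRoot.def]
      simp only [f, Polynomial.eval_sub, Polynomial.eval_pow, Polynomial.eval_X, sub_eq_zero]
      rcases Finset.mem_insert.1 hy with rfl | hy
      · exact hx
      · obtain ⟨z, -, rfl⟩ := Finset.mem_image.1 hy
        rw [← map_pow, FiniteField.pow_card]
    have h1 := Polynomial.card_le_degree_of_subset_roots hsub
    rw [FiniteField.X_pow_card_sub_X_natDegree_eq F hcard] at h1
    rw [Finset.card_insert_of_notMem (fun h => by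
      obtain ⟨z, -, rfl⟩ := Finset.mem_image.1 h
      exact hne z.2), Finset.card_image_of_injective _ F₀.subtype.injective, Finset.card_univ] at h1
    omega

/-- A unipotent matrix that is a multiple of one over the subfield has its entries there. -/
lemma entries_mem_of_unipotent (F₀ : Subfield F) [Nonempty (Fin n)]
    {M : Matrix (Fin n) (Fin n) F} (hM : ∀ i j, M i j ∈ F₀) {c : F}
    (h : (c • M - 1) * (c • M - 1) = 0) : c ∈ F₀ := by
  classical
  obtain ⟨p, hp⟩ := CharP.exists F
  haveI := hp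
  haveI : Fact p.Prime := ⟨CharP.char_is_prime F p⟩
  haveI : Fintype F₀ := Fintype.ofFinite _
  haveI : CharP F₀ p := F₀.subtype.charP F₀.subtype.injective p
  obtain ⟨a, -, hcard⟩ := FiniteField.card F₀ p
  let τ : F →+* F := iterateFrobenius F p a
  have hτ : ∀ x, τ x = x ^ Nat.card F₀ := fun x => by
    rw [Nat.card_eq_fintype_card, hcard]; exact iterateFrobenius_def p a x
  have hMτ : M.map τ = M := by
    ext i j
    rw [Matrix.map_apply, hτ]
    exact (mem_subfield_iff_pow F₀ _).1 (hM i j)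
  have h' : (τ c • M - 1) * (τ c • M - 1) = 0 := by
    have h1 := congrArg τ.mapMatrix h
    have e : τ.mapMatrix (c • M - 1) = τ c • M - 1 := by
      rw [map_sub, map_one]
      congr 1
      ext i j
      show τ (c * M i j) = τ c * M i j
      rw [map_mul, show τ (M i j) = M i j from congrFun (congrFun hMτ i) j]
    rwa [map_mul, map_zero, e] at h1
  obtain ⟨v, hv0, hv⟩ := Matrix.exists_mulVec_eq_zero_iff.2 (show (c • M - 1).det = 0 by
    have := congrArg Matrix.det h
    rw [Matrix.det_mul, Matrix.det_zero] at this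
    exact mul_self_eq_zero.1 this)
  rw [Matrix.sub_mulVec, Matrix.smul_mulVec, Matrix.one_mulVec, sub_eq_zero] at hv
  have hc0 : c ≠ 0 := fun h0 => by rw [h0, zero_smul] at hv; exact hv0 hv.symm
  have hMv : M *ᵥ v = c⁻¹ • v := by
    conv_rhs => rw [← hv, smul_smul, inv_mul_cancel₀ hc0, one_smul]
  have h2 := congrArg (· *ᵥ v) h'
  simp only [← Matrix.mulVec_mulVec, Matrix.zero_mulVec] at h2
  have h3 : (τ c • M - 1) *ᵥ v = (τ c * c⁻¹ - 1) • v := by
    rw [Matrix.sub_mulVec, Matrix.smul_mulVec, Matrix.one_mulVec, hMv, smul_smul, sub_smul, one_smul]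
  rw [h3, Matrix.mulVec_smul, h3, smul_smul, smul_eq_zero] at h2
  have h4 := mul_self_eq_zero.1 (h2.resolve_right hv0)
  rw [sub_eq_zero, mul_inv_eq_iff_eq_mul₀ hc0, one_mul, hτ] at h4
  exact (mem_subfield_iff_pow F₀ c).2 h4

/-- Conjugated back, every transvection has entries in the subfield. -/
lemma tvG_entries (hF : Fintype.card F = q ^ 2) [NeZero n] {F₀ : Subfield F} {P : GL (Fin n) F}
    (hc : SUg n F q ≤ subfieldSubgroup F₀ P) {u : Fin n → F} {c : F}
    (hu : hermForm n F q u u = 0) (hc0 : c + c ^ q = 0) :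
    ∃ g : GL (Fin n) F₀, (tvG hF hu hc0 : Matrix (Fin n) (Fin n) F) =
      Aschbacher.cj P (Matrix.map (g : Matrix (Fin n) (Fin n) F₀) F₀.subtype) := by
  haveI : Nonempty (Fin n) := ⟨⟨0, NeZero.pos n⟩⟩
  obtain ⟨_, hy, hyT⟩ := hc (tvG_mem hF hu hc0)
  obtain ⟨_, ⟨g, rfl⟩, s, hs, rfl⟩ := Subgroup.mem_sup_of_normal_right.1 hy
  obtain ⟨l, hl⟩ := (mem_scalars_iff s).1 hs
  have hval : (tvG hF hu hc0 : Matrix (Fin n) (Fin n) F) =
      Aschbacher.cj P ((l : F) • Matrix.map (g : Matrix (Fin n) (Fin n) F₀) F₀.subtype) := by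
    rw [← hyT]
    show ((P * _ * P⁻¹ : GL (Fin n) F) : Matrix (Fin n) (Fin n) F) = _
    rw [← Aschbacher.cj_val, Units.val_mul, hl, Matrix.mul_smul, mul_one]
    rfl
  set M := Matrix.map (g : Matrix (Fin n) (Fin n) F₀) F₀.subtype with hM
  have hmem : ∀ i j, M i j ∈ F₀ := fun i j => ((g : Matrix (Fin n) (Fin n) F₀) i j).2
  have hl0 : (l : F) ∈ F₀ := by
    refine entries_mem_of_unipotent F₀ hmem ?_
    apply (Aschbacher.cj P).injective
    rw [map_mul, map_sub, map_one, map_zero, ← hval, tvG_val, add_sub_cancel_left, Matrix.smul_mul,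
      Matrix.mul_smul, Matrix.vecMulVec_mul_vecMulVec, smul_smul]
    have h0 : (fun j => u j ^ q) ⬝ᵥ u = 0 := by rw [dotProduct_comm]; exact hu
    rw [h0]
    ext i j
    simp [Matrix.vecMulVec_apply]
  refine ⟨⟨(⟨l, hl0⟩ : F₀) • (g : Matrix (Fin n) (Fin n) F₀),
    (⟨(l : F)⁻¹, F₀.inv_mem hl0⟩ : F₀) • ((g⁻¹ : GL (Fin n) F₀) : Matrix (Fin n) (Fin n) F₀),
    ?_, ?_⟩, ?_⟩
  · rw [Matrix.smul_mul, Matrix.mul_smul, smul_smul, ← Units.val_mul, mul_inv_cancel, Units.val_one,
      show (⟨l, hl0⟩ : F₀) * ⟨(l : F)⁻¹, F₀.inv_mem hl0⟩ = 1 from Subtype.ext (mul_inv_cancel₀ l.ne_zero),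
      one_smul]
  · rw [Matrix.smul_mul, Matrix.mul_smul, smul_smul, ← Units.val_mul, inv_mul_cancel, Units.val_one,
      show (⟨(l : F)⁻¹, F₀.inv_mem hl0⟩ : F₀) * ⟨l, hl0⟩ = 1 from Subtype.ext (inv_mul_cancel₀ l.ne_zero),
      one_smul]
  · rw [hval]; rfl

lemma trace_mem (F₀ : Subfield F) (P : GL (Fin n) F) (g : GL (Fin n) F₀) :
    (Aschbacher.cj P (Matrix.map (g : Matrix (Fin n) (Fin n) F₀) F₀.subtype)).trace ∈ F₀ := by
  rw [Aschbacher.cj_apply, Matrix.trace_mul_cycle, ← Units.val_mul, inv_mul_cancel, Units.val_one,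
    one_mul, Matrix.trace]
  exact F₀.sum_mem fun i _ => ((g : Matrix (Fin n) (Fin n) F₀) i i).2

theorem subfield_proper (hF : Fintype.card F = q ^ 2) (hn : 3 ≤ n) {F₀ : Subfield F}
    (hne : F₀ ≠ ⊤) (P : GL (Fin n) F) : ¬ SUg n F q ≤ subfieldSubgroup F₀ P := by
  classical
  intro hc
  haveI : NeZero n := ⟨by omega⟩
  obtain ⟨δ, hδ0, hδ⟩ := exists_skew_trace hF
  have hδq : δ ^ q = -δ := eq_neg_of_add_eq_zero_right hδ
  -- the rank-one parts
  let N : (Fin n → F) → Matrix (Fin n) (Fin n) F := fun u => Matrix.vecMulVec u (fun j => u j ^ q)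
  have hN : ∀ u v, N u * N v = hermForm n F q v u • Matrix.vecMulVec u (fun j => v j ^ q) := by
    intro u v
    simp only [N]
    rw [Matrix.vecMulVec_mul_vecMulVec, dotProduct_comm]
    show Matrix.vecMulVec u (hermForm n F q v u • fun j => v j ^ q) = _
    ext i j
    simp [Matrix.vecMulVec_apply, mul_left_comm]
  have htr0 : ∀ u, hermForm n F q u u = 0 → (N u).trace = 0 := fun u hu => by
    rw [Matrix.trace_vecMulVec]; exact hu
  have htr2 : ∀ u v, (N u * N v).trace = hermForm n F q v u * hermForm n F q u v := fun u v => by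
    rw [hN, Matrix.trace_smul, Matrix.trace_vecMulVec]; rfl
  have htr3 : ∀ u v w, (N u * N v * N w).trace =
      hermForm n F q v u * (hermForm n F q w v * hermForm n F q u w) := fun u v w => by
    rw [hN, Matrix.smul_mul, Matrix.vecMulVec_mul_vecMulVec, Matrix.trace_smul]
    rw [dotProduct_comm _ w]
    show hermForm n F q v u * (Matrix.vecMulVec u (hermForm n F q w v • fun j => w j ^ q)).trace = _
    rw [Matrix.trace_vecMulVec, dotProduct_smul]
    rfl
  have hcard : ((n : F)) ∈ F₀ := natCast_mem F₀ n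
  -- products of two transvections
  have h2 : ∀ u v, hermForm n F q u u = 0 → hermForm n F q v v = 0 →
      δ * δ * (hermForm n F q v u * hermForm n F q u v) ∈ F₀ := by
    intro u v hu hv
    obtain ⟨g, hg⟩ := tvG_entries hF hc hu hδ
    obtain ⟨g', hg'⟩ := tvG_entries hF hc hv hδ
    have h := trace_mem F₀ P (g * g')
    rw [Units.val_mul, Matrix.map_mul, map_mul, ← hg, ← hg', tvG_val, tvG_val] at h
    simp only [add_mul, mul_add, one_mul, mul_one, Matrix.smul_mul, Matrix.mul_smul, smul_smul,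
      Matrix.trace_add, Matrix.trace_smul, Matrix.trace_one, Fintype.card_fin, smul_eq_mul] at h
    rw [htr0 u hu, htr0 v hv, htr2 u v, mul_zero, add_zero, zero_add] at h
    simpa using F₀.sub_mem h hcard
  -- the fixed field lies in F₀
  obtain ⟨u₀, hu₀, hu⟩ := exists_isotropic_top (n := n) hF (by omega)
  obtain ⟨v₀, -, hv, hvu⟩ := exists_partner hF (nondeg_top hF) Submodule.mem_top hu₀ hu
  have huv : hermForm n F q u₀ v₀ = 1 := by rw [← herm_swap hF, hvu, one_pow]
  have hnorm : ∀ l : F, δ * δ * (l * l ^ q) ∈ F₀ := fun l => by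
    have := h2 u₀ (l • v₀) hu (by rw [herm_self_smul, hv, mul_zero])
    rwa [herm_smul_left, hvu, mul_one, herm_smul_right, huv, mul_one] at this
  have hfix : ∀ a : F, a ^ q = a → a ∈ F₀ := fun a ha => by
    obtain ⟨l, hl⟩ := exists_norm_eq hF ha
    have h1 := hnorm l
    have h0 := hnorm 1
    rw [hl] at h1
    rw [one_pow, mul_one, mul_one] at h0
    have := F₀.mul_mem h1 (F₀.inv_mem h0)
    rwa [mul_comm (δ * δ) a, mul_assoc, mul_inv_cancel₀ (mul_ne_zero hδ0 hδ0), mul_one] at this
  -- hence it is the fixed field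
  have hmem : ∀ a, a ∈ F₀ → a ^ q = a := by
    obtain ⟨F₁, r, hle, hr, hF₁⟩ := Aschbacher.exists_prime_index_subfield F₀ hne
    haveI : Fintype F₁ := Fintype.ofFinite _
    have h1 : q ≤ Nat.card F₁ := by
      rw [← card_fixed hF]
      exact Nat.card_le_card_of_injective (fun a => (⟨a.1, hle (hfix a.1 a.2)⟩ : F₁))
        fun a b h => by simpa [Subtype.ext_iff] using h
    have hq := two_le_q hF
    have h3 : q = Nat.card F₁ := by
      refine le_antisymm h1 ?_
      by_contra hlt
      push Not at hlt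
      have h4 : Nat.card F₁ ^ 2 ≤ Nat.card F₁ ^ r := Nat.pow_le_pow_right (by omega) hr.two_le
      rw [← hF₁, hF] at h4
      have := Nat.pow_lt_pow_left hlt two_ne_zero
      omega
    intro a ha
    rw [h3]
    exact (mem_subfield_iff_pow F₁ a).1 (hle ha)
  -- a triangle of isotropic vectors
  obtain ⟨μ, hμ, hμ1⟩ : ∃ μ : F, μ * μ ^ q = -1 ∧ μ * μ ≠ 1 := by
    by_contra hall
    push Not at hall
    have hle : (Finset.univ.filter fun x : F => x * x ^ q = -1) ⊆ {1, -1} := by
      intro x hx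
      simp only [Finset.mem_filter, Finset.mem_univ, true_and] at hx
      rcases mul_self_eq_one_iff.1 (hall x hx) with h | h <;> simp [h]
    have h1 := (Finset.card_le_card hle).trans Finset.card_le_two
    rw [← Fintype.card_subtype, ← Nat.card_eq_fintype_card,
      card_norm_eq hF (neg_ne_zero.2 one_ne_zero) (by rw [neg_pow_q hF, one_pow])] at h1
    have := two_le_q hF
    omega
  let i : Fin n := ⟨0, by omega⟩
  let j : Fin n := ⟨1, by omega⟩
  let k : Fin n := ⟨2, by omega⟩
  have hij : i ≠ j := by simp [i, j]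
  have hik : i ≠ k := by simp [i, k]
  have hjk : j ≠ k := by simp [j, k]
  let vec : Fin n → Fin n → (Fin n → F) := fun a b => Pi.single a 1 + μ • Pi.single b 1
  have hiso : ∀ a b, a ≠ b → hermForm n F q (vec a b) (vec a b) = 0 := fun a b hab => by
    simp only [vec]
    rw [herm_self_add hF, herm_self_smul, herm_smul_right, herm_single_single hF,
      herm_single_single hF, herm_single_single hF, if_pos rfl, if_pos rfl, if_neg hab, hμ]
    simp [q_ne_zero hF]
  set u := vec i j with hud
  set v := vec j k with hvd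
  set w := vec i k with hwd
  obtain ⟨g, hg⟩ := tvG_entries hF hc (hiso i j hij) hδ
  obtain ⟨g', hg'⟩ := tvG_entries hF hc (hiso j k hjk) hδ
  obtain ⟨g'', hg''⟩ := tvG_entries hF hc (hiso i k hik) hδ
  have h := trace_mem F₀ P (g * g' * g'')
  rw [Units.val_mul, Units.val_mul, Matrix.map_mul, Matrix.map_mul, map_mul, map_mul, ← hg, ← hg',
    ← hg'', tvG_val, tvG_val, tvG_val] at h
  simp only [add_mul, mul_add, one_mul, mul_one, Matrix.smul_mul, Matrix.mul_smul, smul_smul,
    Matrix.trace_add, Matrix.trace_smul, Matrix.trace_one, Fintype.card_fin, smul_eq_mul] at h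
  rw [htr0 _ (hiso i j hij), htr0 _ (hiso j k hjk), htr0 _ (hiso i k hik), htr2, htr2, htr2, htr3]
    at h
  have huv' := h2 u v (hiso i j hij) (hiso j k hjk)
  have huw' := h2 u w (hiso i j hij) (hiso i k hik)
  have hvw' := h2 v w (hiso j k hjk) (hiso i k hik)
  have hz : δ * δ * δ * (hermForm n F q v u * (hermForm n F q w v * hermForm n F q u w)) ∈ F₀ := by
    convert F₀.sub_mem h (F₀.add_mem (F₀.add_mem hcard huv') (F₀.add_mem huw' hvw')) using 1
    ring
  have e1 : hermForm n F q v u = μ ^ q := by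
    simp only [hvd, hud, vec]
    simp [herm_add_left, herm_add_right hF, herm_smul_left, herm_smul_right, herm_single_single hF,
      hij, hik, hjk, hij.symm, hik.symm, hjk.symm]
  have e2 : hermForm n F q w v = -1 := by
    simp only [hvd, hwd, vec]
    simp [herm_add_left, herm_add_right hF, herm_smul_left, herm_smul_right, herm_single_single hF,
      hij, hik, hjk, hij.symm, hik.symm, hjk.symm]
    rw [mul_comm, hμ]
  have e3 : hermForm n F q u w = 1 := by
    simp only [hud, hwd, vec]
    simp [herm_add_left, herm_add_right hF, herm_smul_left, herm_smul_right, herm_single_single hF,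
      hij, hik, hjk, hij.symm, hik.symm, hjk.symm]
  rw [e1, e2, e3] at hz
  have hq := hmem _ hz
  rw [mul_pow, mul_pow, mul_pow, mul_pow, mul_pow, pow_q_q hF, one_pow, neg_pow_q hF, one_pow,
    hδq] at hq
  have h5 : μ = - μ ^ q := by
    refine mul_left_cancel₀ (mul_ne_zero (mul_ne_zero hδ0 hδ0) hδ0) ?_
    linear_combination hq
  exact hμ1 (by linear_combination (μ * h5) - hμ)

end Cfsg.Agent.Unitary.Asch
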