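/-
The coincidences among the geometric classes for the smallest fields: orthogonal planes and
tensor factors of dimension two over the field with four elements, frames in four dimensions over
the field with nine elements.
-/
import Cfsg.Agent.Unitary.AschNineTwo
import Cfsg.Agent.Unitary.AschDecomp

set_option autoImplicit false
set_option maxHeartbeats 1000000
set_option linter.unusedSectionVars false
set_option linter.style.haveILetI false

namespace Cfsg.Agent.Unitary.Asch

open scoped MatrixGroups Matrix Kronecker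
open Cfsg Cfsg.Geo Cfsg.Agent.Unitary Matrix

variable {F : Type*} [Field F] [Fintype F] {n q : ℕ}

/-- An orthonormal basis whose lines are permuted gives a frame. -/
theorem frame_of_ON (hF : Fintype.card F = q ^ 2) (hn : 2 ≤ n) {H : Subgroup (GL (Fin n) F)}
    (hH : H ≤ GU n F q) {f : Fin n → Fin n → F} (hf : ON q f)
    (hperm : ∀ g ∈ H, ∀ a, ∃ (b : Fin n) (c : F),
      (g : Matrix (Fin n) (Fin n) F) *ᵥ f a = c • f b) :
    IsNondegenerateMDecomposition (hermForm n F q) 1 (fun a => F ∙ f a) ∧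
      H ≤ decompositionStabilizer (fun a => F ∙ f a) := by
  classical
  have hne : ∀ a, f a ≠ 0 := fun a h => by
    have := hf a a
    rw [h, herm_zero_left, if_pos rfl] at this
    exact zero_ne_one this
  have hspan : Submodule.span F (Set.range f) = ⊤ :=
    Submodule.eq_top_of_finrank_eq (by rw [hf.finrank_span]; simp)
  refine ⟨⟨⟨hn, one_pos, fun a => finrank_span_singleton (hne a),
    hf.linearIndependent.iSupIndep_span_singleton, ?_⟩, fun a => ?_, ?_⟩, ?_⟩
  · rw [← Submodule.span_range_eq_iSup, hspan]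
  · rw [nondegOn_iff hF]
    intro u hu hall
    obtain ⟨c, rfl⟩ := Submodule.mem_span_singleton.1 hu
    have := hall _ (Submodule.mem_span_singleton_self (f a))
    rw [herm_smul_left, hf, if_pos rfl, mul_one] at this
    rw [this, zero_smul]
  · intro a b hab u hu v hv
    obtain ⟨c, rfl⟩ := Submodule.mem_span_singleton.1 hu
    obtain ⟨d, rfl⟩ := Submodule.mem_span_singleton.1 hv
    rw [herm_smul_left, herm_smul_right, hf, if_neg hab, mul_zero, mul_zero]
  · intro g hg
    choose σ c hc using hperm g hg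
    have hgU := mem_GU_iff.1 (hH hg)
    have hc0 : ∀ a, c a ≠ 0 := fun a h => by
      have := hgU (f a) (f a)
      rw [hc, h, zero_smul, herm_zero_left, hf, if_pos rfl] at this
      exact zero_ne_one this
    have hinj : Function.Injective σ := fun a b h => by
      by_contra hab
      have := hgU (f a) (f b)
      rw [hc, hc, h, herm_smul_left, herm_smul_right, hf, hf, if_pos rfl, if_neg hab, mul_one] at this
      exact mul_ne_zero (hc0 a) (pow_ne_zero _ (hc0 b)) this
    refine ⟨Equiv.ofBijective σ hinj.bijective_of_finite, fun a => ?_⟩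
    rw [Submodule.map_span, Set.image_singleton, Matrix.toLin'_apply, hc]
    show Submodule.span F {c a • f (σ a)} = Submodule.span F {f (σ a)}
    exact Submodule.span_singleton_smul_eq (isUnit_iff_ne_zero.2 (hc0 a)) _

lemma norm_two_cases (hF : Fintype.card F = 2 ^ 2) {a b : F}
    (h : a * a ^ 2 + b * b ^ 2 = 1) : (a = 0 ∧ b ≠ 0) ∨ (a ≠ 0 ∧ b = 0) := by
  have key : ∀ x : F, x ≠ 0 → x * x ^ 2 = 1 := fun x hx => by
    rw [← pow_succ']; exact Heis.pow_three_of_ne hF hx
  by_cases ha : a = 0 <;> by_cases hb : b = 0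
  · exfalso; simp [ha, hb] at h
  · exact Or.inl ⟨ha, hb⟩
  · exact Or.inr ⟨ha, hb⟩
  · exfalso
    rw [key a ha, key b hb] at h
    exact one_ne_zero (α := F) (by linear_combination h)

/-- Orthogonal planes over the field with four elements refine to a frame. -/
theorem planes_two (hF : Fintype.card F = 2 ^ 2) {H : Subgroup (GL (Fin n) F)}
    (hH : H ≤ GU n F 2) {t : ℕ} {D : Fin t → Submodule F (Fin n → F)}
    (hD : IsNondegenerateMDecomposition (hermForm n F 2) 2 D) (hcard : t * 2 = n)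
    (hle : H ≤ decompositionStabilizer D) :
    ∃ D' : Fin n → Submodule F (Fin n → F),
      IsNondegenerateMDecomposition (hermForm n F 2) 1 D' ∧ H ≤ decompositionStabilizer D' := by
  classical
  have hplane : ∀ i, ∃ e : Fin 2 → Fin n → F, ON 2 e ∧ Submodule.span F (Set.range e) = D i := by
    intro i
    obtain ⟨e, he, hs⟩ := exists_ON_basis hF (D i) ((nondegOn_iff hF).1 (hD.nondegenerate i))
    let w : Fin 2 ≃ Fin (Module.finrank F (D i)) := finCongr (hD.decomp.finrank_eq i).symm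
    refine ⟨e ∘ w, fun a b => ?_, ?_⟩
    · rw [Function.comp_apply, Function.comp_apply, he]
      exact if_congr w.injective.eq_iff rfl rfl
    · rw [Set.range_comp, w.range_eq_univ, Set.image_univ, hs]
  choose e he hs using hplane
  have hmem : ∀ i s, e i s ∈ D i := fun i s => hs i ▸ Submodule.subset_span ⟨s, rfl⟩
  let E : Fin n ≃ Fin t × Fin 2 := (finCongr hcard.symm).trans finProdFinEquiv.symm
  let f : Fin n → Fin n → F := fun a => e (E a).1 (E a).2
  have hf : ON 2 f := by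
    intro a b
    by_cases h1 : (E a).1 = (E b).1
    · simp only [f]
      rw [← h1, he]
      refine if_congr ⟨fun h => E.injective (Prod.ext h1 h), fun h => by rw [h]⟩ rfl rfl
    · have hab : a ≠ b := fun h => h1 (by rw [h])
      rw [if_neg hab]
      exact hD.orthogonal _ _ h1 _ (hmem _ _) _ (hmem _ _)
  refine ⟨_, frame_of_ON hF (by have := hD.decomp.two_le; omega) hH hf fun g hg a => ?_⟩
  obtain ⟨σ, hσ⟩ := hle hg
  have hv : (g : Matrix (Fin n) (Fin n) F) *ᵥ f a ∈ D (σ (E a).1) := by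
    rw [← hσ]
    exact ⟨f a, hmem _ _, Matrix.toLin'_apply _ _⟩
  rw [← hs] at hv
  obtain ⟨c, hc⟩ := (Submodule.mem_span_range_iff_exists_fun F).1 hv
  have hnorm := mem_GU_iff.1 (hH hg) (f a) (f a)
  rw [← hc, (he _).inner_self hF, hf, if_pos rfl, Fin.sum_univ_two] at hnorm
  rw [Fin.sum_univ_two] at hc
  rcases norm_two_cases hF hnorm with ⟨h0, -⟩ | ⟨-, h0⟩
  · exact ⟨E.symm (σ (E a).1, 1), c 1, by
      rw [← hc, h0, zero_smul, zero_add]; simp [f]⟩
  · exact ⟨E.symm (σ (E a).1, 0), c 0, by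
      rw [← hc, h0, zero_smul, add_zero]; simp [f]⟩

/-- A tensor factor of dimension two over the field with four elements gives two orthogonal
blocks. -/
theorem tensor_two (hF : Fintype.card F = 2 ^ 2) {H : Subgroup (GL (Fin n) F)}
    (hH : H ≤ GU n F 2) {b : ℕ} (hb : 1 ≤ b) (e : Fin n ≃ Fin 2 × Fin b) {P : GL (Fin n) F}
    (hP : P ∈ GU n F 2) (hle : H ≤ tensorProductSubgroup 2 b e P) :
    ∃ D : Fin 2 → Submodule F (Fin n → F),
      IsNondegenerateMDecomposition (hermForm n F 2) b D ∧ H ≤ decompositionStabilizer D := by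
  classical
  have hn : n = 2 * b := by simpa using Fintype.card_congr e
  haveI : NeZero n := ⟨by omega⟩
  haveI : Nonempty (Fin n) := ⟨⟨0, by omega⟩⟩
  haveI : Nonempty (Fin b) := ⟨⟨0, by omega⟩⟩
  let ρ := (Matrix.reindexAlgEquiv F F e.symm).trans (Aschbacher.cj P)
  have hρ : ∀ X, ρ X = Aschbacher.cj P (Matrix.reindexAlgEquiv F F e.symm X) := fun _ => rfl
  have hρst : ∀ X, hst 2 (ρ X) = ρ (hst 2 X) := fun X => by
    rw [hρ, hst_cj hF (isSim_of_mem_similarity hF (GU_le_similarity hP))]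
    rfl
  let ε : Fin 2 → Matrix (Fin 2 × Fin b) (Fin 2 × Fin b) F := fun i =>
    Matrix.single i i (1 : F) ⊗ₖ (1 : Matrix (Fin b) (Fin b) F)
  have hεne : ∀ i, ε i ≠ 0 := fun i h => by
    have := congrFun (congrFun h (i, Classical.arbitrary _)) (i, Classical.arbitrary _)
    simp [ε] at this
  have hmove : ∀ (A : GL (Fin 2) F) (B : GL (Fin b) F) (g : GL (Fin n) F) (i j : Fin 2),
      (g : Matrix (Fin n) (Fin n) F) = ρ ((A : Matrix (Fin 2) (Fin 2) F) ⊗ₖ
        (B : Matrix (Fin b) (Fin b) F)) →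
      (A : Matrix (Fin 2) (Fin 2) F) * Matrix.single i i 1 =
        Matrix.single j j 1 * (A : Matrix (Fin 2) (Fin 2) F) →
      Aschbacher.cj g (ρ (ε i)) = ρ (ε j) := by
    intro A B g i j hg hA
    rw [Aschbacher.cj_apply, hg, ← map_mul, ← Matrix.mul_kronecker_mul, hA, mul_one]
    rw [show (Matrix.single j j (1 : F) * (A : Matrix (Fin 2) (Fin 2) F)) ⊗ₖ
        (B : Matrix (Fin b) (Fin b) F) = ε j * ((A : Matrix (Fin 2) (Fin 2) F) ⊗ₖ
        (B : Matrix (Fin b) (Fin b) F)) by rw [← Matrix.mul_kronecker_mul, one_mul],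
      map_mul, ← hg, mul_assoc, ← Units.val_mul, mul_inv_cancel, Units.val_one, mul_one]
  have hperm : ∀ g ∈ H, ∃ σ : Equiv.Perm (Fin 2), ∀ i, Aschbacher.cj g (ρ (ε i)) = ρ (ε (σ i)) := by
    intro g hg
    obtain ⟨_, ⟨g₀, ⟨A, B, hAB⟩, rfl⟩, rfl⟩ := hle hg
    have hgv : ((MulAut.conj P).toMonoidHom ((glReindex e.symm).toMonoidHom g₀) :
        Matrix (Fin n) (Fin n) F) = ρ ((A : Matrix (Fin 2) (Fin 2) F) ⊗ₖ
          (B : Matrix (Fin b) (Fin b) F)) := by
      rw [← hAB]
      show ((P * glReindex e.symm g₀ * P⁻¹ : GL (Fin n) F) : Matrix (Fin n) (Fin n) F) = _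
      rw [← Aschbacher.cj_val]
      rfl
    have hU := (mem_GU_iff_hst hF).1 (hH hg)
    rw [hgv, hρst, ← map_mul, hst_kronecker, ← Matrix.mul_kronecker_mul] at hU
    have hone := ρ.injective (hU.trans (map_one ρ).symm)
    have b₀ : Fin b := Classical.arbitrary _
    set X := hst 2 (A : Matrix (Fin 2) (Fin 2) F) * (A : Matrix (Fin 2) (Fin 2) F) with hX
    set Y := hst 2 (B : Matrix (Fin b) (Fin b) F) * (B : Matrix (Fin b) (Fin b) F)
    have hent : ∀ i j, X i j * Y b₀ b₀ = (1 : Matrix (Fin 2) (Fin 2) F) i j := fun i j => by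
      have := congrFun (congrFun hone (i, b₀)) (j, b₀)
      simpa [Matrix.one_apply, Prod.ext_iff] using this
    have hY : Y b₀ b₀ ≠ 0 := fun h => by simpa [h] using hent 0 0
    have hfixd : ∀ i, X i i ^ 2 = X i i := fun i => by
      have : hst 2 X = X := by rw [hX, hst_mul hF, hst_hst hF]
      conv_rhs => rw [← this]
      rfl
    have hXd : ∀ i, X i i = 1 := fun i => by
      have h1 := hent i i
      rw [Matrix.one_apply_eq] at h1
      refine mul_left_cancel₀ (left_ne_zero_of_mul (h1.trans_ne one_ne_zero)) ?_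
      rw [mul_one, ← sq, hfixd]
    have hX0 : ∀ i j, i ≠ j → X i j = 0 := fun i j hij => by
      have h1 := hent i j
      rw [Matrix.one_apply_ne hij] at h1
      exact (mul_eq_zero.1 h1).resolve_right hY
    have hcol : ∀ j, ((A : Matrix (Fin 2) (Fin 2) F) 0 j = 0 ∧ (A : Matrix (Fin 2) (Fin 2) F) 1 j ≠ 0)
        ∨ ((A : Matrix (Fin 2) (Fin 2) F) 0 j ≠ 0 ∧ (A : Matrix (Fin 2) (Fin 2) F) 1 j = 0) := by
      intro j
      refine norm_two_cases hF ?_
      have h1 := hXd j
      rw [hX, Matrix.mul_apply, Fin.sum_univ_two, hst_apply, hst_apply] at h1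
      linear_combination h1
    have h01 := hX0 0 1 (by decide)
    rw [hX, Matrix.mul_apply, Fin.sum_univ_two, hst_apply, hst_apply] at h01
    rcases hcol 0 with ⟨a0, a1⟩ | ⟨a0, a1⟩
    · rcases hcol 1 with ⟨b0, b1⟩ | ⟨b0, b1⟩
      · simp [a0, b0, a1, b1] at h01
      · refine ⟨Equiv.swap 0 1, fun i => hmove A B _ i _ hgv ?_⟩
        ext r c
        fin_cases i <;> fin_cases r <;> fin_cases c <;>
          simp [Matrix.mul_apply, Fin.sum_univ_two, Matrix.single_apply, a0, b1]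
    · rcases hcol 1 with ⟨b0, b1⟩ | ⟨b0, b1⟩
      · refine ⟨1, fun i => hmove A B _ i _ hgv ?_⟩
        ext r c
        fin_cases i <;> fin_cases r <;> fin_cases c <;>
          simp [Matrix.mul_apply, Fin.sum_univ_two, Matrix.single_apply, a1, b0]
      · simp [a1, b1, a0, b0] at h01
  have htrans : ∀ i j, ∃ g : GL (Fin n) F, Aschbacher.cj g (ρ (ε i)) = ρ (ε j) := by
    intro i j
    let S : GL (Fin 2) F :=
      { val := Matrix.of fun r c => if r = Equiv.swap i j c then 1 else 0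
        inv := Matrix.of fun r c => if r = Equiv.swap i j c then 1 else 0
        val_inv := by ext r c; simp [Matrix.mul_apply, Matrix.one_apply]
        inv_val := by ext r c; simp [Matrix.mul_apply, Matrix.one_apply] }
    refine ⟨Units.map (ρ : Matrix (Fin 2 × Fin b) (Fin 2 × Fin b) F →* Matrix (Fin n) (Fin n) F)
      (krGL S 1), hmove S 1 _ i j rfl ?_⟩
    ext r c
    simp only [S, Matrix.mul_apply, Matrix.of_apply, Matrix.single_apply, Fin.sum_univ_two]
    fin_cases i <;> fin_cases j <;> fin_cases r <;> fin_cases c <;> simp [Equiv.swap_apply_def]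
  obtain ⟨k, hk, hst', hnk⟩ := decomposition_of_star hF (H := H) (fun i => ρ (ε i)) le_rfl
    (fun i => by rw [← map_mul, ← Matrix.mul_kronecker_mul]; simp [ε])
    (fun i h => hεne i (ρ.injective (h.trans (map_zero ρ).symm)))
    (fun i j hij => by
      rw [← map_mul, ← Matrix.mul_kronecker_mul, Matrix.single_mul_single_of_ne _ _ _ _ hij,
        Matrix.zero_kronecker, map_zero])
    (by
      rw [← map_sum, Fin.sum_univ_two, ← Matrix.add_kronecker]
      rw [show Matrix.single (0 : Fin 2) (0 : Fin 2) (1 : F) + Matrix.single (1 : Fin 2) (1 : Fin 2) 1 = 1 by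
        ext a c; fin_cases a <;> fin_cases c <;> simp, Matrix.one_kronecker_one, map_one])
    (fun i => by
      rw [hρst, hst_kronecker, hst_one hF]
      congr 2
      ext a c
      simp [hst_apply, Matrix.single_apply, and_comm])
    hperm htrans
  exact ⟨_, (show k = b by omega) ▸ hk, hst'⟩

lemma frame_ON (hF : Fintype.card F = q ^ 2) {D : Fin n → Submodule F (Fin n → F)}
    (hD : IsNondegenerateMDecomposition (hermForm n F q) 1 D) :
    ∃ f : Fin n → Fin n → F, ON q f ∧ ∀ a, D a = F ∙ f a := by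
  have : ∀ a, ∃ v, hermForm n F q v v = 1 ∧ D a = F ∙ v := by
    intro a
    obtain ⟨e, he, hs⟩ := exists_ON_basis hF (D a) ((nondegOn_iff hF).1 (hD.nondegenerate a))
    haveI : Subsingleton (Fin (Module.finrank F (D a))) := by
      rw [hD.decomp.finrank_eq a]; infer_instance
    let i : Fin (Module.finrank F (D a)) := ⟨0, by rw [hD.decomp.finrank_eq a]; exact one_pos⟩
    refine ⟨e i, by rw [he, if_pos rfl], ?_⟩
    rw [← hs]
    congr 1
    ext v
    constructor
    · rintro ⟨j, rfl⟩; rw [Subsingleton.elim j i]; rfl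
    · rintro rfl; exact ⟨i, rfl⟩
  choose f hf hfD using this
  refine ⟨f, fun a b => ?_, hfD⟩
  by_cases hab : a = b
  · subst hab; rw [if_pos rfl, hf]
  · rw [if_neg hab]
    exact hD.orthogonal a b hab _ (by rw [hfD]; exact Submodule.mem_span_singleton_self _) _
      (by rw [hfD]; exact Submodule.mem_span_singleton_self _)

lemma two_cases : ∀ s : ZMod 2, s = 0 ∨ s = 1 := by decide

lemma two_double : ∀ s : ZMod 2, s + s = 0 := by decide

lemma four_translate : ∀ (π : Equiv.Perm (ZMod 2 × ZMod 2)) (a : ZMod 2 × ZMod 2),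
    ∃ a', ∀ x, π (x + a) = π x + a' := by decide

lemma affine_char {ψ : AddChar (ZMod 2) F} (hψ : ψ 1 = -1) (h : ZMod 2 × ZMod 2 → F)
    (hne : h (0, 0) ≠ 0) (hsq : ∀ y, h y ^ 2 = h (0, 0) ^ 2)
    (hprod : h (1, 1) * h (0, 0) = h (1, 0) * h (0, 1)) :
    ∃ b : ZMod 2 × ZMod 2, ∀ y, h y = h (0, 0) * (ψ (b.1 * y.1) * ψ (b.2 * y.2)) := by
  have hsign : ∀ y, ∃ z : ZMod 2, h y = h (0, 0) * ψ z := by
    intro y
    rcases sq_eq_sq_iff_eq_or_eq_neg.1 (hsq y) with e | e
    · exact ⟨0, by rw [e, AddChar.map_zero_eq_one, mul_one]⟩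
    · exact ⟨1, by rw [e, hψ]; ring⟩
  obtain ⟨b1, h10⟩ := hsign (1, 0)
  obtain ⟨b2, h01⟩ := hsign (0, 1)
  refine ⟨(b1, b2), ?_⟩
  have h11 : h (1, 1) = h (0, 0) * (ψ b1 * ψ b2) := by
    refine mul_right_cancel₀ hne ?_
    rw [hprod, h10, h01]; ring
  rintro ⟨y1, y2⟩
  have hc : ∀ s : ZMod 2, s = 0 ∨ s = 1 := by decide
  rcases hc y1 with rfl | rfl <;> rcases hc y2 with rfl | rfl <;>
    simp [h10, h01, h11]

lemma frame_ratio {d : ZMod 2 × ZMod 2 → F} (hd0 : ∀ x, d x ≠ 0) (hd4 : ∀ x, d x ^ 4 = 1)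
    (hprod : (d (0, 0) * d (1, 0) * d (0, 1) * d (1, 1)) ^ 2 = 1) (a x x' : ZMod 2 × ZMod 2) :
    (d (x + a) / d x) ^ 2 = (d (x' + a) / d x') ^ 2 := by
  have hc : ∀ s : ZMod 2, s = 0 ∨ s = 1 := by decide
  have e2 : (1 : ZMod 2) + 1 = 0 := by decide
  have h1 := hd4 (0, 0)
  have h2 := hd4 (1, 0)
  have h3 := hd4 (0, 1)
  have h4 := hd4 (1, 1)
  have h5 := hd0 (0, 0)
  have h6 := hd0 (1, 0)
  have h7 := hd0 (0, 1)
  have h8 := hd0 (1, 1)
  have inv4 : ∀ z : F, z ^ 4 = 1 → z ≠ 0 → (z ^ 2)⁻¹ = z ^ 2 := fun z hz hz0 => by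
    apply inv_eq_of_mul_eq_one_right
    rw [← pow_add]; exact hz
  simp only [div_pow, div_eq_mul_inv, inv4 _ (hd4 _) (hd0 _)]
  obtain ⟨x1, x2⟩ := x
  obtain ⟨y1, y2⟩ := x'
  obtain ⟨a1, a2⟩ := a
  set A := d (0, 0) ^ 2
  set B := d (1, 0) ^ 2
  set C := d (0, 1) ^ 2
  set E := d (1, 1) ^ 2
  have hA : A * A = 1 := by rw [← pow_add]; exact h1
  have hB : B * B = 1 := by rw [← pow_add]; exact h2
  have hC : C * C = 1 := by rw [← pow_add]; exact h3
  have hE : E * E = 1 := by rw [← pow_add]; exact h4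
  have hP : A * B * C * E = 1 := by
    rw [← mul_pow, ← mul_pow, ← mul_pow]; exact hprod
  rcases hc a1 with rfl | rfl <;> rcases hc a2 with rfl | rfl <;>
    rcases hc x1 with rfl | rfl <;> rcases hc x2 with rfl | rfl <;>
    rcases hc y1 with rfl | rfl <;> rcases hc y2 with rfl | rfl <;>
    simp only [Prod.mk_add_mk, add_zero, zero_add, e2] <;>
    grind

/-- In four dimensions over the field with nine elements a frame stabiliser normalises a group
of symplectic type. -/
theorem frame_four_three (hF : Fintype.card F = 3 ^ 2) {H : Subgroup (GL (Fin 4) F)}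
    (hH : H ≤ GU 4 F 3 ⊓ specialLinear (Fin 4) F) {D : Fin 4 → Submodule F (Fin 4 → F)}
    (hD : IsNondegenerateMDecomposition (hermForm 4 F 3) 1 D) (hle : H ≤ decompositionStabilizer D) :
    (∃ r k R, Class6 4 3 r k R ∧ H ≤ subgroupNormalizer R) ∨ InClass5 3 H := by
  classical
  haveI : Fact (Nat.Prime 2) := ⟨Nat.prime_two⟩
  haveI : Finite (GL (Fin 4) F) := inferInstance
  haveI : Nonempty (Fin 4) := ⟨0⟩
  have h3 : (3 : F) = 0 := by
    have h := FiniteField.cast_card_eq_zero F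
    rw [hF, Nat.cast_pow] at h
    exact_mod_cast eq_zero_of_pow_eq_zero h
  have h2 : (2 : F) ≠ 0 := fun h => one_ne_zero (α := F) (by linear_combination h3 - h)
  obtain ⟨f, hf, hfD⟩ := frame_ON hF hD
  obtain ⟨⟨P, hP⟩, hPe⟩ := exists_GU_of_ON hF hf
  let ψ : AddChar (ZMod 2) F := AddChar.zmodChar 2 (show (-1 : F) ^ 2 = 1 by ring)
  have hψ1 : ψ 1 = -1 := by
    rw [AddChar.zmodChar_apply, show (1 : ZMod 2).val = 1 from rfl, pow_one]
  have hprim : ψ.IsPrimitive := AddChar.IsPrimitive.of_ne_one fun h => h2 (by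
    have := congrArg (fun χ : AddChar (ZMod 2) F => χ 1) h
    simp only [hψ1, AddChar.one_apply] at this
    linear_combination -this)
  have hr : ((2 : ℕ) : F) ≠ 0 := by exact_mod_cast h2
  have hunit : ∀ x, ψ x * ψ x ^ 3 = 1 := fun x => by
    rw [← pow_succ', ← AddChar.map_nsmul_eq_pow,
      show (3 + 1) • x = 0 by rw [nsmul_eq_mul, show ((3 + 1 : ℕ) : ZMod 2) = 0 from rfl, zero_mul],
      AddChar.map_zero_eq_one]
  obtain ⟨δ, hδ0, hδ⟩ := exists_skew hF
  have hδ2 : δ ^ 2 = -1 := mul_left_cancel₀ hδ0 (by rw [← pow_succ']; linear_combination hδ)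
  let d₀ : ZMod 2 → Fˣ := fun s => if s = 1 then Units.mk0 δ hδ0 else 1
  have hd₀ : ∀ s, (d₀ (s + 1) : F) = (Units.mk0 δ hδ0 : F) * ψ s * d₀ s := by
    intro s
    rcases two_cases s with rfl | rfl
    · simp [d₀]
    · simp [d₀, show (1 : ZMod 2) + 1 = 0 from rfl, hψ1]
      linear_combination hδ2
  let e' : Fin 4 ≃ ZMod 2 × ZMod 2 := (finProdFinEquiv : Fin 2 × Fin 2 ≃ Fin (2 * 2)).symm
  obtain ⟨r', m, z, R, hdata⟩ :=
    Heis.pair_sympData ψ e' P (by norm_num) hprim hr d₀ (Units.mk0 δ hδ0) hd₀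
  suffices hHN : H ≤ subgroupNormalizer (Heis.pairN ψ e' P) by
    rcases sympData_cases hF (by norm_num) hdata (Heis.pairN_similarity ψ e' P hF hunit hP) hHN
      with h | h
    · exact Or.inl ⟨r', m, R, h⟩
    · exact Or.inr h
  intro g hg
  obtain ⟨σ, hσ⟩ := hle hg
  have hc : ∀ a, ∃ c : F, c ≠ 0 ∧ (g : Matrix (Fin 4) (Fin 4) F) *ᵥ f a = c • f (σ a) := by
    intro a
    have h1 : (g : Matrix (Fin 4) (Fin 4) F) *ᵥ f a ∈ D (σ a) := by
      rw [← hσ a]
      exact ⟨f a, by rw [hfD]; exact Submodule.mem_span_singleton_self _, Matrix.toLin'_apply _ _⟩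
    rw [hfD] at h1
    obtain ⟨c, hc⟩ := Submodule.mem_span_singleton.1 h1
    refine ⟨c, fun h => ?_, hc.symm⟩
    have := mem_GU_iff.1 (hH hg).1 (f a) (f a)
    rw [← hc, h, zero_smul, herm_zero_left, hf, if_pos rfl] at this
    exact zero_ne_one this
  choose c hc0 hc using hc
  have hc4 : ∀ a, c a ^ 4 = 1 := fun a => by
    have := mem_GU_iff.1 (hH hg).1 (f a) (f a)
    rw [hc, herm_self_smul, hf, if_pos rfl, hf, if_pos rfl, mul_one] at this
    linear_combination this
  -- the monomial matrix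
  let W : Matrix (Fin 4) (Fin 4) F := Matrix.of fun i j => if i = σ j then c j else 0
  have hgW : (g : Matrix (Fin 4) (Fin 4) F) * (P : Matrix (Fin 4) (Fin 4) F) =
      (P : Matrix (Fin 4) (Fin 4) F) * W := by
    refine Matrix.ext_of_mulVec_single fun a => ?_
    rw [← Matrix.mulVec_mulVec, ← Matrix.mulVec_mulVec, hPe, hc]
    have : W *ᵥ Pi.single a 1 = c a • Pi.single (σ a) 1 := by
      funext i
      simp [W, Matrix.mulVec_single_one, Pi.single_apply]
    rw [this, Matrix.mulVec_smul, hPe]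
  have hdet : (∏ a, c a) ^ 2 = 1 := by
    have hgd : (g : Matrix (Fin 4) (Fin 4) F).det = 1 := by
      have := congrArg Units.val (hH hg).2
      simpa using this
    have h1 := congrArg Matrix.det hgW
    rw [Matrix.det_mul, Matrix.det_mul, hgd, one_mul] at h1
    have hW : W.det = 1 := mul_left_cancel₀ ((Matrix.isUnit_iff_isUnit_det _).1 P.isUnit).ne_zero
      (by rw [mul_one]; exact h1.symm)
    have hWd : W = (1 : Matrix (Fin 4) (Fin 4) F).submatrix σ.symm id * Matrix.diagonal c := by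
      ext i j
      simp [W, Matrix.mul_diagonal, Matrix.one_apply, Equiv.symm_apply_eq]
    rw [hWd, Matrix.det_mul, Matrix.det_permute, Matrix.det_one, mul_one, Matrix.det_diagonal] at hW
    have hs : ((Equiv.Perm.sign σ.symm : ℤ) : F) ^ 2 = 1 := by
      rcases Int.units_eq_one_or (Equiv.Perm.sign σ.symm) with h | h <;> rw [h] <;> simp
    linear_combination (((Equiv.Perm.sign σ.symm : ℤ) : F) * (∏ a, c a) + 1) * hW -
      (∏ a, c a) ^ 2 * hs
  let π : Equiv.Perm (ZMod 2 × ZMod 2) := (e'.symm.trans σ).trans e'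
  let d : ZMod 2 × ZMod 2 → F := fun x => c (e'.symm x)
  have hd0 : ∀ x, d x ≠ 0 := fun x => hc0 _
  have hsum4 : ∀ G : ZMod 2 × ZMod 2 → F, ∏ x, G x = G (0, 0) * G (1, 0) * G (0, 1) * G (1, 1) := by
    intro G
    rw [Fintype.prod_prod_type]
    show (∏ i : Fin 2, ∏ j : Fin 2, G (i, j)) = _
    simp only [Fin.prod_univ_two]
    exact (mul_assoc _ _ _).symm.trans (congrArg (· * _) (mul_right_comm _ _ _))
  have hdprod : (d (0, 0) * d (1, 0) * d (0, 1) * d (1, 1)) ^ 2 = 1 := by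
    rw [← hsum4 d, ← hdet]
    exact congrArg (· ^ 2) (Fintype.prod_equiv e'.symm _ _ fun x => rfl)
  have hd4 : ∀ x, d x ^ 4 = 1 := fun x => hc4 _
  let K : Matrix (ZMod 2 × ZMod 2) (ZMod 2 × ZMod 2) F :=
    Matrix.of fun x' x => if x' = π x then d x else 0
  have hgP : (g : Matrix (Fin 4) (Fin 4) F) =
      Aschbacher.cj P (Matrix.reindexAlgEquiv F F e'.symm K) := by
    have hK : Matrix.reindexAlgEquiv F F e'.symm K = W := by
      ext i j
      show (if e' i = π (e' j) then d (e' j) else 0) = if i = σ j then c j else 0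
      simp [π, d]
    rw [hK, Aschbacher.cj_apply, ← hgW, mul_assoc, ← Units.val_mul, mul_inv_cancel, Units.val_one,
      mul_one]
  refine Heis.mem_normalizer_of_conj ?_
  rintro _ ⟨⟨A, B⟩, ⟨⟨a1, b1, c1, rfl⟩, ⟨a2, b2, c2, rfl⟩⟩, rfl⟩
  obtain ⟨⟨a1', a2'⟩, ha'⟩ := four_translate π (a1, a2)
  -- the new character
  let χ : ZMod 2 × ZMod 2 → F := fun x => ψ (b1 * x.1) * ψ (b2 * x.2)
  let h : ZMod 2 × ZMod 2 → F := fun y => d (π.symm y + (a1, a2)) / d (π.symm y) * χ (π.symm y)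
  have hχsq : ∀ x, χ x ^ 2 = 1 := fun x => by
    simp only [χ, mul_pow, ← AddChar.map_nsmul_eq_pow]
    rw [show (2 : ℕ) • (b1 * x.1) = 0 by rw [nsmul_eq_mul, show ((2 : ℕ) : ZMod 2) = 0 from rfl, zero_mul],
      show (2 : ℕ) • (b2 * x.2) = 0 by rw [nsmul_eq_mul, show ((2 : ℕ) : ZMod 2) = 0 from rfl, zero_mul]]
    simp
  have hsq : ∀ y, h y ^ 2 = h (0, 0) ^ 2 := fun y => by
    simp only [h, mul_pow, hχsq, mul_one]
    exact frame_ratio hd0 hd4 hdprod _ _ _
  have hh0 : h (0, 0) ≠ 0 := mul_ne_zero (div_ne_zero (hd0 _) (hd0 _))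
    (mul_ne_zero (AddChar.val_isUnit ψ _).ne_zero (AddChar.val_isUnit ψ _).ne_zero)
  have hhprod : h (0, 0) * h (1, 0) * h (0, 1) * h (1, 1) = 1 := by
    rw [← hsum4 h]
    rw [Fintype.prod_equiv π.symm h (fun x => d (x + (a1, a2)) / d x * χ x) fun y => rfl,
      Finset.prod_mul_distrib, Finset.prod_div_distrib,
      Fintype.prod_equiv (Equiv.addRight ((a1, a2) : ZMod 2 × ZMod 2)) (fun x => d (x + (a1, a2))) d
        fun x => rfl,
      div_self (Finset.prod_ne_zero_iff.2 fun x _ => hd0 x), one_mul, hsum4]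
    simp only [χ, mul_zero, mul_one, AddChar.map_zero_eq_one, one_mul]
    have e : ∀ z : ZMod 2, ψ z * ψ z = 1 := fun z => by
      rw [← AddChar.map_add_eq_mul, two_double z,
        AddChar.map_zero_eq_one]
    linear_combination ψ b2 * ψ b2 * e b1 + e b2
  obtain ⟨⟨b1', b2'⟩, hb'⟩ := affine_char hψ1 h hh0 hsq (by
    have h00 : h (0, 0) ^ 4 = 1 := by
      simp only [h, mul_pow, div_pow, hd4, show ∀ x, χ x ^ 4 = 1 from fun x => by
        rw [show χ x ^ 4 = (χ x ^ 2) ^ 2 by ring, hχsq, one_pow]]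
      simp
    have h10 : h (1, 0) ^ 2 = h (0, 0) ^ 2 := hsq _
    have h01 : h (0, 1) ^ 2 = h (0, 0) ^ 2 := hsq _
    have hne : h (1, 0) * h (0, 1) ≠ 0 := fun e0 => one_ne_zero (α := F) (by
      linear_combination (-hhprod) + h (0, 0) * h (1, 1) * e0)
    refine mul_left_cancel₀ hne ?_
    linear_combination hhprod - h00 - h (0, 1) ^ 2 * h10 - h (0, 0) ^ 2 * h01)
  have hu : ∀ t, ψ t ≠ 0 := fun t => (AddChar.val_isUnit ψ t).ne_zero
  refine ⟨(Heis.monGL ψ a1' b1' (Units.mk0 _ hh0), Heis.monGL ψ a2' b2' (c1 * c2)),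
    ⟨⟨_, _, _, rfl⟩, ⟨_, _, _, rfl⟩⟩, ?_⟩
  rw [eq_mul_inv_iff_mul_eq]
  refine Units.ext ?_
  rw [Units.val_mul _ g, Units.val_mul g, Heis.pairHom_val, Heis.pairHom_val, hgP]
  rw [← map_mul, ← map_mul, ← map_mul, ← map_mul]
  congr 2
  ext ⟨x1', x2'⟩ ⟨x1, x2⟩
  simp only [K, Matrix.mul_apply, Matrix.of_apply, Matrix.kroneckerMap_apply, mul_ite, mul_zero,
    ite_mul, zero_mul, Finset.sum_ite_eq', Finset.mem_univ, if_true, Heis.monGL_val, Heis.mon]
  rw [Finset.sum_eq_single ((x1, x2) + (a1, a2))]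
  rotate_left
  · intro y _ hy
    rcases y with ⟨y1, y2⟩
    simp only [Prod.mk_add_mk, ne_eq, Prod.mk.injEq, not_and] at hy
    by_cases h1 : y1 = x1 + a1
    · simp [hy h1]
    · simp [h1]
  · simp
  simp only [Prod.mk_add_mk, if_true]
  have hyy := hb' (π (x1, x2))
  simp only [h, χ, Equiv.symm_apply_apply] at hyy
  rw [show ((x1 + a1, x2 + a2) : ZMod 2 × ZMod 2) = (x1, x2) + (a1, a2) from rfl, ha']
  simp only [Prod.mk_add_mk] at hyy ⊢
  have hxx := hd0 (x1, x2)
  field_simp at hyy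
  rw [Units.val_mul]
  by_cases h1 : x1' = (π (x1, x2)).1 + a1' <;> by_cases h2 : x2' = (π (x1, x2)).2 + a2' <;>
    simp [h1, h2, Prod.ext_iff]
  simp only [mul_comm x1 b1, mul_comm x2 b2] at hyy ⊢
  linear_combination -((c1 : F) * c2) * hyy

end Cfsg.Agent.Unitary.Asch
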