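/-
Maximal subgroups of the special unitary groups: the outcomes as equalities, and the numerical
conditions of the sixth class.
-/
import Cfsg.Agent.Unitary.AschTheorem
import Cfsg.Agent.Unitary.AschProper
import Cfsg.Agent.Unitary.AschProperSub
import Cfsg.Agent.Unitary.AschSmallCases
import Cfsg.Agent.Aschbacher.LinearMaximal

set_option autoImplicit false
set_option maxHeartbeats 1000000
set_option linter.unusedSectionVars false
set_option linter.style.haveILetI false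

namespace Cfsg.Agent.Unitary.Asch

open scoped MatrixGroups Matrix
open Cfsg Cfsg.Geo Cfsg.Agent.Unitary Matrix

variable {F : Type*} [Field F] [Fintype F] {n q : ℕ}

lemma max_eq {H M : Subgroup (GL (Fin n) F)} (hH : IsMaximalIn (SUg n F q) H) (hle : H ≤ M)
    (hM : ¬ SUg n F q ≤ M) : H = M ⊓ SUg n F q := by
  rcases hH.2 (M ⊓ SUg n F q) (le_inf hle hH.1.le) inf_le_right with h | h
  · exact h.symm
  · exact absurd (inf_eq_right.mp h) hM

/-- A maximal subgroup of the special unitary group equals the trace of a member of a class. -/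
inductive MaxOutcome (q : ℕ) (H : Subgroup (GL (Fin n) F)) : Prop
  | ts (W : Submodule F (Fin n → F)) (h1 : W ≠ ⊥)
      (h2 : IsTotallySingularFor (hermForm n F q) W) (h : H = subspaceStabilizer W ⊓ SUg n F q)
  | nondeg (W : Submodule F (Fin n → F)) (h1 : W ≠ ⊥)
      (h2 : IsNondegenerateOn (hermForm n F q) W) (h3 : 2 * Module.finrank F W < n)
      (h : H = subspaceStabilizer W ⊓ SUg n F q)
  | decomp (t k : ℕ) (D : Fin t → Submodule F (Fin n → F))
      (hD : IsNondegenerateMDecomposition (hermForm n F q) k D) (hcard : t * k = n)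
      (hk : k = 2 → 3 ≤ q) (hfr : n = 4 ∧ k = 1 → q ≠ 3)
      (h : H = decompositionStabilizer D ⊓ SUg n F q)
  | tsPair (k : ℕ) (D : Fin 2 → Submodule F (Fin n → F)) (hcard : 2 * k = n)
      (hD : IsMDecomposition k D) (hts : ∀ i, IsTotallySingularFor (hermForm n F q) (D i))
      (hq : n = 4 → 4 ≤ q) (h : H = decompositionStabilizer D ⊓ SUg n F q)
  | field (r : ℕ) (K : Subalgebra F (Matrix (Fin n) (Fin n) F)) (hr : r.Prime) (hodd : Odd r)
      (hdvd : r ∣ n) (hK : IsFieldSubalgebra r K) (hs : IsAdjointClosedFor (hermForm n F q) K)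
      (h : H = subalgebraNormalizer K ⊓ SUg n F q)
  | tensor (n₁ n₂ : ℕ) (e : Fin n ≃ Fin n₁ × Fin n₂) (P : GL (Fin n) F) (h1 : 2 ≤ n₁)
      (h2 : n₁ < n₂) (hcard : n₁ * n₂ = n) (hq : n₁ = 2 → 3 ≤ q) (hP : P ∈ GU n F q)
      (h : H = tensorProductSubgroup n₁ n₂ e P ⊓ SUg n F q)
  | subOdd (F₀ : Subfield F) (r : ℕ) (P : GL (Fin n) F) (hr : r.Prime) (hodd : Odd r)
      (hcard : Fintype.card F = Nat.card F₀ ^ r)
      (hP : IsFormRationalStructure (hermForm n F q) F₀ 1 P)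
      (h : H = subfieldSubgroup F₀ P ⊓ SUg n F q)
  | subOrth (F₀ : Subfield F) (P : GL (Fin n) F) (hodd : Odd q)
      (hcard : Fintype.card F = Nat.card F₀ ^ 2)
      (hP : IsFormRationalStructure (hermForm n F q) F₀ 1 P)
      (h : H = subfieldSubgroup F₀ P ⊓ SUg n F q)
  | subSymp (F₀ : Subfield F) (P : GL (Fin n) F) (ζ : F) (hev : Even n)
      (hcard : Fintype.card F = Nat.card F₀ ^ 2) (hζ : ζ ≠ 0) (hζq : ζ + ζ ^ q = 0)
      (hP : IsFormRationalStructure (hermForm n F q) F₀ ζ P)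
      (halt : ∀ u : Fin n → F, (∀ i, u i ∈ F₀) →
        hermForm n F q ((P : Matrix (Fin n) (Fin n) F) *ᵥ u) ((P : Matrix (Fin n) (Fin n) F) *ᵥ u) = 0)
      (h : H = subfieldSubgroup F₀ P ⊓ SUg n F q)
  | class6 (r k : ℕ) (R : Subgroup (GL (Fin n) F)) (hR : Class6 n q r k R)
      (h : H = subgroupNormalizer R ⊓ SUg n F q)
  | wreath (k t : ℕ) (e : Fin n ≃ (Fin t → Fin k)) (P : GL (Fin n) F) (h1 : 3 ≤ k) (h2 : 2 ≤ t)
      (hex : ¬ (q = 2 ∧ k = 3)) (hcard : n = k ^ t) (hP : P ∈ GU n F q)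
      (h : H = tensorWreathSubgroup k t e P ⊓ SUg n F q)
  | residual (h : InUnitaryResidualClass H)

theorem max_of_class5 (hF : Fintype.card F = q ^ 2) (hn : 3 ≤ n) {H : Subgroup (GL (Fin n) F)}
    (hH : IsMaximalIn (SUg n F q) H) (h : InClass5 q H) : MaxOutcome q H := by
  rcases h with ⟨F₀, r, P, h1, h2, h3, h4, h5⟩ | ⟨F₀, P, h1, h2, h3, h4⟩ |
    ⟨F₀, P, ζ, h1, h2, h3, h4, h5, h6, h7⟩
  · exact .subOdd F₀ r P h1 h2 h3 h4
      (max_eq hH h5 (subfield_proper hF hn (Aschbacher.subfield_ne_top h1 h3) P))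
  · exact .subOrth F₀ P h1 h2 h3
      (max_eq hH h4 (subfield_proper hF hn (Aschbacher.subfield_ne_top Nat.prime_two h2) P))
  · exact .subSymp F₀ P ζ h1 h2 h3 h4 h5 h6
      (max_eq hH h7 (subfield_proper hF hn (Aschbacher.subfield_ne_top Nat.prime_two h2) P))

lemma Class6.char_ne {r k : ℕ} {R : Subgroup (GL (Fin n) F)} (hR : Class6 n q r k R) :
    (r : F) ≠ 0 := by
  obtain ⟨p, e, hne, ⟨hp, hc, -⟩, -⟩ := hR.data
  intro h
  rw [CharP.cast_eq_zero_iff F p] at h
  exact hne ((Nat.prime_dvd_prime_iff_eq hp hR.sympType.prime).mp h).symm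

theorem max_of_class6 (hF : Fintype.card F = q ^ 2) (hbig : 4 ≤ n ∨ (n = 3 ∧ 3 ≤ q))
    {H : Subgroup (GL (Fin n) F)} (hH : IsMaximalIn (SUg n F q) H) {r k : ℕ}
    {R : Subgroup (GL (Fin n) F)} (hR : Class6 n q r k R) (h : H ≤ subgroupNormalizer R) :
    MaxOutcome q H :=
  .class6 r k R hR (max_eq hH h (symp_proper hF hbig hR.sympType.pGroup hR.char_ne hR.le
    (Aschbacher.absIrred_not_le_scalars (by simp; omega) hR.absIrred)))

theorem max_of_decomp (hF : Fintype.card F = q ^ 2) (hn : 3 ≤ n) (hex : ¬ (n = 3 ∧ q = 2))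
    {H : Subgroup (GL (Fin n) F)} (hH : IsMaximalIn (SUg n F q) H) {t k : ℕ}
    {D : Fin t → Submodule F (Fin n → F)}
    (hD : IsNondegenerateMDecomposition (hermForm n F q) k D) (hcard : t * k = n)
    (hle : H ≤ decompositionStabilizer D) (hk : k = 2 → 3 ≤ q) : MaxOutcome q H := by
  by_cases hfr : (n = 4 ∧ k = 1) ∧ q = 3
  · obtain ⟨⟨rfl, rfl⟩, rfl⟩ := hfr
    obtain rfl : t = 4 := by omega
    rcases frame_four_three hF hH.1.le hD hle with ⟨r, j, R, hR, h⟩ | h
    · exact max_of_class6 hF (Or.inl le_rfl) hH hR h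
    · exact max_of_class5 hF hn hH h
  refine .decomp t k D hD hcard hk (fun h h' => hfr ⟨h, h'⟩) (max_eq hH hle ?_)
  by_cases hbig : 2 ≤ k ∨ 3 ≤ q
  · exact decomp_proper_of_big hF hn hD.decomp hbig
  · have hq := two_le_q hF
    have := hD.decomp.pos
    obtain rfl : k = 1 := by omega
    exact frame_proper_two hF (by omega) hD (by omega) (by omega)

/-- The maximal subgroups of the special unitary groups. -/
theorem unitary_maximal (hF : Fintype.card F = q ^ 2) (hn : 3 ≤ n) (hex : ¬ (n = 3 ∧ q = 2))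
    (H : Subgroup (GL (Fin n) F)) (hH : IsMaximalIn (SUg n F q) H) : MaxOutcome q H := by
  have hbig := hbig_of hF hn hex
  have hq := two_le_q hF
  have hHU : H ≤ GU n F q := hH.1.le.trans inf_le_left
  cases unitary_aschbacher hF hn H hHU with
  | ts W h1 h2 h =>
    refine .ts W h1 h2 (max_eq hH h (subspace_proper hF hn h1 ?_))
    rintro rfl
    have hsingle := h2 (Pi.single ⟨0, by omega⟩ 1) trivial (Pi.single ⟨0, by omega⟩ 1) trivial
    rw [herm_single_single hF, if_pos rfl] at hsingle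
    exact one_ne_zero hsingle
  | nondeg W h1 h2 h3 h =>
    refine .nondeg W h1 h2 h3 (max_eq hH h (subspace_proper hF hn h1 ?_))
    rintro rfl
    rw [finrank_top, Module.finrank_fin_fun] at h3
    omega
  | decomp t k D hD hcard h =>
    by_cases hk : k = 2 ∧ q = 2
    · obtain ⟨rfl, rfl⟩ := hk
      obtain ⟨D', hD', h'⟩ := planes_two hF hHU hD hcard h
      exact max_of_decomp hF hn hex hH hD' (mul_one n) h' (by omega)
    · exact max_of_decomp hF hn hex hH hD hcard h (by omega)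
  | tsPair k D hcard hD hts h =>
    by_cases hq4 : n = 4 ∧ q ≤ 3
    · obtain ⟨rfl, hq4⟩ := hq4
      obtain rfl : k = 2 := by omega
      exact max_of_class5 hF hn hH (class5_of_ts_planes hF hq4 hH.1.le hD hts h)
    · exact .tsPair k D hcard hD hts (by omega)
        (max_eq hH h (decomp_proper_of_big hF hn hD (Or.inl (by omega))))
  | field r K hr hodd hdvd hK hs h =>
    exact .field r K hr hodd hdvd hK hs (max_eq hH h (field_proper hF hn hK hr.two_le))
  | tensor n₁ n₂ e P h1 h2 hcard hP h =>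
    by_cases hn1 : n₁ = 2 ∧ q = 2
    · obtain ⟨rfl, rfl⟩ := hn1
      obtain ⟨D, hD, h'⟩ := tensor_two hF hHU (by omega) e hP h
      exact max_of_decomp hF hn hex hH hD hcard h' (by omega)
    · exact .tensor n₁ n₂ e P h1 h2 hcard (by omega) hP
        (max_eq hH h (tensor_proper hF h1 (by omega) e hP))
  | class5 h => exact max_of_class5 hF hn hH h
  | class6 r k R hR h => exact max_of_class6 hF hbig hH hR h
  | wreath k t e P h1 h2 hex' hcard hP h =>
    exact .wreath k t e P h1 h2 hex' hcard hP (max_eq hH h (wreath_proper hF h1 h2 e hP))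
  | residual h => exact .residual h

/-- The numerical conditions of the sixth class for an odd prime. -/
theorem Class6.odd_data (hF : Fintype.card F = q ^ 2) {r k : ℕ} {R : Subgroup (GL (Fin n) F)}
    (hR : Class6 n q r k R) (hr : Odd r) :
    ∃ p a : ℕ, p.Prime ∧ CharP F p ∧ q = p ^ a ∧ 0 < a ∧ 2 * a ≤ r - 1 ∧ 0 < p % r ∧
      (p % r) ^ (2 * a) % r = 1 ∧ (∀ d, d ∈ Finset.Ico 1 (2 * a) → (p % r) ^ d % r ≠ 1) ∧
      Nat.card R = r ^ (1 + 2 * k) ∧ Nat.card (Subgroup.center R) = r := by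
  obtain ⟨p, e, hne, ⟨hp, hc, hcard, hz, hmin⟩, hcase⟩ := hR.data
  rcases hcase with ⟨-, hZ, -, hRc⟩ | ⟨h2, -⟩
  swap
  · subst h2; exact absurd hr (by decide)
  have hrp := hR.sympType.prime
  rw [hF] at hcard
  obtain ⟨a, ha, rfl⟩ : ∃ a, a ≤ e ∧ q = p ^ a := by
    exact (Nat.dvd_prime_pow hp).1 ⟨q, by rw [← hcard, sq]⟩
  obtain rfl : e = 2 * a := by
    rw [← pow_mul] at hcard
    have := Nat.pow_right_injective hp.two_le hcard
    omega
  have ha0 : 0 < a := by
    rcases Nat.eq_zero_or_pos a with rfl | h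
    · have := two_le_q hF
      simp at this
    · exact h
  have key : ∀ d, Nat.card (Subgroup.center R) ∣ p ^ d - 1 ↔ (p % r) ^ d % r = 1 := fun d => by
    rw [hZ, ← Nat.pow_mod, ← Nat.modEq_iff_dvd' (Nat.one_le_pow _ _ hp.pos), Nat.ModEq,
      Nat.one_mod_eq_one.mpr hrp.ne_one, eq_comm]
  have hpr : 0 < p % r := Nat.pos_of_ne_zero fun h =>
    hne ((Nat.prime_dvd_prime_iff_eq hrp hp).1 (Nat.dvd_of_mod_eq_zero h))
  have hferm : (p % r) ^ (r - 1) % r = 1 := by
    have := Nat.ModEq.pow_totient ((Nat.coprime_primes hp hrp).2 (Ne.symm hne))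
    rw [Nat.totient_prime hrp, Nat.ModEq, Nat.one_mod_eq_one.mpr hrp.ne_one] at this
    rw [← Nat.pow_mod]; exact this
  refine ⟨p, a, hp, hc, rfl, ha0, ?_, hpr, (key _).1 hz, fun d hd h => ?_, hRc, hZ⟩
  · by_contra hlt
    exact hmin (r - 1) (by have := hrp.two_le; omega) (by omega) ((key _).2 hferm)
  · rw [Finset.mem_Ico] at hd
    exact hmin d hd.1 hd.2 ((key d).2 h)

/-- The numerical conditions of the sixth class in characteristic other than two. -/
theorem Class6.two_data (hF : Fintype.card F = q ^ 2) {k : ℕ} {R : Subgroup (GL (Fin n) F)}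
    (hR : Class6 n q 2 k R) :
    ∃ p : ℕ, p.Prime ∧ q = p ∧ p % 4 = 3 ∧ Nat.card R = 2 ^ (2 + 2 * k) ∧
      Nat.card (Subgroup.center R) = 4 := by
  obtain ⟨p, e, hne, ⟨hp, hc, hcard, hz, hmin⟩, hcase⟩ := hR.data
  rcases hcase with ⟨h, -⟩ | ⟨-, rfl, hZ, hRc⟩
  · exact absurd h (by decide)
  rw [hF] at hcard
  obtain rfl : q = p := Nat.pow_left_injective two_ne_zero hcard
  refine ⟨q, hp, rfl, ?_, hRc, hZ⟩
  have h1 := hmin 1 one_pos (by norm_num)
  rw [pow_one, hZ] at h1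
  rcases hp.eq_two_or_odd with h | h <;> omega

/-- The sixth class for an odd prime consists of isometries. -/
theorem Class6.le_GU (hF : Fintype.card F = q ^ 2) [NeZero n] {r k : ℕ}
    {R : Subgroup (GL (Fin n) F)} (hR : Class6 n q r k R) (hr : Odd r) : R ≤ GU n F q := by
  intro x hx
  obtain ⟨c, hc0, hcq, hc⟩ := isSim_of_mem_similarity hF (hR.le hx)
  obtain ⟨p, e, hne, ⟨hp, hcp, hcard, hz, hmin⟩, hcase⟩ := hR.data
  rcases hcase with ⟨-, hZ, -, -⟩ | ⟨h2, -⟩
  swap
  · subst h2; exact absurd hr (by decide)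
  have hexp : x ^ r = 1 := by
    have h := Monoid.pow_exponent_eq_one (⟨x, hx⟩ : R)
    have hg : Nat.gcd 2 r = 1 := hr.coprime_two_left
    rw [hR.sympType.exponent_eq, hg, mul_one] at h
    simpa using congrArg Subtype.val h
  have h1 := smul_one_pow x hF hc r
  rw [hexp, Units.val_one, mul_one, hst_one hF] at h1
  haveI : Nonempty (Fin n) := ⟨⟨0, NeZero.pos n⟩⟩
  have hcr : c ^ r = 1 := by
    have := congrFun (congrFun h1 ⟨0, NeZero.pos n⟩) ⟨0, NeZero.pos n⟩
    simpa using this.symm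
  have hcop : Nat.Coprime r (q - 1) := by
    rw [hR.sympType.prime.coprime_iff_not_dvd]
    intro hdvd
    rw [hF] at hcard
    obtain ⟨a, ha, rfl⟩ : ∃ a, a ≤ e ∧ q = p ^ a :=
      (Nat.dvd_prime_pow hp).1 ⟨q, by rw [← hcard, sq]⟩
    rw [← pow_mul] at hcard
    have he := Nat.pow_right_injective hp.two_le hcard
    have hq := two_le_q hF
    have ha0 : 0 < a := Nat.pos_of_ne_zero fun h => by simp [h] at hq
    exact hmin a ha0 (by omega) (hZ ▸ hdvd)
  have hcq1 : c ^ (q - 1) = 1 := by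
    refine mul_left_cancel₀ hc0 ?_
    rw [← pow_succ', Nat.sub_add_cancel (q_pos hF), hcq, mul_one]
  have hc1 : c = 1 := by
    have h := pow_gcd_eq_one.2 ⟨hcr, hcq1⟩
    rwa [hcop.gcd_eq_one, pow_one] at h
  rw [mem_GU_iff_hst hF, hc, hc1, one_smul]

end Cfsg.Agent.Unitary.Asch

namespace Cfsg.Agent.Unitary.Asch

open scoped MatrixGroups Matrix
open Cfsg Cfsg.Geo Cfsg.Agent.Unitary Matrix

lemma divisors_cases {t k m : ℕ} (h : t * k = m) (hm : 0 < m) :
    (t, k) ∈ (Finset.Icc 1 m).biUnion (fun d => if d ∣ m then {(d, m / d)} else ∅) := by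
  have ht : 0 < t := Nat.pos_of_ne_zero fun h0 => by subst h0; simp at h; omega
  simp only [Finset.mem_biUnion, Finset.mem_Icc]
  refine ⟨t, ⟨ht, Nat.le_of_dvd hm ⟨k, h.symm⟩⟩, ?_⟩
  rw [if_pos ⟨k, h.symm⟩, Finset.mem_singleton, ← h, Nat.mul_div_cancel_left k ht]

lemma prime_pow_cases {r k m : ℕ} (hk : 1 ≤ k) (h : m = r ^ k) (hm : 1 < m) :
    r ∈ (Finset.Icc 2 m).filter (· ∣ m) ∧ k < m := by
  have hr : 2 ≤ r := by
    by_contra hr
    have : r ^ k ≤ 1 := Nat.pow_le_one_iff (by omega) |>.2 (by omega)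
    omega
  have hdvd : r ∣ m := h ▸ dvd_pow_self r (by omega)
  refine ⟨Finset.mem_filter.2 ⟨Finset.mem_Icc.2 ⟨hr, Nat.le_of_dvd (by omega) hdvd⟩, hdvd⟩, ?_⟩
  calc k < 2 ^ k := Nat.lt_two_pow_self
    _ ≤ r ^ k := Nat.pow_le_pow_left hr k
    _ = m := h.symm

end Cfsg.Agent.Unitary.Asch
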