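/-
In three dimensions a subfield group of index two and orthogonal type is, up to conjugation by an
isometry and scalars, made of rational orthogonal matrices of determinant one.
-/
import Cfsg.Agent.Unitary.AschMaximal
import Cfsg.Agent.Symplectic.OrbitBound

set_option autoImplicit false
set_option maxHeartbeats 1000000
set_option linter.unusedSectionVars false
set_option linter.style.haveILetI false

namespace Cfsg.Agent.Unitary.Asch

open scoped MatrixGroups Matrix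
open Cfsg Cfsg.Geo Cfsg.Agent.Unitary Matrix

section congr

variable {K : Type*} [Field K] [Fintype K]

lemma sq_class_two (h2 : ringChar K ≠ 2) {a b : K} (ha : a ≠ 0) (hna : ¬ IsSquare a)
    (hnb : ¬ IsSquare b) : IsSquare (a * b) := by
  classical
  by_cases hb : b = 0
  · exact ⟨0, by simp [hb]⟩
  rw [← quadraticChar_one_iff_isSquare (mul_ne_zero ha hb), map_mul,
    quadraticChar_neg_one_iff_not_isSquare.2 hna, quadraticChar_neg_one_iff_not_isSquare.2 hnb]
  norm_num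

/-- A non-singular diagonal form in three variables is congruent to a scalar one. -/
theorem exists_scalar_cong_diag (h2 : (2 : K) ≠ 0) (c : Fin 3 → K) (hc : ∀ i, c i ≠ 0) :
    ∃ (B : Matrix (Fin 3) (Fin 3) K) (μ : K), μ ≠ 0 ∧ Bᵀ * Matrix.diagonal c * B = μ • 1 := by
  classical
  have hchar : ringChar K ≠ 2 := fun h => h2 (by
    have := ringChar.Nat.cast_ringChar (R := K); rw [h] at this; exact_mod_cast this)
  obtain ⟨σ, hσ⟩ : ∃ σ : Equiv.Perm (Fin 3), IsSquare (c (σ 0) * c (σ 1)) := by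
    by_cases h0 : IsSquare (c 0) <;> by_cases h1 : IsSquare (c 1)
    · exact ⟨1, h0.mul h1⟩
    · by_cases h3 : IsSquare (c 2)
      · exact ⟨Equiv.swap 1 2, by simpa [Equiv.swap_apply_def] using h0.mul h3⟩
      · exact ⟨Equiv.swap 0 2, by
          simpa [Equiv.swap_apply_def] using sq_class_two hchar (hc 2) h3 h1⟩
    · by_cases h3 : IsSquare (c 2)
      · exact ⟨Equiv.swap 0 2, by simpa [Equiv.swap_apply_def] using h3.mul h1⟩
      · exact ⟨Equiv.swap 1 2, by
          simpa [Equiv.swap_apply_def] using sq_class_two hchar (hc 0) h0 h3⟩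
    · exact ⟨1, sq_class_two hchar (hc 0) h0 h1⟩
  obtain ⟨k, hk⟩ := hσ
  have ha := hc (σ 0)
  have hb := hc (σ 1)
  obtain ⟨a, b, e, hc'⟩ : ∃ a b e : K, a = c (σ 0) ∧ b = c (σ 1) ∧ e = c (σ 2) := ⟨_, _, _, rfl, rfl, rfl⟩
  obtain ⟨rfl, rfl, rfl⟩ := hc'
  obtain ⟨x, y, hxy⟩ : ∃ x y : K, x ^ 2 + y ^ 2 = c (σ 2) / c (σ 0) := by
    obtain ⟨x, y, hxy⟩ := FiniteField.exists_root_sum_quadratic (R := K) (f := Polynomial.X ^ 2)
      (g := Polynomial.X ^ 2 - Polynomial.C (c (σ 2) / c (σ 0))) (Polynomial.degree_X_pow 2)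
      (Polynomial.degree_X_pow_sub_C (by norm_num) _)
      (FiniteField.odd_card_of_char_ne_two hchar)
    simp only [Polynomial.eval_pow, Polynomial.eval_X, Polynomial.eval_sub, Polynomial.eval_C] at hxy
    exact ⟨x, y, by linear_combination hxy⟩
  have hk0 : k ≠ 0 := fun h => mul_ne_zero ha hb (by rw [hk, h, mul_zero])
  -- the squares are `a`, `b (a / k) ^ 2 = a`, `e`
  let Pσ : Matrix (Fin 3) (Fin 3) K := Matrix.of fun i j => if i = σ j then 1 else 0
  have hP : Pσᵀ * Matrix.diagonal c * Pσ = Matrix.diagonal fun j => c (σ j) := by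
    ext i j
    by_cases hij : i = j
    · subst hij; simp [Pσ, Matrix.mul_apply, Matrix.diagonal_apply]
    · simp [Pσ, Matrix.mul_apply, Matrix.diagonal_apply, hij, Ne.symm hij, σ.injective.ne hij]
  let s := c (σ 0) / k
  let R : Matrix (Fin 3) (Fin 3) K := !![x, -y, 0; s * y, s * x, 0; 0, 0, 1]
  refine ⟨Pσ * R, c (σ 2), hc _, ?_⟩
  rw [Matrix.transpose_mul, show Rᵀ * Pσᵀ * Matrix.diagonal c * (Pσ * R) =
    Rᵀ * (Pσᵀ * Matrix.diagonal c * Pσ) * R by simp only [mul_assoc], hP]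
  have hs : c (σ 1) * (s * s) = c (σ 0) := by
    simp only [s]; field_simp; linear_combination hk
  have he : c (σ 0) * (x ^ 2 + y ^ 2) = c (σ 2) := by
    rw [hxy]; field_simp
  ext i j
  fin_cases i <;> fin_cases j <;>
    simp [R, Matrix.mul_apply, Fin.sum_univ_three, Matrix.vecHead, Matrix.vecTail] <;>
    first
    | linear_combination he + y ^ 2 * hs
    | linear_combination he + x ^ 2 * hs
    | linear_combination x * y * hs
    | linear_combination (-(x * y)) * hs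

end congr

variable {F : Type*} [Field F] [Fintype F] {q : ℕ}

/-- The normal form. -/
theorem subOrth_normal (hF : Fintype.card F = q ^ 2) (hodd : Odd q) {F₀ : Subfield F}
    (hcard : Fintype.card F = Nat.card F₀ ^ 2) {P : GL (Fin 3) F}
    (hP : IsFormRationalStructure (hermForm 3 F q) F₀ 1 P) :
    ∃ U ∈ GU 3 F q, ∀ h ∈ subfieldSubgroup F₀ P ⊓ SUg 3 F q,
      ∃ (l : F) (R : Matrix (Fin 3) (Fin 3) F), (∀ i j, R i j ^ q = R i j) ∧ R * Rᵀ = 1 ∧ R.det = 1 ∧
        ((U * h * U⁻¹ : GL (Fin 3) F) : Matrix (Fin 3) (Fin 3) F) = l • R := by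
  classical
  obtain ⟨p, a, hp, ha, hc, hq⟩ := exists_char_pow hF
  have h2 : (2 : F) ≠ 0 := by
    rw [show (2 : F) = ((2 : ℕ) : F) by norm_num, Ne, CharP.cast_eq_zero_iff F p]
    intro h
    obtain rfl := (Nat.prime_dvd_prime_iff_eq hp Nat.prime_two).1 h
    rw [hq] at hodd
    exact absurd hodd (Nat.not_odd_iff_even.2 (Nat.even_pow.2 ⟨even_two, ha.ne'⟩))
  have h20 : (2 : F₀) ≠ 0 := fun h => h2 (by have := congrArg Subtype.val h; exact this)
  haveI : Fintype F₀ := Fintype.ofFinite _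
  have hfix : ∀ x ∈ F₀, x ^ q = x := fun x hx => (mem_subfield_iff hF F₀ hcard x).1 hx
  set G := gramP q (P : Matrix (Fin 3) (Fin 3) F) with hG
  have hent : ∀ i j, G i j ∈ F₀ := by
    intro i j
    have hr : ∀ l : Fin 3, ∀ k, (Pi.single l (1 : F) : Fin 3 → F) k ∈ F₀ := fun l k => by
      rw [Pi.single_apply]; split_ifs; exacts [F₀.one_mem, F₀.zero_mem]
    have := hP _ _ (hr i) (hr j)
    rw [one_mul, herm_mulVec_gramP hF,
      show (fun k => (Pi.single j (1 : F) : Fin 3 → F) k ^ q) = Pi.single j 1 from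
        funext fun k => hfix _ (hr j k)] at this
    simpa [Matrix.mulVec_single_one] using this
  let G0 : Matrix (Fin 3) (Fin 3) F₀ := Matrix.of fun i j => ⟨G i j, hent i j⟩
  let ι : F₀ →+* F := F₀.subtype
  have hιG : G0.map ι = G := rfl
  have hsymm : G0.IsSymm := by
    refine Matrix.ext fun i j => Subtype.ext ?_
    show G j i = G i j
    have := congrFun (congrFun (hst_gramP hF (P : Matrix (Fin 3) (Fin 3) F)) i) j
    rwa [hst_apply, hfix _ (hent j i)] at this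
  obtain ⟨B, c, hBc⟩ := Symplectic.exists_diagonal_cong h20 G0 hsymm
  have hGu : IsUnit G := isUnit_gramP hF P
  have hdet0 : G0.det ≠ 0 := fun h => by
    have : G.det = 0 := by rw [← hιG, ← RingHom.mapMatrix_apply, ← RingHom.map_det, h, map_zero]
    exact ((Matrix.isUnit_iff_isUnit_det _).1 hGu).ne_zero this
  have hcne : ∀ i, c i ≠ 0 := by
    intro i hi
    have h1 := congrArg Matrix.det hBc
    rw [Matrix.det_diagonal, Finset.prod_eq_zero (Finset.mem_univ i) hi, Symplectic.cong,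
      Matrix.det_mul, Matrix.det_mul, Matrix.det_transpose] at h1
    have hB0 : (B : Matrix (Fin 3) (Fin 3) F₀).det ≠ 0 :=
      ((Matrix.isUnit_iff_isUnit_det _).1 B.isUnit).ne_zero
    exact mul_ne_zero (mul_ne_zero hB0 hdet0) hB0 h1
  obtain ⟨B', μ, hμ, hB'⟩ := exists_scalar_cong_diag h20 c hcne
  set M0 : Matrix (Fin 3) (Fin 3) F₀ := (B : Matrix (Fin 3) (Fin 3) F₀) * B' with hM0
  have hMG : M0ᵀ * G0 * M0 = μ • 1 := by
    rw [← hB', ← hBc, Symplectic.cong, hM0, Matrix.transpose_mul]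
    simp only [mul_assoc]
  have hM0u : IsUnit M0 := by
    rw [Matrix.isUnit_iff_isUnit_det, isUnit_iff_ne_zero]
    intro h
    have h1 := congrArg Matrix.det hMG
    rw [Matrix.det_mul, h, mul_zero, Matrix.det_smul, Matrix.det_one, mul_one] at h1
    exact pow_ne_zero _ hμ h1.symm
  let Mg : GL (Fin 3) F₀ := hM0u.unit
  let M : GL (Fin 3) F := Matrix.GeneralLinearGroup.map ι Mg
  have hMv : (M : Matrix (Fin 3) (Fin 3) F) = M0.map ι := rfl
  have hMfix : (M : Matrix (Fin 3) (Fin 3) F).map (fun x => x ^ q) = (M : Matrix (Fin 3) (Fin 3) F) := by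
    ext i j; exact hfix _ (M0 i j).2
  have hPM : gramP q ((P : Matrix (Fin 3) (Fin 3) F) * (M : Matrix (Fin 3) (Fin 3) F)) = (μ : F) • 1 := by
    rw [gramP, Matrix.transpose_mul,
      show ((P : Matrix (Fin 3) (Fin 3) F) * (M : Matrix (Fin 3) (Fin 3) F)).map (fun x => x ^ q) =
        (P : Matrix (Fin 3) (Fin 3) F).map (fun x => x ^ q) *
          (M : Matrix (Fin 3) (Fin 3) F).map (fun x => x ^ q) from
        Matrix.map_mul (f := (frob hF).toRingHom), hMfix]
    calc _ = (M : Matrix (Fin 3) (Fin 3) F)ᵀ * G * (M : Matrix (Fin 3) (Fin 3) F) := by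
            rw [hG, gramP]; simp only [mul_assoc]
      _ = (M0ᵀ * G0 * M0).map ι := by rw [Matrix.map_mul, Matrix.map_mul, hιG, hMv, Matrix.transpose_map]
      _ = _ := by rw [hMG]; ext i j; by_cases h : i = j <;> simp [h, ι]
  have hμq : (μ : F) ^ q = μ := hfix _ μ.2
  obtain ⟨s, hs⟩ := exists_norm_eq hF (a := (μ : F)⁻¹) (by rw [inv_pow, hμq])
  have hμ0 : (μ : F) ≠ 0 := fun h => hμ (Subtype.ext h)
  have hs0 : s ≠ 0 := fun h => by rw [h, zero_mul] at hs; exact inv_ne_zero hμ0 hs.symm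
  let S : GL (Fin 3) F := ⟨s • 1, s⁻¹ • 1,
    by rw [smul_mul_smul_comm, mul_inv_cancel₀ hs0, one_mul, one_smul],
    by rw [smul_mul_smul_comm, inv_mul_cancel₀ hs0, one_mul, one_smul]⟩
  set U : GL (Fin 3) F := P * M * S with hU
  have hUU : U ∈ GU 3 F q := by
    rw [mem_GU_iff]
    intro u v
    have hSv : ∀ w : Fin 3 → F, (U : Matrix (Fin 3) (Fin 3) F) *ᵥ w =
        s • (((P : Matrix (Fin 3) (Fin 3) F) * (M : Matrix (Fin 3) (Fin 3) F)) *ᵥ w) := fun w => by
      show ((P : Matrix (Fin 3) (Fin 3) F) * (M : Matrix (Fin 3) (Fin 3) F) * (s • 1)) *ᵥ w = _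
      rw [Matrix.mul_smul, mul_one, Matrix.smul_mulVec]
    rw [hSv, hSv, herm_smul_left, herm_smul_right, herm_mulVec_gramP hF, hPM, Matrix.smul_mulVec,
      Matrix.one_mulVec, dotProduct_smul, smul_eq_mul, ← mul_assoc, ← mul_assoc, hs,
      inv_mul_cancel₀ hμ0, one_mul]
    rfl
  refine ⟨U⁻¹, (GU 3 F q).inv_mem hUU, fun h hh => ?_⟩
  obtain ⟨l, g₀, hval⟩ : ∃ (l : Fˣ) (g₀ : GL (Fin 3) F₀),
      ((P⁻¹ * h * P : GL (Fin 3) F) : Matrix (Fin 3) (Fin 3) F) =
        (l : F) • ((Matrix.GeneralLinearGroup.map ι g₀ : GL (Fin 3) F) : Matrix (Fin 3) (Fin 3) F) := by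
    obtain ⟨y, hy, hyh⟩ := hh.1
    obtain ⟨_, ⟨g₀, rfl⟩, z, hz, hyz⟩ :=
      (Subgroup.mem_sup_of_normal_right (ht := scalars_normal)).1 hy
    obtain ⟨l, hl⟩ := (mem_scalars_iff z).mp hz
    refine ⟨l, g₀, ?_⟩
    have : P⁻¹ * h * P = y := by rw [← hyh]; show P⁻¹ * (P * y * P⁻¹) * P = y; group
    rw [this, ← hyz, Units.val_mul, hl, Matrix.mul_smul, mul_one]
  -- the rational matrix in the new basis
  set R₀ : Matrix (Fin 3) (Fin 3) F := ((M⁻¹ * Matrix.GeneralLinearGroup.map ι g₀ * M : GL (Fin 3) F) :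
    Matrix (Fin 3) (Fin 3) F) with hR₀
  have hR₀fix : ∀ i j, R₀ i j ^ q = R₀ i j := by
    intro i j
    have : R₀ = ((Mg⁻¹ * g₀ * Mg : GL (Fin 3) F₀) : Matrix (Fin 3) (Fin 3) F₀).map ι := by
      rw [hR₀, show M⁻¹ * Matrix.GeneralLinearGroup.map ι g₀ * M =
        Matrix.GeneralLinearGroup.map ι (Mg⁻¹ * g₀ * Mg) by simp [M]]
      rfl
    rw [this]
    exact hfix _ (Subtype.mem _)
  have hk : ((U⁻¹ * h * U⁻¹⁻¹ : GL (Fin 3) F) : Matrix (Fin 3) (Fin 3) F) = (l : F) • R₀ := by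
    have e : U⁻¹ * h * U⁻¹⁻¹ = S⁻¹ * (M⁻¹ * (P⁻¹ * h * P) * M) * S := by rw [hU]; group
    rw [e, Units.val_mul, Units.val_mul]
    show (s⁻¹ • 1) * _ * (s • 1) = _
    rw [smul_mul_assoc, one_mul, Matrix.mul_smul, mul_one, smul_smul, mul_inv_cancel₀ hs0, one_smul]
    rw [Units.val_mul, Units.val_mul, hval, hR₀, Units.val_mul, Units.val_mul]
    simp
  have hkU : U⁻¹ * h * U⁻¹⁻¹ ∈ GU 3 F q :=
    (GU 3 F q).mul_mem ((GU 3 F q).mul_mem ((GU 3 F q).inv_mem hUU) hh.2.1) (by rw [inv_inv]; exact hUU)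
  have hhst : hst q R₀ = R₀ᵀ := by
    ext i j; rw [hst_apply, hR₀fix]; rfl
  have horth : ((l : F) ^ q * l) • (R₀ᵀ * R₀) = 1 := by
    have := (mem_GU_iff_hst hF).1 hkU
    rw [hk, hst_smul, hhst, smul_mul_smul_comm] at this
    exact this
  set ν := (l : F) ^ q * l with hν
  have hνq : ν ^ q = ν := by rw [hν, mul_pow, pow_q_q hF, mul_comm]
  have hdet : ν ^ 3 * R₀.det ^ 2 = 1 := by
    have := congrArg Matrix.det horth
    rwa [Matrix.det_smul, Matrix.det_one, Matrix.det_mul, Matrix.det_transpose, ← sq,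
      Fintype.card_fin] at this
  have hν0 : ν ≠ 0 := fun h => by rw [h] at hdet; simp at hdet
  -- the multiplier is a rational square
  set w := (ν * R₀.det)⁻¹ with hw
  have hd0 : R₀.det ≠ 0 := fun h => by rw [h] at hdet; simp at hdet
  have hwν : w ^ 2 = ν := by
    rw [hw, inv_pow, inv_eq_iff_eq_inv, ← mul_eq_one_iff_eq_inv₀ hν0]
    linear_combination hdet
  have hdq : R₀.det ^ q = R₀.det := by
    have := (frob hF).toRingHom.map_det R₀
    rw [show (frob hF).toRingHom.mapMatrix R₀ = R₀ from Matrix.ext hR₀fix] at this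
    exact this
  have hwq : w ^ q = w := by rw [hw, inv_pow, mul_pow, hνq, hdq]
  set R := w • R₀ with hR
  have hRR : Rᵀ * R = 1 := by
    rw [hR, Matrix.transpose_smul, smul_mul_smul_comm, ← sq, hwν, horth]
  have hRdet : R.det ^ 2 = 1 := by
    have := congrArg Matrix.det hRR
    rwa [Matrix.det_mul, Matrix.det_transpose, Matrix.det_one, ← sq] at this
  have hw0 : w ≠ 0 := inv_ne_zero (mul_ne_zero hν0 hd0)
  have hd1 : R.det = 1 ∨ R.det = -1 := sq_eq_one_iff.1 hRdet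
  rcases hd1 with hd | hd
  · refine ⟨l * w⁻¹, R, fun i j => ?_, mul_eq_one_comm.1 hRR, hd, ?_⟩
    · simp [hR, mul_pow, hwq, hR₀fix]
    · rw [hk, hR, smul_smul, mul_assoc, inv_mul_cancel₀ hw0, mul_one]
  · refine ⟨-(l * w⁻¹), -R, fun i j => ?_, ?_, ?_, ?_⟩
    · simp [hR, hodd.neg_pow, mul_pow, hwq, hR₀fix]
    · rw [Matrix.transpose_neg, neg_mul_neg, mul_eq_one_comm.1 hRR]
    · rw [Matrix.det_neg, hd]; norm_num
    · rw [hk, hR, neg_smul, smul_neg, neg_neg, smul_smul, mul_assoc, inv_mul_cancel₀ hw0, mul_one]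

end Cfsg.Agent.Unitary.Asch
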