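/-
In six dimensions over the field with four elements the normaliser of an adjoint-closed field of
degree three, cut by the special unitary group, preserves an alternating form up to scalars.
-/
import Cfsg.Agent.Unitary.AschForms
import Cfsg.Agent.Unitary.AschField
import Cfsg.Agent.Unitary.AschNineTwo

set_option autoImplicit false
set_option maxHeartbeats 1000000
set_option linter.unusedSectionVars false
set_option linter.style.haveILetI false

namespace Cfsg.Agent.Unitary.Asch

open scoped MatrixGroups Matrix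
open Cfsg Cfsg.Geo Cfsg.Agent.Unitary Matrix

variable {F : Type*} [Field F] [Fintype F] {n q : ℕ}

lemma starClosed_of_isAdjointClosedFor (hF : Fintype.card F = q ^ 2)
    {K : Subalgebra F (Matrix (Fin n) (Fin n) F)}
    (hK : IsAdjointClosedFor (hermForm n F q) K) : StarClosed q K := by
  intro X hX
  obtain ⟨Y, hY, hXY⟩ := hK X hX
  have : hst q X = Y := matrix_ext_herm hF fun u v => by rw [← herm_mulVec_left hF, hXY]
  exact this ▸ hY

lemma pow_three_of_norm {M : Type*} [Monoid M] {x : M} {j : ℕ} (h1 : x ^ 21 = 1)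
    (h2 : x ^ (2 ^ j + 1) = 1) : x ^ 3 = 1 := by
  have h7 : ∀ j : ℕ, (2 ^ j + 1) % 7 ≠ 0 := by
    intro j
    induction j using Nat.strong_induction_on with
    | _ j ih =>
      rcases Nat.lt_or_ge j 3 with hj | hj
      · interval_cases j <;> decide
      · have h := ih (j - 3) (by omega)
        rw [show j = (j - 3) + 3 by omega, pow_add]
        omega
  have h3 : x ^ Nat.gcd 21 (2 ^ j + 1) = 1 := pow_gcd_eq_one.2 ⟨h1, h2⟩
  have hd : Nat.gcd 21 (2 ^ j + 1) ∣ 3 := by
    have h21 := Nat.gcd_dvd_left 21 (2 ^ j + 1)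
    have h := Nat.gcd_dvd_right 21 (2 ^ j + 1)
    have hle := Nat.le_of_dvd (by norm_num) h21
    have := h7 j
    generalize Nat.gcd 21 (2 ^ j + 1) = d at h21 h hle
    interval_cases d <;> omega
  obtain ⟨c, hc⟩ := hd
  rw [hc, pow_mul, h3, one_pow]

theorem field_six_core (hF : Fintype.card F = 2 ^ 2) {K : Type*} [Field K] [Fintype K]
    [Algebra F K] [Module K (Fin 6 → F)] [IsScalarTower F K (Fin 6 → F)]
    (hbasis : Module.finrank F K = 3) (τ : K ≃+* K) (hττ : ∀ x, τ (τ x) = x)
    (hτsmul : ∀ (c : F) (x : K), τ (c • x) = c ^ 2 • τ x)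
    (hadj : ∀ (k : K) u v, hermForm 6 F 2 (k • u) v = hermForm 6 F 2 u (τ k • v))
    {H : Subgroup (GL (Fin 6) F)} (hH : H ≤ GU 6 F 2 ⊓ specialLinear (Fin 6) F)
    (hsem : ∀ h ∈ H, ∃ θ : K ≃ₐ[F] K, (∀ x, τ (θ x) = θ (τ x)) ∧ ∀ (k : K) v,
      (h : Matrix (Fin 6) (Fin 6) F) *ᵥ (k • v) = θ k • ((h : Matrix (Fin 6) (Fin 6) F) *ᵥ v)) :
    InClass5 2 H := by
  classical
  haveI : Fact (Nat.Prime 2) := ⟨Nat.prime_two⟩
  haveI : FiniteDimensional F K := Module.Finite.of_finite
  haveI : FiniteDimensional K (Fin 6 → F) := Module.Finite.of_finite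
  haveI hcF : CharP F 2 := by
    haveI := ringChar.charP F
    exact (ringChar.eq_iff.1 ((CharP.ringChar_of_prime_eq_zero Nat.prime_two
      (by exact_mod_cast Heis.two_zero hF)) : ringChar F = 2))
  haveI hcK : CharP K 2 := charP_of_injective_algebraMap (algebraMap F K).injective 2
  have hcardK : Fintype.card K = 64 := by
    rw [Module.card_eq_pow_finrank (K := F) (V := K), hbasis, hF]; norm_num
  have hτalg : ∀ c : F, τ (algebraMap F K c) = algebraMap F K (c ^ 2) := fun c => by
    rw [Algebra.algebraMap_eq_smul_one, hτsmul, map_one, ← Algebra.algebraMap_eq_smul_one]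
  let tr := Algebra.trace F K
  have htrτ : ∀ x, tr (τ x) = tr x ^ 2 := by
    intro x
    apply (algebraMap F K).injective
    rw [← hτalg, FiniteField.algebraMap_trace_eq_sum_pow, FiniteField.algebraMap_trace_eq_sum_pow,
      map_sum]
    exact Finset.sum_congr rfl fun i _ => (map_pow τ _ _).symm
  have hnd : ∀ x y : K, (∀ k, tr (k * x) = tr (k * y)) → x = y := by
    intro x y h
    refine sub_eq_zero.1 ((traceForm_nondegenerate F K).1 (x - y) fun k => ?_)
    rw [Algebra.traceForm_apply, mul_comm, mul_sub, map_sub, h, sub_self]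
  -- the hermitian form over `K`
  have hΦex : ∀ u v : Fin 6 → F, ∃ z : K, ∀ k : K, hermForm 6 F 2 (k • u) v = tr (k * z) := by
    intro u v
    let φ : K →ₗ[F] F :=
      { toFun := fun k => hermForm 6 F 2 (k • u) v
        map_add' := fun a b => by rw [add_smul, herm_add_left]
        map_smul' := fun c a => by rw [smul_assoc, herm_smul_left]; rfl }
    refine ⟨((Algebra.traceForm F K).toDual (traceForm_nondegenerate F K)).symm φ, fun k => ?_⟩
    rw [mul_comm, ← Algebra.traceForm_apply, LinearMap.BilinForm.apply_toDual_symm_apply]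
    rfl
  choose Φ hΦ using hΦex
  have hf : ∀ u v, hermForm 6 F 2 u v = tr (Φ u v) := fun u v => by
    have := hΦ u v 1
    rwa [one_smul, one_mul] at this
  have hΦadd : ∀ u u' v, Φ (u + u') v = Φ u v + Φ u' v := fun u u' v => hnd _ _ fun k => by
    rw [← hΦ, smul_add, herm_add_left, hΦ, hΦ, mul_add, map_add]
  have hΦsmul : ∀ (a : K) u v, Φ (a • u) v = a * Φ u v := fun a u v => hnd _ _ fun k => by
    rw [← hΦ, smul_smul, hΦ, mul_assoc]
  have hswap : ∀ u v, Φ v u = τ (Φ u v) := fun u v => hnd _ _ fun k => by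
    rw [← hΦ, hadj, ← herm_swap hF, hΦ, ← htrτ, map_mul, hττ]
  have hΦadd' : ∀ u v v', Φ u (v + v') = Φ u v + Φ u v' := fun u v v' => by
    rw [hswap (v + v') u, hΦadd, map_add, ← hswap, ← hswap]
  have hΦsmul' : ∀ (a : K) u v, Φ u (a • v) = τ a * Φ u v := fun a u v => by
    rw [hswap (a • v) u, hΦsmul, map_mul, ← hswap]
  have hΦext : ∀ v, (∀ u, Φ u v = 0) → v = 0 := fun v h =>
    eq_zero_of_forall_left hF fun u => by rw [hf, h, map_zero]
  -- square roots in the fixed field of the adjoint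
  have hroot : ∀ a : K, τ a = a → ∃ b : K, b * b = a ∧ τ b = b := fun a ha =>
    ⟨a ^ 32, by rw [← pow_add, show (32 : ℕ) + 32 = Fintype.card K by rw [hcardK]]; exact FiniteField.pow_card a,
      by rw [map_pow, ha]⟩
  have hnormalise : ∀ v, Φ v v ≠ 0 → ∃ e, (∃ c : K, e = c • v) ∧ Φ e e = 1 := by
    intro v hv
    obtain ⟨b, hb, hbτ⟩ := hroot _ (hswap v v).symm
    have hb0 : b ≠ 0 := fun h => hv (by rw [← hb, h, zero_mul])
    refine ⟨b⁻¹ • v, ⟨_, rfl⟩, ?_⟩
    rw [hΦsmul, hΦsmul', map_inv₀, hbτ, ← hb, ← mul_assoc b⁻¹, ← mul_assoc (b⁻¹ * b⁻¹)]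
    field_simp
  have hrank : Module.finrank K (Fin 6 → F) = 2 := by
    have := Module.finrank_mul_finrank F K (Fin 6 → F)
    rw [hbasis, Module.finrank_fin_fun] at this
    omega
  obtain ⟨e₁, -, he₁⟩ := hnormalise (Pi.single 0 1) fun h => by
    have := hf (Pi.single 0 1) (Pi.single 0 1)
    rw [h, map_zero, herm_single_single hF, if_pos rfl] at this
    exact one_ne_zero this
  obtain ⟨e₂, hΦ12, he₂⟩ : ∃ e₂, Φ e₂ e₁ = 0 ∧ Φ e₂ e₂ = 1 := by
    obtain ⟨w, hw⟩ : ∃ w, w ∉ Submodule.span K {e₁} := by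
      by_contra h
      push Not at h
      have h1 := finrank_span_le_card (R := K) ({e₁} : Set (Fin 6 → F))
      rw [Submodule.eq_top_iff'.2 h, finrank_top, hrank] at h1
      simp at h1
    set w' := w + (-(Φ w e₁)) • e₁ with hw'
    have hw'1 : Φ w' e₁ = 0 := by rw [hw', hΦadd, hΦsmul, he₁, mul_one, add_neg_cancel]
    have hw'0 : Φ w' w' ≠ 0 := by
      intro h0
      have hwne : w' ≠ 0 := fun h => hw (by
        have hw0 : w = Φ w e₁ • e₁ := by
          rw [hw', neg_smul, ← sub_eq_add_neg, sub_eq_zero] at h; exact h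
        rw [hw0]
        exact Submodule.smul_mem _ _ (Submodule.mem_span_singleton_self _))
      have he1 : e₁ ≠ 0 := fun h => by
        have := he₁
        rw [h, ← zero_smul K e₁, hΦsmul, zero_mul] at this
        exact zero_ne_one this
      have hind : LinearIndependent K ![e₁, w'] := by
        rw [LinearIndependent.pair_iff' he1]
        intro a ha
        rw [← ha, hΦsmul, he₁, mul_one] at hw'1
        exact hwne (by rw [← ha, hw'1, zero_smul])
      let B := basisOfLinearIndependentOfCardEqFinrank hind (by rw [hrank]; rfl)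
      refine hwne (hΦext _ fun u => ?_)
      rw [← B.sum_repr u, Fin.sum_univ_two, hΦadd, hΦsmul, hΦsmul,
        coe_basisOfLinearIndependentOfCardEqFinrank]
      simp [h0, hswap w' e₁, hw'1]
    obtain ⟨e, ⟨c, rfl⟩, he⟩ := hnormalise w' hw'0
    exact ⟨_, by rw [hΦsmul, hw'1, mul_zero], he⟩
  have hΦ21 : Φ e₁ e₂ = 0 := by rw [hswap e₂ e₁, hΦ12, map_zero]
  have hexp : ∀ v, v = Φ v e₁ • e₁ + Φ v e₂ • e₂ := by
    have hind : LinearIndependent K ![e₁, e₂] := by
      rw [LinearIndependent.pair_iff]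
      intro a b hab
      have h1 := congrArg (fun v => Φ v e₁) hab
      have h2 := congrArg (fun v => Φ v e₂) hab
      have h0 : ∀ x, Φ 0 x = 0 := fun x => by
        have := hΦsmul 0 0 x; rwa [zero_smul, zero_mul] at this
      simp only [hΦadd, hΦsmul, he₁, he₂, hΦ12, hΦ21, h0, mul_one, mul_zero, add_zero, zero_add] at h1 h2
      exact ⟨h1, h2⟩
    let B := basisOfLinearIndependentOfCardEqFinrank hind (by rw [hrank]; rfl)
    intro v
    have h := B.sum_repr v
    rw [Fin.sum_univ_two, coe_basisOfLinearIndependentOfCardEqFinrank] at h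
    simp only [Matrix.cons_val_zero, Matrix.cons_val_one] at h
    rw [← h]
    simp [hΦadd, hΦsmul, he₁, he₂, hΦ12, hΦ21]
  have h2F : (2 : F) = 0 := Heis.two_zero hF
  have h2K : (2 : K) = 0 := by exact_mod_cast CharP.cast_eq_zero K 2
  let coord : (Fin 6 → F) ≃ₗ[F] K × K :=
    { toFun := fun v => (Φ v e₁, Φ v e₂)
      invFun := fun p => p.1 • e₁ + p.2 • e₂
      left_inv := fun v => (hexp v).symm
      right_inv := fun p => by simp [hΦadd, hΦsmul, he₁, he₂, hΦ12, hΦ21]
      map_add' := fun u v => by simp [hΦadd]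
      map_smul' := fun c v => by
        have : ∀ x, Φ (c • v) x = c • Φ v x := fun x => by
          rw [← smul_one_smul K c v, hΦsmul, smul_one_mul]
        simp [this] }
  -- the semilinear involution
  let J : (Fin 6 → F) → (Fin 6 → F) := fun v => τ (Φ v e₂) • e₁ + τ (Φ v e₁) • e₂
  let D : (Fin 6 → F) → (Fin 6 → F) → K := fun u v => Φ u e₁ * Φ v e₂ + Φ u e₂ * Φ v e₁
  have hJ : ∀ u v, hermForm 6 F 2 u (J v) = tr (D u v) := fun u v => by
    rw [hf, hΦadd', hΦsmul', hΦsmul', hττ, hττ]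
    congr 1
    ring
  have hJJ : ∀ v, J (J v) = v := fun v => by
    conv_rhs => rw [hexp v]
    simp [J, hΦadd, hΦsmul, he₁, he₂, hΦ12, hΦ21, hττ]
  have hJadd : ∀ u v, J (u + v) = J u + J v := fun u v => by
    simp only [J, hΦadd, map_add, add_smul]; abel
  have hJsmul : ∀ (c : F) v, J (c • v) = c ^ 2 • J v := fun c v => by
    simp only [J]
    rw [← smul_one_smul K c v, hΦsmul, hΦsmul, smul_one_mul, smul_one_mul, hτsmul, hτsmul, smul_add,
      smul_assoc, smul_assoc]
  let C : Matrix (Fin 6) (Fin 6) F := Matrix.of fun i a => J (Pi.single a 1) i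
  have hC : ∀ v, J v = C *ᵥ fun i => v i ^ 2 := by
    intro v
    conv_lhs => rw [pi_eq_sum_univ' v]
    let Jh : (Fin 6 → F) →+ (Fin 6 → F) := AddMonoidHom.mk' J hJadd
    show Jh _ = _
    rw [map_sum]
    funext i
    simp [Jh, hJsmul, C, Matrix.mulVec, dotProduct, Finset.sum_apply, mul_comm]
  have hCC : C * C.map (fun x => x ^ 2) = 1 := by
    refine Matrix.ext_of_mulVec_single fun a => ?_
    rw [← Matrix.mulVec_mulVec, Matrix.one_mulVec]
    have h1 : C.map (fun x => x ^ 2) *ᵥ Pi.single a 1 = fun i => J (Pi.single a 1) i ^ 2 := by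
      funext i; simp [C]
    rw [h1, ← hC, hJJ]
  have hCC' : C.map (fun x => x ^ 2) * C = 1 := mul_eq_one_comm.mp hCC
  let A : GL (Fin 6) F := ⟨C.map fun x => x ^ 2, C, hCC', hCC⟩
  have hsq : ∀ x : F, (x ^ 2) ^ 2 = x := fun x => pow_q_q hF x
  have hmapmap : (C.map fun x => x ^ 2).map (fun x => x ^ 2) = C := by ext i j; exact hsq _
  refine class5_of_semilinear hF (by norm_num) A 1
    (by show (C.map fun x => x ^ 2).map (fun x => x ^ 2) * (C.map fun x => x ^ 2) = _
        rw [hmapmap, hCC, one_smul]) (Or.inr ?_) ?_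
  · have hent : ∀ i j, (C i j) ^ 2 = tr (D (Pi.single i 1) (Pi.single j 1)) := fun i j => by
      rw [← hJ]
      simp [hermForm, C, Pi.single_apply]
    refine ⟨fun i j => ?_, fun i => ?_⟩
    · show C i j ^ 2 = -(C j i ^ 2)
      rw [hent, hent, show D (Pi.single j 1) (Pi.single i 1) = D (Pi.single i 1) (Pi.single j 1) by
        simp only [D]; ring, neg_eq_of_add_eq_zero_left]
      rw [← two_mul, h2F, zero_mul]
    · show C i i ^ 2 = 0
      rw [hent, show D (Pi.single i 1) (Pi.single i 1) = 0 by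
        simp only [D]; rw [mul_comm (Φ _ e₂), ← two_mul, h2K, zero_mul], map_zero]
  intro h hh
  obtain ⟨hU, hd⟩ := hH hh
  obtain ⟨θ, hτθ, hsemi'⟩ := hsem h hh
  set hv : (Fin 6 → F) →ₗ[F] (Fin 6 → F) := Matrix.toLin' (h : Matrix (Fin 6) (Fin 6) F) with hhv
  have hsemi : ∀ (k : K) v, hv (k • v) = θ k • hv v := fun k v => by
    rw [hhv, Matrix.toLin'_apply, Matrix.toLin'_apply]; exact hsemi' k v
  have hform : ∀ u v, hermForm 6 F 2 (hv u) (hv v) = hermForm 6 F 2 u v := fun u v => by
    rw [hhv, Matrix.toLin'_apply, Matrix.toLin'_apply]; exact mem_GU_iff.1 hU u v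
  have hΦh : ∀ u v, Φ (hv u) (hv v) = θ (Φ u v) := fun u v => hnd _ _ fun k => by
    obtain ⟨k', rfl⟩ := θ.surjective k
    rw [← hΦ, ← hsemi, hform, hΦ, ← map_mul]
    exact (Algebra.trace_eq_of_algEquiv θ _).symm
  set a := Φ (hv e₁) e₁
  set b := Φ (hv e₂) e₁
  set c := Φ (hv e₁) e₂
  set d := Φ (hv e₂) e₂
  set δ := a * d + b * c with hδdef
  have hpair : ∀ u v, Φ u v = Φ u e₁ * τ (Φ v e₁) + Φ u e₂ * τ (Φ v e₂) := fun u v => by
    conv_lhs => rw [hexp v]
    rw [hΦadd', hΦsmul', hΦsmul']; ring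
  have E11 : a * τ a + c * τ c = 1 := by rw [← hpair, hΦh, he₁, map_one]
  have E22 : b * τ b + d * τ d = 1 := by rw [← hpair, hΦh, he₂, map_one]
  have E12 : a * τ b + c * τ d = 0 := by rw [← hpair, hΦh, hΦ21, map_zero]
  have E21 : b * τ a + d * τ c = 0 := by rw [← hpair, hΦh, hΦ12, map_zero]
  have hδτ : δ * τ δ = 1 := by
    rw [hδdef, map_add, map_mul, map_mul]
    linear_combination E22 + (b * τ b + d * τ d) * E11 - (b * τ a + d * τ c) * E12 +
      (a * τ b * (d * τ c) + b * τ a * (c * τ d)) * h2K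
  -- the determinant
  have hdetθ : ((θ.toLinearMap).det : F) = 1 := by
    let B := Module.finBasisOfFinrankEq F K hbasis
    let T : Matrix (Fin 3) (Fin 3) F := Matrix.of fun i j => B.repr (τ (B j)) i
    let M : Matrix (Fin 3) (Fin 3) F := LinearMap.toMatrix B B θ.toLinearMap
    let sσ : F →+* F := (frob hF).toRingHom
    have hτsum : ∀ x : K, B.repr (τ x) = fun i => ∑ l, T i l * (B.repr x l) ^ 2 := by
      intro x
      funext i
      conv_lhs => rw [← B.sum_repr x, map_sum, map_sum]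
      rw [Finset.sum_apply']
      exact Finset.sum_congr rfl fun l _ => by
        rw [hτsmul, map_smul, Finsupp.smul_apply, smul_eq_mul, mul_comm]; rfl
    have h1 : T * sσ.mapMatrix M = M * T := by
      ext i j
      have e1 := congrFun (hτsum (θ (B j))) i
      rw [hτθ] at e1
      have e2 : B.repr (θ (τ (B j))) i = ∑ l, M i l * T l j := by
        rw [show B.repr (θ (τ (B j))) = M *ᵥ B.repr (τ (B j)) from
          (LinearMap.toMatrix_mulVec_repr B B θ.toLinearMap _).symm]
        rfl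
      rw [Matrix.mul_apply, Matrix.mul_apply, ← e2, e1]
      exact Finset.sum_congr rfl fun l _ => by
        rw [RingHom.mapMatrix_apply, Matrix.map_apply]
        simp only [M, LinearMap.toMatrix_apply]
        rfl
    have hTT : T * sσ.mapMatrix T = 1 := by
      ext i j
      have e1 := congrFun (hτsum (τ (B j))) i
      rw [hττ, B.repr_self] at e1
      rw [Matrix.mul_apply, Matrix.one_apply]
      refine Eq.trans ?_ (e1.symm.trans (by rw [Finsupp.single_apply]; simp [eq_comm]))
      exact Finset.sum_congr rfl fun l _ => rfl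
    have hTdet : T.det ≠ 0 := by
      intro h0
      have := congrArg Matrix.det hTT
      rw [Matrix.det_mul, h0, zero_mul, Matrix.det_one] at this
      exact zero_ne_one this
    have h3 := congrArg Matrix.det h1
    rw [Matrix.det_mul, Matrix.det_mul, ← RingHom.map_det, mul_comm M.det] at h3
    have h4 : M.det ^ 2 = M.det := mul_left_cancel₀ hTdet h3
    have hM0 : M.det ≠ 0 := by
      rw [LinearMap.det_toMatrix]
      exact (LinearEquiv.isUnit_det' θ.toLinearEquiv).ne_zero
    rw [sq, mul_eq_left₀ hM0, LinearMap.det_toMatrix] at h4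
    exact h4
  let h0 : (K × K) →ₗ[K] (K × K) :=
    { toFun := fun p => (p.1 * a + p.2 * b, p.1 * c + p.2 * d)
      map_add' := fun p p' => by simp [add_mul]; constructor <;> ring
      map_smul' := fun k p => by simp [mul_add, mul_assoc] }
  have hcoord : (coord.toLinearMap ∘ₗ hv ∘ₗ coord.symm.toLinearMap) =
      (h0.restrictScalars F) ∘ₗ (θ.toLinearMap.prodMap θ.toLinearMap) := by
    refine LinearMap.ext fun p => ?_
    show (Φ (hv (p.1 • e₁ + p.2 • e₂)) e₁, Φ (hv (p.1 • e₁ + p.2 • e₂)) e₂) = _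
    rw [map_add, hsemi, hsemi, hΦadd, hΦadd, hΦsmul, hΦsmul, hΦsmul, hΦsmul]
    rfl
  have hdet0 : h0.det = δ := by
    rw [← LinearMap.det_toMatrix (Module.Basis.finTwoProd K), Matrix.det_fin_two]
    simp [LinearMap.toMatrix_apply, h0, hδdef, sub_eq_add_neg]
    linear_combination -(b * c) * h2K
  have hN1 : Algebra.norm F δ = 1 := by
    have h1 : hv.det = 1 := by
      rw [hhv, LinearMap.det_toLin']
      simpa using congrArg Units.val hd
    rw [← LinearMap.det_conj hv coord, hcoord, LinearMap.det_comp, LinearMap.det_restrictScalars,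
      hdet0, LinearMap.det_prodMap, hdetθ, mul_one, mul_one] at h1
    exact h1
  have h21 : δ ^ 21 = 1 := by
    have := congrArg (algebraMap F K) hN1
    rw [map_one, FiniteField.algebraMap_norm_eq_prod_pow, hbasis, Nat.card_eq_fintype_card, hF] at this
    rw [← this, Finset.prod_pow_eq_pow_sum]
    norm_num [Finset.sum_range_succ]
  obtain ⟨j, hj⟩ := exists_pow_char 2 τ
  have hδ3 : δ ^ 3 = 1 := pow_three_of_norm h21 (by rw [pow_succ', ← hj, hδτ])
  obtain ⟨κ, hκ⟩ : ∃ κ : F, δ = algebraMap F K κ := by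
    obtain ⟨w, hw0, hw1⟩ : ∃ w : F, w ≠ 0 ∧ w ≠ 1 := by
      by_contra hh
      push Not at hh
      have hle : Fintype.card F ≤ ({0, 1} : Finset F).card := by
        rw [← Finset.card_univ]
        refine Finset.card_le_card fun x _ => ?_
        by_cases hx : x = 0
        · simp [hx]
        · simp [hh x hx]
      rw [hF] at hle
      have := Finset.card_le_two (a := (0 : F)) (b := 1)
      omega
    set W := algebraMap F K w
    have hw3 : W ^ 3 = 1 := by rw [← map_pow, Heis.pow_three_of_ne hF hw0, map_one]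
    have hW1 : W - 1 ≠ 0 := sub_ne_zero.2 fun e => hw1 ((algebraMap F K).injective (by rw [map_one]; exact e))
    have hW : W ^ 2 + W + 1 = 0 :=
      (mul_eq_zero.1 (show (W - 1) * (W ^ 2 + W + 1) = 0 by linear_combination hw3)).resolve_left hW1
    have h : (δ - 1) * (δ - W) * (δ - W ^ 2) = 0 := by
      linear_combination hδ3 - hw3 + (W * δ - δ ^ 2) * hW
    rcases mul_eq_zero.1 h with h | h
    rcases mul_eq_zero.1 h with h | h
    · exact ⟨1, by rw [map_one]; exact sub_eq_zero.1 h⟩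
    · exact ⟨w, sub_eq_zero.1 h⟩
    · exact ⟨w ^ 2, by rw [map_pow]; exact sub_eq_zero.1 h⟩
  -- the alternating form is preserved up to `κ`
  have hDh : ∀ u v, D (hv u) (hv v) = δ * θ (D u v) := by
    intro u v
    have hc : ∀ u, Φ (hv u) e₁ = θ (Φ u e₁) * a + θ (Φ u e₂) * b ∧
        Φ (hv u) e₂ = θ (Φ u e₁) * c + θ (Φ u e₂) * d := fun u => by
      constructor <;> (conv_lhs => rw [hexp u]) <;> rw [map_add, hsemi, hsemi, hΦadd, hΦsmul, hΦsmul]
    simp only [D, (hc u).1, (hc u).2, (hc v).1, (hc v).2, map_add, map_mul, hδdef]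
    linear_combination (θ (Φ u e₁) * θ (Φ v e₁) * a * c + θ (Φ u e₂) * θ (Φ v e₂) * b * d) * h2K
  have hcomm : ∀ v, J (hv v) = κ ^ 2 • hv (J v) := fun v => by
    refine sub_eq_zero.1 (eq_zero_of_forall_left hF fun u => ?_)
    obtain ⟨u, rfl⟩ : ∃ w, hv w = u := ⟨((h⁻¹ : GL (Fin 6) F) : Matrix (Fin 6) (Fin 6) F) *ᵥ u, by
      rw [hhv, Matrix.toLin'_apply, Matrix.mulVec_mulVec, ← Units.val_mul, mul_inv_cancel,
        Units.val_one, Matrix.one_mulVec]⟩
    rw [herm_sub_right hF, hJ, hDh, herm_smul_right, hform, hJ, hsq, hκ, ← Algebra.smul_def, map_smul,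
      smul_eq_mul, show tr (θ (D u v)) = tr (D u v) from Algebra.trace_eq_of_algEquiv θ _, sub_self]
  have hmat : C * (h : Matrix (Fin 6) (Fin 6) F).map (fun x => x ^ 2) =
      κ ^ 2 • ((h : Matrix (Fin 6) (Fin 6) F) * C) := by
    refine Matrix.ext_of_mulVec_single fun i => ?_
    have e1 : ∀ v : Fin 6 → F, (h : Matrix (Fin 6) (Fin 6) F).map (fun x => x ^ 2) *ᵥ (fun l => v l ^ 2) =
        fun l => hv v l ^ 2 := fun v => by
      funext l
      rw [hhv, Matrix.toLin'_apply]
      exact ((frob hF).toRingHom.map_mulVec (h : Matrix (Fin 6) (Fin 6) F) v l).symm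
    have es : (Pi.single i 1 : Fin 6 → F) = fun l => (Pi.single i (1 : F) : Fin 6 → F) l ^ 2 := by
      funext l; by_cases hl : l = i <;> simp [hl]
    rw [es, ← Matrix.mulVec_mulVec, e1, ← hC, Matrix.smul_mulVec, ← Matrix.mulVec_mulVec, ← hC, hcomm,
      hhv, Matrix.toLin'_apply]
  refine ⟨κ ^ 2, ?_⟩
  calc (h : Matrix (Fin 6) (Fin 6) F).map (fun x => x ^ 2)
      = C.map (fun x => x ^ 2) * (C * (h : Matrix (Fin 6) (Fin 6) F).map (fun x => x ^ 2)) := by
        rw [← mul_assoc, hCC', one_mul]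
    _ = κ ^ 2 • Aschbacher.cj A (h : Matrix (Fin 6) (Fin 6) F) := by
        rw [hmat, Matrix.mul_smul, ← mul_assoc]; rfl

/-- The normaliser of a cubic field in six dimensions over the field with four elements. -/
theorem field_six_two (hF : Fintype.card F = 2 ^ 2) {K : Subalgebra F (Matrix (Fin 6) (Fin 6) F)}
    (hK : IsFieldSubalgebra 3 K) (hs : IsAdjointClosedFor (hermForm 6 F 2) K) :
    InClass5 2 (subalgebraNormalizer K ⊓ (GU 6 F 2 ⊓ specialLinear (Fin 6) F)) := by
  haveI : Nonempty (Fin 6) := ⟨0⟩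
  have hst' := starClosed_of_isAdjointClosedFor hF hs
  let τ₀ : K → K := fun x => ⟨hst 2 (x : Matrix (Fin 6) (Fin 6) F), hst' _ x.2⟩
  let τ : K ≃+* K :=
    { toFun := τ₀
      invFun := τ₀
      left_inv := fun x => Subtype.ext (hst_hst hF _)
      right_inv := fun x => Subtype.ext (hst_hst hF _)
      map_mul' := fun x y => Subtype.ext (by
        show hst 2 ((x : Matrix (Fin 6) (Fin 6) F) * (y : Matrix (Fin 6) (Fin 6) F)) =
          hst 2 (x : Matrix (Fin 6) (Fin 6) F) * hst 2 (y : Matrix (Fin 6) (Fin 6) F)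
        rw [hst_mul hF]
        exact hK.comm _ (hst' _ y.2) _ (hst' _ x.2))
      map_add' := fun x y => Subtype.ext (hst_add hF _ _) }
  haveI : Finite K := Module.finite_of_finite F
  letI fK : Fintype K := Fintype.ofFinite K
  let ρ : K →+* Module.End F (Fin 6 → F) :=
    ((Matrix.toLinAlgEquiv' : Matrix (Fin 6) (Fin 6) F ≃ₐ[F] _).toAlgHom.comp K.val).toRingHom
  letI fld := (Aschbacher.isField_of_isFieldSubalgebra hK).toField
  letI mK : Module K (Fin 6 → F) := Module.compHom _ ρ
  haveI : @IsScalarTower F K (Fin 6 → F) _ mK.toSMul _ := ⟨fun c k v => by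
    show Matrix.mulVec (((c • k : K) : Matrix (Fin 6) (Fin 6) F)) v =
      c • Matrix.mulVec (k : Matrix (Fin 6) (Fin 6) F) v
    exact Matrix.smul_mulVec c _ _⟩
  refine field_six_core hF (K := K) hK.finrank_eq τ (fun x => Subtype.ext (hst_hst hF _))
    (fun c x => Subtype.ext (hst_smul c (x : Matrix (Fin 6) (Fin 6) F)))
    (fun k u v => (herm_mulVec_left hF (k : Matrix (Fin 6) (Fin 6) F) u v).trans rfl) inf_le_right fun h hh => ?_
  obtain ⟨hN, hU, -⟩ := hh
  let θ : K ≃ₐ[F] K :=
    { toFun := fun x => ⟨_, Aschbacher.cj_mem_of_mem_normalizer hN x.2⟩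
      invFun := fun x => ⟨_, Aschbacher.cj_mem_of_mem_normalizer ((subalgebraNormalizer K).inv_mem hN) x.2⟩
      left_inv := fun x => Subtype.ext (Aschbacher.cj_inv_apply h _)
      right_inv := fun x => Subtype.ext (by
        show Aschbacher.cj h (Aschbacher.cj h⁻¹ _) = _
        rw [← Aschbacher.cj_mul, mul_inv_cancel]; simp [Aschbacher.cj_apply])
      map_mul' := fun x y => Subtype.ext (map_mul (Aschbacher.cj h) _ _)
      map_add' := fun x y => Subtype.ext (map_add (Aschbacher.cj h) _ _)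
      commutes' := fun c => Subtype.ext ((Aschbacher.cj h).commutes c) }
  refine ⟨θ, fun x => Subtype.ext
    (hst_cj hF (isSim_of_mem_similarity hF (GU_le_similarity hU)) _), fun k v => ?_⟩
  show (h : Matrix (Fin 6) (Fin 6) F) *ᵥ ((k : Matrix (Fin 6) (Fin 6) F) *ᵥ v) =
    Aschbacher.cj h (k : Matrix (Fin 6) (Fin 6) F) *ᵥ ((h : Matrix (Fin 6) (Fin 6) F) *ᵥ v)
  rw [Matrix.mulVec_mulVec, Aschbacher.mul_eq_cj_mul, ← Matrix.mulVec_mulVec]

end Cfsg.Agent.Unitary.Asch
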