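/-
Coded five by five matrices over the field with four elements and the certificates for a subgroup
of order 660 of the special unitary group.
-/
import Cfsg.Agent.Unitary.AschAdjoint
import Cfsg.Agent.Unitary.AschNineTwo

set_option autoImplicit false
set_option maxHeartbeats 1000000
set_option linter.unusedSectionVars false

namespace Cfsg.Agent.Unitary.Asch.Five

open scoped MatrixGroups Matrix
open Cfsg Cfsg.Geo Cfsg.Agent.Unitary Matrix

/-- Multiplication in the field with four elements on codes. -/
def mulT (a b : ℕ) : ℕ := 2625168384 / 4 ^ (4 * a + b) % 4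

/-- A coordinate of a coded vector. -/
def coord (v i : ℕ) : ℕ := v / 4 ^ i % 4

/-- The code of a vector. -/
def enc5 (a b c d e : ℕ) : ℕ := a + 4 * b + 16 * c + 64 * d + 256 * e

/-- The code of a matrix with the given rows. -/
def encM (a b c d e : ℕ) : ℕ :=
  a + 1024 * b + 1024 ^ 2 * c + 1024 ^ 3 * d + 1024 ^ 4 * e

/-- A row of a coded matrix. -/
def row (M i : ℕ) : ℕ := M / 1024 ^ i % 1024

/-- A column of a coded matrix. -/
def col (M j : ℕ) : ℕ :=
  enc5 (coord (row M 0) j) (coord (row M 1) j) (coord (row M 2) j) (coord (row M 3) j)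
    (coord (row M 4) j)

/-- The product of two coded vectors. -/
def dot (r v : ℕ) : ℕ :=
  mulT (coord r 0) (coord v 0) ^^^ mulT (coord r 1) (coord v 1) ^^^ mulT (coord r 2) (coord v 2) ^^^
    mulT (coord r 3) (coord v 3) ^^^ mulT (coord r 4) (coord v 4)

/-- A matrix applied to a vector. -/
def mv (M v : ℕ) : ℕ :=
  enc5 (dot (row M 0) v) (dot (row M 1) v) (dot (row M 2) v) (dot (row M 3) v) (dot (row M 4) v)

/-- A row of a product. -/
def mmRow (A B i : ℕ) : ℕ :=
  enc5 (dot (row A i) (col B 0)) (dot (row A i) (col B 1)) (dot (row A i) (col B 2))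
    (dot (row A i) (col B 3)) (dot (row A i) (col B 4))

/-- The product of coded matrices. -/
def mm (A B : ℕ) : ℕ :=
  encM (mmRow A B 0) (mmRow A B 1) (mmRow A B 2) (mmRow A B 3) (mmRow A B 4)

/-- A multiple of a coded vector. -/
def sc (l v : ℕ) : ℕ :=
  enc5 (mulT l (coord v 0)) (mulT l (coord v 1)) (mulT l (coord v 2)) (mulT l (coord v 3))
    (mulT l (coord v 4))

/-- The conjugate of a coded vector. -/
def conjv (v : ℕ) : ℕ :=
  enc5 (mulT (coord v 0) (coord v 0)) (mulT (coord v 1) (coord v 1)) (mulT (coord v 2) (coord v 2))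
    (mulT (coord v 3) (coord v 3)) (mulT (coord v 4) (coord v 4))

/-- The conjugate transpose of a coded matrix. -/
def hstC (M : ℕ) : ℕ :=
  encM (conjv (col M 0)) (conjv (col M 1)) (conjv (col M 2)) (conjv (col M 3)) (conjv (col M 4))

/-- The form on coded vectors. -/
def hermC (u v : ℕ) : ℕ := dot u (conjv v)

/-- The trace of a coded matrix. -/
def trC (M : ℕ) : ℕ :=
  coord (row M 0) 0 ^^^ coord (row M 1) 1 ^^^ coord (row M 2) 2 ^^^ coord (row M 3) 3 ^^^
    coord (row M 4) 4

/-- The code of the identity matrix. -/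
def idC : ℕ := encM 1 4 16 64 256

/-- The powers of an element of order eleven. -/
def gPows : List ℕ := [281543712968705, 856362097451292, 542212250795047, 60978300659214, 957971455028591, 957102954639269, 697532715366297, 665515722111498, 91440474864359, 348206701143514, 731274270407504, 281543712968705]

/-- The powers of an element of order five normalising the cycle. -/
def sPows : List ℕ := [281543712968705, 445409657758382, 85597653315434, 156475544173995, 294496717076787, 281543712968705]

/-- The powers of an element of the overgroup. -/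
def tPows : List ℕ := [281543712968705, 562530795326061, 281543712968705]

/-- The powers of an element outside the overgroup. -/
def yPows : List ℕ := [281543712968705, 31930246354421, 692377653420368, 375653368510811, 1085701439917934, 974803994735122, 817315727057683, 666992599943931, 516200674553310, 1096665743700432, 27511944353125, 281543712968705]

/-- The basis of images of the first unit vector. -/
def kMat : ℕ := 1082095758590897

/-- Its inverse. -/
def kInv : ℕ := 185328841924897

/-- Representatives of an orbit of fifty-five points. -/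
def pts : List ℕ := [256, 64, 400, 976, 324, 900, 276, 532, 788, 84, 212, 308, 564, 116, 180, 244, 321, 961, 273, 225, 305, 241, 773, 853, 469, 37, 357, 373, 437, 949, 501, 777, 73, 857, 409, 921, 985, 361, 617, 873, 745, 633, 441, 697, 953, 761, 77, 29, 989, 877, 493, 637, 509, 765, 1021]

/-- The generator of the cycle. -/
def gC : ℕ := gPows.getD 1 0

/-- A list is the list of the powers of its second member. -/
def isChain (L : List ℕ) : Bool :=
  (L.getD 0 0 == idC) &&
    (List.range (L.length - 1)).all (fun i => mm (L.getD 1 0) (L.getD i 0) == L.getD (i + 1) 0) &&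
    (L.getD (L.length - 1) 0 == idC) && (mm (hstC (L.getD 1 0)) (L.getD 1 0) == idC)

/-- A matrix permutes the points. -/
def keeps (M : ℕ) : Bool :=
  pts.all fun c => [1, 2, 3].any fun l => pts.contains (sc l (mv M c))

/-- The condition on the image of the first unit vector under a centralising isometry. -/
def cent (w : ℕ) : Bool :=
  (List.range 5).any (fun i =>
    hermC w (mv (gPows.getD i 0) w) != hermC 1 (mv (gPows.getD i 0) 1)) ||
  (List.range 11).any fun j => [1, 2, 3].any fun l => w == sc l (mv (gPows.getD j 0) 1)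

lemma chain_g : isChain gPows = true := by decide +kernel
lemma chain_s : isChain sPows = true := by decide +kernel
lemma chain_t : isChain tPows = true := by decide +kernel
lemma chain_y : isChain yPows = true := by decide +kernel
lemma keeps_g : keeps gC = true := by decide +kernel
lemma keeps_s : keeps (sPows.getD 1 0) = true := by decide +kernel
lemma keeps_t : keeps (tPows.getD 1 0) = true := by decide +kernel
lemma not_keeps_y : keeps (yPows.getD 1 0) = false := by decide +kernel

lemma s_rel : mm (sPows.getD 1 0) gC = mm (gPows.getD 4 0) (sPows.getD 1 0) := by decide +kernel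

lemma t_rel : (List.range 11).all (fun j =>
    mv (mm (tPows.getD 1 0) gC) 1 != mv (mm (gPows.getD j 0) (tPows.getD 1 0)) 1) = true := by decide +kernel

lemma trace_rel : (List.range 11).all (fun j =>
    trC (gPows.getD j 0) != trC gC || [1, 4, 5, 9, 3].contains j) = true := by decide +kernel

lemma k_inv : mm kMat kInv = idC := by decide +kernel

lemma k_col : (List.range 5).all (fun i => col kMat i == mv (gPows.getD i 0) 1) = true := by
  decide +kernel

lemma cent_all : (List.range 1024).all cent = true := by decide +kernel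

/-! ### The values -/

variable {F : Type*} [Field F] [Fintype F] {ω : F}

/-- The element with a given code. -/
def val (ω : F) : ℕ → F
  | 0 => 0
  | 1 => 1
  | 2 => ω
  | _ => ω ^ 2

/-- The vector with a given code. -/
def vecF (ω : F) (v : ℕ) : Fin 5 → F := fun i => val ω (coord v i)

/-- The matrix with a given code. -/
def matF (ω : F) (M : ℕ) : Matrix (Fin 5) (Fin 5) F :=
  Matrix.of fun i j => val ω (coord (row M i) j)

/-- A root of the polynomial of the field with four elements. -/
structure Root (ω : F) : Prop where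
  card : Fintype.card F = 2 ^ 2
  eq : ω ^ 2 + ω + 1 = 0

lemma coord_lt (v i : ℕ) : coord v i < 4 := Nat.mod_lt _ (by norm_num)

lemma mulT_lt (a b : ℕ) : mulT a b < 4 := Nat.mod_lt _ (by norm_num)

lemma xor_lt {a b : ℕ} (ha : a < 4) (hb : b < 4) : a ^^^ b < 4 :=
  Nat.xor_lt_two_pow (n := 2) ha hb

lemma dot_lt (r v : ℕ) : dot r v < 4 :=
  xor_lt (xor_lt (xor_lt (xor_lt (mulT_lt _ _) (mulT_lt _ _)) (mulT_lt _ _)) (mulT_lt _ _))
    (mulT_lt _ _)

lemma enc5_lt {a b c d e : ℕ} (ha : a < 4) (hb : b < 4) (hc : c < 4) (hd : d < 4) (he : e < 4) :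
    enc5 a b c d e < 1024 := by
  unfold enc5; omega

lemma coord_enc5 {a b c d e : ℕ} (ha : a < 4) (hb : b < 4) (hc : c < 4) (hd : d < 4)
    (he : e < 4) (i : Fin 5) : coord (enc5 a b c d e) i = ![a, b, c, d, e] i := by
  fin_cases i <;> simp [coord, enc5] <;> omega

lemma row_encM {a b c d e : ℕ} (ha : a < 1024) (hb : b < 1024) (hc : c < 1024) (hd : d < 1024)
    (he : e < 1024) (i : Fin 5) : row (encM a b c d e) i = ![a, b, c, d, e] i := by
  fin_cases i <;> simp [row, encM] <;> omega

lemma coord_col (M : ℕ) (i j : Fin 5) : coord (col M j) i = coord (row M i) j := by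
  rw [col, coord_enc5 (coord_lt _ _) (coord_lt _ _) (coord_lt _ _) (coord_lt _ _) (coord_lt _ _)]
  fin_cases i <;> rfl

variable (hω : Root ω)

include hω

lemma Root.two : (2 : F) = 0 := Heis.two_zero hω.card

lemma Root.cube : ω ^ 3 = 1 := by linear_combination (ω - 1) * hω.eq

lemma Root.ne_zero : ω ≠ 0 := fun h => by
  have := hω.eq
  rw [h] at this
  simp at this

lemma Root.val_xor {a b : ℕ} (ha : a < 4) (hb : b < 4) :
    val ω (a ^^^ b) = val ω a + val ω b := by
  have h2 := hω.two
  have h := hω.eq
  interval_cases a <;> interval_cases b <;> simp [val] <;> grind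

lemma Root.val_mulT {a b : ℕ} (ha : a < 4) (hb : b < 4) :
    val ω (mulT a b) = val ω a * val ω b := by
  have h2 := hω.two
  have h := hω.eq
  interval_cases a <;> interval_cases b <;> simp [val, mulT] <;> grind

lemma Root.val_inj {a b : ℕ} (ha : a < 4) (hb : b < 4) (h : val ω a = val ω b) : a = b := by
  have h2 := hω.two
  have h3 := hω.eq
  have h0 := hω.ne_zero
  interval_cases a <;> interval_cases b <;> simp [val] at h ⊢ <;> grind

lemma Root.val_surj (x : F) : ∃ a, a < 4 ∧ val ω a = x := by
  classical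
  have hinj : Function.Injective fun a : Fin 4 => val ω a.val := fun a b h =>
    Fin.ext (hω.val_inj a.isLt b.isLt h)
  obtain ⟨a, ha⟩ := ((Fintype.bijective_iff_injective_and_card _).2
    ⟨hinj, by rw [Fintype.card_fin, hω.card]; norm_num⟩).2 x
  exact ⟨a.val, a.isLt, ha⟩

lemma Root.vecF_surj (x : Fin 5 → F) : ∃ w, w < 1024 ∧ vecF ω w = x := by
  choose a ha hax using fun i => hω.val_surj (x i)
  refine ⟨enc5 (a 0) (a 1) (a 2) (a 3) (a 4), enc5_lt (ha 0) (ha 1) (ha 2) (ha 3) (ha 4), ?_⟩
  funext i
  rw [vecF, coord_enc5 (ha 0) (ha 1) (ha 2) (ha 3) (ha 4), ← hax]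
  fin_cases i <;> rfl

lemma Root.val_dot (r v : ℕ) : val ω (dot r v) = vecF ω r ⬝ᵥ vecF ω v := by
  have m := fun i => mulT_lt (coord r i) (coord v i)
  rw [dot, hω.val_xor (xor_lt (xor_lt (xor_lt (m 0) (m 1)) (m 2)) (m 3)) (m 4),
    hω.val_xor (xor_lt (xor_lt (m 0) (m 1)) (m 2)) (m 3),
    hω.val_xor (xor_lt (m 0) (m 1)) (m 2), hω.val_xor (m 0) (m 1), dotProduct, Fin.sum_univ_five]
  simp only [hω.val_mulT (coord_lt _ _) (coord_lt _ _), vecF]
  rfl

lemma Root.vecF_mv (M v : ℕ) : vecF ω (mv M v) = matF ω M *ᵥ vecF ω v := by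
  funext i
  rw [vecF, mv, coord_enc5 (dot_lt _ _) (dot_lt _ _) (dot_lt _ _) (dot_lt _ _) (dot_lt _ _)]
  fin_cases i <;> exact hω.val_dot _ _

lemma Root.matF_mm (A B : ℕ) : matF ω (mm A B) = matF ω A * matF ω B := by
  ext i j
  have hr : ∀ i, mmRow A B i < 1024 := fun i =>
    enc5_lt (dot_lt _ _) (dot_lt _ _) (dot_lt _ _) (dot_lt _ _) (dot_lt _ _)
  have hcol : ∀ j : Fin 5, vecF ω (col B j) = fun k => matF ω B k j := fun j => funext fun k => by
    rw [vecF, coord_col]; rfl
  rw [Matrix.mul_apply]
  show val ω (coord (row (mm A B) i) j) = _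
  rw [mm, row_encM (hr 0) (hr 1) (hr 2) (hr 3) (hr 4)]
  have : coord (mmRow A B i) j = dot (row A i) (col B j) := by
    rw [mmRow, coord_enc5 (dot_lt _ _) (dot_lt _ _) (dot_lt _ _) (dot_lt _ _) (dot_lt _ _)]
    fin_cases j <;> rfl
  rw [show (![mmRow A B 0, mmRow A B 1, mmRow A B 2, mmRow A B 3, mmRow A B 4] i : ℕ) = mmRow A B i by
    fin_cases i <;> rfl, this, hω.val_dot, hcol]
  rfl

lemma Root.matF_idC : matF ω idC = 1 := by
  ext i j
  show val ω (coord (row idC i) j) = _
  rw [idC, row_encM (by norm_num) (by norm_num) (by norm_num) (by norm_num) (by norm_num)]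
  fin_cases i <;> fin_cases j <;> simp [coord, val]

lemma Root.vecF_sc {l : ℕ} (hl : l < 4) (v : ℕ) : vecF ω (sc l v) = val ω l • vecF ω v := by
  funext i
  rw [vecF, sc, coord_enc5 (mulT_lt _ _) (mulT_lt _ _) (mulT_lt _ _) (mulT_lt _ _) (mulT_lt _ _)]
  fin_cases i <;> exact hω.val_mulT hl (coord_lt _ _)

lemma Root.coord_conjv (v : ℕ) (i : Fin 5) : val ω (coord (conjv v) i) = val ω (coord v i) ^ 2 := by
  rw [conjv, coord_enc5 (mulT_lt _ _) (mulT_lt _ _) (mulT_lt _ _) (mulT_lt _ _) (mulT_lt _ _), sq]
  fin_cases i <;> exact hω.val_mulT (coord_lt _ _) (coord_lt _ _)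

lemma Root.val_hermC (u v : ℕ) : val ω (hermC u v) = hermForm 5 F 2 (vecF ω u) (vecF ω v) := by
  rw [hermC, hω.val_dot, herm_eq_dot]
  congr 1
  funext i
  rw [cj_apply, vecF, hω.coord_conjv]
  rfl

lemma Root.matF_hstC (M : ℕ) : matF ω (hstC M) = hst 2 (matF ω M) := by
  ext i j
  have hr : ∀ j, conjv (col M j) < 1024 := fun j =>
    enc5_lt (mulT_lt _ _) (mulT_lt _ _) (mulT_lt _ _) (mulT_lt _ _) (mulT_lt _ _)
  show val ω (coord (row (hstC M) i) j) = val ω (coord (row M j) i) ^ 2
  rw [hstC, row_encM (hr 0) (hr 1) (hr 2) (hr 3) (hr 4),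
    show (![conjv (col M 0), conjv (col M 1), conjv (col M 2), conjv (col M 3), conjv (col M 4)] i : ℕ)
      = conjv (col M i) by fin_cases i <;> rfl, hω.coord_conjv, coord_col]

lemma Root.trace_matF (M : ℕ) : (matF ω M).trace = val ω (trC M) := by
  have m := fun i => coord_lt (row M i) i
  rw [trC, hω.val_xor (xor_lt (xor_lt (xor_lt (m 0) (m 1)) (m 2)) (m 3)) (m 4),
    hω.val_xor (xor_lt (xor_lt (m 0) (m 1)) (m 2)) (m 3),
    hω.val_xor (xor_lt (m 0) (m 1)) (m 2), hω.val_xor (m 0) (m 1), Matrix.trace, Fin.sum_univ_five]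
  rfl

end Cfsg.Agent.Unitary.Asch.Five
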