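/-
In five dimensions over the field with four elements the normaliser of an adjoint-closed field of
degree five is not maximal: it lies in a subgroup of order 660.
-/
import Cfsg.Agent.Unitary.AschFiveData
import Cfsg.Agent.Unitary.AschMaximal
import Cfsg.Agent.Unitary.AschFieldSix

set_option autoImplicit false
set_option maxHeartbeats 1000000
set_option linter.unusedSectionVars false
set_option linter.style.haveILetI false

namespace Cfsg.Agent.Unitary.Asch

open scoped MatrixGroups Matrix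
open Cfsg Cfsg.Geo Cfsg.Agent.Unitary Matrix

namespace Five

variable {F : Type*} [Field F] [Fintype F] {ω : F} (hω : Root ω)

include hω

lemma Root.chain {L : List ℕ} (hL : isChain L = true) :
    ∃ g : GL (Fin 5) F, (g : Matrix (Fin 5) (Fin 5) F) = matF ω (L.getD 1 0) ∧ g ∈ GU 5 F 2 ∧
      (∀ i, i ≤ L.length - 1 → ((g ^ i : GL (Fin 5) F) : Matrix (Fin 5) (Fin 5) F) = matF ω (L.getD i 0)) ∧
      g ^ (L.length - 1) = 1 := by
  simp only [isChain, Bool.and_eq_true, beq_iff_eq, List.all_eq_true, List.mem_range] at hL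
  obtain ⟨⟨⟨h0, hstep⟩, hend⟩, hU⟩ := hL
  have hst' : hst 2 (matF ω (L.getD 1 0)) * matF ω (L.getD 1 0) = 1 := by
    rw [← hω.matF_hstC, ← hω.matF_mm, hU, hω.matF_idC]
  let g : GL (Fin 5) F := ⟨matF ω (L.getD 1 0), hst 2 (matF ω (L.getD 1 0)), mul_eq_one_comm.1 hst', hst'⟩
  have hpow : ∀ i, i ≤ L.length - 1 →
      ((g ^ i : GL (Fin 5) F) : Matrix (Fin 5) (Fin 5) F) = matF ω (L.getD i 0) := by
    intro i
    induction i with
    | zero => intro _; rw [pow_zero, Units.val_one, h0, hω.matF_idC]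
    | succ i ih =>
      intro hi
      rw [pow_succ', Units.val_mul, ih (by omega), ← hstep i (by omega), hω.matF_mm]
  exact ⟨g, rfl, (mem_GU_iff_hst hω.card).2 hst', hpow,
    Units.ext (by rw [hpow _ le_rfl, hend, hω.matF_idC, Units.val_one])⟩

omit hω in
lemma mem_SUg_of_pow (hF : Fintype.card F = 2 ^ 2) {g : GL (Fin 5) F} (hU : g ∈ GU 5 F 2) {m : ℕ}
    (hm : Nat.Coprime 3 m) (hg : g ^ m = 1) : g ∈ SUg 5 F 2 := by
  refine ⟨hU, ?_⟩
  show Matrix.GeneralLinearGroup.det g = 1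
  set d := Matrix.GeneralLinearGroup.det g
  have h3 : d ^ 3 = 1 := Units.ext (by
    rw [Units.val_pow_eq_pow_val, Heis.pow_three_of_ne hF d.ne_zero, Units.val_one])
  have h := pow_gcd_eq_one.2 ⟨h3, (show d ^ m = 1 by rw [← map_pow, hg, map_one])⟩
  rwa [hm.gcd_eq_one, pow_one] at h

omit hω in
lemma vecF_code_inj (h : Root ω) {u v : ℕ} (hu : u < 1024) (hv : v < 1024)
    (he : vecF ω u = vecF ω v) : u = v := by
  have hc : ∀ i : Fin 5, coord u i = coord v i := fun i =>
    h.val_inj (coord_lt _ _) (coord_lt _ _) (congrFun he i)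
  have := hc 0; have := hc 1; have := hc 2; have := hc 3; have := hc 4
  simp [coord] at *
  omega

lemma sc_lt (l v : ℕ) : sc l v < 1024 :=
  enc5_lt (mulT_lt _ _) (mulT_lt _ _) (mulT_lt _ _) (mulT_lt _ _) (mulT_lt _ _)

omit hω in
lemma pts_lt : ∀ c ∈ pts, c < 1024 := by decide +kernel

/-- The lines of the orbit. -/
def InOrb (ω : F) (v : Fin 5 → F) : Prop := ∃ a : F, a ≠ 0 ∧ ∃ c ∈ pts, v = a • vecF ω c

lemma Root.keeps_iff (M : ℕ) :
    keeps M = true ↔ ∀ v, InOrb ω v → InOrb ω (matF ω M *ᵥ v) := by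
  constructor
  · rintro hk _ ⟨a, ha, c, hc, rfl⟩
    simp only [keeps, List.all_eq_true, List.any_eq_true, List.contains_iff_mem] at hk
    obtain ⟨l, hl, hmem⟩ := hk c hc
    have hl4 : l < 4 ∧ l ≠ 0 := by simp at hl; omega
    have hl0 : val ω l ≠ 0 := fun h => hl4.2 (hω.val_inj hl4.1 (by norm_num) (by simpa [val] using h))
    refine ⟨a / val ω l, div_ne_zero ha hl0, _, hmem, ?_⟩
    rw [Matrix.mulVec_smul, hω.vecF_sc hl4.1, hω.vecF_mv, smul_smul, div_mul_cancel₀ _ hl0]
  · intro h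
    simp only [keeps, List.all_eq_true, List.any_eq_true, List.contains_iff_mem]
    intro c hc
    obtain ⟨a, ha, c', hc', he⟩ := h _ ⟨1, one_ne_zero, c, hc, (one_smul _ _).symm⟩
    obtain ⟨l, hl, hla⟩ := hω.val_surj a⁻¹
    have hl0 : l ≠ 0 := by
      rintro rfl
      exact inv_ne_zero ha hla.symm
    refine ⟨l, by interval_cases l <;> simp at *, ?_⟩
    have : vecF ω (sc l (mv M c)) = vecF ω c' := by
      rw [hω.vecF_sc hl, hω.vecF_mv, he, hla, smul_smul, inv_mul_cancel₀ ha, one_smul]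
    rwa [vecF_code_inj hω (sc_lt hω _ _) (pts_lt _ hc') this]

/-- A subgroup with the elements needed. -/
theorem exists_overgroup :
    ∃ (g : GL (Fin 5) F) (X : Subgroup (GL (Fin 5) F)), g ∈ SUg 5 F 2 ∧ g ≠ 1 ∧ g ^ 11 = 1 ∧
      (∀ h ∈ SUg 5 F 2, (∃ j : ℕ, h * g * h⁻¹ = g ^ j) → h ∈ X) ∧
      (∃ t ∈ X ⊓ SUg 5 F 2, ∀ j : ℕ, t * g * t⁻¹ ≠ g ^ j) ∧ ¬ SUg 5 F 2 ≤ X := by
  classical
  have hF := hω.card
  obtain ⟨g, hg, hgU, hgpow, hg11⟩ := hω.chain chain_g
  obtain ⟨s, hs, hsU, hspow, hs5⟩ := hω.chain chain_s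
  obtain ⟨t, ht, htU, htpow, ht2⟩ := hω.chain chain_t
  obtain ⟨y, hy, hyU, hypow, hy11⟩ := hω.chain chain_y
  have hg11' : g ^ 11 = 1 := hg11
  have hgpow' : ∀ i, ((g ^ i : GL (Fin 5) F) : Matrix (Fin 5) (Fin 5) F) =
      matF ω (gPows.getD (i % 11) 0) := fun i => by
    conv_lhs => rw [← Nat.mod_add_div i 11, pow_add, pow_mul, hg11', one_pow, mul_one]
    exact hgpow _ (by have := Nat.mod_lt i (show 11 > 0 by norm_num); simp [gPows]; omega)
  let e := vecF ω 1
  have hginj : ∀ M N, matF ω M = matF ω N → mv M 1 = mv N 1 := fun M N h =>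
    vecF_code_inj hω (enc5_lt (dot_lt _ _) (dot_lt _ _) (dot_lt _ _) (dot_lt _ _) (dot_lt _ _))
      (enc5_lt (dot_lt _ _) (dot_lt _ _) (dot_lt _ _) (dot_lt _ _) (dot_lt _ _))
      (by rw [hω.vecF_mv, hω.vecF_mv, h])
  let X : Subgroup (GL (Fin 5) F) :=
    { carrier := {h | ∀ w, InOrb ω w ↔ InOrb ω ((h : Matrix (Fin 5) (Fin 5) F) *ᵥ w)}
      one_mem' := fun w => by rw [Units.val_one, Matrix.one_mulVec]
      mul_mem' := fun {a b} ha hb w => by
        rw [Units.val_mul, ← Matrix.mulVec_mulVec]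
        exact (hb w).trans (ha _)
      inv_mem' := fun {a} ha w => by
        rw [ha (((a⁻¹ : GL (Fin 5) F) : Matrix (Fin 5) (Fin 5) F) *ᵥ w),
          Matrix.mulVec_mulVec _ (a : Matrix (Fin 5) (Fin 5) F),
          ← Units.val_mul, mul_inv_cancel, Units.val_one, Matrix.one_mulVec] }
  haveI : Finite (Fin 5 → F) := inferInstance
  have memX : ∀ (h : GL (Fin 5) F) (M : ℕ), (h : Matrix (Fin 5) (Fin 5) F) = matF ω M →
      keeps M = true → h ∈ X := by
    intro h M hM hk w
    have hp := (hω.keeps_iff M).1 hk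
    rw [← hM] at hp
    refine ⟨hp w, fun hw => ?_⟩
    let φ : {w // InOrb ω w} → {w // InOrb ω w} := fun w =>
      ⟨(h : Matrix (Fin 5) (Fin 5) F) *ᵥ w.1, hp _ w.2⟩
    have hinj : Function.Injective φ := fun a b hab => Subtype.ext
      (Matrix.mulVec_injective_iff_isUnit.2 h.isUnit (congrArg Subtype.val hab))
    obtain ⟨⟨w', hw'⟩, he⟩ := Finite.injective_iff_surjective.1 hinj ⟨_, hw⟩
    have := Matrix.mulVec_injective_iff_isUnit.2 h.isUnit (congrArg Subtype.val he)
    exact this ▸ hw'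
  have hgX : g ∈ X := memX g _ hg keeps_g
  have hsX : s ∈ X := memX s _ hs keeps_s
  have hsg : s * g * s⁻¹ = g ^ 4 := by
    rw [mul_inv_eq_iff_eq_mul]
    exact Units.ext (by
      rw [Units.val_mul, Units.val_mul, hs, hgpow' 4, hg, ← hω.matF_mm, ← hω.matF_mm]
      exact congrArg (matF ω) s_rel)
  have hspow' : ∀ i : ℕ, s ^ i * g * (s ^ i)⁻¹ = g ^ 4 ^ i := by
    intro i
    induction i with
    | zero => simp
    | succ i ih =>
      rw [show s ^ (i + 1) * g * (s ^ (i + 1))⁻¹ = s * (s ^ i * g * (s ^ i)⁻¹) * s⁻¹ by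
        rw [pow_succ']; group, ih, ← conj_pow, hsg, ← pow_mul, ← pow_succ']
  -- the centraliser
  have hcent : ∀ c ∈ SUg 5 F 2, c * g = g * c → c ∈ X := by
    intro c hc hcg
    obtain ⟨w, hwlt, hw⟩ := hω.vecF_surj ((c : Matrix (Fin 5) (Fin 5) F) *ᵥ e)
    have hcomm : ∀ i : ℕ, (c : Matrix (Fin 5) (Fin 5) F) * matF ω (gPows.getD (i % 11) 0) =
        matF ω (gPows.getD (i % 11) 0) * (c : Matrix (Fin 5) (Fin 5) F) := fun i => by
      rw [← hgpow', ← Units.val_mul, ← Units.val_mul]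
      exact congrArg Units.val (Commute.pow_right hcg i)
    have hcond := List.all_eq_true.1 cent_all w (List.mem_range.2 hwlt)
    simp only [cent, Bool.or_eq_true, List.any_eq_true, List.mem_range, bne_iff_ne, beq_iff_eq] at hcond
    rcases hcond with ⟨i, hi, hne⟩ | ⟨j, hj, l, hl, hwl⟩
    · refine absurd (hω.val_inj (a := hermC _ _) (b := hermC _ _) (dot_lt _ _) (dot_lt _ _) ?_) hne
      rw [hω.val_hermC, hω.val_hermC, hω.vecF_mv, hω.vecF_mv, hw]
      have := hcomm i
      rw [Nat.mod_eq_of_lt (show i < 11 by omega)] at this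
      rw [Matrix.mulVec_mulVec, ← this, ← Matrix.mulVec_mulVec, mem_GU_iff.1 hc.1]
    · have hl4 : l < 4 := by simp at hl; omega
      -- the basis of images
      let D := (c : Matrix (Fin 5) (Fin 5) F) - val ω l • matF ω (gPows.getD (j % 11) 0)
      have hDe : ∀ i : ℕ, D *ᵥ (matF ω (gPows.getD (i % 11) 0) *ᵥ e) = 0 := fun i => by
        have h1 : D * matF ω (gPows.getD (i % 11) 0) = matF ω (gPows.getD (i % 11) 0) * D := by
          have hcj : matF ω (gPows.getD (j % 11) 0) * matF ω (gPows.getD (i % 11) 0) =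
              matF ω (gPows.getD (i % 11) 0) * matF ω (gPows.getD (j % 11) 0) := by
            rw [← hgpow', ← hgpow', ← Units.val_mul, ← Units.val_mul, (Commute.pow_pow_self g j i).eq]
          simp only [D, sub_mul, mul_sub, hcomm, Matrix.smul_mul, Matrix.mul_smul, hcj]
        rw [Matrix.mulVec_mulVec, h1, ← Matrix.mulVec_mulVec]
        simp only [D, Matrix.sub_mulVec, Matrix.smul_mulVec]
        rw [← hw, hwl, hω.vecF_sc hl4, hω.vecF_mv, Nat.mod_eq_of_lt hj, sub_self, Matrix.mulVec_zero]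
      have hDK : D * matF ω kMat = 0 := by
        refine Matrix.ext fun a b => ?_
        have hb : (fun k => matF ω kMat k b) = matF ω (gPows.getD (b.val % 11) 0) *ᵥ e := by
          rw [← hω.vecF_mv, Nat.mod_eq_of_lt (by omega : b.val < 11),
            ← (show col kMat b = mv (gPows.getD b 0) 1 by
              simpa using List.all_eq_true.1 k_col b (List.mem_range.2 b.isLt))]
          funext k
          exact congrArg (val ω) (coord_col kMat k b).symm
        have h0 := congrFun (hDe b) a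
        rw [← hb] at h0
        exact h0
      have hD0 : D = 0 := by
        calc D = D * (matF ω kMat * matF ω kInv) := by rw [← hω.matF_mm, k_inv, hω.matF_idC, mul_one]
          _ = 0 := by rw [← mul_assoc, hDK, zero_mul]
      have hc' : (c : Matrix (Fin 5) (Fin 5) F) = val ω l • ((g ^ j : GL (Fin 5) F) : Matrix (Fin 5) (Fin 5) F) := by
        rw [hgpow']; exact sub_eq_zero.1 hD0
      intro v
      have hl0 : val ω l ≠ 0 := by
        intro h
        have := c.isUnit
        rw [hc', h, zero_smul] at this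
        exact not_isUnit_zero this
      rw [hc', Matrix.smul_mulVec, (X.pow_mem hgX j) v]
      constructor
      · rintro ⟨a, ha, p, hp, he⟩
        exact ⟨val ω l * a, mul_ne_zero hl0 ha, p, hp, by rw [he, smul_smul]⟩
      · rintro ⟨a, ha, p, hp, he⟩
        exact ⟨(val ω l)⁻¹ * a, mul_ne_zero (inv_ne_zero hl0) ha, p, hp, by
          rw [← smul_smul, ← he, inv_smul_smul₀ hl0]⟩
  refine ⟨g, X, mem_SUg_of_pow hF hgU (by norm_num [gPows]) hg11, ?_, hg11', ?_, ⟨t, ⟨memX t _ ht keeps_t,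
    mem_SUg_of_pow hF htU (by norm_num [tPows]) ht2⟩, ?_⟩, ?_⟩
  · intro h
    have h0 := hginj _ _ ((hgpow' 1).symm.trans ((congrArg Units.val (by simp [h] : g ^ 1 = g ^ 0)).trans (hgpow' 0)))
    revert h0
    decide +kernel
  · rintro h hh ⟨j, hj⟩
    have htr : (matF ω (gPows.getD (j % 11) 0)).trace = (matF ω gC).trace := by
      have e1 : ((g ^ j : GL (Fin 5) F) : Matrix (Fin 5) (Fin 5) F).trace = (g : Matrix (Fin 5) (Fin 5) F).trace := by
        rw [← hj, Units.val_mul, Units.val_mul, Matrix.trace_mul_comm, ← mul_assoc,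
          ← Units.val_mul, inv_mul_cancel, Units.val_one, one_mul]
      rwa [hgpow' j, hg] at e1
    rw [hω.trace_matF, hω.trace_matF] at htr
    have hlt : ∀ M, trC M < 4 := fun M =>
      xor_lt (xor_lt (xor_lt (xor_lt (coord_lt _ _) (coord_lt _ _)) (coord_lt _ _)) (coord_lt _ _))
        (coord_lt _ _)
    have hr := List.all_eq_true.1 trace_rel (j % 11) (List.mem_range.2 (Nat.mod_lt _ (by norm_num)))
    rw [hω.val_inj (hlt _) (hlt _) htr] at hr
    simp at hr
    obtain ⟨i, hi⟩ : ∃ i : ℕ, g ^ 4 ^ i = g ^ j := by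
      have hm : ∀ a b : ℕ, a % 11 = b % 11 → g ^ a = g ^ b := fun a b h => by
        rw [pow_eq_pow_mod a hg11', pow_eq_pow_mod b hg11', h]
      rcases hr with h1 | h1 | h1 | h1 | h1
      · exact ⟨0, hm _ _ (by norm_num [h1])⟩
      · exact ⟨1, hm _ _ (by norm_num [h1])⟩
      · exact ⟨2, hm _ _ (by norm_num [h1])⟩
      · exact ⟨3, hm _ _ (by norm_num [h1])⟩
      · exact ⟨4, hm _ _ (by norm_num [h1])⟩
    have hsS : s ∈ SUg 5 F 2 := mem_SUg_of_pow hF hsU (by norm_num [sPows]) hs5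
    have hc : (s ^ i)⁻¹ * h * g = g * ((s ^ i)⁻¹ * h) := by
      have e2 : h * g = s ^ i * g * (s ^ i)⁻¹ * h := by
        rw [hspow', hi, ← hj]; group
      calc (s ^ i)⁻¹ * h * g = (s ^ i)⁻¹ * (h * g) := by rw [mul_assoc]
        _ = g * ((s ^ i)⁻¹ * h) := by rw [e2]; group
    have := X.mul_mem (X.pow_mem hsX i)
      (hcent _ ((SUg 5 F 2).mul_mem ((SUg 5 F 2).inv_mem ((SUg 5 F 2).pow_mem hsS i)) hh) hc)
    rwa [mul_inv_cancel_left] at this
  · intro j hj
    rw [mul_inv_eq_iff_eq_mul] at hj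
    have hm := congrArg (fun x : GL (Fin 5) F => (x : Matrix (Fin 5) (Fin 5) F)) hj
    simp only [Units.val_mul] at hm
    rw [ht, hgpow' j, hg, ← hω.matF_mm, ← hω.matF_mm] at hm
    have hr := List.all_eq_true.1 t_rel (j % 11) (List.mem_range.2 (Nat.mod_lt _ (by norm_num)))
    simp only [bne_iff_ne] at hr
    exact hr (hginj _ _ hm)
  · intro hle
    have := hle (mem_SUg_of_pow hF hyU (by norm_num [yPows]) hy11)
    have hk := (hω.keeps_iff (yPows.getD 1 0)).2 fun v hv => by rw [← hy]; exact (this v).1 hv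
    rw [not_keeps_y] at hk
    exact Bool.false_ne_true hk

end Five

open Five

variable {F : Type*} [Field F] [Fintype F]

theorem card_SUg_five_two (hF : Fintype.card F = 2 ^ 2) : Nat.card (SUg 5 F 2) = 13685760 := by
  have h1 := card_GU hF 5
  rw [card_GU_eq_mul_card_SU hF (by norm_num)] at h1
  have h2 : Nat.card (SUg 5 F 2) = Nat.card (SU 5 F 2) := by
    rw [← range_toG]
    exact Nat.card_congr (MonoidHom.ofInjective toG_injective).symm.toEquiv
  have h3 : (2 : ℕ) ^ (5 * (5 - 1) / 2) * ∏ i ∈ Finset.range 5, guFactor 2 i = 3 * 13685760 := by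
    simp [Finset.prod_range_succ, guFactor, parity_simps]
  rw [h3] at h1
  omega

/-- An element of order eleven in the special unitary group normalised by the normaliser of the
field. -/
theorem exists_cycle (hF : Fintype.card F = 2 ^ 2)
    {K : Subalgebra F (Matrix (Fin 5) (Fin 5) F)} (hK : IsFieldSubalgebra 5 K)
    (hs : IsAdjointClosedFor (hermForm 5 F 2) K) :
    ∃ k ∈ SUg 5 F 2, k ≠ 1 ∧ k ^ 11 = 1 ∧
      ∀ h ∈ subalgebraNormalizer K, h * k * h⁻¹ ∈ Subgroup.zpowers k := by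
  classical
  haveI : Nonempty (Fin 5) := ⟨0⟩
  haveI : Fact (Nat.Prime 2) := ⟨Nat.prime_two⟩
  have hst' := starClosed_of_isAdjointClosedFor hF hs
  haveI : Finite K := Module.finite_of_finite F
  letI fK : Fintype K := Fintype.ofFinite K
  letI fld := (Aschbacher.isField_of_isFieldSubalgebra hK).toField
  haveI hcF : CharP F 2 := by
    haveI := ringChar.charP F
    exact (ringChar.eq_iff.1 ((CharP.ringChar_of_prime_eq_zero Nat.prime_two
      (by exact_mod_cast Heis.two_zero hF)) : ringChar F = 2))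
  haveI hcK : CharP K 2 := charP_of_injective_algebraMap (algebraMap F K).injective 2
  let τ : K ≃+* K :=
    { toFun := fun x => ⟨hst 2 (x : Matrix (Fin 5) (Fin 5) F), hst' _ x.2⟩
      invFun := fun x => ⟨hst 2 (x : Matrix (Fin 5) (Fin 5) F), hst' _ x.2⟩
      left_inv := fun x => Subtype.ext (hst_hst hF _)
      right_inv := fun x => Subtype.ext (hst_hst hF _)
      map_mul' := fun x y => Subtype.ext (by
        show hst 2 ((x : Matrix (Fin 5) (Fin 5) F) * (y : Matrix (Fin 5) (Fin 5) F)) =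
          hst 2 (x : Matrix (Fin 5) (Fin 5) F) * hst 2 (y : Matrix (Fin 5) (Fin 5) F)
        rw [hst_mul hF]
        exact hK.comm _ (hst' _ y.2) _ (hst' _ x.2))
      map_add' := fun x y => Subtype.ext (hst_add hF _ _) }
  have hcardK : Fintype.card K = 1024 := by
    rw [Module.card_eq_pow_finrank (K := F) (V := K), hK.finrank_eq, hF]; norm_num
  obtain ⟨u, hu⟩ := IsCyclic.exists_generator (α := Kˣ)
  have hou : orderOf u = 1023 := by
    rw [orderOf_eq_card_of_forall_mem_zpowers hu, Nat.card_units, Nat.card_eq_fintype_card, hcardK]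
  set z : K := ((u ^ 93 : Kˣ) : K)
  have hz : orderOf z = 11 := by
    rw [orderOf_units, orderOf_pow, hou]
    norm_num
  have hprim : IsPrimitiveRoot z 11 := hz ▸ IsPrimitiveRoot.orderOf z
  obtain ⟨j, hj⟩ := exists_pow_char 2 τ
  -- the adjoint inverts `z`
  have hτz : τ z * z = 1 := by
    have h5 : 5 ∣ j := by
      have h1 : z ^ 2 ^ (2 * j) = z := by
        have := hj (τ z)
        rw [show τ (τ z) = z from Subtype.ext (hst_hst hF _), hj z, ← pow_mul, ← pow_add] at this
        rw [two_mul]; exact this.symm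
      have h2 : 2 ^ (2 * j) % 11 = 1 := by
        have hm := hprim.pow_inj (Nat.mod_lt _ (by norm_num)) (show 1 < 11 by norm_num)
          (i := 2 ^ (2 * j) % 11) (by rw [pow_one, ← hz, pow_mod_orderOf]; exact h1)
        exact hm
      rw [Nat.pow_mod] at h2
      have h10 : 2 ^ (2 * j) % 11 = 2 ^ (2 * (j % 5)) % 11 := by
        rw [show 2 * j = 2 * (j % 5) + 10 * (j / 5) by omega, pow_add, pow_mul 2 10, Nat.mul_mod,
          Nat.pow_mod (2 ^ 10), show 2 ^ 10 % 11 = 1 by norm_num, one_pow, Nat.one_mod, mul_one,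
          Nat.mod_mod]
      rw [← Nat.pow_mod, h10] at h2
      have := Nat.mod_lt j (show 5 > 0 by norm_num)
      interval_cases hm : j % 5 <;> simp_all
      omega
    have hodd : Odd j := by
      rw [← Nat.not_even_iff_odd]
      rintro ⟨i, hi⟩
      obtain ⟨x, hx⟩ : ∃ x : F, x ^ 2 ≠ x := by
        by_contra hall
        push Not at hall
        have := card_fixed hF
        rw [Nat.card_congr (Equiv.subtypeUnivEquiv hall), Nat.card_eq_fintype_card, hF] at this
        norm_num at this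
      have h := hj (algebraMap F K x)
      have hl : τ (algebraMap F K x) = algebraMap F K (x ^ 2) := Subtype.ext (by
        show hst 2 (algebraMap F (Matrix (Fin 5) (Fin 5) F) x) = algebraMap F _ (x ^ 2)
        rw [Algebra.algebraMap_eq_smul_one, hst_smul_one hF, ← Algebra.algebraMap_eq_smul_one])
      rw [hl, ← map_pow, hi, ← two_mul, pow_mul, show (2 : ℕ) ^ 2 = Fintype.card F from hF.symm,
        FiniteField.pow_card_pow] at h
      exact hx ((algebraMap F K).injective h)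
    have h11 : (2 ^ j + 1) % 11 = 0 := by
      obtain ⟨c, rfl⟩ := h5
      obtain ⟨i, hi⟩ := hodd
      have hc : c % 2 = 1 := by omega
      rw [show 5 * c = 5 + 10 * (c / 2) by omega, pow_add, pow_mul, Nat.add_mod, Nat.mul_mod,
        Nat.pow_mod (2 ^ 10), show 2 ^ 10 % 11 = 1 by norm_num, one_pow]
      norm_num
    rw [hj z, ← pow_succ, ← pow_mod_orderOf, hz, h11, pow_zero]
  have hz11 : z ^ 11 = 1 := hprim.pow_eq_one
  have hzM : (z : Matrix (Fin 5) (Fin 5) F) ^ 11 = 1 := by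
    have := congrArg Subtype.val hz11
    simpa using this
  let k : GL (Fin 5) F := ⟨(z : Matrix (Fin 5) (Fin 5) F), (z : Matrix (Fin 5) (Fin 5) F) ^ 10,
    by rw [← pow_succ']; exact hzM, by rw [← pow_succ]; exact hzM⟩
  have hkU : k ∈ GU 5 F 2 := (mem_GU_iff_hst hF).2 (congrArg Subtype.val hτz)
  have hk11 : k ^ 11 = 1 := Units.ext (by rw [Units.val_pow_eq_pow_val]; exact hzM)
  refine ⟨k, Five.mem_SUg_of_pow hF hkU (by norm_num) hk11, fun h => hprim.ne_one (by norm_num)
    (Subtype.ext (congrArg (fun g : GL (Fin 5) F => (g : Matrix (Fin 5) (Fin 5) F)) h)), hk11,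
    fun h hh => ?_⟩
  let w : K := ⟨_, Aschbacher.cj_mem_of_mem_normalizer hh z.2⟩
  have hwval : (w : Matrix (Fin 5) (Fin 5) F) = ((h * k * h⁻¹ : GL (Fin 5) F) : Matrix (Fin 5) (Fin 5) F) := by
    show Aschbacher.cj h (z : Matrix (Fin 5) (Fin 5) F) = _
    rw [Aschbacher.cj_apply]
    simp [k]
  have hw : w ^ 11 = 1 := Subtype.ext (by
    rw [SubmonoidClass.coe_pow, hwval, ← Units.val_pow_eq_pow_val, conj_pow, hk11]
    simp)
  obtain ⟨i, -, hi⟩ := hprim.eq_pow_of_pow_eq_one hw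
  refine ⟨i, ?_⟩
  show k ^ (i : ℤ) = h * k * h⁻¹
  rw [zpow_natCast]
  exact Units.ext (by
    rw [Units.val_pow_eq_pow_val, ← hwval, ← hi]
    simp [k])

/-- The normaliser of a field of degree five is not maximal. -/
theorem field_five_two (hF : Fintype.card F = 2 ^ 2)
    {K : Subalgebra F (Matrix (Fin 5) (Fin 5) F)} (hK : IsFieldSubalgebra 5 K)
    (hs : IsAdjointClosedFor (hermForm 5 F 2) K) :
    ¬ IsMaximalIn (SUg 5 F 2) (subalgebraNormalizer K ⊓ SUg 5 F 2) := by
  classical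
  intro hmax
  obtain ⟨ω, hω⟩ : ∃ ω : F, Five.Root ω := by
    obtain ⟨w, hw0, hw1⟩ : ∃ w : F, w ≠ 0 ∧ w ≠ 1 := by
      by_contra hh
      push Not at hh
      have hle : Fintype.card F ≤ ({0, 1} : Finset F).card := by
        rw [← Finset.card_univ]
        refine Finset.card_le_card fun x _ => ?_
        by_cases hx : x = 0
        · simp [hx]
        · simp [hh x hx]
      rw [hF] at hle
      have := Finset.card_le_two (a := (0 : F)) (b := 1)
      omega
    exact ⟨w, hF, (mul_eq_zero.1 (show (w - 1) * (w ^ 2 + w + 1) = 0 by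
      linear_combination Heis.pow_three_of_ne hF hw0)).resolve_left (sub_ne_zero.2 hw1)⟩
  obtain ⟨g, X, hg, hg1, hg11, hX, ⟨t, ht, htg⟩, hXtop⟩ := Five.exists_overgroup hω
  obtain ⟨k, hk, hk1, hk11, hnorm⟩ := exists_cycle hF hK hs
  -- conjugate the two cycles
  haveI : Fact (Nat.Prime 11) := ⟨by norm_num⟩
  set G := SUg 5 F 2
  have hcard : ∀ x : G, x ≠ 1 → x ^ 11 = 1 →
      Nat.card (Subgroup.zpowers x) = 11 ^ (Nat.card G).factorization 11 := by
    intro x h1 h11
    rw [Nat.card_zpowers, orderOf_eq_prime h11 h1, card_SUg_five_two hF,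
      show (13685760 : ℕ) = 11 * 1244160 by norm_num, Nat.factorization_mul (by norm_num) (by norm_num)]
    simp [Nat.Prime.factorization_self (by norm_num : Nat.Prime 11),
      Nat.factorization_eq_zero_of_not_dvd (by norm_num : ¬ 11 ∣ 1244160)]
  let P := Sylow.ofCard (Subgroup.zpowers (⟨k, hk⟩ : G))
    (hcard _ (fun h => hk1 (congrArg Subtype.val h)) (Subtype.ext hk11))
  let Q := Sylow.ofCard (Subgroup.zpowers (⟨g, hg⟩ : G))
    (hcard _ (fun h => hg1 (congrArg Subtype.val h)) (Subtype.ext hg11))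
  obtain ⟨⟨c, hc⟩, hcPQ⟩ := MulAction.exists_smul_eq G P Q
  have hmem : ∀ x : GL (Fin 5) F, x ∈ Subgroup.zpowers k ↔ c * x * c⁻¹ ∈ Subgroup.zpowers g := by
    have e : (Subgroup.zpowers (⟨k, hk⟩ : G)).map (MulAut.conj (⟨c, hc⟩ : G)).toMonoidHom =
        Subgroup.zpowers (⟨g, hg⟩ : G) := by
      have := congrArg (fun S : Sylow 11 G => (S : Subgroup G)) hcPQ
      exact this
    have e' := congrArg (Subgroup.map G.subtype) e
    rw [Subgroup.map_map, MonoidHom.map_zpowers, MonoidHom.map_zpowers] at e'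
    intro x
    have e'' : (Subgroup.zpowers k).map (MulAut.conj c).toMonoidHom = Subgroup.zpowers g := by
      rw [MonoidHom.map_zpowers]; exact e'
    rw [← e'']
    constructor
    · exact fun h => ⟨x, h, rfl⟩
    · rintro ⟨y, hy, he⟩
      have : y = x := (MulAut.conj c).injective he
      exact this ▸ hy
  let X' := X.comap (MulAut.conj c).toMonoidHom
  have hle : subalgebraNormalizer K ⊓ G ≤ X' ⊓ G := by
    refine le_inf (fun h hh => ?_) inf_le_right
    show c * h * c⁻¹ ∈ X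
    refine hX _ (G.mul_mem (G.mul_mem hc hh.2) (G.inv_mem hc)) ?_
    have hg' : c⁻¹ * g * c ∈ Subgroup.zpowers k := (hmem _).2 (by
      rw [show c * (c⁻¹ * g * c) * c⁻¹ = g by group]; exact Subgroup.mem_zpowers g)
    obtain ⟨m, hm⟩ := hg'
    have h3 : h * (c⁻¹ * g * c) * h⁻¹ ∈ Subgroup.zpowers k := by
      rw [← hm, ← conj_zpow]
      exact Subgroup.zpow_mem _ (hnorm h hh.1) m
    have h4 := (hmem _).1 h3
    rw [show c * (h * (c⁻¹ * g * c) * h⁻¹) * c⁻¹ = c * h * c⁻¹ * g * (c * h * c⁻¹)⁻¹ by group] at h4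
    obtain ⟨i, hi⟩ := (isOfFinOrder_of_finite g).mem_powers_iff_mem_zpowers.2 h4
    exact ⟨i, hi.symm⟩
  rcases hmax.2 (X' ⊓ G) hle inf_le_right with h | h
  · have ht' : c⁻¹ * t * c ∈ X' ⊓ G := ⟨by
      show c * (c⁻¹ * t * c) * c⁻¹ ∈ X
      rw [show c * (c⁻¹ * t * c) * c⁻¹ = t by group]; exact ht.1,
      G.mul_mem (G.mul_mem (G.inv_mem hc) ht.2) hc⟩
    rw [h] at ht'
    have h1 : k ∈ Subgroup.zpowers k := Subgroup.mem_zpowers k
    have hg' : c⁻¹ * g * c ∈ Subgroup.zpowers k := (hmem _).2 (by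
      rw [show c * (c⁻¹ * g * c) * c⁻¹ = g by group]; exact Subgroup.mem_zpowers g)
    obtain ⟨m, hm⟩ := hg'
    have h3 : (c⁻¹ * t * c) * (c⁻¹ * g * c) * (c⁻¹ * t * c)⁻¹ ∈ Subgroup.zpowers k := by
      rw [← hm, ← conj_zpow]
      exact Subgroup.zpow_mem _ (hnorm _ ht'.1) m
    have h4 := (hmem _).1 h3
    rw [show c * ((c⁻¹ * t * c) * (c⁻¹ * g * c) * (c⁻¹ * t * c)⁻¹) * c⁻¹ = t * g * t⁻¹ by group] at h4
    obtain ⟨i, hi⟩ := (isOfFinOrder_of_finite g).mem_powers_iff_mem_zpowers.2 h4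
    exact htg i hi.symm
  · refine hXtop fun x hx => ?_
    have hx' : c⁻¹ * x * c ∈ X' ⊓ G := h.ge (G.mul_mem (G.mul_mem (G.inv_mem hc) hx) hc)
    have := hx'.1
    show x ∈ X
    have e : c * (c⁻¹ * x * c) * c⁻¹ = x := by group
    exact e ▸ this

end Cfsg.Agent.Unitary.Asch
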