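/-
In three dimensions over the fields with nine and twenty-five elements the normaliser of an
adjoint-closed cubic field is not maximal.
-/
import Cfsg.Agent.Unitary.AschThreeData
import Cfsg.Agent.Unitary.AschFieldFive

set_option autoImplicit false
set_option maxHeartbeats 1000000
set_option linter.unusedSectionVars false
set_option linter.style.haveILetI false

namespace Cfsg.Agent.Unitary.Asch

open scoped MatrixGroups Matrix
open Cfsg Cfsg.Geo Cfsg.Agent.Unitary Matrix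

namespace Three

variable {F : Type*} [Field F] [Fintype F] {p d : ℕ} {θ : F}

theorem exists_root {p : ℕ} (hp : p = 3 ∨ p = 5) (hF : Fintype.card F = p ^ 2) :
    ∃ θ : F, Root p 2 θ := by
  have hprime : p.Prime := by rcases hp with rfl | rfl <;> norm_num
  haveI := Fact.mk hprime
  haveI hc : CharP F p := charP_of_card_eq_prime_pow hF
  have h2 : (2 : F) ≠ 0 := by
    rw [show (2 : F) = ((2 : ℕ) : F) by norm_num, Ne, CharP.cast_eq_zero_iff F p]
    rcases hp with rfl | rfl <;> norm_num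
  have hchar : ringChar F ≠ 2 := by
    rw [ringChar.eq F p]
    rcases hp with rfl | rfl <;> norm_num
  have h3 : ∀ n : ℕ, p ∣ n → (n : F) = 0 := fun n => (CharP.cast_eq_zero_iff F p n).2
  obtain ⟨θ, hθ⟩ : IsSquare (2 : F) := by
    rw [FiniteField.isSquare_iff hchar h2, hF]
    rcases hp with rfl | rfl
    · have := h3 15 (by norm_num); push_cast at this
      norm_num; linear_combination this
    · have := h3 4095 (by norm_num); push_cast at this
      norm_num; linear_combination this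
  have hθ0 : θ ≠ 0 := fun h => h2 (by rw [hθ, h, zero_mul])
  refine ⟨θ, hprime, by omega, hF, hc, by rw [← hθ]; norm_num, hθ0, ?_⟩
  rcases hp with rfl | rfl
  · have := h3 3 (by norm_num); push_cast at this
    linear_combination (-θ) * hθ + θ * this
  · have := h3 5 (by norm_num); push_cast at this
    linear_combination (-(θ * θ * θ) - 2 * θ) * hθ + θ * this

lemma conj_mem_SUg {n q : ℕ} {U g : GL (Fin n) F} (hU : U ∈ GU n F q) (hg : g ∈ SUg n F q) :
    U * g * U⁻¹ ∈ SUg n F q := by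
  refine ⟨(GU n F q).mul_mem ((GU n F q).mul_mem hU hg.1) ((GU n F q).inv_mem hU), ?_⟩
  show Matrix.GeneralLinearGroup.det (U * g * U⁻¹) = 1
  rw [map_mul, map_mul, show Matrix.GeneralLinearGroup.det g = 1 from hg.2, mul_one, map_inv,
    mul_inv_cancel]

/-- A subgroup conjugate into a property that a proper overgroup breaks is not maximal. -/
theorem not_max_of_std {n q : ℕ} {H : Subgroup (GL (Fin n) F)} (hH : H ≤ SUg n F q)
    {U : GL (Fin n) F} (hU : U ∈ GU n F q) {X : Subgroup (GL (Fin n) F)} (Pr : GL (Fin n) F → Prop)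
    (h1 : ∀ h ∈ H, Pr (U * h * U⁻¹)) (h2 : ∀ h ∈ SUg n F q, Pr h → h ∈ X)
    (h3 : ∃ t ∈ X ⊓ SUg n F q, ¬ Pr t) (h4 : ¬ SUg n F q ≤ X) :
    ¬ IsMaximalIn (SUg n F q) H := by
  intro hmax
  have hUi : U⁻¹ ∈ GU n F q := (GU n F q).inv_mem hU
  have hle : H ≤ X.comap (MulAut.conj U).toMonoidHom ⊓ SUg n F q :=
    le_inf (fun h hh => h2 _ (conj_mem_SUg hU (hH hh)) (h1 h hh)) hH
  rcases hmax.2 _ hle inf_le_right with h | h
  · obtain ⟨t, ht, htP⟩ := h3
    have hm : U⁻¹ * t * U⁻¹⁻¹ ∈ X.comap (MulAut.conj U).toMonoidHom ⊓ SUg n F q := ⟨by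
      show U * (U⁻¹ * t * U⁻¹⁻¹) * U⁻¹ ∈ X
      rw [show U * (U⁻¹ * t * U⁻¹⁻¹) * U⁻¹ = t by group]
      exact ht.1, conj_mem_SUg hUi ht.2⟩
    rw [h] at hm
    have := h1 _ hm
    rw [show U * (U⁻¹ * t * U⁻¹⁻¹) * U⁻¹ = t by group] at this
    exact htP this
  · refine h4 fun x hx => ?_
    have hm : U⁻¹ * x * U⁻¹⁻¹ ∈ X.comap (MulAut.conj U).toMonoidHom ⊓ SUg n F q :=
      h.ge (conj_mem_SUg hUi hx)
    have h5 : U * (U⁻¹ * x * U⁻¹⁻¹) * U⁻¹ ∈ X := hm.1
    rwa [show U * (U⁻¹ * x * U⁻¹⁻¹) * U⁻¹ = x by group] at h5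

lemma eq_of_digits {N x : ℕ} (hx : x < N ^ 3) :
    x = x / N ^ 0 % N + N * (x / N ^ 1 % N) + N ^ 2 * (x / N ^ 2 % N) := by
  have hN : 0 < N := Nat.pos_of_ne_zero fun h => by simp [h] at hx
  have h2 : x / N ^ 2 % N = x / N ^ 2 :=
    Nat.mod_eq_of_lt ((Nat.div_lt_iff_lt_mul (pow_pos hN 2)).2 (by rw [← pow_succ']; exact hx))
  have e1 := Nat.mod_add_div x N
  have e2 := Nat.mod_add_div (x / N) N
  rw [Nat.div_div_eq_div_mul, ← sq] at e2
  rw [pow_zero, Nat.div_one, pow_one, h2]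
  linear_combination -e1 - N * e2

variable (h : Root p d θ)

include h

lemma Root.vecF_inj {x y : ℕ} (hx : x < (p * p) ^ 3) (hy : y < (p * p) ^ 3)
    (he : vecF p θ x = vecF p θ y) : x = y := by
  have hc : ∀ i : Fin 3, co p x i = co p y i := fun i =>
    h.val_inj (co_lt h.pos _ _) (co_lt h.pos _ _) (congrFun he i)
  rw [eq_of_digits hx, eq_of_digits hy]
  have h0 := hc 0
  have h1 := hc 1
  have h2 := hc 2
  simp only [co, Fin.val_zero, Fin.val_one, Fin.val_two] at h0 h1 h2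
  rw [h0, h1, h2]

omit h in
lemma row_lt {p : ℕ} (hp : 0 < p) (M i : ℕ) : row p M i < (p * p) ^ 3 :=
  Nat.mod_lt _ (pow_pos (Nat.mul_pos hp hp) 3)

lemma Root.matF_inj {M N : ℕ} (hM : M < ((p * p) ^ 3) ^ 3) (hN : N < ((p * p) ^ 3) ^ 3)
    (he : matF p θ M = matF p θ N) : M = N := by
  have hr : ∀ i : Fin 3, row p M i = row p N i := fun i =>
    h.vecF_inj (row_lt h.pos _ _) (row_lt h.pos _ _) (funext fun j => congrFun (congrFun he i) j)
  rw [eq_of_digits hM, eq_of_digits hN]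
  have h0 := hr 0
  have h1 := hr 1
  have h2 := hr 2
  simp only [row, Fin.val_zero, Fin.val_one, Fin.val_two] at h0 h1 h2
  rw [h0, h1, h2]

omit h in
lemma encM_lt {p a b c : ℕ} (ha : a < (p * p) ^ 3) (hb : b < (p * p) ^ 3) (hc : c < (p * p) ^ 3) :
    encM p a b c < ((p * p) ^ 3) ^ 3 := by
  have hN := ha
  unfold encM
  generalize (p * p) ^ 3 = N at ha hb hc
  calc a + N * b + N ^ 2 * c < N + N * b + N ^ 2 * c := by omega
    _ = N * (b + 1) + N ^ 2 * c := by ring
    _ ≤ N * N + N ^ 2 * c := Nat.add_le_add_right (Nat.mul_le_mul_left _ hb) _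
    _ = N ^ 2 * (c + 1) := by ring
    _ ≤ N ^ 2 * N := Nat.mul_le_mul_left _ hc
    _ = N ^ 3 := by ring

omit h in
lemma mm_lt {p : ℕ} (hp : 0 < p) (d A B : ℕ) : mm p d A B < ((p * p) ^ 3) ^ 3 :=
  have hr : ∀ i, mmRow p d A B i < (p * p) ^ 3 := fun _ =>
    enc_lt (dot_lt hp _ _ _) (dot_lt hp _ _ _) (dot_lt hp _ _ _)
  encM_lt (hr 0) (hr 1) (hr 2)

omit h in
lemma mv_lt {p : ℕ} (hp : 0 < p) (d M v : ℕ) : mv p d M v < (p * p) ^ 3 :=
  enc_lt (dot_lt hp _ _ _) (dot_lt hp _ _ _) (dot_lt hp _ _ _)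

/-- The overgroup of the normaliser of a cycle of order seven. -/
theorem Root.field_overgroup {r : ℕ} {S gens P : List ℕ} {y K KI : ℕ}
    (hcert : isCert p d S gens y = true) (hfc : fieldCheck p d r gens P K KI = true)
    (hcent : centCheck p d P = true) (hr7 : r < 7) :
    ∃ (g : GL (Fin 3) F) (X : Subgroup (GL (Fin 3) F)), g ∈ SUg 3 F p ∧ g ≠ 1 ∧ g ^ 7 = 1 ∧
      (∀ h ∈ SUg 3 F p, (∃ j : ℕ, h * g * h⁻¹ = g ^ j) → h ∈ X) ∧
      (∃ t ∈ X ⊓ SUg 3 F p, ∀ j : ℕ, t * g * t⁻¹ ≠ g ^ j) ∧ ¬ SUg 3 F p ≤ X := by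
  classical
  have hF := h.card
  simp only [fieldCheck, Bool.and_eq_true, beq_iff_eq, List.all_eq_true, List.mem_range] at hfc
  obtain ⟨⟨⟨⟨⟨⟨⟨⟨⟨⟨⟨hPl, hgl⟩, hg0⟩, hP0⟩, hP7⟩, hstep⟩, hsrel⟩, htrel⟩, htr⟩, hg1⟩, hK⟩, hKcol⟩ := hfc
  obtain ⟨hgens, htop⟩ := h.cert hcert
  have hmem : ∀ i, i < 3 → gens.getD i 0 ∈ gens := fun i hi => by
    rw [List.getD_eq_getElem _ _ (by omega)]; exact List.getElem_mem _
  obtain ⟨g, hgX, hg⟩ := hgens _ (hmem 0 (by norm_num))
  obtain ⟨s, hsX, hs⟩ := hgens _ (hmem 1 (by norm_num))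
  obtain ⟨t, htX, ht⟩ := hgens _ (hmem 2 (by norm_num))
  rw [hg0] at hg
  have hgp : ∀ i, i ≤ 7 → ((g ^ i : GL (Fin 3) F) : Matrix (Fin 3) (Fin 3) F) = matF p θ (P.getD i 0) := by
    intro i
    induction i with
    | zero => intro _; rw [pow_zero, Units.val_one, hP0, h.matF_idC]
    | succ i ih =>
      intro hi
      rw [pow_succ', Units.val_mul, ih (by omega), ← hstep i (by omega), h.matF_mm, hg]
  have hg7 : g ^ 7 = 1 := Units.ext (by rw [hgp 7 le_rfl, hP7, h.matF_idC, Units.val_one])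
  have hgpow : ∀ i, ((g ^ i : GL (Fin 3) F) : Matrix (Fin 3) (Fin 3) F) =
      matF p θ (P.getD (i % 7) 0) := fun i => by
    rw [pow_eq_pow_mod i hg7]; exact hgp _ (by omega)
  let X := lineStab p θ S
  let e := vecF p θ 1
  have hginj : ∀ M N, matF p θ M = matF p θ N → mv p d M 1 = mv p d N 1 := fun M N he =>
    h.vecF_inj (mv_lt h.pos _ _ _) (mv_lt h.pos _ _ _) (by rw [h.vecF_mv, h.vecF_mv, he])
  have hsg : s * g * s⁻¹ = g ^ r := by
    rw [mul_inv_eq_iff_eq_mul]
    exact Units.ext (by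
      rw [Units.val_mul, Units.val_mul, hs, hgpow r, hg, Nat.mod_eq_of_lt hr7, ← h.matF_mm,
        ← h.matF_mm, hsrel])
  have hspow : ∀ i : ℕ, s ^ i * g * (s ^ i)⁻¹ = g ^ r ^ i := by
    intro i
    induction i with
    | zero => simp
    | succ i ih =>
      rw [show s ^ (i + 1) * g * (s ^ (i + 1))⁻¹ = s * (s ^ i * g * (s ^ i)⁻¹) * s⁻¹ by
        rw [pow_succ']; group, ih, ← conj_pow, hsg, ← pow_mul, ← pow_succ']
  have hcentX : ∀ c ∈ SUg 3 F p, c * g = g * c → c ∈ X := by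
    intro c hc hcg
    obtain ⟨w, hwlt, hw⟩ := h.vecF_surj ((c : Matrix (Fin 3) (Fin 3) F) *ᵥ e)
    have hcomm : ∀ i : ℕ, (c : Matrix (Fin 3) (Fin 3) F) * matF p θ (P.getD (i % 7) 0) =
        matF p θ (P.getD (i % 7) 0) * (c : Matrix (Fin 3) (Fin 3) F) := fun i => by
      rw [← hgpow, ← Units.val_mul, ← Units.val_mul]
      exact congrArg Units.val (Commute.pow_right hcg i)
    have himg : ∀ i, i < 7 → vecF p θ (mv p d (P.getD i 0) w) =
        (c : Matrix (Fin 3) (Fin 3) F) *ᵥ vecF p θ (mv p d (P.getD i 0) 1) := fun i hi => by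
      have := hcomm i
      rw [Nat.mod_eq_of_lt hi] at this
      rw [h.vecF_mv, h.vecF_mv, hw, Matrix.mulVec_mulVec, ← this, ← Matrix.mulVec_mulVec]
    have hcond := List.all_eq_true.1 hcent w (List.mem_range.2 hwlt)
    simp only [Bool.or_eq_true, List.any_eq_true, List.mem_range, bne_iff_ne, beq_iff_eq] at hcond
    have hlt : ∀ u v, hermC p d u v < p * p := fun u v => dot_lt h.pos _ _ _
    rcases hcond with (((hne | hne) | hne) | hne) | ⟨j, hj, l, hl, hwl⟩
    · refine absurd (h.val_inj (hlt _ _) (hlt _ _) ?_) hne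
      rw [h.val_hermC, h.val_hermC, hw, mem_GU_iff.1 hc.1]
    · refine absurd (h.val_inj (hlt _ _) (hlt _ _) ?_) hne
      rw [h.val_hermC, h.val_hermC, himg 1 (by norm_num), hw, mem_GU_iff.1 hc.1]
    · refine absurd (h.val_inj (hlt _ _) (hlt _ _) ?_) hne
      rw [h.val_hermC, h.val_hermC, himg 2 (by norm_num), hw, mem_GU_iff.1 hc.1]
    · refine absurd (h.val_inj (x := detC p d _) (y := detC p d _) (addC_lt h.pos _ _)
        (addC_lt h.pos _ _) ?_) hne
      rw [← h.det_matF, ← h.det_matF]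
      set M1 := encM p 1 (mv p d (P.getD 1 0) 1) (mv p d (P.getD 2 0) 1)
      have h1lt : (1 : ℕ) < (p * p) ^ 3 :=
        Nat.one_lt_pow (by norm_num) (by have := h.three_le; nlinarith)
      have hT : (matF p θ (encM p w (mv p d (P.getD 1 0) w) (mv p d (P.getD 2 0) w)))ᵀ =
          (c : Matrix (Fin 3) (Fin 3) F) * (matF p θ M1)ᵀ := by
        ext i a
        rw [Matrix.mul_apply]
        have hrw : vecF p θ (row p (encM p w (mv p d (P.getD 1 0) w) (mv p d (P.getD 2 0) w)) a) =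
            (c : Matrix (Fin 3) (Fin 3) F) *ᵥ vecF p θ (row p M1 a) := by
          rw [row_encM hwlt (mv_lt h.pos _ _ _) (mv_lt h.pos _ _ _),
            row_encM h1lt (mv_lt h.pos _ _ _) (mv_lt h.pos _ _ _)]
          fin_cases a
          · exact hw
          · exact himg 1 (by norm_num)
          · exact himg 2 (by norm_num)
        exact congrFun hrw i
      have := congrArg Matrix.det hT
      rw [Matrix.det_transpose, Matrix.det_mul, Matrix.det_transpose,
        show (c : Matrix (Fin 3) (Fin 3) F).det = 1 from congrArg Units.val hc.2, one_mul] at this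
      exact this
    · let D := (c : Matrix (Fin 3) (Fin 3) F) - val p θ l • matF p θ (P.getD (j % 7) 0)
      have hDe : ∀ i : ℕ, D *ᵥ (matF p θ (P.getD (i % 7) 0) *ᵥ e) = 0 := fun i => by
        have h1 : D * matF p θ (P.getD (i % 7) 0) = matF p θ (P.getD (i % 7) 0) * D := by
          have hcj : matF p θ (P.getD (j % 7) 0) * matF p θ (P.getD (i % 7) 0) =
              matF p θ (P.getD (i % 7) 0) * matF p θ (P.getD (j % 7) 0) := by
            rw [← hgpow, ← hgpow, ← Units.val_mul, ← Units.val_mul, (Commute.pow_pow_self g j i).eq]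
          simp only [D, sub_mul, mul_sub, hcomm, Matrix.smul_mul, Matrix.mul_smul, hcj]
        rw [Matrix.mulVec_mulVec, h1, ← Matrix.mulVec_mulVec]
        simp only [D, Matrix.sub_mulVec, Matrix.smul_mulVec]
        rw [← hw, hwl, h.vecF_sc, h.vecF_mv, Nat.mod_eq_of_lt hj, sub_self, Matrix.mulVec_zero]
      have hDK : D * matF p θ K = 0 := by
        refine Matrix.ext fun a b => ?_
        have hb : (fun k => matF p θ K k b) = matF p θ (P.getD (b.val % 7) 0) *ᵥ e := by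
          rw [← h.vecF_mv, Nat.mod_eq_of_lt (by omega : b.val < 7),
            ← hKcol b b.isLt]
          funext k
          exact congrArg (val p θ) (co_col h.pos K k b).symm
        have h0 := congrFun (hDe b) a
        rw [← hb] at h0
        exact h0
      have hD0 : D = 0 := by
        calc D = D * (matF p θ K * matF p θ KI) := by rw [← h.matF_mm, hK, h.matF_idC, mul_one]
          _ = 0 := by rw [← mul_assoc, hDK, zero_mul]
      exact lineStab_of_smul (μ := val p θ l) (X.pow_mem hgX.1 j)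
        (by rw [hgpow]; exact sub_eq_zero.1 hD0)
  refine ⟨g, X, hgX.2, ?_, hg7, ?_, ⟨t, htX, ?_⟩, htop⟩
  · intro he
    have h0 := congrArg (fun x : GL (Fin 3) F => (x : Matrix (Fin 3) (Fin 3) F)) he
    simp only [hg, Units.val_one] at h0
    rw [← h.matF_idC] at h0
    simp only [bne_iff_ne] at hg1
    exact hg1 (hginj _ _ h0)
  · rintro x hx ⟨j, hj⟩
    have e1 : ((g ^ j : GL (Fin 3) F) : Matrix (Fin 3) (Fin 3) F).trace =
        (g : Matrix (Fin 3) (Fin 3) F).trace := by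
      rw [← hj, Units.val_mul, Units.val_mul, Matrix.trace_mul_comm, ← mul_assoc,
        ← Units.val_mul, inv_mul_cancel, Units.val_one, one_mul]
    rw [hgpow j, hg, h.trace_matF, h.trace_matF] at e1
    have hrr := htr (j % 7) (Nat.mod_lt _ (by norm_num))
    rw [h.val_inj (x := trC p _) (y := trC p _) (addC_lt h.pos _ _) (addC_lt h.pos _ _) e1] at hrr
    simp at hrr
    obtain ⟨i, hi⟩ : ∃ i : ℕ, g ^ r ^ i = g ^ j := by
      have hm : ∀ a b : ℕ, a % 7 = b % 7 → g ^ a = g ^ b := fun a b hab => by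
        rw [pow_eq_pow_mod a hg7, pow_eq_pow_mod b hg7, hab]
      rcases hrr with h1 | h1 | h1
      · exact ⟨0, hm _ _ (by simp [h1])⟩
      · exact ⟨1, hm _ _ (by rw [pow_one, h1]; omega)⟩
      · exact ⟨2, hm _ _ (by rw [h1, pow_two])⟩
    have hcx : (s ^ i)⁻¹ * x * g = g * ((s ^ i)⁻¹ * x) := by
      have e2 : x * g = s ^ i * g * (s ^ i)⁻¹ * x := by
        rw [hspow, hi, ← hj]; group
      calc (s ^ i)⁻¹ * x * g = (s ^ i)⁻¹ * (x * g) := by rw [mul_assoc]
        _ = g * ((s ^ i)⁻¹ * x) := by rw [e2]; group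
    have := X.mul_mem (X.pow_mem hsX.1 i)
      (hcentX _ ((SUg 3 F p).mul_mem ((SUg 3 F p).inv_mem ((SUg 3 F p).pow_mem hsX.2 i)) hx) hcx)
    rwa [mul_inv_cancel_left] at this
  · intro j hj
    rw [mul_inv_eq_iff_eq_mul] at hj
    have hm := congrArg (fun x : GL (Fin 3) F => (x : Matrix (Fin 3) (Fin 3) F)) hj
    simp only [Units.val_mul] at hm
    rw [ht, hgpow j, hg, ← h.matF_mm, ← h.matF_mm] at hm
    have hrr := htrel (j % 7) (Nat.mod_lt _ (by norm_num))
    simp only [bne_iff_ne] at hrr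
    exact hrr (hginj _ _ hm)

end Three

open Three

variable {F : Type*} [Field F] [Fintype F] {p : ℕ}

/-- An element of order seven in the special unitary group normalised by the normaliser of the
field. -/
theorem exists_cycle_three (hp : p = 3 ∨ p = 5) (hF : Fintype.card F = p ^ 2)
    {K : Subalgebra F (Matrix (Fin 3) (Fin 3) F)} (hK : IsFieldSubalgebra 3 K)
    (hs : IsAdjointClosedFor (hermForm 3 F p) K) :
    ∃ k ∈ SUg 3 F p, k ≠ 1 ∧ k ^ 7 = 1 ∧
      ∀ h ∈ subalgebraNormalizer K, h * k * h⁻¹ ∈ Subgroup.zpowers k := by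
  classical
  haveI : Nonempty (Fin 3) := ⟨0⟩
  have hprime : p.Prime := by rcases hp with rfl | rfl <;> norm_num
  haveI := Fact.mk hprime
  have hst' := starClosed_of_isAdjointClosedFor hF hs
  haveI : Finite K := Module.finite_of_finite F
  letI fK : Fintype K := Fintype.ofFinite K
  letI fld := (Aschbacher.isField_of_isFieldSubalgebra hK).toField
  haveI hcF : CharP F p := charP_of_card_eq_prime_pow hF
  haveI hcK : CharP K p := charP_of_injective_algebraMap (algebraMap F K).injective p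
  let τ : K ≃+* K :=
    { toFun := fun x => ⟨hst p (x : Matrix (Fin 3) (Fin 3) F), hst' _ x.2⟩
      invFun := fun x => ⟨hst p (x : Matrix (Fin 3) (Fin 3) F), hst' _ x.2⟩
      left_inv := fun x => Subtype.ext (hst_hst hF _)
      right_inv := fun x => Subtype.ext (hst_hst hF _)
      map_mul' := fun x y => Subtype.ext (by
        show hst p ((x : Matrix (Fin 3) (Fin 3) F) * (y : Matrix (Fin 3) (Fin 3) F)) =
          hst p (x : Matrix (Fin 3) (Fin 3) F) * hst p (y : Matrix (Fin 3) (Fin 3) F)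
        rw [hst_mul hF]
        exact hK.comm _ (hst' _ y.2) _ (hst' _ x.2))
      map_add' := fun x y => Subtype.ext (hst_add hF _ _) }
  have hcardK : Fintype.card K = p ^ 6 := by
    rw [Module.card_eq_pow_finrank (K := F) (V := K), hK.finrank_eq, hF, ← pow_mul]
  obtain ⟨u, hu⟩ := IsCyclic.exists_generator (α := Kˣ)
  have hou : orderOf u = p ^ 6 - 1 := by
    rw [orderOf_eq_card_of_forall_mem_zpowers hu, Nat.card_units, Nat.card_eq_fintype_card, hcardK]
  set z : K := ((u ^ ((p ^ 6 - 1) / 7) : Kˣ) : K)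
  have hz : orderOf z = 7 := by
    rw [orderOf_units, orderOf_pow, hou]
    rcases hp with rfl | rfl <;> norm_num
  have hprim : IsPrimitiveRoot z 7 := hz ▸ IsPrimitiveRoot.orderOf z
  obtain ⟨j, hj⟩ := exists_pow_char p τ
  have hper : ∀ a b : ℕ, p ^ (a + 6 * b) % 7 = p ^ a % 7 := fun a b => by
    rw [pow_add, pow_mul, Nat.mul_mod, Nat.pow_mod (p ^ 6),
      show p ^ 6 % 7 = 1 by rcases hp with rfl | rfl <;> norm_num, one_pow, Nat.one_mod, mul_one,
      Nat.mod_mod]
  have hτz : τ z * z = 1 := by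
    have h3 : 3 ∣ j := by
      have h1 : z ^ p ^ (2 * j) = z := by
        have := hj (τ z)
        rw [show τ (τ z) = z from Subtype.ext (hst_hst hF _), hj z, ← pow_mul, ← pow_add] at this
        rw [two_mul]; exact this.symm
      have h2 : p ^ (2 * j) % 7 = 1 :=
        hprim.pow_inj (Nat.mod_lt _ (by norm_num)) (show 1 < 7 by norm_num)
          (i := p ^ (2 * j) % 7) (by rw [pow_one, ← hz, pow_mod_orderOf]; exact h1)
      rw [show 2 * j = 2 * (j % 3) + 6 * (j / 3) by omega, hper] at h2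
      have := Nat.mod_lt j (show 3 > 0 by norm_num)
      rcases hp with rfl | rfl <;> interval_cases hm : j % 3 <;> simp_all <;> omega
    have hodd : Odd j := by
      rw [← Nat.not_even_iff_odd]
      rintro ⟨i, hi⟩
      obtain ⟨x, hx⟩ : ∃ x : F, x ^ p ≠ x := by
        by_contra hall
        push Not at hall
        have := card_fixed hF
        rw [Nat.card_congr (Equiv.subtypeUnivEquiv hall), Nat.card_eq_fintype_card, hF] at this
        rcases hp with rfl | rfl <;> norm_num at this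
      have h := hj (algebraMap F K x)
      have hl : τ (algebraMap F K x) = algebraMap F K (x ^ p) := Subtype.ext (by
        show hst p (algebraMap F (Matrix (Fin 3) (Fin 3) F) x) = algebraMap F _ (x ^ p)
        rw [Algebra.algebraMap_eq_smul_one, hst_smul_one hF, ← Algebra.algebraMap_eq_smul_one])
      rw [hl, ← map_pow, hi, ← two_mul, pow_mul, ← hF, FiniteField.pow_card_pow] at h
      exact hx ((algebraMap F K).injective h)
    have h7 : (p ^ j + 1) % 7 = 0 := by
      obtain ⟨i, rfl⟩ := h3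
      obtain ⟨a, ha⟩ := hodd
      rw [show 3 * i = 3 + 6 * (i / 2) by omega, Nat.add_mod, hper]
      rcases hp with rfl | rfl <;> norm_num
    rw [hj z, ← pow_succ, ← pow_mod_orderOf, hz, h7, pow_zero]
  have hz7 : z ^ 7 = 1 := hprim.pow_eq_one
  have hzM : (z : Matrix (Fin 3) (Fin 3) F) ^ 7 = 1 := by
    have := congrArg Subtype.val hz7
    simpa using this
  let k : GL (Fin 3) F := ⟨(z : Matrix (Fin 3) (Fin 3) F), (z : Matrix (Fin 3) (Fin 3) F) ^ 6,
    by rw [← pow_succ']; exact hzM, by rw [← pow_succ]; exact hzM⟩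
  have hkU : k ∈ GU 3 F p := (mem_GU_iff_hst hF).2 (congrArg Subtype.val hτz)
  have hk7 : k ^ 7 = 1 := Units.ext (by rw [Units.val_pow_eq_pow_val]; exact hzM)
  have hkS : k ∈ SUg 3 F p := by
    refine ⟨hkU, ?_⟩
    show Matrix.GeneralLinearGroup.det k = 1
    set δ := Matrix.GeneralLinearGroup.det k
    have h1 : δ ^ 7 = 1 := by rw [← map_pow, hk7, map_one]
    have h2 : δ ^ (p + 1) = 1 := Units.ext (by
      rw [Units.val_pow_eq_pow_val, pow_succ', Units.val_one]
      exact (mem_GU_iff.1 hkU).det_norm hF)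
    have h := pow_gcd_eq_one.2 ⟨h1, h2⟩
    rcases hp with rfl | rfl <;> norm_num at h <;> exact h
  refine ⟨k, hkS, fun h => hprim.ne_one (by norm_num)
    (Subtype.ext (congrArg (fun g : GL (Fin 3) F => (g : Matrix (Fin 3) (Fin 3) F)) h)), hk7,
    fun h hh => ?_⟩
  let w : K := ⟨_, Aschbacher.cj_mem_of_mem_normalizer hh z.2⟩
  have hwval : (w : Matrix (Fin 3) (Fin 3) F) = ((h * k * h⁻¹ : GL (Fin 3) F) : Matrix (Fin 3) (Fin 3) F) := by
    show Aschbacher.cj h (z : Matrix (Fin 3) (Fin 3) F) = _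
    rw [Aschbacher.cj_apply]
    simp [k]
  have hw : w ^ 7 = 1 := Subtype.ext (by
    rw [SubmonoidClass.coe_pow, hwval, ← Units.val_pow_eq_pow_val, conj_pow, hk7]
    simp)
  obtain ⟨i, -, hi⟩ := hprim.eq_pow_of_pow_eq_one hw
  refine ⟨i, ?_⟩
  show k ^ (i : ℤ) = h * k * h⁻¹
  rw [zpow_natCast]
  exact Units.ext (by
    rw [Units.val_pow_eq_pow_val, ← hwval, ← hi]
    simp [k])

theorem card_SUg_three_small (hp : p = 3 ∨ p = 5) (hF : Fintype.card F = p ^ 2) :
    ∃ m, ¬ 7 ∣ m ∧ Nat.card (SUg 3 F p) = 7 * m := by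
  have h1 := card_GU hF 3
  rw [card_GU_eq_mul_card_SU hF (by norm_num)] at h1
  have h2 : Nat.card (SUg 3 F p) = Nat.card (SU 3 F p) := by
    rw [← range_toG]
    exact Nat.card_congr (MonoidHom.ofInjective toG_injective).symm.toEquiv
  rcases hp with rfl | rfl
  · rw [show (3 : ℕ) ^ (3 * (3 - 1) / 2) * ∏ i ∈ Finset.range 3, guFactor 3 i = 4 * 6048 by
      simp [Finset.prod_range_succ, guFactor, parity_simps]] at h1
    exact ⟨864, by norm_num, by omega⟩
  · rw [show (5 : ℕ) ^ (3 * (3 - 1) / 2) * ∏ i ∈ Finset.range 3, guFactor 5 i = 6 * 378000 by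
      simp [Finset.prod_range_succ, guFactor, parity_simps]] at h1
    exact ⟨54000, by norm_num, by omega⟩

/-- The normaliser of a cubic field is not maximal for `q = 3` and `q = 5`. -/
theorem field_three_small (hp : p = 3 ∨ p = 5) (hF : Fintype.card F = p ^ 2)
    {K : Subalgebra F (Matrix (Fin 3) (Fin 3) F)} (hK : IsFieldSubalgebra 3 K)
    (hs : IsAdjointClosedFor (hermForm 3 F p) K) :
    ¬ IsMaximalIn (SUg 3 F p) (subalgebraNormalizer K ⊓ SUg 3 F p) := by
  classical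
  obtain ⟨θ, hθ⟩ := exists_root hp hF
  obtain ⟨g, X, hg, hg1, hg7, hX, htg, hXtop⟩ :
      ∃ (g : GL (Fin 3) F) (X : Subgroup (GL (Fin 3) F)), g ∈ SUg 3 F p ∧ g ≠ 1 ∧ g ^ 7 = 1 ∧
      (∀ h ∈ SUg 3 F p, (∃ j : ℕ, h * g * h⁻¹ = g ^ j) → h ∈ X) ∧
      (∃ t ∈ X ⊓ SUg 3 F p, ∀ j : ℕ, t * g * t⁻¹ ≠ g ^ j) ∧ ¬ SUg 3 F p ≤ X := by
    rcases hp with rfl | rfl
    · exact hθ.field_overgroup fldThree_cert fldThree_field fldThree_cent (by norm_num)
    · exact hθ.field_overgroup fldFive_cert fldFive_field fldFive_cent (by norm_num)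
  obtain ⟨k, hk, hk1, hk7, hnorm⟩ := exists_cycle_three hp hF hK hs
  obtain ⟨m, hm7, hm⟩ := card_SUg_three_small hp hF
  haveI : Fact (Nat.Prime 7) := ⟨by norm_num⟩
  set G := SUg 3 F p
  have hm0 : m ≠ 0 := fun h => hm7 (h ▸ dvd_zero 7)
  have hcard : ∀ x : G, x ≠ 1 → x ^ 7 = 1 →
      Nat.card (Subgroup.zpowers x) = 7 ^ (Nat.card G).factorization 7 := by
    intro x h1 h7
    rw [Nat.card_zpowers, orderOf_eq_prime h7 h1, hm, Nat.factorization_mul (by norm_num) hm0]
    simp [Nat.Prime.factorization_self (by norm_num : Nat.Prime 7),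
      Nat.factorization_eq_zero_of_not_dvd hm7]
  let P := Sylow.ofCard (Subgroup.zpowers (⟨k, hk⟩ : G))
    (hcard _ (fun h => hk1 (congrArg Subtype.val h)) (Subtype.ext hk7))
  let Q := Sylow.ofCard (Subgroup.zpowers (⟨g, hg⟩ : G))
    (hcard _ (fun h => hg1 (congrArg Subtype.val h)) (Subtype.ext hg7))
  obtain ⟨⟨c, hc⟩, hcPQ⟩ := MulAction.exists_smul_eq G P Q
  have e'' : (Subgroup.zpowers k).map (MulAut.conj c).toMonoidHom = Subgroup.zpowers g := by
    have e : (Subgroup.zpowers (⟨k, hk⟩ : G)).map (MulAut.conj (⟨c, hc⟩ : G)).toMonoidHom =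
        Subgroup.zpowers (⟨g, hg⟩ : G) := congrArg (fun S : Sylow 7 G => (S : Subgroup G)) hcPQ
    have e' := congrArg (Subgroup.map G.subtype) e
    rw [Subgroup.map_map, MonoidHom.map_zpowers, MonoidHom.map_zpowers] at e'
    rw [MonoidHom.map_zpowers]; exact e'
  refine not_max_of_std inf_le_right hc.1 (fun x => ∃ j : ℕ, x * g * x⁻¹ = g ^ j) (fun h hh => ?_)
    (fun h hh => hX h hh) (by obtain ⟨t, ht, htn⟩ := htg; exact ⟨t, ht, fun ⟨j, hj⟩ => htn j hj⟩) hXtop
  have hgm : g ∈ (Subgroup.zpowers k).map (MulAut.conj c).toMonoidHom :=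
    e''.ge (Subgroup.mem_zpowers g)
  obtain ⟨y, ⟨i, rfl⟩, hy⟩ := hgm
  have h3 : c * (h * k ^ i * h⁻¹) * c⁻¹ ∈ Subgroup.zpowers g := by
    refine e''.le ⟨h * k ^ i * h⁻¹, ?_, rfl⟩
    rw [← conj_zpow]
    exact Subgroup.zpow_mem _ (hnorm h hh.1) i
  have hy' : c * k ^ i * c⁻¹ = g := hy
  rw [show c * (h * k ^ i * h⁻¹) * c⁻¹ = c * h * c⁻¹ * (c * k ^ i * c⁻¹) * (c * h * c⁻¹)⁻¹ by group,
    hy'] at h3
  obtain ⟨j, hj⟩ := (isOfFinOrder_of_finite g).mem_powers_iff_mem_zpowers.2 h3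
  exact ⟨j, hj.symm⟩

end Cfsg.Agent.Unitary.Asch
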