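/-
Certificates for the frame, orthogonal and extraspecial cases over the field with twenty-five
elements.
-/
import Cfsg.Agent.Unitary.AschThreeData

set_option autoImplicit false
set_option maxHeartbeats 1000000
set_option maxRecDepth 20000

namespace Cfsg.Agent.Unitary.Asch.Three

lemma frm_cert : isCert 5 2 frmPts frmGens frmOut = true := by decide +kernel

lemma frm_list : isClosureList 5 2 frmGens frmList = true := by decide +kernel

lemma frm_check : monoCheck 5 2 frmGens frmList = true := by decide +kernel

lemma ort_cert : isCert 5 2 ortPts ortGens ortOut = true := by decide +kernel

lemma ort_list : isClosureList 5 2 ortGens ortList = true := by decide +kernel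

lemma ort_check : orthCheck 5 2 ortGens ortList = true := by decide +kernel

lemma ext_cert : isCert 5 2 extPts extGens extOut = true := by decide +kernel

lemma ext_list : isClosureList 5 2 extGens extList = true := by decide +kernel

lemma ext_check : extCheck 5 2 extGens extList extGroup extD extS extW extTriples = true := by decide +kernel

lemma extGrp_list : isClosureList 5 2 [extD, extS] extGrpList = true := by decide +kernel

lemma extGrp_fst : extGrpList.map Prod.fst = extGroup := by decide +kernel

lemma extGroup_lt : ∀ x ∈ extGroup, x < ((5 * 5) ^ 3) ^ 3 := by decide +kernel

lemma extGroup_nodup : extGroup.Nodup := by decide +kernel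

end Cfsg.Agent.Unitary.Asch.Three
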