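/-
In three dimensions over the fields with nine and twenty-five elements: frame stabilisers,
orthogonal subfield groups and normalisers of extraspecial groups.
-/
import Cfsg.Agent.Unitary.AschThreeField
import Cfsg.Agent.Unitary.AschSubOrth
import Cfsg.Agent.Unitary.AschThreeGroups

set_option autoImplicit false
set_option maxHeartbeats 2000000
set_option linter.unusedSectionVars false
set_option linter.style.haveILetI false

namespace Cfsg.Agent.Unitary.Asch

open scoped MatrixGroups Matrix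
open Cfsg Cfsg.Geo Cfsg.Agent.Unitary Matrix

namespace Three

variable {F : Type*} [Field F] [Fintype F] {p d : ℕ} {θ : F}

lemma rat_code : ∀ x, x < 25 → cjC 5 x = x → x < 5 := by decide +kernel

lemma rat_code_three : ∀ x, x < 9 → cjC 3 x = x → x < 3 := by decide +kernel

lemma getLastD_mem {l : List ℕ} (h : l ≠ []) : l.getLastD 0 ∈ l := by
  cases l with
  | nil => exact absurd rfl h
  | cons a t =>
    rw [List.getLastD_cons]
    exact List.getLastD_mem_cons

lemma scalar_vanish {c : F} (hc : c ≠ 0) {a b : F} (h : c * a = c * b) : a = b :=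
  mul_left_cancel₀ hc h

variable (h : Root p d θ)

include h

lemma Root.code_fixed {x : ℕ} (hx : x < p * p) (hf : val p θ x ^ p = val p θ x) : cjC p x = x :=
  h.val_inj (cjC_lt h.pos _) hx (by rw [h.val_cjC hx, hf])

lemma Root.matF_eq_rows {M : Matrix (Fin 3) (Fin 3) F} {a b c : ℕ} (ha : a < (p * p) ^ 3)
    (hb : b < (p * p) ^ 3) (hc : c < (p * p) ^ 3) (h0 : vecF p θ a = M 0) (h1 : vecF p θ b = M 1)
    (h2 : vecF p θ c = M 2) : matF p θ (encM p a b c) = M := by
  funext i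
  show vecF p θ (row p (encM p a b c) i) = M i
  rw [row_encM ha hb hc]
  fin_cases i
  exacts [h0, h1, h2]

lemma Root.mem_of_list {gens : List ℕ} {L : List (ℕ × ℕ × ℕ)}
    (hL : isClosureList p d gens L = true) {X : Subgroup (GL (Fin 3) F)}
    (hX : ∀ M ∈ gens, ∃ g ∈ X, (g : Matrix (Fin 3) (Fin 3) F) = matF p θ M) {x : GL (Fin 3) F}
    {M : ℕ} (hM : M ∈ L.map Prod.fst) (hx : (x : Matrix (Fin 3) (Fin 3) F) = matF p θ M) :
    x ∈ X := by
  obtain ⟨e, he, rfl⟩ := List.mem_map.1 hM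
  obtain ⟨g, hg, hgv⟩ := h.closureList hL hX e he
  rwa [show x = g from Units.ext (hx.trans hgv.symm)]

/-- A monomial element of the special unitary group is in the list. -/
lemma Root.mono_mem {gens : List ℕ} {L : List (ℕ × ℕ × ℕ)} {S : List ℕ}
    (hL : isClosureList p d gens L = true) (hc : monoCheck p d gens L = true)
    (hX : ∀ M ∈ gens, ∃ g ∈ lineStab p θ S ⊓ SUg 3 F p, (g : Matrix (Fin 3) (Fin 3) F) = matF p θ M)
    {x : GL (Fin 3) F} (hx : x ∈ SUg 3 F p)
    (hmono : ∀ a : Fin 3, ∃ b : Fin 3, ∀ i, i ≠ b → (x : Matrix (Fin 3) (Fin 3) F) i a = 0) :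
    x ∈ lineStab p θ S := by
  classical
  choose b hb using hmono
  choose z hz hzv using fun a : Fin 3 => h.val_surj ((x : Matrix (Fin 3) (Fin 3) F) (b a) a)
  have hnorm : ∀ a : Fin 3, z a ∈ unitsC p d := by
    intro a
    rw [unitsC, List.mem_filter, List.mem_range]
    refine ⟨hz a, beq_iff_eq.2 (h.val_inj (mulC_lt h.pos _ _ _) (by have := h.three_le; nlinarith) ?_)⟩
    have h1 := mem_GU_iff.1 hx.1 (Pi.single a 1) (Pi.single a 1)
    rw [herm_single_single h.card, if_pos rfl, Matrix.mulVec_single_one] at h1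
    have h2 : ∀ i, i ≠ b a → (x : Matrix (Fin 3) (Fin 3) F) i a *
        (x : Matrix (Fin 3) (Fin 3) F) i a ^ p = 0 := fun i hi => by rw [hb a i hi, zero_mul]
    rw [h.val_mulC, h.val_cjC (hz a), hzv, h.val_one]
    rw [← h1]
    show _ = ∑ i, (x : Matrix (Fin 3) (Fin 3) F) i a * (x : Matrix (Fin 3) (Fin 3) F) i a ^ p
    rw [Finset.sum_eq_single (b a) (fun i _ hi => h2 i hi) (fun hh => absurd (Finset.mem_univ _) hh)]
  have hp0 : 0 < p * p := Nat.mul_pos h.pos h.pos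
  have hif : ∀ a i : Fin 3, (if ((b a : Fin 3) : ℕ) == (i : ℕ) then z a else 0) < p * p := fun a i => by
    split_ifs <;> [exact hz a; exact hp0]
  have hent : ∀ a i : Fin 3, val p θ (if ((b a : Fin 3) : ℕ) == (i : ℕ) then z a else 0) =
      (x : Matrix (Fin 3) (Fin 3) F) i a := fun a i => by
    by_cases hi : i = b a
    · subst hi; rw [if_pos (beq_self_eq_true _), hzv]
    · rw [if_neg (fun he => hi (Fin.ext (beq_iff_eq.1 he).symm)), hb a i hi, h.val_zero]
  have hrow : ∀ i : Fin 3, vecF p θ (enc p (if ((b 0 : Fin 3) : ℕ) == (i : ℕ) then z 0 else 0)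
      (if ((b 1 : Fin 3) : ℕ) == (i : ℕ) then z 1 else 0)
      (if ((b 2 : Fin 3) : ℕ) == (i : ℕ) then z 2 else 0)) = (x : Matrix (Fin 3) (Fin 3) F) i := fun i => by
    funext j
    rw [vecF, co_enc (hif 0 i) (hif 1 i) (hif 2 i), ← hent j i]
    fin_cases j <;> rfl
  have hmat : matF p θ (monoC p (b 0) (b 1) (b 2) (z 0) (z 1) (z 2)) = (x : Matrix (Fin 3) (Fin 3) F) :=
    h.matF_eq_rows (enc_lt (hif 0 0) (hif 1 0) (hif 2 0)) (enc_lt (hif 0 1) (hif 1 1) (hif 2 1))
      (enc_lt (hif 0 2) (hif 1 2) (hif 2 2)) (hrow 0) (hrow 1) (hrow 2)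
  rw [monoCheck] at hc
  have h6 := List.all_eq_true.1 (List.all_eq_true.1 (List.all_eq_true.1 (List.all_eq_true.1
    (List.all_eq_true.1 (List.all_eq_true.1 (Bool.and_eq_true_iff.1 hc).1 _
      (List.mem_range.2 (b 0).isLt)) _ (List.mem_range.2 (b 1).isLt)) _
      (List.mem_range.2 (b 2).isLt)) _ (hnorm 0)) _ (hnorm 1)) _ (hnorm 2)
  rcases Bool.or_eq_true_iff.1 h6 with hd | hd
  · rw [bne_iff_ne] at hd
    refine absurd (h.val_inj (x := detC p d _) (addC_lt h.pos _ _) (by have := h.three_le; nlinarith) ?_) hd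
    rw [← h.det_matF, hmat, h.val_one]
    exact congrArg Units.val hx.2
  · exact h.mem_of_list hL (fun M hM => (hX M hM).imp fun g hg => ⟨hg.1.1, hg.2⟩)
      (List.contains_iff_mem.1 hd) hmat.symm

/-- The last generator is not monomial. -/
lemma Root.not_mono {M : ℕ} {x : GL (Fin 3) F} (hx : (x : Matrix (Fin 3) (Fin 3) F) = matF p θ M)
    (hc : notMono p M = true) :
    ¬ ∀ a : Fin 3, ∃ b : Fin 3, ∀ i, i ≠ b → (x : Matrix (Fin 3) (Fin 3) F) i a = 0 := by
  intro hm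
  simp only [notMono, List.any_eq_true, List.mem_range, Bool.and_eq_true, bne_iff_ne] at hc
  obtain ⟨a, ha, i, hi, j, hj, ⟨hij, hia⟩, hja⟩ := hc
  obtain ⟨b, hb⟩ := hm ⟨a, ha⟩
  have key : ∀ k (hk : k < 3), ent p M k a ≠ 0 → (⟨k, hk⟩ : Fin 3) = b := fun k hk hne => by
    by_contra hkb
    have := hb _ hkb
    rw [hx] at this
    exact h.val_ne_zero (co_lt h.pos _ _) hne this
  exact hij (congrArg Fin.val ((key i hi hia).trans (key j hj hja).symm))

lemma Root.not_scaledRat {M : ℕ} {x : GL (Fin 3) F} (hx : (x : Matrix (Fin 3) (Fin 3) F) = matF p θ M)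
    (hc : notScaledRat p d M = true) (hlt : ∀ y, y < p * p → cjC p y = y → y / p = 0) :
    ¬ ∃ (l : F) (R : Matrix (Fin 3) (Fin 3) F), (∀ i j, R i j ^ p = R i j) ∧
      (x : Matrix (Fin 3) (Fin 3) F) = l • R := by
  rintro ⟨l, R, hR, he⟩
  simp only [notScaledRat, List.any_eq_true, List.mem_range, bne_iff_ne] at hc
  obtain ⟨i, hi, j, hj, k, hk, m, hm, hne⟩ := hc
  refine hne (hlt _ (mulC_lt h.pos _ _ _) (h.code_fixed (mulC_lt h.pos _ _ _) ?_))
  have e : ∀ a b (ha : a < 3) (hb : b < 3), val p θ (ent p M a b) = l * R ⟨a, ha⟩ ⟨b, hb⟩ := by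
    intro a b ha hb
    have := congrFun (congrFun (hx.symm.trans he) ⟨a, ha⟩) ⟨b, hb⟩
    simpa [matF, ent] using this
  rw [h.val_mulC, h.val_cjC (x := ent p M k m) (co_lt h.pos _ _), e i j hi hj, e k m hk hm]
  simp only [mul_pow, hR, pow_q_q h.card]
  ring

lemma Root.ratVecs_mem {v : Fin 3 → F} (hlt : ∀ y, y < p * p → cjC p y = y → y < p)
    (hv : ∀ i, v i ^ p = v i) (h1 : hermForm 3 F p v v = 1) :
    ∃ a ∈ ratVecs p d, a < (p * p) ^ 3 ∧ vecF p θ a = v := by
  choose z hz hzv using fun i => h.val_surj (v i)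
  have hzp : ∀ i, z i < p := fun i => hlt _ (hz i) (h.code_fixed (hz i) (by rw [hzv, hv]))
  have hvec : vecF p θ (enc p (z 0) (z 1) (z 2)) = v := by
    funext i
    rw [vecF, co_enc (hz 0) (hz 1) (hz 2), ← hzv i]
    fin_cases i <;> rfl
  refine ⟨_, ?_, enc_lt (hz 0) (hz 1) (hz 2), hvec⟩
  simp only [ratVecs, List.mem_filter, List.mem_flatMap, List.mem_map, List.mem_range]
  refine ⟨⟨_, hzp 0, _, hzp 1, _, hzp 2, rfl⟩, beq_iff_eq.2
    (h.val_inj (dot_lt h.pos _ _ _) (by have := h.three_le; nlinarith) ?_)⟩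
  show val p θ (hermC p d _ _) = _
  rw [h.val_hermC, hvec, h1, h.val_one]

lemma Root.orth_mem {gens : List ℕ} {L : List (ℕ × ℕ × ℕ)} {S : List ℕ}
    (hlt : ∀ y, y < p * p → cjC p y = y → y < p)
    (hL : isClosureList p d gens L = true) (hc : orthCheck p d gens L = true)
    (hX : ∀ M ∈ gens, ∃ g ∈ lineStab p θ S ⊓ SUg 3 F p, (g : Matrix (Fin 3) (Fin 3) F) = matF p θ M)
    {x : GL (Fin 3) F} {l : F} {R : Matrix (Fin 3) (Fin 3) F} (hfix : ∀ i j, R i j ^ p = R i j)
    (hRR : R * Rᵀ = 1) (hdet : R.det = 1) (hx : (x : Matrix (Fin 3) (Fin 3) F) = l • R) :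
    x ∈ lineStab p θ S := by
  have hherm : ∀ i k, hermForm 3 F p (R i) (R k) = if i = k then 1 else 0 := fun i k => by
    have e : (R * Rᵀ) i k = if i = k then 1 else 0 := by rw [hRR, Matrix.one_apply]
    rw [← e]
    simp [hermForm, Matrix.mul_apply, hfix]
  choose a ha halt hav using fun i : Fin 3 => h.ratVecs_mem hlt (hfix i) (by rw [hherm, if_pos rfl])
  have hmat : matF p θ (encM p (a 0) (a 1) (a 2)) = R :=
    h.matF_eq_rows (halt 0) (halt 1) (halt 2) (hav 0) (hav 1) (hav 2)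
  have hne : ∀ i k : Fin 3, i ≠ k → hermC p d (a i) (a k) = 0 := fun i k hik => by
    refine h.val_inj (dot_lt h.pos _ _ _) (Nat.mul_pos h.pos h.pos) ?_
    show val p θ (hermC p d _ _) = _
    rw [h.val_hermC, hav, hav, hherm, if_neg hik, h.val_zero]
  simp only [orthCheck, Bool.and_eq_true, List.all_eq_true, Bool.or_eq_true, bne_iff_ne,
    List.contains_iff_mem] at hc
  rcases hc.1 _ (ha 0) _ (ha 1) with h' | h'
  · exact absurd (hne 0 1 (by decide)) h'
  rcases h' _ (ha 2) with ((h' | h') | h') | h'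
  · exact absurd (hne 0 2 (by decide)) h'
  · exact absurd (hne 1 2 (by decide)) h'
  · refine absurd (h.val_inj (x := detC p d _) (addC_lt h.pos _ _) (by have := h.three_le; nlinarith) ?_) h'
    rw [← h.det_matF, hmat, hdet, h.val_one]
  · obtain ⟨e, he, hee⟩ := List.mem_map.1 h'
    obtain ⟨g, hg, hgv⟩ := h.closureList hL (X := lineStab p θ S)
      (fun M hM => (hX M hM).imp fun g hg => ⟨hg.1.1, hg.2⟩) e he
    exact lineStab_of_smul (μ := l) hg (by rw [hgv, hee, hmat, hx])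

end Three

open Three

variable {F : Type*} [Field F] [Fintype F]

/-- The frame stabiliser over the field with twenty-five elements. -/
theorem frame_three_five (hF : Fintype.card F = 5 ^ 2) {D : Fin 3 → Submodule F (Fin 3 → F)}
    (hD : IsNondegenerateMDecomposition (hermForm 3 F 5) 1 D) :
    ¬ IsMaximalIn (SUg 3 F 5) (decompositionStabilizer D ⊓ SUg 3 F 5) := by
  classical
  obtain ⟨θ, hθ⟩ := exists_root (Or.inr rfl) hF
  obtain ⟨f, hf, hfD⟩ := frame_ON hF hD
  obtain ⟨⟨P, hP⟩, hPe⟩ := exists_GU_of_ON hF hf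
  obtain ⟨hgens, htop⟩ := hθ.cert frm_cert
  obtain ⟨t, ht, htv⟩ := hgens _ (getLastD_mem (l := frmGens) (by decide))
  refine not_max_of_std inf_le_right ((GU 3 F 5).inv_mem hP)
    (fun x => ∀ a : Fin 3, ∃ b : Fin 3, ∀ i, i ≠ b → (x : Matrix (Fin 3) (Fin 3) F) i a = 0)
    (fun g hg a => ?_) (fun x hx hm => hθ.mono_mem frm_list frm_check hgens hx hm)
    ⟨t, ht, hθ.not_mono htv (Bool.and_eq_true_iff.1 frm_check).2⟩ htop
  obtain ⟨⟨σ, hσ⟩, -⟩ := hg
  have h1 : (g : Matrix (Fin 3) (Fin 3) F) *ᵥ f a ∈ D (σ a) := by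
    rw [← hσ a]
    exact ⟨f a, by rw [hfD]; exact Submodule.mem_span_singleton_self _, Matrix.toLin'_apply _ _⟩
  rw [hfD] at h1
  obtain ⟨c, hc⟩ := Submodule.mem_span_singleton.1 h1
  refine ⟨σ a, fun i hi => ?_⟩
  have e : ((P⁻¹ * g * P⁻¹⁻¹ : GL (Fin 3) F) : Matrix (Fin 3) (Fin 3) F) *ᵥ Pi.single a 1 =
      c • Pi.single (σ a) 1 := by
    rw [inv_inv, Units.val_mul, Units.val_mul, ← Matrix.mulVec_mulVec, ← Matrix.mulVec_mulVec, hPe,
      ← hc, ← hPe, Matrix.mulVec_smul, Matrix.mulVec_mulVec, ← Units.val_mul, inv_mul_cancel,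
      Units.val_one, Matrix.one_mulVec]
  have := congrFun e i
  simpa [Matrix.mulVec_single_one, hi] using this

/-- The orthogonal subfield groups over the field with twenty-five elements. -/
theorem subOrth_three_five (hF : Fintype.card F = 5 ^ 2) {F₀ : Subfield F}
    (hcard : Fintype.card F = Nat.card F₀ ^ 2) {P : GL (Fin 3) F}
    (hP : IsFormRationalStructure (hermForm 3 F 5) F₀ 1 P) :
    ¬ IsMaximalIn (SUg 3 F 5) (subfieldSubgroup F₀ P ⊓ SUg 3 F 5) := by
  classical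
  obtain ⟨θ, hθ⟩ := exists_root (Or.inr rfl) hF
  obtain ⟨U, hU, hnf⟩ := subOrth_normal hF (by decide) hcard hP
  obtain ⟨hgens, htop⟩ := hθ.cert ort_cert
  obtain ⟨t, ht, htv⟩ := hgens _ (getLastD_mem (l := ortGens) (by decide))
  refine not_max_of_std inf_le_right hU
    (fun x => ∃ (l : F) (R : Matrix (Fin 3) (Fin 3) F), (∀ i j, R i j ^ 5 = R i j) ∧ R * Rᵀ = 1 ∧
      R.det = 1 ∧ (x : Matrix (Fin 3) (Fin 3) F) = l • R) hnf ?_ ⟨t, ht, ?_⟩ htop
  · rintro x - ⟨l, R, h1, h2, h3, h4⟩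
    exact hθ.orth_mem rat_code ort_list ort_check hgens h1 h2 h3 h4
  · rintro ⟨l, R, h1, -, -, h4⟩
    exact hθ.not_scaledRat htv (Bool.and_eq_true_iff.1 ort_check).2
      (fun y hy hc => Nat.div_eq_of_lt (rat_code y hy hc)) ⟨l, R, h1, h4⟩

lemma ratVecs_three_single : ∀ v ∈ ratVecs 3 2, ∃ i < 3, ∀ j < 3, j ≠ i → co 3 v j = 0 := by
  decide +kernel

/-- Over the field with nine elements the orthogonal subfield groups stabilise a frame. -/
theorem subOrth_three_three (hF : Fintype.card F = 3 ^ 2) {F₀ : Subfield F}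
    (hcard : Fintype.card F = Nat.card F₀ ^ 2) {P : GL (Fin 3) F}
    (hP : IsFormRationalStructure (hermForm 3 F 3) F₀ 1 P) :
    ∃ D : Fin 3 → Submodule F (Fin 3 → F), IsNondegenerateMDecomposition (hermForm 3 F 3) 1 D ∧
      subfieldSubgroup F₀ P ⊓ SUg 3 F 3 ≤ decompositionStabilizer D := by
  classical
  obtain ⟨θ, hθ⟩ := exists_root (Or.inl rfl) hF
  obtain ⟨U, hU, hnf⟩ := subOrth_normal hF (by decide) hcard hP
  let f : Fin 3 → Fin 3 → F := fun a =>
    ((U⁻¹ : GL (Fin 3) F) : Matrix (Fin 3) (Fin 3) F) *ᵥ Pi.single a 1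
  have hf : ON 3 f := fun a b => by
    rw [mem_GU_iff.1 ((GU 3 F 3).inv_mem hU), herm_single_single hF]
  obtain ⟨hD, hle⟩ := frame_of_ON hF (by norm_num)
    (H := subfieldSubgroup F₀ P ⊓ SUg 3 F 3) (fun x hx => hx.2.1) hf fun g hg a => by
    obtain ⟨l, R, hfix, hRR, -, he⟩ := hnf g hg
    have hcol : hermForm 3 F 3 (fun i => R i a) (fun i => R i a) = 1 := by
      have e : (Rᵀ * R) a a = 1 := by rw [mul_eq_one_comm.1 hRR, Matrix.one_apply_eq]
      rw [← e]
      simp [hermForm, Matrix.mul_apply, hfix]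
    obtain ⟨v, hv, -, hve⟩ := hθ.ratVecs_mem rat_code_three (fun i => hfix i a) hcol
    obtain ⟨b, hb, hb0⟩ := ratVecs_three_single v hv
    refine ⟨⟨b, hb⟩, l * R ⟨b, hb⟩ a, ?_⟩
    have hR : R *ᵥ Pi.single a 1 = R ⟨b, hb⟩ a • Pi.single (⟨b, hb⟩ : Fin 3) 1 := by
      funext i
      rw [Matrix.mulVec_single_one]
      by_cases hi : i = ⟨b, hb⟩
      · subst hi; simp
      · have h0 : R i a = 0 := by
          rw [← congrFun hve i, vecF, hb0 i i.isLt (fun h => hi (Fin.ext h)), hθ.val_zero]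
        simp [h0, hi]
    show (g : Matrix (Fin 3) (Fin 3) F) *ᵥ (_ *ᵥ Pi.single a 1) = _
    rw [Matrix.mulVec_mulVec, ← Units.val_mul, show g * U⁻¹ = U⁻¹ * (U * g * U⁻¹) by group,
      Units.val_mul, ← Matrix.mulVec_mulVec, he, Matrix.smul_mulVec, hR, smul_smul, Matrix.mulVec_smul]
  exact ⟨_, hD, hle⟩

end Cfsg.Agent.Unitary.Asch
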