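/-
In three dimensions over the field with twenty-five elements the normaliser of an extraspecial
group of order twenty-seven is not maximal.
-/
import Cfsg.Agent.Unitary.AschThreeCases

set_option autoImplicit false
set_option maxHeartbeats 2000000
set_option linter.unusedSectionVars false
set_option linter.style.haveILetI false

namespace Cfsg.Agent.Unitary.Asch

open scoped MatrixGroups Matrix
open Cfsg Cfsg.Geo Cfsg.Agent.Unitary Matrix

namespace Three

/-- The shapes of the two generators and the cube root of unity. -/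
lemma ext_shape : (∀ i < 3, ∀ j < 3, ent 5 extD i j =
      if i == j then (if i == 0 then 1 else if i == 1 then extW else mulC 5 2 extW extW) else 0) ∧
    (∀ i < 3, ∀ j < 3, ent 5 extS i j = if i == (j + 1) % 3 then 1 else 0) ∧
    extW < 5 * 5 ∧ extW ≠ 1 ∧ mulC 5 2 (mulC 5 2 extW extW) extW = 1 := by decide +kernel

variable {F : Type*} [Field F] [Fintype F] {θ : F}

lemma Root.scalar_of_commute_ext (h : Root 5 2 θ) {M : Matrix (Fin 3) (Fin 3) F}
    (hD : M * matF 5 θ extD = matF 5 θ extD * M) (hS : M * matF 5 θ extS = matF 5 θ extS * M) :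
    ∃ c : F, M = c • 1 := by
  obtain ⟨hd, hs, hw, hw1, hw3⟩ := ext_shape
  set ω := val 5 θ extW
  have hω3 : ω * ω * ω = 1 := by rw [← h.val_mulC, ← h.val_mulC, hw3, h.val_one]
  have hω1 : ω ≠ 1 := fun he => hw1 (h.val_inj hw (by norm_num) (he.trans h.val_one.symm))
  have hDm : matF 5 θ extD = Matrix.diagonal ![1, ω, ω * ω] := by
    ext i j
    show val 5 θ (ent 5 extD i j) = _
    rw [hd i i.isLt j j.isLt]
    fin_cases i <;> fin_cases j <;> simp [Root.val_zero h, Root.val_one h, h.val_mulC, ω]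
  have hSm : matF 5 θ extS = !![0, 0, 1; 1, 0, 0; 0, 1, 0] := by
    ext i j
    show val 5 θ (ent 5 extS i j) = _
    rw [hs i i.isLt j j.isLt]
    fin_cases i <;> fin_cases j <;> simp [Root.val_zero h, Root.val_one h]
  rw [hDm] at hD
  rw [hSm] at hS
  have hω0 : ω ≠ 0 := fun h0 => by rw [h0, zero_mul, zero_mul] at hω3; exact zero_ne_one hω3
  have hω2 : ω * ω ≠ 1 := fun he => hω1 (by rw [he, one_mul] at hω3; exact hω3)
  have hωω : ω * ω ≠ ω := fun he => hω1 (mul_left_cancel₀ hω0 (by rw [he, mul_one]))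
  have key : ∀ i j : Fin 3, i ≠ j → M i j = 0 := by
    intro i j hij
    have e := congrFun (congrFun hD i) j
    rw [Matrix.mul_diagonal, Matrix.diagonal_mul] at e
    have hne : (![1, ω, ω * ω] : Fin 3 → F) j - ![1, ω, ω * ω] i ≠ 0 := by
      rw [sub_ne_zero]
      fin_cases i <;> fin_cases j <;>
        first | exact absurd rfl hij | simp [hω1, hω2, hωω, Ne.symm hω1, Ne.symm hω2, Ne.symm hωω]
    refine (mul_eq_zero.1 (?_ : M i j * ((![1, ω, ω * ω] : Fin 3 → F) j - ![1, ω, ω * ω] i) = 0)).resolve_right hne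
    linear_combination e
  refine ⟨M 0 0, ?_⟩
  have h10 := congrFun (congrFun hS 1) 0
  have h21 := congrFun (congrFun hS 2) 1
  simp [Matrix.mul_apply, Fin.sum_univ_three] at h10 h21
  ext i j
  fin_cases i <;> fin_cases j <;> simp [key, h10, h21]

/-- The normaliser of the coded group lies in the overgroup. -/
lemma Root.ext_mem (h : Root 5 2 θ) {x : GL (Fin 3) F} (hx : x ∈ SUg 3 F 5)
    (hmap : ∃ a < extGroup.length, ∃ b < extGroup.length,
      (x : Matrix (Fin 3) (Fin 3) F) * matF 5 θ extD =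
        matF 5 θ (extGroup.getD a 0) * (x : Matrix (Fin 3) (Fin 3) F) ∧
      (x : Matrix (Fin 3) (Fin 3) F) * matF 5 θ extS =
        matF 5 θ (extGroup.getD b 0) * (x : Matrix (Fin 3) (Fin 3) F)) :
    x ∈ lineStab 5 θ extPts := by
  classical
  obtain ⟨a, ha, b, hb, hxD, hxS⟩ := hmap
  obtain ⟨hgens, -⟩ := h.cert ext_cert
  have hc := ext_check
  simp only [extCheck, Bool.and_eq_true, beq_iff_eq, List.all_eq_true] at hc
  obtain ⟨⟨⟨hDS, hpairs⟩, htrip⟩, -⟩ := hc
  set ω := val 5 θ extW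
  set X := (x : Matrix (Fin 3) (Fin 3) F)
  have hxu : IsUnit X := x.isUnit
  have hrel : mm 5 2 (extGroup.getD a 0) (extGroup.getD b 0) =
      scM 5 2 extW (mm 5 2 (extGroup.getD b 0) (extGroup.getD a 0)) := by
    refine h.matF_inj (mm_lt (by norm_num) _ _ _) ?_ ?_
    · exact encM_lt (enc_lt (mulC_lt (by norm_num) _ _ _) (mulC_lt (by norm_num) _ _ _) (mulC_lt (by norm_num) _ _ _))
        (enc_lt (mulC_lt (by norm_num) _ _ _) (mulC_lt (by norm_num) _ _ _) (mulC_lt (by norm_num) _ _ _))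
        (enc_lt (mulC_lt (by norm_num) _ _ _) (mulC_lt (by norm_num) _ _ _) (mulC_lt (by norm_num) _ _ _))
    rw [h.matF_mm, h.matF_scM, h.matF_mm]
    refine hxu.mul_right_cancel ?_
    have e1 : matF 5 θ extD * matF 5 θ extS = ω • (matF 5 θ extS * matF 5 θ extD) := by
      rw [← h.matF_mm, ← h.matF_mm, ← h.matF_scM, hDS]
    rw [mul_assoc, ← hxS, ← mul_assoc, ← hxD, mul_assoc, e1, Matrix.mul_smul, Matrix.smul_mul,
      mul_assoc (matF 5 θ (extGroup.getD b 0)), ← hxD, ← mul_assoc (matF 5 θ (extGroup.getD b 0)),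
      ← hxS, mul_assoc]
  have hp2 := hpairs a (List.mem_range.2 ha) b (List.mem_range.2 hb)
  simp only [Bool.or_eq_true, bne_iff_ne, List.any_eq_true, Bool.and_eq_true, beq_iff_eq] at hp2
  rcases hp2 with hne | ⟨e, he, hea, heb⟩
  · exact absurd hrel hne
  obtain ⟨⟨⟨hnU, hnD⟩, hnS⟩, hcase⟩ := htrip e he
  obtain ⟨n, hn, hnGU⟩ := h.exists_unitary hnU
  rw [hea] at hnD
  rw [heb] at hnS
  set N := (n : Matrix (Fin 3) (Fin 3) F)
  have hND : N * matF 5 θ extD = matF 5 θ (extGroup.getD a 0) * N := by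
    rw [hn, ← h.matF_mm, hnD, h.matF_mm]
  have hNS : N * matF 5 θ extS = matF 5 θ (extGroup.getD b 0) * N := by
    rw [hn, ← h.matF_mm, hnS, h.matF_mm]
  have hcomm : ∀ T E, X * T = E * X → N * T = E * N →
      ((n⁻¹ * x : GL (Fin 3) F) : Matrix (Fin 3) (Fin 3) F) * T =
        T * ((n⁻¹ * x : GL (Fin 3) F) : Matrix (Fin 3) (Fin 3) F) := by
    intro T E h1 h2
    refine n.isUnit.mul_left_cancel ?_
    rw [← mul_assoc, ← Units.val_mul, mul_inv_cancel_left, ← mul_assoc, h2, mul_assoc, ← Units.val_mul,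
      mul_inv_cancel_left, h1]
  obtain ⟨c, hc⟩ := h.scalar_of_commute_ext (hcomm _ _ hxD hND) (hcomm _ _ hxS hNS)
  have hxn : X = c • N := by
    have := congrArg (fun M => N * M) hc
    rwa [← Units.val_mul, mul_inv_cancel_left, Matrix.mul_smul, mul_one] at this
  rcases Bool.or_eq_true_iff.1 hcase with hL | hdet
  · obtain ⟨g, hg, hgv⟩ := h.closureList ext_list (X := lineStab 5 θ extPts)
      (fun M hM => (hgens M hM).imp fun g hg => ⟨hg.1.1, hg.2⟩) _
      (List.mem_map.1 (List.contains_iff_mem.1 hL)).choose_spec.1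
    rw [(List.mem_map.1 (List.contains_iff_mem.1 hL)).choose_spec.2, ← hn] at hgv
    exact lineStab_of_smul (μ := c) hg (by rw [hgv]; exact hxn)
  · exfalso
    simp only [Bool.and_eq_true, bne_iff_ne] at hdet
    have hdx : X.det = 1 := congrArg Units.val hx.2
    rw [hxn, Matrix.det_smul, Fintype.card_fin] at hdx
    have hcn : c * c ^ 5 = 1 := by
      have h1 := mem_GU_iff.1 hx.1 (Pi.single 0 1) (Pi.single 0 1)
      rw [show (x : Matrix (Fin 3) (Fin 3) F) = c • N from hxn, Matrix.smul_mulVec, herm_smul_left,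
        herm_smul_right, mem_GU_iff.1 hnGU, herm_single_single h.card, if_pos rfl, mul_one] at h1
      exact h1
    have hdn : N.det ^ 2 = 1 := by
      have := congrArg (fun z => z ^ 2) hdx
      simp only [mul_pow, one_pow, ← pow_mul] at this
      rw [show 3 * 2 = 5 + 1 from rfl, pow_succ', hcn, one_mul] at this
      exact this
    have hlt : detC 5 2 e.2.2 < 5 * 5 := addC_lt (by norm_num) _ _
    rcases sq_eq_one_iff.1 hdn with h1 | h1
    · refine hdet.1 (h.val_inj hlt (by norm_num) ?_)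
      rw [← h.det_matF, ← hn, h.val_one]; exact h1
    · refine hdet.2 (h.val_inj hlt (show negC 5 1 < 5 * 5 by decide) ?_)
      rw [← h.det_matF, ← hn, h.val_negC (by norm_num), h.val_one]; exact h1

end Three

open Three

variable {F : Type*} [Field F] [Fintype F]

/-- Generators of the extraspecial group in standard position. -/
theorem class6_three_five_std (hF : Fintype.card F = 5 ^ 2) {θ : F} (hθ : Root 5 2 θ)
    {R : Subgroup (GL (Fin 3) F)} (hR : Class6 3 5 3 1 R) :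
    ∃ U ∈ GU 3 F 5, ∀ r ∈ R, ∃ a < extGroup.length,
      ((U * r * U⁻¹ : GL (Fin 3) F) : Matrix (Fin 3) (Fin 3) F) = matF 5 θ (extGroup.getD a 0) ∧
      ∃ xd ∈ R, ∃ xs ∈ R,
        ((U * xd * U⁻¹ : GL (Fin 3) F) : Matrix (Fin 3) (Fin 3) F) = matF 5 θ extD ∧
        ((U * xs * U⁻¹ : GL (Fin 3) F) : Matrix (Fin 3) (Fin 3) F) = matF 5 θ extS := by
  classical
  obtain ⟨hd, hs, hw, hw1, hw3⟩ := ext_shape
  set ω := val 5 θ extW with hω
  have hω3 : ω ^ 3 = 1 := by rw [pow_succ, sq, hω, ← hθ.val_mulC, ← hθ.val_mulC, hw3, hθ.val_one]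
  have hω1 : ω ≠ 1 := fun he => hw1 (hθ.val_inj hw (by norm_num) (he.trans hθ.val_one.symm))
  have hω0 : ω ≠ 0 := fun h0 => by rw [h0, zero_pow (by norm_num)] at hω3; exact zero_ne_one hω3
  obtain ⟨-, -, -, -, -, -, -, -, -, -, hRc, hZ⟩ := hR.odd_data hF (by decide)
  rw [show (3 : ℕ) ^ (1 + 2 * 1) = 27 by norm_num] at hRc
  have hRU : R ≤ GU 3 F 5 := hR.le_GU hF (by decide)
  have hexp : ∀ r ∈ R, r ^ 3 = 1 := fun r hr => by
    have h := Monoid.pow_exponent_eq_one (⟨r, hr⟩ : R)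
    rw [hR.sympType.exponent_eq, show Nat.gcd 2 3 = 1 from rfl, mul_one] at h
    simpa using congrArg Subtype.val h
  haveI : Nonempty (Fin 3) := ⟨0⟩
  have hcen : ∀ z : R, z ∈ Subgroup.center R → ∃ c : F, c ^ 3 = 1 ∧
      ((z : GL (Fin 3) F) : Matrix (Fin 3) (Fin 3) F) = c • 1 := by
    intro z hz
    obtain ⟨c, hc⟩ := hR.absIrred.2 ((z : GL (Fin 3) F) : Matrix (Fin 3) (Fin 3) F) (by
      rintro _ ⟨s, hs', rfl⟩
      have := congrArg (fun g : R => ((g : GL (Fin 3) F) : Matrix (Fin 3) (Fin 3) F))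
        (Subgroup.mem_center_iff.1 hz ⟨s, hs'⟩)
      simpa using this.symm)
    refine ⟨c, ?_, hc⟩
    have h1 := congrArg (fun g : GL (Fin 3) F => (g : Matrix (Fin 3) (Fin 3) F)) (hexp z z.2)
    simp only [Units.val_pow_eq_pow_val, Units.val_one, hc, smul_pow, one_pow] at h1
    have := congrFun (congrFun h1 0) 0
    simpa using this
  have hquot : ∀ a b : R ⧸ Subgroup.center R, a * b = b * a := by
    haveI : Fact (Nat.Prime 3) := ⟨Nat.prime_three⟩
    refine IsPGroup.commutative_of_card_eq_prime_sq (p := 3) ?_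
    have := Subgroup.card_eq_card_quotient_mul_card_subgroup (Subgroup.center R)
    rw [hRc, hZ] at this
    omega
  obtain ⟨x, y, hxy⟩ : ∃ x y : R, x * y ≠ y * x := by
    by_contra hc
    push Not at hc
    have : Nat.card (Subgroup.center R) = Nat.card R := by
      rw [show Subgroup.center R = ⊤ from (Subgroup.eq_top_iff' _).2 fun g =>
        Subgroup.mem_center_iff.2 fun k => hc k g]
      exact Subgroup.card_top
    omega
  obtain ⟨y, hxy⟩ : ∃ y' : R, ((x : GL (Fin 3) F) : Matrix (Fin 3) (Fin 3) F) * ((y' : GL (Fin 3) F) : Matrix (Fin 3) (Fin 3) F) =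
      ω • (((y' : GL (Fin 3) F) : Matrix (Fin 3) (Fin 3) F) * ((x : GL (Fin 3) F) : Matrix (Fin 3) (Fin 3) F)) := by
    set z : R := x * y * (y * x)⁻¹
    have hz : z ∈ Subgroup.center R := by
      rw [← QuotientGroup.eq_one_iff]
      show ((x * y * (y * x)⁻¹ : R) : R ⧸ Subgroup.center R) = 1
      rw [QuotientGroup.mk_mul, QuotientGroup.mk_inv, QuotientGroup.mk_mul, QuotientGroup.mk_mul,
        hquot (x : R ⧸ Subgroup.center R) (y : R ⧸ Subgroup.center R), mul_inv_cancel]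
    obtain ⟨c, hc3, hc⟩ := hcen z hz
    have hxyc : ((x : GL (Fin 3) F) : Matrix (Fin 3) (Fin 3) F) * ((y : GL (Fin 3) F) : Matrix (Fin 3) (Fin 3) F) =
        c • (((y : GL (Fin 3) F) : Matrix (Fin 3) (Fin 3) F) * ((x : GL (Fin 3) F) : Matrix (Fin 3) (Fin 3) F)) := by
      have e : x * y = z * (y * x) := by simp only [z, inv_mul_cancel_right]
      have := congrArg (fun g : R => ((g : GL (Fin 3) F) : Matrix (Fin 3) (Fin 3) F)) e
      simpa [hc] using this
    have hc1 : c ≠ 1 := by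
      rintro rfl
      rw [one_smul] at hxyc
      exact hxy (Subtype.ext (Units.ext hxyc))
    have hfac : (c - 1) * (c - ω) * (c - ω ^ 2) = 0 := by
      have hq : ω ^ 2 + ω + 1 = 0 := (mul_eq_zero.1 (show (ω - 1) * (ω ^ 2 + ω + 1) = 0 by
        linear_combination hω3)).resolve_left (sub_ne_zero.2 hω1)
      linear_combination hc3 - hω3 + (ω * c - c ^ 2) * hq
    rcases mul_eq_zero.1 hfac with h1 | h1
    rcases mul_eq_zero.1 h1 with h1 | h1
    · exact absurd (sub_eq_zero.1 h1) hc1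
    · exact ⟨y, by rw [← sub_eq_zero.1 h1]; exact hxyc⟩
    · refine ⟨y⁻¹, ?_⟩
      have hc' : c = ω ^ 2 := sub_eq_zero.1 h1
      set A := ((x : GL (Fin 3) F) : Matrix (Fin 3) (Fin 3) F)
      set B := ((y : GL (Fin 3) F) : Matrix (Fin 3) (Fin 3) F)
      set B' := (((y⁻¹ : R) : GL (Fin 3) F) : Matrix (Fin 3) (Fin 3) F)
      have hBB : B * B' = 1 := by
        show ((y : GL (Fin 3) F) : Matrix (Fin 3) (Fin 3) F) * _ = 1
        rw [← Units.val_mul, ← Subgroup.coe_mul, mul_inv_cancel]; rfl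
      have hBB' : B' * B = 1 := mul_eq_one_comm.1 hBB
      have h2 : B' * A = c • (A * B') := by
        calc B' * A = B' * (A * (B * B')) := by rw [hBB, mul_one]
          _ = B' * ((A * B) * B') := by rw [mul_assoc A]
          _ = c • (A * B') := by
            rw [hxyc, Matrix.smul_mul, Matrix.mul_smul]
            congr 1
            rw [← mul_assoc, ← mul_assoc, hBB', one_mul]
      show A * B' = ω • (B' * A)
      rw [h2, smul_smul, hc', ← pow_succ', hω3, one_smul]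
  set A := ((x : GL (Fin 3) F) : Matrix (Fin 3) (Fin 3) F) with hA
  set B := ((y : GL (Fin 3) F) : Matrix (Fin 3) (Fin 3) F) with hB
  have hA3 : A ^ 3 = 1 := by rw [hA, ← Units.val_pow_eq_pow_val, hexp _ x.2, Units.val_one]
  have hB3 : B ^ 3 = 1 := by rw [hB, ← Units.val_pow_eq_pow_val, hexp _ y.2, Units.val_one]
  -- a fixed vector
  obtain ⟨v, hv0, hv⟩ : ∃ v : Fin 3 → F, v ≠ 0 ∧ A *ᵥ v = v := by
    have hq : ω ^ 2 + ω + 1 = 0 := (mul_eq_zero.1 (show (ω - 1) * (ω ^ 2 + ω + 1) = 0 by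
      linear_combination hω3)).resolve_left (sub_ne_zero.2 hω1)
    have heig : ∃ (k : ℕ) (u : Fin 3 → F), k < 3 ∧ u ≠ 0 ∧ A *ᵥ u = ω ^ k • u := by
      by_contra hno
      push Not at hno
      have hinj : ∀ k, k < 3 → ∀ u, A *ᵥ u - ω ^ k • u = 0 → u = 0 := fun k hk u hu => by
        by_contra hu0
        exact hno k u hk hu0 (sub_eq_zero.1 hu)
      let u0 : Fin 3 → F := Pi.single 0 1
      have hA3u : A *ᵥ (A *ᵥ (A *ᵥ u0)) = u0 := by
        rw [Matrix.mulVec_mulVec, Matrix.mulVec_mulVec, ← pow_two, ← pow_succ, hA3, Matrix.one_mulVec]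
      let u1 := A *ᵥ u0 - ω ^ 2 • u0
      let u2 := A *ᵥ u1 - ω ^ 1 • u1
      have h0 : u2 = 0 := hinj 0 (by norm_num) u2 (by
        show A *ᵥ u2 - ω ^ 0 • u2 = 0
        simp only [u2, u1, Matrix.mulVec_sub, Matrix.mulVec_smul, smul_sub, smul_smul, pow_zero,
          one_smul, pow_one, hA3u]
        ext i
        simp only [Pi.sub_apply, Pi.smul_apply, smul_eq_mul, Pi.zero_apply]
        linear_combination (-(A *ᵥ (A *ᵥ u0)) i) * hq + ((A *ᵥ u0) i) * (ω * hq) - u0 i * hω3)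
      have h1 : u1 = 0 := hinj 1 (by norm_num) u1 h0
      have h2 : u0 = 0 := hinj 2 (by norm_num) u0 h1
      have := congrFun h2 0
      simp [u0] at this
    obtain ⟨k, u, hk, hu0, hu⟩ := heig
    have hshift : ∀ (w : Fin 3 → F) (c : F), A *ᵥ w = c • w → A *ᵥ (B *ᵥ w) = (ω * c) • (B *ᵥ w) := by
      intro w c hw'
      rw [Matrix.mulVec_mulVec, hxy, Matrix.smul_mulVec, ← Matrix.mulVec_mulVec, hw',
        Matrix.mulVec_smul, smul_smul]
    have hBinj : ∀ w, B *ᵥ w = 0 → w = 0 := fun w hw' =>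
      Matrix.mulVec_injective_iff_isUnit.2 (y : GL (Fin 3) F).isUnit (hw'.trans (Matrix.mulVec_zero _).symm)
    interval_cases k
    · exact ⟨u, hu0, by rw [hu, pow_zero, one_smul]⟩
    · refine ⟨B *ᵥ (B *ᵥ u), fun h => hu0 (hBinj _ (hBinj _ h)), ?_⟩
      rw [hshift _ _ (hshift _ _ hu), ← mul_assoc, pow_one, ← sq, ← pow_succ, hω3, one_smul]
    · refine ⟨B *ᵥ u, fun h => hu0 (hBinj _ h), ?_⟩
      rw [hshift _ _ hu, ← pow_succ', hω3, one_smul]
  let f₀ : Fin 3 → Fin 3 → F := fun k => (B ^ (k : ℕ)) *ᵥ v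
  have hfe : ∀ k : Fin 3, A *ᵥ f₀ k = ω ^ (k : ℕ) • f₀ k := by
    have hstep : ∀ k : ℕ, A *ᵥ ((B ^ k) *ᵥ v) = ω ^ k • ((B ^ k) *ᵥ v) := by
      intro k
      induction k with
      | zero => simp [hv]
      | succ k ih =>
        rw [pow_succ', ← Matrix.mulVec_mulVec, Matrix.mulVec_mulVec _ A B, hxy, Matrix.smul_mulVec,
          ← Matrix.mulVec_mulVec, ih, Matrix.mulVec_smul, smul_smul, ← pow_succ']
    exact fun k => hstep k
  have hAU := mem_GU_iff.1 (hRU x.2)
  have hBU := mem_GU_iff.1 (hRU y.2)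
  haveI : Fact (Nat.Prime 3) := ⟨Nat.prime_three⟩
  have hprim : IsPrimitiveRoot ω 3 := orderOf_eq_prime hω3 hω1 ▸ IsPrimitiveRoot.orderOf ω
  have horth : ∀ a b : Fin 3, a ≠ b → hermForm 3 F 5 (f₀ a) (f₀ b) = 0 := by
    intro a b hab
    have h := hAU (f₀ a) (f₀ b)
    rw [← hA, hfe, hfe, herm_smul_left, herm_smul_right, ← mul_assoc] at h
    by_contra hne
    have hone : ω ^ (a : ℕ) * (ω ^ (b : ℕ)) ^ 5 = 1 :=
      mul_right_cancel₀ hne (by rw [one_mul]; exact h)
    rw [← pow_mul, ← pow_add] at hone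
    have hd3 := hprim.dvd_of_pow_eq_one _ hone
    have := a.isLt
    have := b.isLt
    exact hab (Fin.ext (by omega))
  have hnorm : ∀ k : ℕ, hermForm 3 F 5 ((B ^ k) *ᵥ v) ((B ^ k) *ᵥ v) = hermForm 3 F 5 v v := by
    intro k
    induction k with
    | zero => simp
    | succ k ih => rw [pow_succ', ← Matrix.mulVec_mulVec, hB, hBU, ← hB, ih]
  have hvv : hermForm 3 F 5 v v ≠ 0 := by
    intro h0
    have hall : ∀ a b : Fin 3, hermForm 3 F 5 (f₀ a) (f₀ b) = 0 := fun a b => by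
      by_cases hab : a = b
      · subst hab; exact (hnorm a).trans h0
      · exact horth a b hab
    have hli : LinearIndependent F f₀ := by
      refine Module.End.eigenvectors_linearIndependent' (Matrix.toLin' A)
        (fun k : Fin 3 => ω ^ (k : ℕ)) ?_ f₀ fun k => ⟨?_, ?_⟩
      · intro a b hab
        exact Fin.ext (hprim.pow_inj a.isLt b.isLt hab)
      · rw [Module.End.mem_eigenspace_iff, Matrix.toLin'_apply]; exact hfe k
      · intro hk
        refine hv0 (Matrix.mulVec_injective_iff_isUnit.2 ((y : GL (Fin 3) F).isUnit.pow k) ?_)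
        exact hk.trans (Matrix.mulVec_zero _).symm
    let bs := basisOfLinearIndependentOfCardEqFinrank hli (by simp)
    refine hv0 (eq_zero_of_forall_left hF fun u => ?_)
    rw [← bs.sum_repr u, herm_sum_left, coe_basisOfLinearIndependentOfCardEqFinrank]
    refine Finset.sum_eq_zero fun k _ => ?_
    have hv' : v = f₀ 0 := by simp [f₀]
    rw [herm_smul_left, hv', hall, mul_zero]
  obtain ⟨s, hs'⟩ := exists_norm_eq hF (a := (hermForm 3 F 5 v v)⁻¹)
    (by rw [inv_pow, herm_self_fixed hF])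
  let f : Fin 3 → Fin 3 → F := fun k => s • f₀ k
  have hf : ON 5 f := fun a b => by
    show hermForm 3 F 5 (s • f₀ a) (s • f₀ b) = _
    rw [herm_smul_left, herm_smul_right, ← mul_assoc, hs']
    by_cases hab : a = b
    · subst hab; rw [if_pos rfl, hnorm, inv_mul_cancel₀ hvv]
    · rw [if_neg hab, horth a b hab, mul_zero]
  obtain ⟨⟨P, hP⟩, hPe'⟩ := exists_GU_of_ON hF hf
  have hPe : ∀ i, (P : Matrix (Fin 3) (Fin 3) F) *ᵥ Pi.single i 1 = f i := hPe' 
  have hconj : ∀ (g : GL (Fin 3) F) (M : Matrix (Fin 3) (Fin 3) F),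
      (∀ k, (g : Matrix (Fin 3) (Fin 3) F) *ᵥ f k = (P : Matrix (Fin 3) (Fin 3) F) *ᵥ (M *ᵥ Pi.single k 1)) →
      ((P⁻¹ * g * P⁻¹⁻¹ : GL (Fin 3) F) : Matrix (Fin 3) (Fin 3) F) = M := by
    intro g M hg
    refine Matrix.ext_of_mulVec_single fun k => ?_
    rw [inv_inv, Units.val_mul, Units.val_mul, ← Matrix.mulVec_mulVec, ← Matrix.mulVec_mulVec, hPe, hg,
      Matrix.mulVec_mulVec, ← Units.val_mul, inv_mul_cancel, Units.val_one, Matrix.one_mulVec]
  have hxD : ((P⁻¹ * (x : GL (Fin 3) F) * P⁻¹⁻¹ : GL (Fin 3) F) : Matrix (Fin 3) (Fin 3) F) =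
      matF 5 θ extD := by
    refine hconj _ _ fun k => ?_
    have : matF 5 θ extD *ᵥ Pi.single k 1 = ω ^ (k : ℕ) • Pi.single k 1 := by
      funext i
      rw [Matrix.mulVec_single_one]
      show val 5 θ (ent 5 extD i k) = _
      rw [hd i i.isLt k k.isLt]
      fin_cases i <;> fin_cases k <;> simp [hθ.val_zero, hθ.val_one, hθ.val_mulC, ω, sq]
    rw [this]
    show A *ᵥ (s • f₀ k) = _
    rw [Matrix.mulVec_smul, Matrix.mulVec_smul, hfe, hPe, smul_comm]
  have hyS : ((P⁻¹ * (y : GL (Fin 3) F) * P⁻¹⁻¹ : GL (Fin 3) F) : Matrix (Fin 3) (Fin 3) F) =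
      matF 5 θ extS := by
    refine hconj _ _ fun k => ?_
    have : matF 5 θ extS *ᵥ Pi.single k 1 = Pi.single (k + 1) 1 := by
      funext i
      rw [Matrix.mulVec_single_one]
      show val 5 θ (ent 5 extS i k) = _
      rw [hs i i.isLt k k.isLt]
      fin_cases i <;> fin_cases k <;> simp [hθ.val_zero, hθ.val_one, Pi.single_apply]
    rw [this, hPe, ← hB]
    show B *ᵥ (s • (B ^ (k : ℕ)) *ᵥ v) = s • (B ^ ((k + 1 : Fin 3) : ℕ)) *ᵥ v
    rw [Matrix.mulVec_smul, Matrix.mulVec_mulVec, ← pow_succ']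
    fin_cases k <;> simp [hB3]
  -- every element is in the list
  refine ⟨P⁻¹, (GU 3 F 5).inv_mem hP, ?_⟩
  set R' := R.map (MulAut.conj P⁻¹).toMonoidHom
  have hgen : ∀ M ∈ [extD, extS], ∃ g ∈ R', (g : Matrix (Fin 3) (Fin 3) F) = matF 5 θ M := by
    intro M hM
    rcases List.mem_cons.1 hM with rfl | hM
    · exact ⟨_, ⟨x, x.2, rfl⟩, hxD⟩
    · obtain rfl : M = extS := by simpa using hM
      exact ⟨_, ⟨y, y.2, rfl⟩, hyS⟩
  have hin : ∀ M ∈ extGroup, ∃ g ∈ R', (g : Matrix (Fin 3) (Fin 3) F) = matF 5 θ M := by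
    intro M hM
    rw [← extGrp_fst] at hM
    obtain ⟨e, he, rfl⟩ := List.mem_map.1 hM
    exact hθ.closureList extGrp_list hgen e he
  choose gof hgof hgofv using fun a : Fin extGroup.length => hin _ (List.get_mem extGroup a)
  let φ : Fin extGroup.length → R' := fun a => ⟨gof a, hgof a⟩
  have hφ : Function.Injective φ := fun a b hab => by
    have hv' := congrArg (fun g : R' => ((g : GL (Fin 3) F) : Matrix (Fin 3) (Fin 3) F)) hab
    simp only [φ, hgofv] at hv'
    exact List.nodup_iff_injective_get.1 extGroup_nodup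
      (hθ.matF_inj (extGroup_lt _ (List.get_mem extGroup a)) (extGroup_lt _ (List.get_mem extGroup b)) hv')
  have hsurj : Function.Surjective φ := by
    haveI : Fintype R' := Fintype.ofFinite _
    refine ((Fintype.bijective_iff_injective_and_card _).2 ⟨hφ, ?_⟩).2
    rw [Fintype.card_fin, ← Nat.card_eq_fintype_card,
      ← Nat.card_congr (R.equivMapOfInjective _ (MulAut.conj P⁻¹).injective).toEquiv, hRc]
    decide +kernel
  intro r hr
  obtain ⟨a, ha⟩ := hsurj ⟨_, ⟨r, hr, rfl⟩⟩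
  refine ⟨a, a.isLt, ?_, x, x.2, y, y.2, hxD, hyS⟩
  have := congrArg (fun g : R' => ((g : GL (Fin 3) F) : Matrix (Fin 3) (Fin 3) F)) ha
  simp only [φ, hgofv] at this
  rw [List.getD_eq_getElem _ _ a.isLt]
  exact this.symm

/-- The normaliser is not maximal. -/
theorem class6_three_five (hF : Fintype.card F = 5 ^ 2) {R : Subgroup (GL (Fin 3) F)}
    (hR : Class6 3 5 3 1 R) : ¬ IsMaximalIn (SUg 3 F 5) (subgroupNormalizer R ⊓ SUg 3 F 5) := by
  classical
  obtain ⟨θ, hθ⟩ := exists_root (Or.inr rfl) hF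
  obtain ⟨U, hU, hUR⟩ := class6_three_five_std hF hθ hR
  obtain ⟨hgens, htop⟩ := hθ.cert ext_cert
  obtain ⟨t, ht, htv⟩ := hgens _ (getLastD_mem (l := extGens) (by decide))
  refine not_max_of_std inf_le_right hU
    (fun x => ∃ a < extGroup.length, ∃ b < extGroup.length,
      (x : Matrix (Fin 3) (Fin 3) F) * matF 5 θ extD =
        matF 5 θ (extGroup.getD a 0) * (x : Matrix (Fin 3) (Fin 3) F) ∧
      (x : Matrix (Fin 3) (Fin 3) F) * matF 5 θ extS =
        matF 5 θ (extGroup.getD b 0) * (x : Matrix (Fin 3) (Fin 3) F))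
    (fun h hh => ?_) (fun x hx hp => hθ.ext_mem hx hp) ⟨t, ht, ?_⟩ htop
  · obtain ⟨a₀, -, -, xd, hxd, xs, hxs, hD, hS⟩ := hUR 1 R.one_mem
    have hn : ∀ r ∈ R, h * r * h⁻¹ ∈ R := fun r hr => (Subgroup.mem_normalizer_iff.1 hh.1 r).1 hr
    obtain ⟨a, ha, hav, -⟩ := hUR _ (hn xd hxd)
    obtain ⟨b, hb, hbv, -⟩ := hUR _ (hn xs hxs)
    refine ⟨a, ha, b, hb, ?_, ?_⟩
    · rw [← hD, ← hav, ← Units.val_mul, ← Units.val_mul]
      congr 1; group
    · rw [← hS, ← hbv, ← Units.val_mul, ← Units.val_mul]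
      congr 1; group
  · rintro ⟨a, ha, b, hb, h1, -⟩
    have hc := (Bool.and_eq_true_iff.1 ext_check).2
    have := List.all_eq_true.1 hc (extGroup.getD a 0) (by
      rw [List.getD_eq_getElem _ _ ha]; exact List.getElem_mem _)
    rw [htv, ← hθ.matF_mm, ← hθ.matF_mm] at h1
    simp only [bne_iff_ne] at this
    exact this (hθ.matF_inj (mm_lt (by norm_num) _ _ _) (mm_lt (by norm_num) _ _ _) h1)

end Cfsg.Agent.Unitary.Asch
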