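/-
In six dimensions over the field with four elements a frame stabiliser is not maximal: with a
transvection it generates a proper subgroup preserving a set of isotropic vectors.
-/
import Cfsg.Agent.Unitary.AschSmallCases
import Cfsg.Agent.Unitary.AschProperBasic

set_option autoImplicit false
set_option maxHeartbeats 1000000
set_option linter.unusedSectionVars false
set_option linter.style.haveILetI false

namespace Cfsg.Agent.Unitary.Asch

open scoped MatrixGroups Matrix
open Cfsg Cfsg.Geo Cfsg.Agent.Unitary Matrix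

namespace FrameSix

/-- The coordinates of the powers of a generator of the field with four elements. -/
def enc : Fin 3 → Fin 4 := fun a => if a = 0 then 1 else if a = 1 then 2 else 3

/-- Addition in the field with four elements, on coordinates. -/
def addc : Fin 4 → Fin 4 → Fin 4 := fun x y =>
  if x = 0 then y else if y = 0 then x else if x = y then 0
  else if x ≠ 1 ∧ y ≠ 1 then 1 else if x ≠ 2 ∧ y ≠ 2 then 2 else 3

/-- The exponent of a non-zero element. -/
def dec : Fin 4 → Fin 3 := fun x => if x = 2 then 1 else if x = 3 then 2 else 0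

/-- The statement checked on the exponents. -/
def good (a b c d e f : Fin 3) : Bool :=
  let tot := addc (enc a) (addc (enc b) (addc (enc c) (addc (enc d) (addc (enc e) (enc f)))))
  let z := fun x : Fin 3 => if enc x = tot then 0 else 1
  let r := fun x : Fin 3 => (dec (addc (enc x) tot)).val
  ((a.val + b.val + c.val + d.val + e.val + f.val) % 3 != 0) || (tot == 0) ||
    (z a + z b + z c + z d + z e + z f == 2) ||
    ((z a + z b + z c + z d + z e + z f == 6) &&
      ((r a + r b + r c + r d + r e + r f) % 3 == 0))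

lemma good_all : ∀ a b c d e f : Fin 3, good a b c d e f = true := by decide +kernel

lemma addc_dec : ∀ (x : Fin 3) (t : Fin 4), enc x ≠ t → enc (dec (addc (enc x) t)) = addc (enc x) t := by
  decide +kernel

variable {F : Type*} [Field F] [Fintype F] {ω : F}

/-- The value of a coordinate. -/
def val (ω : F) : Fin 4 → F := fun x => if x = 0 then 0 else if x = 1 then 1 else if x = 2 then ω
  else ω ^ 2

lemma val_enc (a : Fin 3) : val ω (enc a) = ω ^ a.val := by
  fin_cases a <;> simp [val, enc]

lemma val_addc (h2 : (2 : F) = 0) (hω : ω ^ 2 + ω + 1 = 0) (x y : Fin 4) :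
    val ω (addc x y) = val ω x + val ω y := by
  fin_cases x <;> fin_cases y <;> simp [val, addc] <;> grind

lemma val_eq_zero (hω0 : ω ≠ 0) {x : Fin 4} : val ω x = 0 ↔ x = 0 := by
  fin_cases x <;> simp [val, hω0]

/-- The vectors in the orbit. -/
def InS (v : Fin 6 → F) : Prop :=
  (∃ i j, i ≠ j ∧ v i ≠ 0 ∧ v j ≠ 0 ∧ ∀ l, l ≠ i → l ≠ j → v l = 0) ∨
    ((∀ i, v i ≠ 0) ∧ ∏ i, v i = 1)

lemma inS_of_card {v : Fin 6 → F} [DecidableEq F]
    (h : (Finset.univ.filter fun i => v i ≠ 0).card = 2) : InS v := by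
  obtain ⟨i, j, hij, hs⟩ := Finset.card_eq_two.1 h
  have hm : ∀ l, v l ≠ 0 ↔ (l = i ∨ l = j) := fun l => by
    have := congrArg (l ∈ ·) hs
    simpa using this
  exact Or.inl ⟨i, j, hij, (hm i).2 (Or.inl rfl), (hm j).2 (Or.inr rfl), fun l h1 h2 => by
    by_contra hl
    rcases (hm l).1 hl with h | h
    · exact h1 h
    · exact h2 h⟩

lemma inS_shift (hF : Fintype.card F = 2 ^ 2) {v : Fin 6 → F} (hv : InS v) :
    InS (fun i => v i + ∑ j, v j) := by
  classical
  have h2 : (2 : F) = 0 := Heis.two_zero hF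
  have hcube : ∀ x : F, x ≠ 0 → x ^ 3 = 1 := fun x hx => Heis.pow_three_of_ne hF hx
  rcases hv with ⟨i, j, hij, hi, hj, hrest⟩ | ⟨hall, hprod⟩
  · have hsum : ∑ l, v l = v i + v j := by
      rw [← Finset.sum_subset (Finset.subset_univ {i, j}) (fun l _ hl => by
        simp only [Finset.mem_insert, Finset.mem_singleton, not_or] at hl
        exact hrest l hl.1 hl.2), Finset.sum_pair hij]
    by_cases hs : v i + v j = 0
    · exact Or.inl ⟨i, j, hij, by simp [hsum, hs, hi], by simp [hsum, hs, hj], fun l h1 h2 => by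
        simp [hsum, hs, hrest l h1 h2]⟩
    have hab : v i ≠ v j := fun h => hs (by rw [h]; linear_combination v j * h2)
    have hquad : v i ^ 2 + v i * v j + v j ^ 2 = 0 := by
      refine (mul_eq_zero.1 (?_ : (v i - v j) * (v i ^ 2 + v i * v j + v j ^ 2) = 0)).resolve_left
        (sub_ne_zero.2 hab)
      linear_combination hcube _ hi - hcube _ hj
    have hval : ∀ l, (fun l => v l + ∑ m, v m) l =
        if l = i then v j else if l = j then v i else v i + v j := by
      intro l
      show v l + ∑ m, v m = _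
      rw [hsum]
      split_ifs with h1 h3
      · subst h1; linear_combination v l * h2
      · subst h3; linear_combination v l * h2
      · rw [hrest l h1 h3, zero_add]
    refine Or.inr ⟨fun l => ?_, ?_⟩
    · rw [hval]; split_ifs <;> assumption
    · simp only [hval]
      rw [← Finset.prod_mul_prod_compl ({i, j} : Finset (Fin 6)),
        Finset.prod_pair hij, Finset.prod_congr rfl (g := fun _ => v i + v j) (fun l hl => by
          simp only [Finset.mem_compl, Finset.mem_insert, Finset.mem_singleton, not_or] at hl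
          rw [if_neg hl.1, if_neg hl.2]), Finset.prod_const, Finset.card_compl,
        Finset.card_pair hij]
      simp only [if_true, hij.symm, if_false, Fintype.card_fin]
      have h4 : (v i + v j) ^ 4 = v i + v j := by rw [pow_succ, hcube _ hs, one_mul]
      rw [h4]
      linear_combination v i * hquad - hcube _ hi - h2
  · obtain ⟨ω, hω0, hω1⟩ : ∃ ω : F, ω ≠ 0 ∧ ω ≠ 1 := by
      by_contra hh
      push Not at hh
      have hle : Fintype.card F ≤ ({0, 1} : Finset F).card := by
        rw [← Finset.card_univ]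
        refine Finset.card_le_card fun x _ => ?_
        by_cases hx : x = 0
        · simp [hx]
        · simp [hh x hx]
      rw [hF] at hle
      have := Finset.card_le_two (a := (0 : F)) (b := 1)
      omega
    have hω : ω ^ 2 + ω + 1 = 0 :=
      (mul_eq_zero.1 (show (ω - 1) * (ω ^ 2 + ω + 1) = 0 by linear_combination hcube ω hω0)).resolve_left
        (sub_ne_zero.2 hω1)
    have hexp : ∀ x : F, x ≠ 0 → ∃ a : Fin 3, x = ω ^ a.val := by
      intro x hx
      have h : (x - 1) * (x - ω) * (x - ω ^ 2) = 0 := by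
        linear_combination hcube x hx - hcube ω hω0 + (ω * x - x ^ 2) * hω
      rcases mul_eq_zero.1 h with h | h
      rcases mul_eq_zero.1 h with h | h
      · exact ⟨0, by simpa using sub_eq_zero.1 h⟩
      · exact ⟨1, by simpa using sub_eq_zero.1 h⟩
      · exact ⟨2, sub_eq_zero.1 h⟩
    choose c hc using fun i => hexp (v i) (hall i)
    set tot := addc (enc (c 0)) (addc (enc (c 1)) (addc (enc (c 2)) (addc (enc (c 3))
      (addc (enc (c 4)) (enc (c 5)))))) with htot
    have hsum : ∑ j, v j = val ω tot := by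
      simp only [htot, val_addc h2 hω, val_enc, ← hc, Fin.sum_univ_six]
      ring
    have hzero : ∀ i, v i + ∑ j, v j = 0 ↔ enc (c i) = tot := by
      intro i
      rw [hsum, hc, ← val_enc, ← val_addc h2 hω, val_eq_zero hω0]
      generalize enc (c i) = a
      revert a
      generalize tot = b
      revert b
      decide
    have hpm : ∀ m : ℕ, ω ^ m = ω ^ (m % 3) := fun m => by
      conv_lhs => rw [← Nat.mod_add_div m 3, pow_add, pow_mul, hcube ω hω0, one_pow, mul_one]
    have hprod3 : ((c 0).val + (c 1).val + (c 2).val + (c 3).val + (c 4).val + (c 5).val) % 3 = 0 := by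
      have hp : ω ^ ((c 0).val + (c 1).val + (c 2).val + (c 3).val + (c 4).val + (c 5).val) = 1 := by
        rw [pow_add, pow_add, pow_add, pow_add, pow_add, ← hc, ← hc, ← hc, ← hc, ← hc, ← hc,
          ← Fin.prod_univ_six]
        exact hprod
      rw [hpm] at hp
      have hlt := Nat.mod_lt ((c 0).val + (c 1).val + (c 2).val + (c 3).val + (c 4).val + (c 5).val)
        (show 3 > 0 by norm_num)
      interval_cases hm : ((c 0).val + (c 1).val + (c 2).val + (c 3).val + (c 4).val + (c 5).val) % 3
      · rfl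
      · simp [hω1] at hp
      · exfalso
        exact hω1 (by linear_combination hcube ω hω0 - ω * hp)
    have hg := good_all (c 0) (c 1) (c 2) (c 3) (c 4) (c 5)
    simp only [good, ← htot, hprod3, bne_self_eq_false, Bool.false_or, Bool.or_eq_true, beq_iff_eq,
      Bool.and_eq_true] at hg
    have hcard : (Finset.univ.filter fun i => v i + ∑ j, v j ≠ 0).card =
        ∑ i, if enc (c i) = tot then 0 else 1 := by
      rw [Finset.card_filter]
      exact Finset.sum_congr rfl fun i _ => by simp [hzero i]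
    rcases hg with (hg | hg) | ⟨hg1, hg2⟩
    · have : ∑ j, v j = 0 := by rw [hsum, hg]; simp [val]
      exact Or.inr ⟨by simpa [this] using hall, by simpa [this] using hprod⟩
    · exact inS_of_card (by rw [hcard, Fin.sum_univ_six]; exact hg)
    · have hne : ∀ i, enc (c i) ≠ tot := by
        intro i hi
        have hlt : (∑ l, if enc (c l) = tot then 0 else 1) < ∑ _l : Fin 6, 1 :=
          Finset.sum_lt_sum (fun l _ => by split_ifs <;> omega) ⟨i, Finset.mem_univ _, by simp [hi]⟩
        rw [Fin.sum_univ_six] at hlt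
        simp only [Finset.sum_const, Finset.card_univ, Fintype.card_fin, smul_eq_mul, mul_one] at hlt
        omega
      refine Or.inr ⟨fun i h => hne i ((hzero i).1 h), ?_⟩
      have hterm : ∀ i, v i + ∑ j, v j = ω ^ (dec (addc (enc (c i)) tot)).val := fun i => by
        rw [← val_enc (ω := ω), addc_dec _ _ (hne i), val_addc h2 hω, ← hsum, val_enc, ← hc]
      simp only [hterm, Fin.prod_univ_six, ← pow_add]
      rw [hpm, hg2, pow_zero]

end FrameSix

open FrameSix in
/-- The frame stabiliser is not maximal. -/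
theorem frame_six_two {F : Type*} [Field F] [Fintype F] (hF : Fintype.card F = 2 ^ 2)
    {D : Fin 6 → Submodule F (Fin 6 → F)}
    (hD : IsNondegenerateMDecomposition (hermForm 6 F 2) 1 D) :
    ¬ IsMaximalIn (SUg 6 F 2) (decompositionStabilizer D ⊓ SUg 6 F 2) := by
  classical
  intro hmax
  obtain ⟨f, hf, hfD⟩ := frame_ON hF hD
  obtain ⟨⟨P, hP⟩, hPe⟩ := exists_GU_of_ON hF hf
  have hPi : P⁻¹ ∈ GU 6 F 2 := (GU 6 F 2).inv_mem hP
  have h2 : (2 : F) = 0 := Heis.two_zero hF
  -- coordinates in the frame
  let co : (Fin 6 → F) → (Fin 6 → F) := fun v => ((P⁻¹ : GL (Fin 6) F) : Matrix (Fin 6) (Fin 6) F) *ᵥ v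
  have hPco : ∀ v, (P : Matrix (Fin 6) (Fin 6) F) *ᵥ co v = v := fun v => by
    rw [Matrix.mulVec_mulVec, ← Units.val_mul, mul_inv_cancel, Units.val_one, Matrix.one_mulVec]
  have hcoP : ∀ v, co ((P : Matrix (Fin 6) (Fin 6) F) *ᵥ v) = v := fun v => by
    show _ *ᵥ (_ *ᵥ v) = v
    rw [Matrix.mulVec_mulVec, ← Units.val_mul, inv_mul_cancel, Units.val_one, Matrix.one_mulVec]
  have hmap_mem : ∀ (g : GL (Fin 6) F) (v : Fin 6 → F),
      (∀ w, InS (co w) → InS (co ((g : Matrix (Fin 6) (Fin 6) F) *ᵥ w))) →
      InS (co v) → InS (co ((g : Matrix (Fin 6) (Fin 6) F) *ᵥ v)) := fun g v h => h v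
  let X : Subgroup (GL (Fin 6) F) :=
    { carrier := {g | ∀ w, InS (co w) ↔ InS (co ((g : Matrix (Fin 6) (Fin 6) F) *ᵥ w))}
      one_mem' := fun w => by rw [Units.val_one, Matrix.one_mulVec]
      mul_mem' := fun {a b} ha hb w => by
        rw [Units.val_mul, ← Matrix.mulVec_mulVec]
        exact (hb w).trans (ha _)
      inv_mem' := fun {a} ha w => by
        rw [ha (((a⁻¹ : GL (Fin 6) F) : Matrix (Fin 6) (Fin 6) F) *ᵥ w), Matrix.mulVec_mulVec _ (a : Matrix (Fin 6) (Fin 6) F),
          ← Units.val_mul, mul_inv_cancel, Units.val_one, Matrix.one_mulVec] }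
  haveI : Finite (Fin 6 → F) := inferInstance
  have memX : ∀ g : GL (Fin 6) F,
      (∀ w, InS (co w) → InS (co ((g : Matrix (Fin 6) (Fin 6) F) *ᵥ w))) → g ∈ X := by
    intro g h w
    refine ⟨h w, fun hw => ?_⟩
    let φ : {w // InS (co w)} → {w // InS (co w)} := fun w =>
      ⟨(g : Matrix (Fin 6) (Fin 6) F) *ᵥ w.1, h _ w.2⟩
    have hinj : Function.Injective φ := fun a b hab => Subtype.ext
      (Matrix.mulVec_injective_iff_isUnit.2 g.isUnit (congrArg Subtype.val hab))
    obtain ⟨⟨w', hw'⟩, he⟩ := Finite.injective_iff_surjective.1 hinj ⟨_, hw⟩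
    have := Matrix.mulVec_injective_iff_isUnit.2 g.isUnit (congrArg Subtype.val he)
    exact this ▸ hw'
  -- the frame stabiliser preserves the set
  have hstab : decompositionStabilizer D ⊓ SUg 6 F 2 ≤ X ⊓ SUg 6 F 2 := by
    refine le_inf (fun g hg => memX g fun w hw => ?_) inf_le_right
    obtain ⟨⟨σ, hσ⟩, hgU, hgd⟩ := hg
    have hc : ∀ a, ∃ c : F, c ≠ 0 ∧ (g : Matrix (Fin 6) (Fin 6) F) *ᵥ f a = c • f (σ a) := by
      intro a
      have h1 : (g : Matrix (Fin 6) (Fin 6) F) *ᵥ f a ∈ D (σ a) := by
        rw [← hσ a]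
        exact ⟨f a, by rw [hfD]; exact Submodule.mem_span_singleton_self _, Matrix.toLin'_apply _ _⟩
      rw [hfD] at h1
      obtain ⟨c, hc⟩ := Submodule.mem_span_singleton.1 h1
      refine ⟨c, fun h => ?_, hc.symm⟩
      have := mem_GU_iff.1 hgU (f a) (f a)
      rw [← hc, h, zero_smul, herm_zero_left, hf, if_pos rfl] at this
      exact zero_ne_one this
    choose c hc0 hc using hc
    let W : Matrix (Fin 6) (Fin 6) F := Matrix.of fun i j => if i = σ j then c j else 0
    have hgW : (g : Matrix (Fin 6) (Fin 6) F) * (P : Matrix (Fin 6) (Fin 6) F) =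
        (P : Matrix (Fin 6) (Fin 6) F) * W := by
      refine Matrix.ext_of_mulVec_single fun a => ?_
      rw [← Matrix.mulVec_mulVec, ← Matrix.mulVec_mulVec, hPe, hc]
      have : W *ᵥ Pi.single a 1 = c a • Pi.single (σ a) 1 := by
        funext i
        simp [W, Pi.single_apply]
      rw [this, Matrix.mulVec_smul, hPe]
    have hWd : W = (1 : Matrix (Fin 6) (Fin 6) F).submatrix σ.symm id * Matrix.diagonal c := by
      ext i j
      simp [W, Matrix.mul_diagonal, Matrix.one_apply, Equiv.symm_apply_eq]
    have hprod : ∏ a, c a = 1 := by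
      have hd : (g : Matrix (Fin 6) (Fin 6) F).det = 1 := by simpa using congrArg Units.val hgd
      have h1 := congrArg Matrix.det hgW
      rw [Matrix.det_mul, Matrix.det_mul, hd, one_mul] at h1
      have hW : W.det = 1 :=
        mul_left_cancel₀ ((Matrix.isUnit_iff_isUnit_det _).1 P.isUnit).ne_zero
          (by rw [mul_one]; exact h1.symm)
      rw [hWd, Matrix.det_mul, Matrix.det_permute, Matrix.det_one, mul_one, Matrix.det_diagonal] at hW
      rcases Int.units_eq_one_or (Equiv.Perm.sign σ.symm) with h | h <;> rw [h] at hW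
      · simpa using hW
      · simp only [Units.val_neg, Units.val_one, Int.cast_neg, Int.cast_one, neg_mul, one_mul] at hW
        linear_combination -hW - h2
    have hco : co ((g : Matrix (Fin 6) (Fin 6) F) *ᵥ w) = fun i => c (σ.symm i) * co w (σ.symm i) := by
      have e : (g : Matrix (Fin 6) (Fin 6) F) *ᵥ w = (P : Matrix (Fin 6) (Fin 6) F) *ᵥ (W *ᵥ co w) := by
        rw [Matrix.mulVec_mulVec, ← hgW, ← Matrix.mulVec_mulVec, hPco]
      rw [e, hcoP]
      funext i
      simp [W, Matrix.mulVec, dotProduct, ← Equiv.symm_apply_eq]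
    rw [hco]
    rcases hw with ⟨i, j, hij, hi, hj, hrest⟩ | ⟨hall, hp⟩
    · refine Or.inl ⟨σ i, σ j, σ.injective.ne hij, ?_, ?_, fun l hl hl' => ?_⟩
      · simp [hc0, hi]
      · simp [hc0, hj]
      · show c _ * co w _ = 0
        rw [hrest (σ.symm l) (fun h => hl (by simp [← h])) (fun h => hl' (by simp [← h])), mul_zero]
    · refine Or.inr ⟨fun i => mul_ne_zero (hc0 _) (hall _), ?_⟩
      rw [Finset.prod_mul_distrib, Equiv.prod_comp σ.symm c, Equiv.prod_comp σ.symm (co w), hprod, hp,
        one_mul]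
  -- a transvection preserves it
  let u : Fin 6 → F := (P : Matrix (Fin 6) (Fin 6) F) *ᵥ fun _ => 1
  have hu : hermForm 6 F 2 u u = 0 := by
    rw [mem_GU_iff.1 hP]
    simp only [hermForm, one_pow, mul_one, Finset.sum_const, Finset.card_univ, Fintype.card_fin]
    rw [nsmul_eq_mul, mul_one]
    push_cast
    linear_combination 3 * h2
  have hc1 : (1 : F) + 1 ^ 2 = 0 := by linear_combination h2
  set T := tvG hF hu hc1 with hT
  have hTco : ∀ w, co ((T : Matrix (Fin 6) (Fin 6) F) *ᵥ w) = fun i => co w i + ∑ j, co w j := by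
    intro w
    rw [hT, tvG_mulVec]
    have hfw : hermForm 6 F 2 w u = ∑ j, co w j := by
      conv_lhs => rw [← hPco w]
      rw [mem_GU_iff.1 hP]
      simp [hermForm]
    show _ *ᵥ (w + _ • u) = _
    rw [Matrix.mulVec_add, Matrix.mulVec_smul, one_mul, hfw]
    funext i
    have : co u i = 1 := by rw [hcoP]
    show co w i + _ * co u i = _
    rw [this, mul_one]
  have hTX : T ∈ X ⊓ SUg 6 F 2 :=
    ⟨memX T fun w hw => by rw [hTco]; exact inS_shift hF hw, tvG_mem hF hu hc1⟩
  rcases hmax.2 (X ⊓ SUg 6 F 2) hstab inf_le_right with h | h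
  · -- the transvection moves the frame
    rw [h] at hTX
    obtain ⟨σ, hσ⟩ := hTX.1
    have h1 : (T : Matrix (Fin 6) (Fin 6) F) *ᵥ f 0 ∈ D (σ 0) := by
      rw [← hσ 0]
      exact ⟨f 0, by rw [hfD]; exact Submodule.mem_span_singleton_self _, Matrix.toLin'_apply _ _⟩
    rw [hfD] at h1
    obtain ⟨c, hc⟩ := Submodule.mem_span_singleton.1 h1
    have h3 := congrArg co hc
    rw [hTco] at h3
    have he : ∀ a, co (f a) = Pi.single a 1 := fun a => by rw [← hPe a, hcoP]
    have hsm : co (c • f (σ 0)) = c • Pi.single (σ 0) 1 := by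
      rw [← he]; exact Matrix.mulVec_smul _ _ _
    rw [hsm, he] at h3
    have key : ∀ i : Fin 6, i ≠ 0 → σ 0 = i := fun i hi => by
      have h4 := congrFun h3 i
      simp [Pi.single_apply, hi] at h4
      by_contra hne
      simp [Ne.symm hne] at h4
    exact absurd ((key 1 (by decide)).symm.trans (key 2 (by decide))) (by decide)
  · -- the special unitary group does not
    let a : Fin 6 → F := (P : Matrix (Fin 6) (Fin 6) F) *ᵥ ![1, 1, 0, 0, 0, 0]
    let b : Fin 6 → F := (P : Matrix (Fin 6) (Fin 6) F) *ᵥ ![1, 1, 1, 1, 0, 0]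
    have ha : hermForm 6 F 2 a a = 0 := by
      rw [mem_GU_iff.1 hP]; simp [hermForm, Fin.sum_univ_six]; linear_combination h2
    have hb : hermForm 6 F 2 b b = 0 := by
      rw [mem_GU_iff.1 hP]; simp [hermForm, Fin.sum_univ_six]; linear_combination 2 * h2
    have hne : ∀ x : Fin 6 → F, x 0 = 1 → (P : Matrix (Fin 6) (Fin 6) F) *ᵥ x ≠ 0 := fun x hx h0 => by
      have := congrFun (congrArg co h0) 0
      rw [hcoP, show co (0 : Fin 6 → F) = 0 from Matrix.mulVec_zero _, hx] at this
      exact one_ne_zero this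
    obtain ⟨g, -, hg⟩ := exists_map_isotropic hF (nondeg_top (n := 6) hF)
      (by rw [finrank_top, Module.finrank_fin_fun]; norm_num) trivial trivial ha hb
      (hne _ rfl) (hne _ rfl)
    have hgX : toG 6 F 2 g ∈ X ⊓ SUg 6 F 2 := h.ge (range_toG.le ⟨g, rfl⟩)
    have hSa : InS (co a) := by
      rw [hcoP]
      refine Or.inl ⟨0, 1, by decide, by simp, by simp, fun l h1 h2 => ?_⟩
      fin_cases l <;> simp_all
    have hSb := (hgX.1 a).1 hSa
    rw [toG_val, ← ap_def, hg, hcoP] at hSb
    rcases hSb with ⟨i, j, hij, hi, hj, hrest⟩ | ⟨hall, -⟩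
    · have h' : ∀ l : Fin 6, l.val < 4 → l = i ∨ l = j := fun l hl => by
        by_contra hl'
        push Not at hl'
        have h5 := hrest l hl'.1 hl'.2
        obtain ⟨k, hk⟩ := l
        have : k < 4 := hl
        revert h5
        interval_cases k <;> simp
      rcases h' 0 (by decide) with e0 | e0 <;> rcases h' 1 (by decide) with e1 | e1 <;>
        rcases h' 2 (by decide) with e2 | e2 <;> subst_vars <;> simp_all
    · exact hall 4 rfl

end Cfsg.Agent.Unitary.Asch
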