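/-
The maximal subgroups in six dimensions: the cases over the field with four elements that drop out.
-/
import Cfsg.Agent.Unitary.AschMaximal
import Cfsg.Agent.Unitary.AschFrameSix
import Cfsg.Agent.Unitary.AschFieldSix

set_option autoImplicit false
set_option linter.unusedSectionVars false

namespace Cfsg.Agent.Unitary.Asch

open scoped MatrixGroups Matrix
open Cfsg Cfsg.Geo Cfsg.Agent.Unitary Matrix

variable {F : Type*} [Field F] [Fintype F] {q : ℕ}

theorem frame_six_bound (hF : Fintype.card F = q ^ 2) {H : Subgroup (GL (Fin 6) F)}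
    (hH : IsMaximalIn (SUg 6 F q) H) {D : Fin 6 → Submodule F (Fin 6 → F)}
    (hD : IsNondegenerateMDecomposition (hermForm 6 F q) 1 D)
    (h : H = decompositionStabilizer D ⊓ SUg 6 F q) : 3 ≤ q := by
  by_contra hq
  obtain rfl : q = 2 := by have := two_le_q hF; omega
  subst h
  exact frame_six_two hF hD hH

theorem six_maximal (hF : Fintype.card F = q ^ 2) {H : Subgroup (GL (Fin 6) F)}
    (hH : IsMaximalIn (SUg 6 F q) H) :
    (3 ≤ q ∧ ∃ K : Subalgebra F (Matrix (Fin 6) (Fin 6) F), IsFieldSubalgebra 3 K ∧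
      IsAdjointClosedFor (hermForm 6 F q) K ∧ H = subalgebraNormalizer K ⊓ SUg 6 F q) ∨
    (∃ h : MaxOutcome q H, True) ∧ (∀ r K, r.Prime → Odd r → r ∣ 6 → IsFieldSubalgebra r K →
      IsAdjointClosedFor (hermForm 6 F q) K → H = subalgebraNormalizer K ⊓ SUg 6 F q →
      InClass5 q H) := by
  by_cases hq : 3 ≤ q ∧ ∃ K : Subalgebra F (Matrix (Fin 6) (Fin 6) F), IsFieldSubalgebra 3 K ∧
      IsAdjointClosedFor (hermForm 6 F q) K ∧ H = subalgebraNormalizer K ⊓ SUg 6 F q
  · exact Or.inl hq
  refine Or.inr ⟨⟨unitary_maximal hF (by norm_num) (by norm_num) H hH, trivial⟩,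
    fun r K hr hodd hdvd hK hs h => ?_⟩
  obtain rfl : r = 3 := by
    have := hr.two_le
    have : r ≤ 6 := Nat.le_of_dvd (by norm_num) hdvd
    interval_cases r <;> first | rfl | (exfalso; revert hodd hdvd; decide) | norm_num at hr
  obtain rfl : q = 2 := by
    have := two_le_q hF
    by_contra hne
    exact hq ⟨by omega, K, hK, hs, h⟩
  exact h ▸ field_six_two hF hK hs

end Cfsg.Agent.Unitary.Asch
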