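import Cfsg.Agent.Aschbacher.Structure

/-!
# Products of two Heisenberg groups over `ZMod r` and their normalisers
-/

set_option autoImplicit false
set_option linter.unusedSectionVars false
set_option linter.style.haveILetI false

namespace Cfsg.Agent.Unitary.Asch.Heis

open Matrix
open scoped MatrixGroups Kronecker
open Cfsg.Geo

variable {F : Type*} [Field F] [Fintype F] {r : ℕ} [Fact r.Prime]

/-- The monomial matrix `c • (shift a * clock b)`. -/
def mon (ψ : AddChar (ZMod r) F) (a b : ZMod r) (c : F) : Matrix (ZMod r) (ZMod r) F :=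
  Matrix.of fun s' s => if s' = s + a then c * ψ (b * s) else 0

lemma mon_mul (ψ : AddChar (ZMod r) F) (a b a' b' : ZMod r) (c c' : F) :
    mon ψ a b c * mon ψ a' b' c' = mon ψ (a + a') (b + b') (c * c' * ψ (b * a')) := by
  ext s' s
  simp only [mon, Matrix.mul_apply, Matrix.of_apply, mul_ite, mul_zero]
  rw [Finset.sum_ite_eq' Finset.univ (s + a')]
  simp only [Finset.mem_univ, if_true]
  have e : s + a' + a = s + (a + a') := by ring
  rw [e]
  split_ifs with h
  · rw [mul_add, AddChar.map_add_eq_mul, add_mul, AddChar.map_add_eq_mul]; ring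
  · rw [zero_mul]

lemma mon_zero (ψ : AddChar (ZMod r) F) (c : F) :
    mon ψ 0 0 c = c • (1 : Matrix (ZMod r) (ZMod r) F) := by
  ext s' s
  by_cases h : s' = s <;> simp [mon, h]

lemma mon_smul (ψ : AddChar (ZMod r) F) (a b : ZMod r) (c : F) :
    mon ψ a b c = c • mon ψ a b 1 := by
  ext s' s
  by_cases h : s' = s + a <;> simp [mon, h]

/-- An invertible monomial of this shape. -/
def monGL (ψ : AddChar (ZMod r) F) (a b : ZMod r) (c : Fˣ) : GL (ZMod r) F where
  val := mon ψ a b (c : F)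
  inv := mon ψ (-a) (-b) ((c : F)⁻¹ * ψ (b * a))
  val_inv := by
    rw [mon_mul, add_neg_cancel, add_neg_cancel, mon_zero]
    rw [show (c : F) * ((c : F)⁻¹ * ψ (b * a)) * ψ (b * -a) = ψ (b * a) * ψ (b * -a) by
      field_simp, ← AddChar.map_add_eq_mul, ← mul_add, add_neg_cancel, mul_zero,
      AddChar.map_zero_eq_one, one_smul]
  inv_val := by
    rw [mon_mul, neg_add_cancel, neg_add_cancel, mon_zero]
    rw [show (c : F)⁻¹ * ψ (b * a) * (c : F) * ψ (-b * a) = ψ (b * a) * ψ (-b * a) by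
      field_simp, ← AddChar.map_add_eq_mul, ← add_mul, add_neg_cancel, zero_mul,
      AddChar.map_zero_eq_one, one_smul]

lemma monGL_val (ψ : AddChar (ZMod r) F) (a b : ZMod r) (c : Fˣ) :
    (monGL ψ a b c : Matrix (ZMod r) (ZMod r) F) = mon ψ a b (c : F) := rfl

/-- The Heisenberg group with all scalars. -/
def heis (ψ : AddChar (ZMod r) F) : Subgroup (GL (ZMod r) F) where
  carrier := {g | ∃ a b c, g = monGL ψ a b c}
  one_mem' := ⟨0, 0, 1, Units.ext (by rw [monGL_val, mon_zero]; simp)⟩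
  mul_mem' := by
    rintro _ _ ⟨a, b, c, rfl⟩ ⟨a', b', c', rfl⟩
    have hu : ψ (b * a') ≠ 0 := (AddChar.val_isUnit ψ _).ne_zero
    exact ⟨a + a', b + b', c * c' * Units.mk0 _ hu, Units.ext (by
      rw [Units.val_mul, monGL_val, monGL_val, monGL_val, mon_mul]; rfl)⟩
  inv_mem' := by
    rintro _ ⟨a, b, c, rfl⟩
    have hu : ψ (b * a) ≠ 0 := (AddChar.val_isUnit ψ _).ne_zero
    exact ⟨-a, -b, c⁻¹ * Units.mk0 _ hu, Units.ext (by
      rw [monGL_val, Units.val_mul, Units.val_inv_eq_inv_val, Units.val_mk0]; rfl)⟩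

lemma scalars_le_heis (ψ : AddChar (ZMod r) F) : scalars (ZMod r) F ≤ heis ψ := by
  intro g hg
  obtain ⟨c, hc⟩ := (mem_scalars_iff g).mp hg
  exact ⟨0, 0, c, Units.ext (by rw [monGL_val, mon_zero, hc])⟩

lemma mem_normalizer_of_conj {G : Type*} [Group G] [Finite G] {N : Subgroup G} {g : G}
    (h : ∀ x ∈ N, g * x * g⁻¹ ∈ N) : g ∈ Subgroup.normalizer (N : Set G) := by
  rw [Subgroup.mem_normalizer_iff]
  intro x
  refine ⟨fun hx => h x hx, fun hx => ?_⟩
  have hmap : N.map (MulAut.conj g).toMonoidHom = N := by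
    refine Subgroup.eq_of_le_of_card_ge ?_ ?_
    · rintro _ ⟨y, hy, rfl⟩; exact h y hy
    · rw [Nat.card_congr (N.equivMapOfInjective (MulAut.conj g).toMonoidHom (MulAut.conj g).injective).toEquiv]
  rw [← hmap] at hx
  obtain ⟨y, hy, hyx⟩ := hx
  have : y = x := (MulAut.conj g).injective hyx
  exact this ▸ hy

/-- Conjugation preserves the group as soon as the two generators land in it. -/
lemma mem_normalizer_heis (ψ : AddChar (ZMod r) F) {g : GL (ZMod r) F}
    (hX : g * monGL ψ 1 0 1 * g⁻¹ ∈ heis ψ) (hC : g * monGL ψ 0 1 1 * g⁻¹ ∈ heis ψ) :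
    g ∈ subgroupNormalizer (heis ψ) := by
  haveI : Finite (GL (ZMod r) F) := inferInstance
  refine mem_normalizer_of_conj ?_
  let K := (heis ψ).comap (MulAut.conj g).toMonoidHom
  have hXk : ∀ k : ℕ, ((monGL ψ 1 0 1) ^ k : GL (ZMod r) F) = monGL ψ (k : ZMod r) 0 1 := by
    intro k
    induction k with
    | zero => exact Units.ext (by rw [pow_zero, monGL_val, Nat.cast_zero, mon_zero]; simp)
    | succ k ih =>
      rw [pow_succ, ih]
      exact Units.ext (by
        rw [Units.val_mul, monGL_val, monGL_val, monGL_val, mon_mul, Nat.cast_succ]; simp)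
  have hCk : ∀ k : ℕ, ((monGL ψ 0 1 1) ^ k : GL (ZMod r) F) = monGL ψ 0 (k : ZMod r) 1 := by
    intro k
    induction k with
    | zero => exact Units.ext (by rw [pow_zero, monGL_val, Nat.cast_zero, mon_zero]; simp)
    | succ k ih =>
      rw [pow_succ, ih]
      exact Units.ext (by
        rw [Units.val_mul, monGL_val, monGL_val, monGL_val, mon_mul, Nat.cast_succ]; simp)
  rintro x ⟨a, b, c, rfl⟩
  have h1 : monGL ψ 0 0 c ∈ K := by
    show g * _ * g⁻¹ ∈ heis ψ
    have hs : monGL ψ 0 0 c ∈ scalars (ZMod r) F :=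
      (mem_scalars_iff _).mpr ⟨c, by rw [monGL_val, mon_zero]⟩
    exact scalars_le_heis ψ (scalars_normal.conj_mem _ hs g)
  have e : monGL ψ a b c = monGL ψ 0 0 c * ((monGL ψ 1 0 1) ^ a.val * (monGL ψ 0 1 1) ^ b.val) := by
    rw [hXk, hCk, ZMod.natCast_rightInverse a, ZMod.natCast_rightInverse b]
    exact Units.ext (by simp [Units.val_mul, monGL_val, mon_mul])
  show monGL ψ a b c ∈ K
  rw [e]
  exact K.mul_mem h1 (K.mul_mem (K.pow_mem hX _) (K.pow_mem hC _))

/-- An invertible diagonal matrix. -/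
def diagGL (d : ZMod r → Fˣ) : GL (ZMod r) F where
  val := Matrix.diagonal fun s => (d s : F)
  inv := Matrix.diagonal fun s => ((d s)⁻¹ : Fˣ)
  val_inv := by rw [Matrix.diagonal_mul_diagonal]; simp
  inv_val := by rw [Matrix.diagonal_mul_diagonal]; simp

lemma diag_conj {g : GL (ZMod r) F} {M : Matrix (ZMod r) (ZMod r) F} {x : GL (ZMod r) F}
    (h : (g : Matrix (ZMod r) (ZMod r) F) * (x : Matrix (ZMod r) (ZMod r) F) =
      M * (g : Matrix (ZMod r) (ZMod r) F)) :
    ((g * x * g⁻¹ : GL (ZMod r) F) : Matrix (ZMod r) (ZMod r) F) = M := by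
  rw [Units.val_mul, Units.val_mul, h, mul_assoc, ← Units.val_mul, mul_inv_cancel, Units.val_one,
    mul_one]

variable (ψ : AddChar (ZMod r) F)

lemma sum_char (hψ : ψ.IsPrimitive) (s : ZMod r) :
    ∑ b : ZMod r, ψ (b * s) = if s = 0 then (r : F) else 0 := by
  split_ifs with h
  · simp [h, ZMod.card]
  · simpa [h] using AddChar.sum_mulShift s hψ

/-- The envelope of the group is everything. -/
theorem env_heis (hψ : ψ.IsPrimitive) (hr : (r : F) ≠ 0) :
    Aschbacher.env (heis ψ) = ⊤ := by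
  rw [eq_top_iff]
  intro M _
  have hmon : ∀ a b, mon ψ a b 1 ∈ Aschbacher.env (heis ψ) := fun a b =>
    Aschbacher.val_mem_env (x := monGL ψ a b 1) ⟨a, b, 1, rfl⟩
  have hsingle : ∀ i j : ZMod r, Matrix.single i j (1 : F) ∈ Aschbacher.env (heis ψ) := by
    intro i j
    have : Matrix.single i j (1 : F) =
        (r : F)⁻¹ • ∑ b : ZMod r, ψ (-(b * j)) • mon ψ (i - j) b 1 := by
      ext s' s
      simp only [Matrix.smul_apply, Matrix.sum_apply, mon, Matrix.of_apply, smul_eq_mul, one_mul,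
        mul_ite, mul_zero, Matrix.single_apply]
      by_cases hs : s' = s + (i - j)
      · simp only [hs, if_true, ← AddChar.map_add_eq_mul]
        rw [Finset.sum_congr rfl fun b _ => show ψ (-(b * j) + b * s) = ψ (b * (s - j)) by
          congr 1; ring, sum_char ψ hψ]
        by_cases h : s = j
        · subst h; simp [hr]
        · rw [if_neg (sub_ne_zero.mpr h), mul_zero, if_neg]
          rintro ⟨-, rfl⟩; exact h rfl
      · simp only [hs, if_false, Finset.sum_const_zero, mul_zero]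
        rw [if_neg]
        rintro ⟨rfl, rfl⟩
        exact hs (by ring)
    rw [this]
    exact Subalgebra.smul_mem _
      (Subalgebra.sum_mem _ fun b _ => Subalgebra.smul_mem _ (hmon _ b) _) _
  rw [Matrix.matrix_eq_sum_single M]
  refine Subalgebra.sum_mem _ fun i _ => Subalgebra.sum_mem _ fun j _ => ?_
  have e : Matrix.single i j (M i j) = M i j • Matrix.single i j (1 : F) := by
    rw [Matrix.smul_single, smul_eq_mul, mul_one]
  rw [e]
  exact Subalgebra.smul_mem _ (hsingle i j) _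

/-- The discrete Fourier matrix. -/
def fourier : Matrix (ZMod r) (ZMod r) F := Matrix.of fun s' s => ψ (s' * s)

lemma isUnit_fourier (hψ : ψ.IsPrimitive) (hr : (r : F) ≠ 0) : IsUnit (fourier ψ) := by
  have h : fourier ψ * ((r : F)⁻¹ • Matrix.of fun s' s => ψ (-(s' * s))) = 1 := by
    ext i j
    simp only [fourier, Matrix.mul_apply, Matrix.smul_apply, Matrix.of_apply, smul_eq_mul]
    rw [Finset.sum_congr rfl fun k _ =>
      show ψ (i * k) * ((r : F)⁻¹ * ψ (-(k * j))) = (r : F)⁻¹ * ψ (k * (i - j)) by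
        rw [mul_left_comm, ← AddChar.map_add_eq_mul]; congr 2; ring,
      ← Finset.mul_sum, sum_char ψ hψ]
    by_cases hij : i = j
    · subst hij; simp [hr]
    · rw [if_neg (sub_ne_zero.mpr hij), mul_zero, Matrix.one_apply_ne hij]
  exact (Matrix.isUnit_iff_isUnit_det _).mpr (Matrix.isUnit_det_of_right_inverse h)

lemma fourier_mul_mon (a b : ZMod r) (c : F) :
    fourier ψ * mon ψ a b c = mon ψ (-b) a (c * ψ (-(a * b))) ^ 1 * fourier ψ := by
  rw [pow_one]
  ext i j
  simp only [fourier, mon, Matrix.mul_apply, Matrix.of_apply, mul_ite, mul_zero, ite_mul, zero_mul]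
  rw [Finset.sum_ite_eq' Finset.univ (j + a)]
  rw [Finset.sum_congr rfl fun k _ => if_congr
    (show i = k + -b ↔ k = i + b from ⟨fun h => by rw [h]; ring, fun h => by rw [h]; ring⟩) rfl rfl,
    Finset.sum_ite_eq']
  simp only [Finset.mem_univ, if_true]
  rw [mul_left_comm, ← AddChar.map_add_eq_mul, mul_assoc, mul_assoc, ← AddChar.map_add_eq_mul,
    ← AddChar.map_add_eq_mul]
  congr 2
  ring

/-- Any non-scalar element of the group has a non-scalar commutator with some normalising element,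
and the invariant subgroups are the scalars and the whole group. -/
theorem heis_minimal (hψ : ψ.IsPrimitive) (hr : (r : F) ≠ 0) (d : ZMod r → Fˣ) (a₀ : Fˣ)
    (hd : ∀ s, (d (s + 1) : F) = (a₀ : F) * ψ s * d s)
    (K : Subgroup (GL (ZMod r) F)) (hKle : K ≤ heis ψ) (hsc : scalars (ZMod r) F ≤ K)
    (hK : ∀ g ∈ subgroupNormalizer (heis ψ), ∀ x ∈ K, g * x * g⁻¹ ∈ K)
    {x : GL (ZMod r) F} (hxK : x ∈ K) (hx : x ∉ scalars (ZMod r) F) :
    heis ψ ≤ K := by
  let Fo : GL (ZMod r) F := (isUnit_fourier ψ hψ hr).unit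
  have hFo : (Fo : Matrix (ZMod r) (ZMod r) F) = fourier ψ := (isUnit_fourier ψ hψ hr).unit_spec
  have hFconj : ∀ a b c, ∃ c', Fo * monGL ψ a b c * Fo⁻¹ = monGL ψ (-b) a c' := fun a b c => by
    have hu : ψ (-(a * b)) ≠ 0 := (AddChar.val_isUnit ψ _).ne_zero
    refine ⟨c * Units.mk0 _ hu, Units.ext (diag_conj ?_)⟩
    rw [hFo, monGL_val, fourier_mul_mon, pow_one]
    rfl
  have hFn : Fo ∈ subgroupNormalizer (heis ψ) := by
    refine mem_normalizer_heis ψ ?_ ?_
    · obtain ⟨c', h⟩ := hFconj 1 0 1; exact ⟨_, _, c', h⟩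
    · obtain ⟨c', h⟩ := hFconj 0 1 1; exact ⟨_, _, c', h⟩
  let D : GL (ZMod r) F := diagGL d
  have hDX : D * monGL ψ 1 0 1 * D⁻¹ = monGL ψ 1 1 a₀ := by
    refine Units.ext (diag_conj ?_)
    show Matrix.diagonal (fun s => (d s : F)) * mon ψ 1 0 ((1 : Fˣ) : F) =
      mon ψ 1 1 (a₀ : F) * Matrix.diagonal (fun s => (d s : F))
    ext s' s
    simp only [Matrix.diagonal_mul, Matrix.mul_diagonal, mon, Matrix.of_apply]
    split_ifs with h
    · subst h; simp [hd]
    · simp
  have hDC : D * monGL ψ 0 1 1 * D⁻¹ = monGL ψ 0 1 1 := by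
    refine Units.ext (diag_conj ?_)
    show Matrix.diagonal (fun s => (d s : F)) * mon ψ 0 1 ((1 : Fˣ) : F) =
      mon ψ 0 1 ((1 : Fˣ) : F) * Matrix.diagonal (fun s => (d s : F))
    ext s' s
    simp only [Matrix.diagonal_mul, Matrix.mul_diagonal, mon, Matrix.of_apply, add_zero]
    split_ifs with h
    · subst h; ring
    · simp
  have hDn : D ∈ subgroupNormalizer (heis ψ) :=
    mem_normalizer_heis ψ (by rw [hDX]; exact ⟨_, _, _, rfl⟩) (by rw [hDC]; exact ⟨_, _, _, rfl⟩)
  have hrel : ∀ a b c, monGL ψ a b c ∈ K → ∀ c', monGL ψ a b c' ∈ K := by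
    intro a b c h c'
    have e : monGL ψ a b c' = monGL ψ 0 0 (c' * c⁻¹) * monGL ψ a b c :=
      Units.ext (by simp [Units.val_mul, monGL_val, mon_mul])
    rw [e]
    exact K.mul_mem (hsc ((mem_scalars_iff _).mpr ⟨c' * c⁻¹, by rw [monGL_val, mon_zero]⟩)) h
  let S : Set (ZMod r × ZMod r) := {p | monGL ψ p.1 p.2 1 ∈ K}
  have hSadd : ∀ p ∈ S, ∀ p' ∈ S, p + p' ∈ S := by
    intro p hp p' hp'
    have hu : ψ (p.2 * p'.1) ≠ 0 := (AddChar.val_isUnit ψ _).ne_zero
    have h := K.mul_mem hp hp'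
    have e : monGL ψ p.1 p.2 1 * monGL ψ p'.1 p'.2 1 =
        monGL ψ (p.1 + p'.1) (p.2 + p'.2) (Units.mk0 _ hu) :=
      Units.ext (by simp [Units.val_mul, monGL_val, mon_mul])
    rw [e] at h
    exact hrel _ _ _ h 1
  have hS0 : (0, 0) ∈ S := by
    show monGL ψ 0 0 1 ∈ K
    exact hsc ((mem_scalars_iff _).mpr ⟨1, by rw [monGL_val, mon_zero]⟩)
  have hSmul : ∀ (t : ZMod r), ∀ p ∈ S, (t * p.1, t * p.2) ∈ S := by
    intro t p hp
    rw [← ZMod.natCast_rightInverse t]
    induction t.val with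
    | zero => simpa using hS0
    | succ k ih =>
      have e : (((k + 1 : ℕ) : ZMod r) * p.1, ((k + 1 : ℕ) : ZMod r) * p.2) =
          (((k : ℕ) : ZMod r) * p.1, ((k : ℕ) : ZMod r) * p.2) + p :=
        Prod.ext (by simp [add_mul]) (by simp [add_mul])
      rw [e]
      exact hSadd _ ih _ hp
  have hSD : ∀ p ∈ S, (p.1, p.1 + p.2) ∈ S := by
    intro p hp
    have h := hK D hDn _ hp
    let Kc := MulAut.conj D
    have e : ∃ c, D * monGL ψ p.1 p.2 1 * D⁻¹ = monGL ψ p.1 (p.1 + p.2) c := by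
      have hXk : ∀ k : ℕ, ∃ c, D * monGL ψ (k : ZMod r) 0 1 * D⁻¹ = monGL ψ (k : ZMod r) (k : ZMod r) c := by
        intro k
        induction k with
        | zero =>
          refine ⟨1, ?_⟩
          rw [Nat.cast_zero, show monGL ψ (0 : ZMod r) 0 (1 : Fˣ) = 1 from
            Units.ext (by rw [monGL_val, mon_zero]; simp), mul_one, mul_inv_cancel]
        | succ k ih =>
          obtain ⟨c, hc⟩ := ih
          have hu : ψ ((k : ZMod r) * 1) ≠ 0 := (AddChar.val_isUnit ψ _).ne_zero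
          refine ⟨c * a₀ * Units.mk0 _ hu, ?_⟩
          rw [show monGL ψ ((k + 1 : ℕ) : ZMod r) 0 (1 : Fˣ) =
            monGL ψ (k : ZMod r) 0 1 * monGL ψ 1 0 1 from
            Units.ext (by simp [Units.val_mul, monGL_val, mon_mul]),
            show D * (monGL ψ (k : ZMod r) 0 1 * monGL ψ 1 0 1) * D⁻¹ =
              (D * monGL ψ (k : ZMod r) 0 1 * D⁻¹) * (D * monGL ψ 1 0 1 * D⁻¹) by group, hc, hDX]
          exact Units.ext (by simp [Units.val_mul, monGL_val, mon_mul])
      obtain ⟨c, hc⟩ := hXk p.1.val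
      rw [ZMod.natCast_rightInverse] at hc
      have hCk : ∀ k : ℕ, D * monGL ψ 0 (k : ZMod r) 1 * D⁻¹ = monGL ψ 0 (k : ZMod r) 1 := by
        intro k
        induction k with
        | zero =>
          rw [Nat.cast_zero, show monGL ψ (0 : ZMod r) 0 (1 : Fˣ) = 1 from
            Units.ext (by rw [monGL_val, mon_zero]; simp), mul_one, mul_inv_cancel]
        | succ k ih =>
          rw [show monGL ψ 0 ((k + 1 : ℕ) : ZMod r) (1 : Fˣ) =
            monGL ψ 0 (k : ZMod r) 1 * monGL ψ 0 1 1 from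
            Units.ext (by simp [Units.val_mul, monGL_val, mon_mul]),
            show D * (monGL ψ 0 (k : ZMod r) 1 * monGL ψ 0 1 1) * D⁻¹ =
              (D * monGL ψ 0 (k : ZMod r) 1 * D⁻¹) * (D * monGL ψ 0 1 1 * D⁻¹) by group, ih, hDC]
      have hC2 := hCk p.2.val
      rw [ZMod.natCast_rightInverse] at hC2
      refine ⟨c, ?_⟩
      rw [show monGL ψ p.1 p.2 (1 : Fˣ) = monGL ψ p.1 0 1 * monGL ψ 0 p.2 1 from
        Units.ext (by simp [Units.val_mul, monGL_val, mon_mul]),
        show D * (monGL ψ p.1 0 1 * monGL ψ 0 p.2 1) * D⁻¹ =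
          (D * monGL ψ p.1 0 1 * D⁻¹) * (D * monGL ψ 0 p.2 1 * D⁻¹) by group, hc, hC2]
      exact Units.ext (by simp [Units.val_mul, monGL_val, mon_mul])
    obtain ⟨c, hc⟩ := e
    rw [hc] at h
    exact hrel _ _ _ h 1
  have hSF : ∀ p ∈ S, (-p.2, p.1) ∈ S := by
    intro p hp
    have h := hK Fo hFn _ hp
    obtain ⟨c, hc⟩ := hFconj p.1 p.2 1
    rw [hc] at h
    exact hrel _ _ _ h 1
  obtain ⟨a, b, c, rfl⟩ := hKle hxK
  have hab : (a, b) ∈ S := hrel _ _ _ hxK 1
  -- get a vector with non-zero first coordinate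
  obtain ⟨u, v, hu, huv⟩ : ∃ u v, u ≠ 0 ∧ (u, v) ∈ S := by
    by_cases ha : a = 0
    · refine ⟨-b, a, fun h => hx ?_, hSF _ hab⟩
      rw [neg_eq_zero] at h
      exact (mem_scalars_iff _).mpr ⟨c, by rw [ha, h, monGL_val, mon_zero]⟩
    · exact ⟨a, b, ha, hab⟩
  have h01 : ((0 : ZMod r), (1 : ZMod r)) ∈ S := by
    have h1 := hSadd _ (hSD _ huv) _ (hSmul (-1) _ huv)
    have h2 : (u + -1 * u, u + v + -1 * v) = ((0 : ZMod r), u) := by
      rw [Prod.mk.injEq]; constructor <;> ring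
    rw [Prod.mk_add_mk, h2] at h1
    simpa [inv_mul_cancel₀ hu] using hSmul u⁻¹ _ h1
  have h10 : ((1 : ZMod r), (0 : ZMod r)) ∈ S := by
    simpa using hSmul (-1) _ (hSF _ h01)
  rintro _ ⟨a', b', c', rfl⟩
  have h := hSadd _ (hSmul a' _ h10) _ (hSmul b' _ h01)
  exact hrel _ _ _ (by simpa [S] using h) c'

end Cfsg.Agent.Unitary.Asch.Heis
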