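/-
Coded three by three matrices over the field with `p^2` elements and the checks used for subgroups
given by generators and an orbit of lines.
-/
import Cfsg.Agent.Unitary.AschProperBasic

set_option autoImplicit false
set_option maxHeartbeats 1000000
set_option linter.unusedSectionVars false

namespace Cfsg.Agent.Unitary.Asch.Three

open scoped MatrixGroups Matrix
open Cfsg Cfsg.Geo Cfsg.Agent.Unitary Matrix

section code

variable (p d : ℕ)

/-- Addition on codes `a + p * b`. -/
def addC (x y : ℕ) : ℕ := (x % p + y % p) % p + p * ((x / p + y / p) % p)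

/-- Multiplication on codes, the generator squaring to `d`. -/
def mulC (x y : ℕ) : ℕ :=
  ((x % p) * (y % p) + d * (x / p) * (y / p)) % p +
    p * (((x % p) * (y / p) + (x / p) * (y % p)) % p)

/-- Conjugation on codes. -/
def cjC (x : ℕ) : ℕ := x % p + p * ((p - x / p) % p)

/-- Negation on codes. -/
def negC (x : ℕ) : ℕ := (p - x % p) % p + p * ((p - x / p) % p)

/-- A candidate for the inverse of a code. -/
def invC (x : ℕ) : ℕ := mulC p d (cjC p x) ((mulC p d x (cjC p x)) ^ (p - 2) % p)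

/-- A coordinate of a coded vector. -/
def co (v i : ℕ) : ℕ := v / (p * p) ^ i % (p * p)

/-- The code of a vector. -/
def enc (a b c : ℕ) : ℕ := a + p * p * b + (p * p) ^ 2 * c

/-- A row of a coded matrix. -/
def row (M i : ℕ) : ℕ := M / ((p * p) ^ 3) ^ i % (p * p) ^ 3

/-- The code of a matrix. -/
def encM (a b c : ℕ) : ℕ := a + (p * p) ^ 3 * b + ((p * p) ^ 3) ^ 2 * c

/-- A column of a coded matrix. -/
def col (M j : ℕ) : ℕ := enc p (co p (row p M 0) j) (co p (row p M 1) j) (co p (row p M 2) j)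

/-- The product of two coded vectors. -/
def dot (r v : ℕ) : ℕ :=
  addC p (addC p (mulC p d (co p r 0) (co p v 0)) (mulC p d (co p r 1) (co p v 1)))
    (mulC p d (co p r 2) (co p v 2))

/-- A matrix applied to a vector. -/
def mv (M v : ℕ) : ℕ := enc p (dot p d (row p M 0) v) (dot p d (row p M 1) v) (dot p d (row p M 2) v)

/-- A row of a product. -/
def mmRow (A B i : ℕ) : ℕ :=
  enc p (dot p d (row p A i) (col p B 0)) (dot p d (row p A i) (col p B 1))
    (dot p d (row p A i) (col p B 2))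

/-- The product of coded matrices. -/
def mm (A B : ℕ) : ℕ := encM p (mmRow p d A B 0) (mmRow p d A B 1) (mmRow p d A B 2)

/-- A multiple of a coded vector. -/
def sc (l v : ℕ) : ℕ :=
  enc p (mulC p d l (co p v 0)) (mulC p d l (co p v 1)) (mulC p d l (co p v 2))

/-- A multiple of a coded matrix. -/
def scM (l M : ℕ) : ℕ :=
  encM p (sc p d l (row p M 0)) (sc p d l (row p M 1)) (sc p d l (row p M 2))

/-- The conjugate of a coded vector. -/
def conjv (v : ℕ) : ℕ := enc p (cjC p (co p v 0)) (cjC p (co p v 1)) (cjC p (co p v 2))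

/-- The conjugate transpose of a coded matrix. -/
def hstC (M : ℕ) : ℕ := encM p (conjv p (col p M 0)) (conjv p (col p M 1)) (conjv p (col p M 2))

/-- The form on coded vectors. -/
def hermC (u v : ℕ) : ℕ := dot p d u (conjv p v)

/-- An entry of a coded matrix. -/
def ent (M i j : ℕ) : ℕ := co p (row p M i) j

/-- The trace of a coded matrix. -/
def trC (M : ℕ) : ℕ := addC p (addC p (ent p M 0 0) (ent p M 1 1)) (ent p M 2 2)

/-- A product of three entries. -/
def term (M a b c : ℕ) : ℕ := mulC p d (mulC p d (ent p M 0 a) (ent p M 1 b)) (ent p M 2 c)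

/-- The determinant of a coded matrix. -/
def detC (M : ℕ) : ℕ :=
  addC p (addC p (addC p (addC p (addC p (term p d M 0 1 2) (negC p (term p d M 0 2 1)))
    (negC p (term p d M 1 0 2))) (term p d M 1 2 0)) (term p d M 2 0 1)) (negC p (term p d M 2 1 0))

/-- The code of the identity matrix. -/
def idC : ℕ := encM p 1 (p * p) ((p * p) ^ 2)

/-- The code of a matrix is a unitary matrix. -/
def isUnitary (M : ℕ) : Bool := mm p d (hstC p M) M == idC p

/-- A factor making the first non-zero coordinate one. -/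
def nrm (w : ℕ) : ℕ :=
  if co p w 0 == 0 then (if co p w 1 == 0 then invC p d (co p w 2) else invC p d (co p w 1))
  else invC p d (co p w 0)

/-- A matrix permutes the lines. -/
def keeps (S : List ℕ) (M : ℕ) : Bool :=
  S.all fun c =>
    decide (nrm p d (mv p d M c) < p * p) && (nrm p d (mv p d M c) != 0) &&
      S.contains (sc p d (nrm p d (mv p d M c)) (mv p d M c))

/-- Two coded vectors span different lines. -/
def indep (u v : ℕ) : Bool :=
  (mulC p d (co p u 0) (co p v 1) != mulC p d (co p u 1) (co p v 0)) ||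
    (mulC p d (co p u 0) (co p v 2) != mulC p d (co p u 2) (co p v 0)) ||
    (mulC p d (co p u 1) (co p v 2) != mulC p d (co p u 2) (co p v 1))

/-- A matrix moves a line out of the set. -/
def moves (S : List ℕ) (M : ℕ) : Bool :=
  S.any fun c => S.all fun c' => indep p d (mv p d M c) c'

/-- Each member is a generator times an earlier member. -/
def isClosureList (gens : List ℕ) (L : List (ℕ × ℕ × ℕ)) : Bool :=
  (List.range L.length).all fun k =>
    if k == 0 then (L.getD k (0, 0, 0)).1 == idC p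
    else decide ((L.getD k (0, 0, 0)).2.2 < k) &&
      decide ((L.getD k (0, 0, 0)).2.1 < gens.length) &&
      ((L.getD k (0, 0, 0)).1 ==
        mm p d (gens.getD (L.getD k (0, 0, 0)).2.1 0) (L.getD (L.getD k (0, 0, 0)).2.2 (0, 0, 0)).1)

/-- Generators of a subgroup fixing the lines, and an element of determinant one moving one. -/
def isCert (S gens : List ℕ) (y : ℕ) : Bool :=
  gens.all (fun g => isUnitary p d g && (detC p d g == 1) && keeps p d S g) &&
    isUnitary p d y && (detC p d y == 1) && moves p d S y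

end code

/-! ### The values -/

variable {F : Type*} [Field F] [Fintype F] {p d : ℕ} {θ : F}

/-- The element with a given code. -/
def val (p : ℕ) (θ : F) (x : ℕ) : F := ((x % p : ℕ) : F) + ((x / p : ℕ) : F) * θ

/-- The vector with a given code. -/
def vecF (p : ℕ) (θ : F) (v : ℕ) : Fin 3 → F := fun i => val p θ (co p v i)

/-- The matrix with a given code. -/
def matF (p : ℕ) (θ : F) (M : ℕ) : Matrix (Fin 3) (Fin 3) F :=
  Matrix.of fun i j => val p θ (co p (row p M i) j)

/-- A square root of `d`, not in the prime field. -/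
structure Root (p d : ℕ) (θ : F) : Prop where
  prime : p.Prime
  three_le : 3 ≤ p
  card : Fintype.card F = p ^ 2
  char : CharP F p
  sq : θ * θ = d
  ne_zero : θ ≠ 0
  conj : θ ^ p = -θ

lemma co_lt {p : ℕ} (hp : 0 < p) (v i : ℕ) : co p v i < p * p := Nat.mod_lt _ (Nat.mul_pos hp hp)

lemma code_lt {p : ℕ} (hp : 0 < p) (a b : ℕ) : a % p + p * (b % p) < p * p := by
  have h1 := Nat.mod_lt a hp
  have h2 := Nat.mod_lt b hp
  calc a % p + p * (b % p) < p + p * (b % p) := by omega
    _ = p * (b % p + 1) := by ring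
    _ ≤ p * p := Nat.mul_le_mul_left _ h2

lemma addC_lt {p : ℕ} (hp : 0 < p) (x y : ℕ) : addC p x y < p * p := code_lt hp _ _

lemma mulC_lt {p : ℕ} (hp : 0 < p) (d x y : ℕ) : mulC p d x y < p * p := code_lt hp _ _

lemma cjC_lt {p : ℕ} (hp : 0 < p) (x : ℕ) : cjC p x < p * p := code_lt hp _ _

lemma dot_lt {p : ℕ} (hp : 0 < p) (d r v : ℕ) : dot p d r v < p * p := addC_lt hp _ _

lemma enc_lt {p a b c : ℕ} (ha : a < p * p) (hb : b < p * p) (hc : c < p * p) :
    enc p a b c < (p * p) ^ 3 := by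
  unfold enc
  generalize p * p = N at ha hb hc
  calc a + N * b + N ^ 2 * c < N + N * b + N ^ 2 * c := by omega
    _ = N * (b + 1) + N ^ 2 * c := by ring
    _ ≤ N * N + N ^ 2 * c := Nat.add_le_add_right (Nat.mul_le_mul_left _ hb) _
    _ = N ^ 2 * (c + 1) := by ring
    _ ≤ N ^ 2 * N := Nat.mul_le_mul_left _ hc
    _ = N ^ 3 := by ring

lemma digits_three {N a b c : ℕ} (ha : a < N) (hb : b < N) (hc : c < N) (i : Fin 3) :
    (a + N * b + N ^ 2 * c) / N ^ (i : ℕ) % N = ![a, b, c] i := by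
  have hN : 0 < N := by omega
  have e : a + N * b + N ^ 2 * c = a + N * (b + N * c) := by ring
  fin_cases i <;> simp [e]
  · rw [Nat.mod_eq_of_lt ha]
  · rw [Nat.add_mul_div_left _ _ hN, Nat.div_eq_of_lt ha, zero_add, Nat.add_mul_mod_self_left,
      Nat.mod_eq_of_lt hb]
  · rw [sq, ← Nat.div_div_eq_div_mul, Nat.add_mul_div_left _ _ hN, Nat.div_eq_of_lt ha, zero_add,
      Nat.add_mul_div_left _ _ hN, Nat.div_eq_of_lt hb, zero_add, Nat.mod_eq_of_lt hc]

lemma co_enc {p a b c : ℕ} (ha : a < p * p) (hb : b < p * p) (hc : c < p * p) (i : Fin 3) :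
    co p (enc p a b c) i = ![a, b, c] i := digits_three ha hb hc i

lemma row_encM {p a b c : ℕ} (ha : a < (p * p) ^ 3) (hb : b < (p * p) ^ 3) (hc : c < (p * p) ^ 3)
    (i : Fin 3) : row p (encM p a b c) i = ![a, b, c] i := digits_three ha hb hc i

lemma co_col {p : ℕ} (hp : 0 < p) (M : ℕ) (i j : Fin 3) :
    co p (col p M j) i = co p (row p M i) j := by
  rw [col, co_enc (co_lt hp _ _) (co_lt hp _ _) (co_lt hp _ _)]
  fin_cases i <;> rfl

variable (h : Root p d θ)

include h

lemma Root.pos : 0 < p := h.prime.pos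

lemma Root.cast_mod (n : ℕ) : ((n % p : ℕ) : F) = (n : F) := by
  haveI := h.char
  conv_rhs => rw [← Nat.mod_add_div n p]
  simp

lemma Root.val_mk (a b : ℕ) : val p θ (a % p + p * (b % p)) = (a : F) + (b : F) * θ := by
  have hp := h.pos
  rw [val, Nat.add_mul_mod_self_left, Nat.mod_mod, Nat.add_mul_div_left _ _ hp,
    Nat.div_eq_of_lt (Nat.mod_lt _ hp), zero_add, h.cast_mod, h.cast_mod]

lemma Root.val_addC (x y : ℕ) : val p θ (addC p x y) = val p θ x + val p θ y := by
  rw [addC, h.val_mk]; push_cast; rw [val, val]; ring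

lemma Root.val_mulC (x y : ℕ) : val p θ (mulC p d x y) = val p θ x * val p θ y := by
  rw [mulC, h.val_mk]; push_cast; rw [val, val]
  linear_combination -(((x / p : ℕ) : F) * ((y / p : ℕ) : F)) * h.sq

lemma Root.val_cjC {x : ℕ} (hx : x < p * p) : val p θ (cjC p x) = val p θ x ^ p := by
  haveI := h.char
  haveI := Fact.mk h.prime
  have h1 : x / p ≤ p := (Nat.div_lt_iff_lt_mul h.pos).2 hx |>.le
  have hf : ∀ n : ℕ, (n : F) ^ p = n := fun n => by
    rw [← frobenius_def]; exact map_natCast (frobenius F p) n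
  rw [val, cjC, Nat.add_mul_mod_self_left, Nat.mod_mod,
    Nat.add_mul_div_left _ _ h.pos, Nat.div_eq_of_lt (Nat.mod_lt _ h.pos), zero_add, h.cast_mod,
    h.cast_mod, Nat.cast_sub h1, CharP.cast_eq_zero F p, zero_sub, val, add_pow_char, mul_pow, hf, hf,
    h.conj, h.cast_mod]
  ring

lemma Root.val_negC {x : ℕ} (hx : x < p * p) : val p θ (negC p x) = -val p θ x := by
  haveI := h.char
  have h1 : x / p ≤ p := (Nat.div_lt_iff_lt_mul h.pos).2 hx |>.le
  rw [negC, h.val_mk, Nat.cast_sub (Nat.mod_lt _ h.pos).le, Nat.cast_sub h1, CharP.cast_eq_zero F p,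
    val]
  ring

lemma Root.cast_inj {a b : ℕ} (ha : a < p) (hb : b < p) (he : (a : F) = (b : F)) : a = b := by
  haveI := h.char
  exact CharP.natCast_injOn_Iio F p ha hb he

lemma Root.val_inj {x y : ℕ} (hx : x < p * p) (hy : y < p * p) (he : val p θ x = val p θ y) :
    x = y := by
  haveI := h.char
  haveI := Fact.mk h.prime
  have hf : ∀ n : ℕ, (n : F) ^ p = n := fun n => by
    rw [← frobenius_def]; exact map_natCast (frobenius F p) n
  have he2 := congrArg (fun z : F => z ^ p) he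
  simp only [val, add_pow_char, mul_pow, hf, h.conj] at he2
  rw [val, val] at he
  have h2 : (2 : F) ≠ 0 := by
    rw [show (2 : F) = ((2 : ℕ) : F) by norm_num, Ne, CharP.cast_eq_zero_iff F p]
    exact fun hd => by have := Nat.le_of_dvd two_pos hd; have := h.three_le; omega
  have hq1 : x / p < p := (Nat.div_lt_iff_lt_mul h.pos).2 hx
  have hq2 : y / p < p := (Nat.div_lt_iff_lt_mul h.pos).2 hy
  have e1 : ((x / p : ℕ) : F) = ((y / p : ℕ) : F) := by
    refine mul_right_cancel₀ h.ne_zero (mul_left_cancel₀ h2 ?_)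
    linear_combination he - he2
  have e2 : ((x % p : ℕ) : F) = ((y % p : ℕ) : F) := by linear_combination he - θ * e1
  rw [← Nat.mod_add_div x p, ← Nat.mod_add_div y p,
    h.cast_inj (Nat.mod_lt _ h.pos) (Nat.mod_lt _ h.pos) e2, h.cast_inj hq1 hq2 e1]

lemma Root.val_zero : val p θ 0 = 0 := by simp [val]

lemma Root.val_one : val p θ 1 = 1 := by
  have := h.three_le
  simp [val, Nat.mod_eq_of_lt (show 1 < p by omega), Nat.div_eq_of_lt (show 1 < p by omega)]

lemma Root.val_ne_zero {x : ℕ} (hx : x < p * p) (hx0 : x ≠ 0) : val p θ x ≠ 0 := fun he =>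
  hx0 (h.val_inj hx (Nat.mul_pos h.pos h.pos) (he.trans h.val_zero.symm))

lemma Root.val_surj (z : F) : ∃ x, x < p * p ∧ val p θ x = z := by
  classical
  have hinj : Function.Injective fun a : Fin (p * p) => val p θ a.val := fun a b he =>
    Fin.ext (h.val_inj a.isLt b.isLt he)
  obtain ⟨a, ha⟩ := ((Fintype.bijective_iff_injective_and_card _).2
    ⟨hinj, by rw [Fintype.card_fin, h.card]; ring⟩).2 z
  exact ⟨a.val, a.isLt, ha⟩

lemma Root.vecF_surj (x : Fin 3 → F) : ∃ w, w < (p * p) ^ 3 ∧ vecF p θ w = x := by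
  choose a ha hax using fun i => h.val_surj (x i)
  refine ⟨enc p (a 0) (a 1) (a 2), enc_lt (ha 0) (ha 1) (ha 2), ?_⟩
  funext i
  rw [vecF, co_enc (ha 0) (ha 1) (ha 2), ← hax]
  fin_cases i <;> rfl

lemma Root.val_dot (r v : ℕ) : val p θ (dot p d r v) = vecF p θ r ⬝ᵥ vecF p θ v := by
  simp only [dot, h.val_addC, h.val_mulC, dotProduct, Fin.sum_univ_three, vecF]
  rfl

lemma Root.vecF_mv (M v : ℕ) : vecF p θ (mv p d M v) = matF p θ M *ᵥ vecF p θ v := by
  funext i
  rw [vecF, mv, co_enc (dot_lt h.pos _ _ _) (dot_lt h.pos _ _ _) (dot_lt h.pos _ _ _)]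
  fin_cases i <;> exact h.val_dot _ _

lemma Root.matF_mm (A B : ℕ) : matF p θ (mm p d A B) = matF p θ A * matF p θ B := by
  ext i j
  have hr : ∀ i, mmRow p d A B i < (p * p) ^ 3 := fun i =>
    enc_lt (dot_lt h.pos _ _ _) (dot_lt h.pos _ _ _) (dot_lt h.pos _ _ _)
  have hcol : ∀ j : Fin 3, vecF p θ (col p B j) = fun k => matF p θ B k j := fun j => funext fun k => by
    rw [vecF, co_col h.pos]; rfl
  rw [Matrix.mul_apply]
  show val p θ (co p (row p (mm p d A B) i) j) = _
  rw [mm, row_encM (hr 0) (hr 1) (hr 2)]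
  have : co p (mmRow p d A B i) j = dot p d (row p A i) (col p B j) := by
    rw [mmRow, co_enc (dot_lt h.pos _ _ _) (dot_lt h.pos _ _ _) (dot_lt h.pos _ _ _)]
    fin_cases j <;> rfl
  rw [show (![mmRow p d A B 0, mmRow p d A B 1, mmRow p d A B 2] i : ℕ) = mmRow p d A B i by
    fin_cases i <;> rfl, this, h.val_dot, hcol]
  rfl

lemma Root.vecF_sc {l : ℕ} (v : ℕ) : vecF p θ (sc p d l v) = val p θ l • vecF p θ v := by
  funext i
  rw [vecF, sc, co_enc (mulC_lt h.pos _ _ _) (mulC_lt h.pos _ _ _) (mulC_lt h.pos _ _ _)]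
  fin_cases i <;> exact h.val_mulC _ _

lemma Root.matF_scM (l M : ℕ) : matF p θ (scM p d l M) = val p θ l • matF p θ M := by
  ext i j
  have hr : ∀ v, sc p d l v < (p * p) ^ 3 := fun v =>
    enc_lt (mulC_lt h.pos _ _ _) (mulC_lt h.pos _ _ _) (mulC_lt h.pos _ _ _)
  show val p θ (co p (row p (scM p d l M) i) j) = _
  rw [scM, row_encM (hr _) (hr _) (hr _)]
  rw [show (![sc p d l (row p M 0), sc p d l (row p M 1), sc p d l (row p M 2)] i : ℕ) =
    sc p d l (row p M i) by fin_cases i <;> rfl]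
  exact congrFun (h.vecF_sc (row p M i)) j

lemma Root.matF_idC : matF p θ (idC p) = 1 := by
  ext i j
  show val p θ (co p (row p (idC p) i) j) = _
  have hp := h.three_le
  have h1 : 1 < p * p := by nlinarith
  have h0 : 0 < p * p := by omega
  rw [idC, show (1 : ℕ) = enc p 1 0 0 by simp [enc], show p * p = enc p 0 1 0 by simp [enc],
    show (enc p 0 1 0) ^ 2 = enc p 0 0 1 by simp [enc],
    row_encM (enc_lt h1 h0 h0) (enc_lt h0 h1 h0) (enc_lt h0 h0 h1)]
  fin_cases i <;> fin_cases j <;>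
    first
    | exact (congrArg (val p θ) (co_enc h1 h0 h0 _)).trans (by simp [h.val_zero, h.val_one])
    | exact (congrArg (val p θ) (co_enc h0 h1 h0 _)).trans (by simp [h.val_zero, h.val_one])
    | exact (congrArg (val p θ) (co_enc h0 h0 h1 _)).trans (by simp [h.val_zero, h.val_one])

lemma Root.val_hermC (u v : ℕ) : val p θ (hermC p d u v) = hermForm 3 F p (vecF p θ u) (vecF p θ v) := by
  rw [hermC, h.val_dot, herm_eq_dot]
  congr 1
  funext i
  rw [cj_apply, vecF, conjv, co_enc (cjC_lt h.pos _) (cjC_lt h.pos _) (cjC_lt h.pos _)]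
  fin_cases i <;> exact h.val_cjC (co_lt h.pos _ _)

lemma Root.matF_hstC (M : ℕ) : matF p θ (hstC p M) = hst p (matF p θ M) := by
  ext i j
  have hr : ∀ j, conjv p (col p M j) < (p * p) ^ 3 := fun j =>
    enc_lt (cjC_lt h.pos _) (cjC_lt h.pos _) (cjC_lt h.pos _)
  show val p θ (co p (row p (hstC p M) i) j) = val p θ (co p (row p M j) i) ^ p
  rw [hstC, row_encM (hr 0) (hr 1) (hr 2),
    show (![conjv p (col p M 0), conjv p (col p M 1), conjv p (col p M 2)] i : ℕ)
      = conjv p (col p M i) by fin_cases i <;> rfl,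
    conjv, co_enc (cjC_lt h.pos _) (cjC_lt h.pos _) (cjC_lt h.pos _), ← co_col h.pos M j i]
  fin_cases j <;> exact h.val_cjC (co_lt h.pos _ _)

lemma Root.trace_matF (M : ℕ) : (matF p θ M).trace = val p θ (trC p M) := by
  simp only [trC, h.val_addC, Matrix.trace, Fin.sum_univ_three, ent]
  rfl

lemma Root.det_matF (M : ℕ) : (matF p θ M).det = val p θ (detC p d M) := by
  have ht : ∀ a b c, term p d M a b c < p * p := fun a b c => mulC_lt h.pos _ _ _
  simp only [detC, h.val_addC]
  repeat rw [h.val_negC (ht _ _ _)]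
  simp only [term, h.val_mulC, Matrix.det_fin_three, ent]
  show val p θ (co p (row p M 0) 0) * val p θ (co p (row p M 1) 1) * val p θ (co p (row p M 2) 2) -
    val p θ (co p (row p M 0) 0) * val p θ (co p (row p M 1) 2) * val p θ (co p (row p M 2) 1) -
    val p θ (co p (row p M 0) 1) * val p θ (co p (row p M 1) 0) * val p θ (co p (row p M 2) 2) +
    val p θ (co p (row p M 0) 1) * val p θ (co p (row p M 1) 2) * val p θ (co p (row p M 2) 0) +
    val p θ (co p (row p M 0) 2) * val p θ (co p (row p M 1) 0) * val p θ (co p (row p M 2) 1) -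
    val p θ (co p (row p M 0) 2) * val p θ (co p (row p M 1) 1) * val p θ (co p (row p M 2) 0) = _
  ring

/-! ### The stabiliser of a set of lines -/

omit h in
/-- The union of the coded lines, without zero. -/
def InLines (p : ℕ) (θ : F) (S : List ℕ) (v : Fin 3 → F) : Prop :=
  ∃ a : F, a ≠ 0 ∧ ∃ c ∈ S, v = a • vecF p θ c

omit h in
/-- The stabiliser of a set of lines. -/
def lineStab (p : ℕ) (θ : F) (S : List ℕ) : Subgroup (GL (Fin 3) F) where
  carrier := {g | ∀ w, InLines p θ S w ↔ InLines p θ S ((g : Matrix (Fin 3) (Fin 3) F) *ᵥ w)}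
  one_mem' := fun w => by rw [Units.val_one, Matrix.one_mulVec]
  mul_mem' := fun {a b} ha hb w => by
    rw [Units.val_mul, ← Matrix.mulVec_mulVec]
    exact (hb w).trans (ha _)
  inv_mem' := fun {a} ha w => by
    rw [ha (((a⁻¹ : GL (Fin 3) F) : Matrix (Fin 3) (Fin 3) F) *ᵥ w),
      Matrix.mulVec_mulVec _ (a : Matrix (Fin 3) (Fin 3) F),
      ← Units.val_mul, mul_inv_cancel, Units.val_one, Matrix.one_mulVec]

omit h in
lemma lineStab_of_smul {S : List ℕ} {g n : GL (Fin 3) F} {μ : F}
    (hn : n ∈ lineStab p θ S) (he : (g : Matrix (Fin 3) (Fin 3) F) = μ • (n : Matrix (Fin 3) (Fin 3) F)) :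
    g ∈ lineStab p θ S := by
  have hμ : μ ≠ 0 := by
    intro h0
    have := g.isUnit
    rw [he, h0, zero_smul] at this
    exact not_isUnit_zero this
  intro v
  rw [hn v, he, Matrix.smul_mulVec]
  constructor
  · rintro ⟨a, ha, c, hc, hv⟩
    exact ⟨μ * a, mul_ne_zero hμ ha, c, hc, by rw [hv, smul_smul]⟩
  · rintro ⟨a, ha, c, hc, hv⟩
    exact ⟨μ⁻¹ * a, mul_ne_zero (inv_ne_zero hμ) ha, c, hc, by
      rw [← smul_smul, ← hv, inv_smul_smul₀ hμ]⟩

lemma Root.mem_lineStab {S : List ℕ} {g : GL (Fin 3) F} {M : ℕ}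
    (hg : (g : Matrix (Fin 3) (Fin 3) F) = matF p θ M) (hk : keeps p d S M = true) :
    g ∈ lineStab p θ S := by
  haveI : Finite (Fin 3 → F) := inferInstance
  simp only [keeps, List.all_eq_true, Bool.and_eq_true, decide_eq_true_eq, bne_iff_ne,
    List.contains_iff_mem] at hk
  have hp : ∀ v, InLines p θ S v → InLines p θ S ((g : Matrix (Fin 3) (Fin 3) F) *ᵥ v) := by
    rintro _ ⟨a, ha, c, hc, rfl⟩
    obtain ⟨⟨hl, hl0⟩, hmem⟩ := hk c hc
    have hv := h.val_ne_zero hl hl0
    refine ⟨a / val p θ (nrm p d (mv p d M c)), div_ne_zero ha hv, _, hmem, ?_⟩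
    rw [Matrix.mulVec_smul, h.vecF_sc, h.vecF_mv, smul_smul, div_mul_cancel₀ _ hv, hg]
  intro w
  refine ⟨hp w, fun hw => ?_⟩
  let φ : {w // InLines p θ S w} → {w // InLines p θ S w} := fun w =>
    ⟨(g : Matrix (Fin 3) (Fin 3) F) *ᵥ w.1, hp _ w.2⟩
  have hinj : Function.Injective φ := fun a b hab => Subtype.ext
    (Matrix.mulVec_injective_iff_isUnit.2 g.isUnit (congrArg Subtype.val hab))
  obtain ⟨⟨w', hw'⟩, he⟩ := Finite.injective_iff_surjective.1 hinj ⟨_, hw⟩
  have := Matrix.mulVec_injective_iff_isUnit.2 g.isUnit (congrArg Subtype.val he)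
  exact this ▸ hw'

lemma Root.exists_unitary {M : ℕ} (hM : isUnitary p d M = true) :
    ∃ g : GL (Fin 3) F, (g : Matrix (Fin 3) (Fin 3) F) = matF p θ M ∧ g ∈ GU 3 F p := by
  rw [isUnitary, beq_iff_eq] at hM
  have hu : hst p (matF p θ M) * matF p θ M = 1 := by
    rw [← h.matF_hstC, ← h.matF_mm, hM, h.matF_idC]
  exact ⟨⟨matF p θ M, hst p (matF p θ M), mul_eq_one_comm.1 hu, hu⟩, rfl,
    (mem_GU_iff_hst h.card).2 hu⟩

lemma Root.exists_SUg {M : ℕ} (hM : isUnitary p d M = true) (hd : (detC p d M == 1) = true) :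
    ∃ g : GL (Fin 3) F, (g : Matrix (Fin 3) (Fin 3) F) = matF p θ M ∧ g ∈ SUg 3 F p := by
  obtain ⟨g, hg, hU⟩ := h.exists_unitary hM
  refine ⟨g, hg, hU, Units.ext ?_⟩
  show (g : Matrix (Fin 3) (Fin 3) F).det = 1
  rw [hg, h.det_matF, beq_iff_eq.1 hd, h.val_one]

/-- What a certificate gives. -/
theorem Root.cert {S gens : List ℕ} {y : ℕ} (hc : isCert p d S gens y = true) :
    (∀ M ∈ gens, ∃ g ∈ lineStab p θ S ⊓ SUg 3 F p, (g : Matrix (Fin 3) (Fin 3) F) = matF p θ M) ∧
      ¬ SUg 3 F p ≤ lineStab p θ S := by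
  simp only [isCert, Bool.and_eq_true, List.all_eq_true] at hc
  obtain ⟨⟨⟨hgens, hyU⟩, hyd⟩, hym⟩ := hc
  refine ⟨fun M hM => ?_, fun hle => ?_⟩
  · obtain ⟨⟨h1, h2⟩, h3⟩ := hgens M hM
    obtain ⟨g, hg, hgS⟩ := h.exists_SUg h1 h2
    exact ⟨g, ⟨h.mem_lineStab hg h3, hgS⟩, hg⟩
  · obtain ⟨g, hg, hgS⟩ := h.exists_SUg hyU hyd
    simp only [moves, List.any_eq_true, List.all_eq_true] at hym
    obtain ⟨c, hc, hall⟩ := hym
    obtain ⟨a, -, c', hc', he⟩ := (hle hgS _).1 ⟨1, one_ne_zero, c, hc, (one_smul _ _).symm⟩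
    rw [hg, ← h.vecF_mv] at he
    have hcr : ∀ i j : Fin 3, mulC p d (co p (mv p d y c) i) (co p c' j) =
        mulC p d (co p (mv p d y c) j) (co p c' i) := fun i j => by
      refine h.val_inj (mulC_lt h.pos _ _ _) (mulC_lt h.pos _ _ _) ?_
      have hi := congrFun he i
      have hj := congrFun he j
      simp only [vecF, Pi.smul_apply, smul_eq_mul] at hi hj
      rw [h.val_mulC, h.val_mulC, hi, hj]; ring
    have h01 := hcr 0 1
    have h02 := hcr 0 2
    have h12 := hcr 1 2
    have hc2 := hall c' hc'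
    simp only [indep, Bool.or_eq_true, bne_iff_ne] at hc2
    simp only [Fin.val_zero, Fin.val_one, Fin.val_two] at h01 h02 h12
    rcases hc2 with (h' | h') | h'
    · exact h' h01
    · exact h' h02
    · exact h' h12

/-- The members of a closure list are in every group containing the generators. -/
theorem Root.closureList {gens : List ℕ} {L : List (ℕ × ℕ × ℕ)}
    (hL : isClosureList p d gens L = true) {X : Subgroup (GL (Fin 3) F)}
    (hX : ∀ M ∈ gens, ∃ g ∈ X, (g : Matrix (Fin 3) (Fin 3) F) = matF p θ M) :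
    ∀ e ∈ L, ∃ g ∈ X, (g : Matrix (Fin 3) (Fin 3) F) = matF p θ e.1 := by
  simp only [isClosureList, List.all_eq_true, List.mem_range] at hL
  have key : ∀ k, k < L.length →
      ∃ g ∈ X, (g : Matrix (Fin 3) (Fin 3) F) = matF p θ (L.getD k (0, 0, 0)).1 := by
    intro k
    induction k using Nat.strong_induction_on with
    | _ k ih =>
      intro hk
      have hk' := hL k hk
      by_cases h0 : k = 0
      · subst h0
        simp only [beq_self_eq_true, if_true, beq_iff_eq] at hk'
        exact ⟨1, X.one_mem, by rw [hk', h.matF_idC, Units.val_one]⟩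
      · simp only [beq_iff_eq, h0, if_false, Bool.and_eq_true, decide_eq_true_eq] at hk'
        obtain ⟨⟨hi, hj⟩, he⟩ := hk'
        obtain ⟨g, hg, hgv⟩ := ih _ hi (by omega)
        obtain ⟨s, hs, hsv⟩ := hX (gens.getD (L.getD k (0, 0, 0)).2.1 0) (by
          rw [List.getD_eq_getElem _ _ hj]; exact List.getElem_mem hj)
        exact ⟨s * g, X.mul_mem hs hg, by rw [Units.val_mul, hsv, hgv, he, h.matF_mm]⟩
  intro e he
  obtain ⟨k, hk, hke⟩ := List.getElem_of_mem he
  obtain ⟨g, hg, hgv⟩ := key k hk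
  rw [List.getD_eq_getElem _ _ hk, hke] at hgv
  exact ⟨g, hg, hgv⟩

end Cfsg.Agent.Unitary.Asch.Three
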